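import Mathlib
import Cfsg.Prelude.Def_KGroupFacts
import Cfsg.Agent.Lib.Helper3.Schur.Basic

set_option autoImplicit false

/-!
# Covering groups by presentations

For a presentation `⟨α | R⟩` of a perfect group and words `nrm x` (one for each generator `x`) in the
normal closure of `R` whose exponent-sum vector is the unit vector at `x`, the group
`E = ⟨α | [r, x] (r ∈ R, x ∈ α), nrm x (x ∈ α)⟩` is a perfect central extension of `P = ⟨α | R⟩`, and every
finite stem extension of (a group isomorphic to) `P` is a quotient of `E`, compatibly with the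
projections.  Hence the kernel of `E → P` is the Schur multiplier as soon as `E` is finite.
-/

namespace Cfsg.Agent.Lib.Helper3.Cover

open Subgroup
open scoped commutatorElement

variable {α : Type} [DecidableEq α] [Fintype α]

/-- the set of relators given by a list of words -/
def relSet (W : List (List (α × Bool))) : Set (FreeGroup α) := {r | ∃ L ∈ W, r = FreeGroup.mk L}

/-- the word `L x L⁻¹ x⁻¹` -/
def commWord (L : List (α × Bool)) (x : α) : List (α × Bool) :=
  L ++ (x, true) :: (FreeGroup.invRev L ++ [(x, false)])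

omit [DecidableEq α] [Fintype α] in
theorem mk_commWord (L : List (α × Bool)) (x : α) :
    FreeGroup.mk (commWord L x) = ⁅FreeGroup.mk L, FreeGroup.of x⁆ := by
  rw [commutatorElement_def, FreeGroup.inv_mk, FreeGroup.of, FreeGroup.inv_mk, FreeGroup.mul_mk,
    FreeGroup.mul_mk, FreeGroup.mul_mk]
  unfold commWord
  simp [FreeGroup.invRev]

/-- the relators of the covering presentation -/
def coverWords (R : List (List (α × Bool))) (gens : List α) (norms : List (List (α × Bool))) :
    List (List (α × Bool)) :=
  (R.flatMap fun r => gens.map fun x => commWord r x) ++ norms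

/-- exponent sum of the generator `x` in a word -/
def expL (x : α) (L : List (α × Bool)) : ℤ :=
  (L.map fun p => if p.1 = x then (if p.2 then (1 : ℤ) else -1) else 0).sum

/-- exponent sum of the generator `x`, as a homomorphism -/
def expSum (x : α) : FreeGroup α →* Multiplicative ℤ :=
  FreeGroup.lift fun y => if y = x then Multiplicative.ofAdd (1 : ℤ) else 1

omit [Fintype α] in
theorem expSum_mk (x : α) (L : List (α × Bool)) :
    expSum x (FreeGroup.mk L) = Multiplicative.ofAdd (expL x L) := by
  induction L with
  | nil => rfl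
  | cons p L ih =>
    have h : (FreeGroup.mk (p :: L) : FreeGroup α) = FreeGroup.mk [p] * FreeGroup.mk L := by
      rw [FreeGroup.mul_mk]; rfl
    rw [h, map_mul, ih]
    obtain ⟨y, b⟩ := p
    have h1 : expSum x (FreeGroup.mk [(y, b)]) =
        Multiplicative.ofAdd (if y = x then (if b then (1 : ℤ) else -1) else 0) := by
      cases b
      · have : (FreeGroup.mk [(y, false)] : FreeGroup α) = (FreeGroup.of y)⁻¹ := by
          rw [FreeGroup.of, FreeGroup.inv_mk]; rfl
        rw [this, map_inv]
        unfold expSum
        rw [FreeGroup.lift_apply_of]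
        by_cases hy : y = x <;> simp [hy]
      · have : (FreeGroup.mk [(y, true)] : FreeGroup α) = FreeGroup.of y := rfl
        rw [this]
        unfold expSum
        rw [FreeGroup.lift_apply_of]
        by_cases hy : y = x <;> simp [hy]
    rw [h1, ← ofAdd_add]
    unfold expL
    rw [List.map_cons, List.sum_cons]

/-- a homomorphism from a free group to a commutative group is determined by exponent sums -/
theorem hom_eq_prod {C : Type*} [CommGroup C] (κ : FreeGroup α →* C) (w : FreeGroup α) :
    κ w = ∏ x, κ (FreeGroup.of x) ^ (Multiplicative.toAdd (expSum x w)) := by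
  let ρ : FreeGroup α →* C :=
    { toFun := fun w => ∏ x, κ (FreeGroup.of x) ^ (Multiplicative.toAdd (expSum x w))
      map_one' := by simp
      map_mul' := by
        intro u v
        simp only [map_mul, toAdd_mul, zpow_add, Finset.prod_mul_distrib] }
  have : κ = ρ := by
    ext y
    show κ (FreeGroup.of y) = ∏ x, κ (FreeGroup.of x) ^ (Multiplicative.toAdd (expSum x (FreeGroup.of y)))
    have h : ∀ x, Multiplicative.toAdd (expSum x (FreeGroup.of y)) = if x = y then (1 : ℤ) else 0 := by
      intro x
      unfold expSum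
      rw [FreeGroup.lift_apply_of]
      by_cases hy : y = x
      · subst hy; simp
      · have : ¬ x = y := fun h => hy h.symm
        simp [hy, this]
    simp only [h]
    rw [Finset.prod_eq_single y]
    · simp
    · intro b _ hb; simp [hb]
    · intro h; exact absurd (Finset.mem_univ y) h
  exact DFunLike.congr_fun this w

/-- a power of a word, as a word (not reduced) -/
def powWord (L : List (α × Bool)) : ℤ → List (α × Bool)
  | Int.ofNat n => (List.replicate n L).flatten
  | Int.negSucc n => (List.replicate (n + 1) (FreeGroup.invRev L)).flatten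

/-- a product of powers of words, as a word (not reduced) -/
def combWord (items : List (List (α × Bool) × ℤ)) : List (α × Bool) :=
  (items.map fun p => powWord p.1 p.2).flatten

omit [DecidableEq α] [Fintype α] in
theorem mk_flatten_replicate (L : List (α × Bool)) (n : ℕ) :
    FreeGroup.mk (List.replicate n L).flatten = (FreeGroup.mk L) ^ n := by
  induction n with
  | zero => rfl
  | succ n ih =>
    rw [List.replicate_succ, List.flatten_cons, ← FreeGroup.mul_mk, ih, pow_succ']

omit [DecidableEq α] [Fintype α] in
theorem mk_powWord (L : List (α × Bool)) (c : ℤ) :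
    FreeGroup.mk (powWord L c) = (FreeGroup.mk L) ^ c := by
  cases c with
  | ofNat n =>
    show FreeGroup.mk (List.replicate n L).flatten = _
    rw [mk_flatten_replicate]; simp
  | negSucc n =>
    show FreeGroup.mk (List.replicate (n + 1) (FreeGroup.invRev L)).flatten = _
    rw [mk_flatten_replicate, ← FreeGroup.inv_mk, zpow_negSucc, inv_pow]

omit [DecidableEq α] [Fintype α] in
/-- a product of powers of words that a homomorphism kills is killed -/
theorem map_combWord_eq_one {G : Type*} [Group G] (f : FreeGroup α →* G)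
    (items : List (List (α × Bool) × ℤ)) (h : ∀ p ∈ items, f (FreeGroup.mk p.1) = 1) :
    f (FreeGroup.mk (combWord items)) = 1 := by
  induction items with
  | nil => exact map_one f
  | cons p items ih =>
    unfold combWord
    rw [List.map_cons, List.flatten_cons, ← FreeGroup.mul_mk, map_mul, mk_powWord, map_zpow,
      h p List.mem_cons_self, one_zpow, one_mul]
    exact ih fun q hq => h q (List.mem_cons_of_mem _ hq)

/-- the data of a covering presentation -/
structure CoverData (α : Type) [DecidableEq α] [Fintype α] where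
  /-- relators of the group -/
  R : List (List (α × Bool))
  /-- the list of all generators -/
  gens : List α
  /-- the normalising words -/
  nrm : α → List (α × Bool)
  /-- the list of normalising words -/
  norms : List (List (α × Bool))
  hgens : ∀ x, x ∈ gens
  hnorms : ∀ x, nrm x ∈ norms
  hnorms' : ∀ L ∈ norms, ∃ x, L = nrm x
  /-- the normalising words are trivial in the presented group -/
  hnrm : ∀ x, PresentedGroup.mk (relSet R) (FreeGroup.mk (nrm x)) = 1
  /-- their exponent sums -/
  hexp : ∀ x y, expL x (nrm y) = if x = y then 1 else 0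

namespace CoverData

variable (D : CoverData α)

/-- the relators of the covering group -/
abbrev relsE : Set (FreeGroup α) := relSet (coverWords D.R D.gens D.norms)

/-- the presented group -/
abbrev P : Type := PresentedGroup (relSet D.R)

/-- the covering group -/
abbrev E : Type := PresentedGroup D.relsE

theorem comm_mem (r : List (α × Bool)) (hr : r ∈ D.R) (x : α) :
    ⁅FreeGroup.mk r, FreeGroup.of x⁆ ∈ D.relsE := by
  refine ⟨commWord r x, ?_, (mk_commWord r x).symm⟩
  unfold coverWords
  rw [List.mem_append]
  left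
  rw [List.mem_flatMap]
  exact ⟨r, hr, List.mem_map.mpr ⟨x, D.hgens x, rfl⟩⟩

theorem nrm_mem (x : α) : FreeGroup.mk (D.nrm x) ∈ D.relsE :=
  ⟨D.nrm x, List.mem_append.mpr (Or.inr (D.hnorms x)), rfl⟩

theorem mem_relsE {w : FreeGroup α} (hw : w ∈ D.relsE) :
    (∃ r ∈ D.R, ∃ x, w = ⁅FreeGroup.mk r, FreeGroup.of x⁆) ∨ ∃ x, w = FreeGroup.mk (D.nrm x) := by
  obtain ⟨L, hL, rfl⟩ := hw
  unfold coverWords at hL
  rw [List.mem_append] at hL
  rcases hL with hL | hL
  · left
    rw [List.mem_flatMap] at hL
    obtain ⟨r, hr, hL⟩ := hL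
    obtain ⟨x, _, rfl⟩ := List.mem_map.mp hL
    exact ⟨r, hr, x, mk_commWord r x⟩
  · right
    obtain ⟨x, rfl⟩ := D.hnorms' L hL
    exact ⟨x, rfl⟩

/-- the projection of the covering group onto the group -/
noncomputable def proj : D.E →* D.P :=
  PresentedGroup.toGroup (f := fun x => (PresentedGroup.of x : D.P)) (by
    intro w hw
    have key : FreeGroup.lift (fun x => (PresentedGroup.of x : D.P)) = PresentedGroup.mk (relSet D.R) := by
      ext x; simp [PresentedGroup.of]
    rw [key]
    rcases D.mem_relsE hw with ⟨r, hr, x, rfl⟩ | ⟨x, rfl⟩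
    · have : PresentedGroup.mk (relSet D.R) (FreeGroup.mk r) = 1 :=
        PresentedGroup.one_of_mem ⟨r, hr, rfl⟩
      rw [map_commutatorElement, this, commutatorElement_one_left]
    · exact D.hnrm x)

theorem proj_of (x : α) : D.proj (PresentedGroup.of x) = PresentedGroup.of x :=
  PresentedGroup.toGroup.of _

theorem proj_mk (w : FreeGroup α) :
    D.proj (PresentedGroup.mk D.relsE w) = PresentedGroup.mk (relSet D.R) w := by
  have : D.proj.comp (PresentedGroup.mk D.relsE) = PresentedGroup.mk (relSet D.R) := by
    ext x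
    exact D.proj_of x
  exact DFunLike.congr_fun this w

theorem proj_surjective : Function.Surjective D.proj := by
  intro y
  obtain ⟨w, rfl⟩ := PresentedGroup.mk_surjective _ y
  exact ⟨PresentedGroup.mk _ w, D.proj_mk w⟩

/-- the images of the relators are central in the covering group -/
theorem mk_rel_mem_center (r : List (α × Bool)) (hr : r ∈ D.R) :
    PresentedGroup.mk D.relsE (FreeGroup.mk r) ∈ center D.E := by
  set z := PresentedGroup.mk D.relsE (FreeGroup.mk r) with hz
  have h0 : (⊤ : Subgroup D.E) ≤ Subgroup.centralizer {z} := by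
    rw [← PresentedGroup.closure_range_of, Subgroup.closure_le]
    rintro _ ⟨x, rfl⟩
    rw [SetLike.mem_coe, Subgroup.mem_centralizer_iff]
    intro h hh
    rw [Set.mem_singleton_iff] at hh
    subst hh
    have h1 : PresentedGroup.mk D.relsE ⁅FreeGroup.mk r, FreeGroup.of x⁆ = 1 :=
      PresentedGroup.one_of_mem (D.comm_mem r hr x)
    rw [map_commutatorElement, commutatorElement_eq_one_iff_mul_comm] at h1
    exact h1
  rw [Subgroup.mem_center_iff]
  intro g
  have := Subgroup.mem_centralizer_iff.mp (h0 (Subgroup.mem_top g)) z (Set.mem_singleton z)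
  exact this.symm

/-- the kernel of the projection is central -/
theorem ker_proj_le_center : D.proj.ker ≤ center D.E := by
  intro e he
  obtain ⟨w, rfl⟩ := PresentedGroup.mk_surjective _ e
  rw [MonoidHom.mem_ker, D.proj_mk] at he
  have hw : w ∈ normalClosure (relSet D.R) := by
    have := PresentedGroup.mk_eq_one_iff.mp he
    exact this
  have : normalClosure (relSet D.R) ≤ (center D.E).comap (PresentedGroup.mk D.relsE) := by
    apply normalClosure_le_normal
    rintro _ ⟨r, hr, rfl⟩
    exact D.mk_rel_mem_center r hr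
  exact this hw

/-- the covering group is perfect -/
theorem commutator_eq_top : commutator D.E = ⊤ := by
  rw [eq_top_iff, ← PresentedGroup.closure_range_of, Subgroup.closure_le]
  rintro _ ⟨y, rfl⟩
  rw [SetLike.mem_coe, ← Abelianization.ker_of, MonoidHom.mem_ker]
  let κ : FreeGroup α →* Abelianization D.E := (Abelianization.of).comp (PresentedGroup.mk D.relsE)
  have h1 := hom_eq_prod κ (FreeGroup.mk (D.nrm y))
  have h2 : κ (FreeGroup.mk (D.nrm y)) = 1 := by
    show Abelianization.of (PresentedGroup.mk D.relsE (FreeGroup.mk (D.nrm y))) = 1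
    rw [PresentedGroup.one_of_mem (D.nrm_mem y), map_one]
  rw [h2] at h1
  simp only [expSum_mk, toAdd_ofAdd, D.hexp] at h1
  rw [Finset.prod_eq_single y] at h1
  · have h3 : κ (FreeGroup.of y) = 1 := by simpa using h1.symm
    exact h3
  · intro b _ hb; simp [hb]
  · intro h; exact absurd (Finset.mem_univ y) h

section Universal

variable {G Γ : Type} [Group G] [Group Γ] (φ : D.P ≃* G) (σ : Γ →* G)

/-- every central extension of the group receives a compatible homomorphism from the covering group -/
theorem exists_hom (hσ : Function.Surjective σ) (hc : σ.ker ≤ center Γ) :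
    ∃ Λ : D.E →* Γ, ∀ e, σ (Λ e) = φ (D.proj e) := by
  choose l0 hl0 using fun x : α => hσ (φ (PresentedGroup.of x))
  let L0 : FreeGroup α →* Γ := FreeGroup.lift l0
  have hL0 : ∀ w, σ (L0 w) = φ (PresentedGroup.mk (relSet D.R) w) := by
    have : σ.comp L0 = φ.toMonoidHom.comp (PresentedGroup.mk (relSet D.R)) := by
      ext x
      simp only [MonoidHom.comp_apply, L0, FreeGroup.lift_apply_of]
      exact hl0 x
    exact fun w => DFunLike.congr_fun this w
  have hker : ∀ w, PresentedGroup.mk (relSet D.R) w = 1 → L0 w ∈ center Γ := by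
    intro w hw
    apply hc
    rw [MonoidHom.mem_ker, hL0, hw, map_one]
  letI cg : CommGroup ↥(center Γ) :=
    { (inferInstance : Group ↥(center Γ)) with
      mul_comm := fun u v => Subtype.ext (Subgroup.mem_center_iff.mp v.2 u.1) }
  -- the correction terms
  let a : α → center Γ := fun x => ⟨(L0 (FreeGroup.mk (D.nrm x)))⁻¹, inv_mem (hker _ (D.hnrm x))⟩
  have ha : ∀ x, σ (a x : Γ) = 1 := by
    intro x
    show σ ((L0 (FreeGroup.mk (D.nrm x)))⁻¹) = 1
    rw [map_inv, hL0, D.hnrm, map_one, inv_one]
  let κ : FreeGroup α →* center Γ := FreeGroup.lift a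
  let l : α → Γ := fun x => l0 x * (a x : Γ)
  let L : FreeGroup α →* Γ := FreeGroup.lift l
  have hL : ∀ w, L w = L0 w * (κ w : Γ) := by
    intro w
    induction w using FreeGroup.induction_on with
    | C1 => simp
    | of x => simp [L, L0, κ, l]
    | inv_of x ih =>
      rw [map_inv, map_inv, map_inv, ih, mul_inv_rev]
      have := (κ (FreeGroup.of x))⁻¹.2
      rw [Subgroup.mem_center_iff] at this
      simpa using (this _).symm
    | mul u v hu hv =>
      rw [map_mul, map_mul, map_mul, hu, hv]
      have := (κ u).2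
      rw [Subgroup.mem_center_iff] at this
      simp only [Subgroup.coe_mul]
      calc L0 u * ↑(κ u) * (L0 v * ↑(κ v)) = L0 u * (↑(κ u) * L0 v) * ↑(κ v) := by group
        _ = L0 u * (L0 v * ↑(κ u)) * ↑(κ v) := by rw [this]
        _ = L0 u * L0 v * (↑(κ u) * ↑(κ v)) := by group
  have hκ : ∀ y, κ (FreeGroup.mk (D.nrm y)) = a y := by
    intro y
    rw [hom_eq_prod (C := ↥(center Γ)) κ]
    simp only [expSum_mk, toAdd_ofAdd, D.hexp]
    rw [Finset.prod_eq_single y]
    · simp [κ]
    · intro b _ hb; simp [hb]
    · intro h; exact absurd (Finset.mem_univ y) h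
  have hσL : ∀ w, σ (L w) = φ (PresentedGroup.mk (relSet D.R) w) := by
    intro w
    rw [hL, map_mul, hL0]
    have : σ (κ w : Γ) = 1 := by
      have h1 : ((σ.comp (Subgroup.center Γ).subtype).comp κ) = 1 := by
        ext x
        simp only [MonoidHom.comp_apply, κ, FreeGroup.lift_apply_of, MonoidHom.one_apply]
        exact ha x
      exact DFunLike.congr_fun h1 w
    rw [this, mul_one]
  have hrel : ∀ w ∈ D.relsE, L w = 1 := by
    intro w hw
    rcases D.mem_relsE hw with ⟨r, hr, x, rfl⟩ | ⟨x, rfl⟩
    · rw [map_commutatorElement, commutatorElement_eq_one_iff_mul_comm]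
      have h1 : L (FreeGroup.mk r) ∈ center Γ := by
        apply hc
        have h2 : PresentedGroup.mk (relSet D.R) (FreeGroup.mk r) = 1 :=
          PresentedGroup.one_of_mem ⟨r, hr, rfl⟩
        rw [MonoidHom.mem_ker, hσL, h2, map_one]
      exact (Subgroup.mem_center_iff.mp h1 _).symm
    · rw [hL, hκ]
      show L0 (FreeGroup.mk (D.nrm x)) * (L0 (FreeGroup.mk (D.nrm x)))⁻¹ = 1
      rw [mul_inv_cancel]
  refine ⟨PresentedGroup.toGroup (f := l) hrel, ?_⟩
  intro e
  obtain ⟨w, rfl⟩ := PresentedGroup.mk_surjective _ e
  have h1 : PresentedGroup.toGroup (f := l) hrel (PresentedGroup.mk D.relsE w) = L w := by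
    have : (PresentedGroup.toGroup (f := l) hrel).comp (PresentedGroup.mk D.relsE) = L := by
      ext x
      simp only [MonoidHom.comp_apply, L, FreeGroup.lift_apply_of]
      exact PresentedGroup.toGroup.of hrel
    exact DFunLike.congr_fun this w
  rw [h1, hσL, D.proj_mk]

/-- for a stem extension the homomorphism from the covering group is onto, also on the kernels -/
theorem exists_surj (hσ : Cfsg.IsStemExtension σ) :
    ∃ Λ : D.E →* Γ, (∀ e, σ (Λ e) = φ (D.proj e)) ∧ Function.Surjective Λ ∧
      ∀ z ∈ σ.ker, ∃ e ∈ D.proj.ker, Λ e = z := by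
  obtain ⟨Λ, hΛ⟩ := D.exists_hom φ σ hσ.1 hσ.2.1
  have hsurj : Function.Surjective Λ := by
    rw [← MonoidHom.range_eq_top]
    have h1 : Λ.range ⊔ σ.ker = ⊤ := by
      rw [eq_top_iff]
      intro γ _
      obtain ⟨p, hp⟩ := φ.surjective (σ γ)
      obtain ⟨e, rfl⟩ := D.proj_surjective p
      have : γ = Λ e * ((Λ e)⁻¹ * γ) := by group
      rw [this]
      apply Subgroup.mul_mem_sup (MonoidHom.mem_range.mpr ⟨e, rfl⟩)
      rw [MonoidHom.mem_ker, map_mul, map_inv, hΛ, hp, inv_mul_cancel]
    haveI : σ.ker.Normal := MonoidHom.normal_ker σ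
    have h2 : σ.ker ≤ Λ.range := by
      intro z hz
      have h3 : z ∈ ⁅(⊤ : Subgroup Γ), ⊤⁆ := hσ.2.2 hz
      rw [← h1] at h3
      have h4 := Cfsg.Agent.Lib.Helper3.SchurM.comm_sup_central_le Λ.range σ.ker hσ.2.1 h3
      have h5 : ⁅Λ.range, Λ.range⁆ ≤ Λ.range := by
        simpa using Subgroup.commutator_le_sup (H₁ := Λ.range) (H₂ := Λ.range)
      exact h5 h4
    rw [← h1]
    exact (sup_eq_left.mpr h2).symm
  refine ⟨Λ, hΛ, hsurj, ?_⟩
  intro z hz
  obtain ⟨e, rfl⟩ := hsurj z
  refine ⟨e, ?_, rfl⟩
  rw [MonoidHom.mem_ker] at hz ⊢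
  rw [hΛ] at hz
  exact φ.injective (by rw [hz, map_one])

end Universal

/-- the projection onto a group isomorphic to the presented group -/
noncomputable def projTo {G : Type} [Group G] (φ : D.P ≃* G) : D.E →* G := φ.toMonoidHom.comp D.proj

theorem ker_projTo {G : Type} [Group G] (φ : D.P ≃* G) : (D.projTo φ).ker = D.proj.ker := by
  ext e
  simp only [MonoidHom.mem_ker, projTo, MonoidHom.comp_apply]
  constructor
  · intro h; exact φ.injective (by rw [map_one]; exact h)
  · intro h; rw [h]; exact map_one _

theorem isStem_projTo {G : Type} [Group G] (φ : D.P ≃* G) : Cfsg.IsStemExtension (D.projTo φ) := by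
  refine ⟨?_, ?_, ?_⟩
  · exact φ.surjective.comp D.proj_surjective
  · rw [D.ker_projTo]; exact D.ker_proj_le_center
  · rw [D.commutator_eq_top]; exact le_top

/-- the kernel of the projection is the Schur multiplier -/
theorem hasSchurMultiplier {G : Type} [Group G] (φ : D.P ≃* G) [Finite D.E]
    {A : Type} [CommGroup A] (ψ : D.proj.ker ≃* A) : Cfsg.HasSchurMultiplier G A := by
  constructor
  · refine ⟨D.E, inferInstance, inferInstance, D.projTo φ, D.isStem_projTo φ, ?_⟩
    rw [D.ker_projTo]
    exact ⟨ψ⟩
  · intro Γ _ _ σ hσ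
    obtain ⟨Λ, hΛ, -, hker⟩ := D.exists_surj φ σ hσ
    have hmem : ∀ e : D.proj.ker, Λ (e : D.E) ∈ σ.ker := by
      intro e
      rw [MonoidHom.mem_ker, hΛ, e.2, map_one]
    let ρ : D.proj.ker →* σ.ker := (Λ.comp D.proj.ker.subtype).codRestrict σ.ker hmem
    refine ⟨ρ.comp ψ.symm.toMonoidHom, ?_⟩
    intro z
    obtain ⟨e, he, hz⟩ := hker z.1 z.2
    refine ⟨ψ ⟨e, he⟩, ?_⟩
    apply Subtype.ext
    simp only [MonoidHom.comp_apply, MulEquiv.coe_toMonoidHom, MulEquiv.symm_apply_apply]
    exact hz

/-- the order of the covering group -/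
theorem card_E [Finite D.E] : Nat.card D.E = Nat.card D.proj.ker * Nat.card D.P := by
  have e := QuotientGroup.quotientKerEquivOfSurjective D.proj D.proj_surjective
  rw [← Nat.card_congr e.toEquiv, mul_comm]
  exact Subgroup.card_eq_card_quotient_mul_card_subgroup D.proj.ker

end CoverData

end Cfsg.Agent.Lib.Helper3.Cover
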