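import Cfsg.Agent.Lib.Helper28.TC2Glue
import Cfsg.Agent.Lib.Helper3.Cover.Basic

set_option autoImplicit false

/-!
# Permutation representations of a presented group from a table (no enumeration)
-/

namespace Cfsg.Agent.Lib.Helper3.Cover

open Cfsg.Agent.Lib.Helper28.TC2Upper Cfsg.Agent.Lib.Helper28.TC2Lower Cfsg.Agent.Lib.Helper28.TC2Glue

variable {α : Type}

/-- a table on which all relators act trivially gives a permutation representation -/
theorem lower_hom (relWords : List (List (α × Bool))) (lw : α × Bool → ℕ) (T : Table) (hT : T.OK)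
    (lwk : ∀ xb, lw xb < T.k) (lwinv : ∀ x, lw (x, false) = T.invl (lw (x, true)))
    (hrelT : ∀ L ∈ relWords, ∀ p, p < T.n → T.walkT (pathOf lw L) p = p) :
    ∃ φ : PresentedGroup (relSet relWords) →* Equiv.Perm (Fin T.n),
      ∀ (L : List (α × Bool)) (p : Fin T.n),
        (φ (PresentedGroup.mk _ (FreeGroup.mk L)) p).val = T.walkT (pathOf lw L) p.val := by
  have hσ : ∀ x b, Table.sigma hT (lw (x, b)) =
      cond b (Table.sigma hT (lw (x, true))) (Table.sigma hT (lw (x, true)))⁻¹ := by
    intro x b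
    cases b with
    | true => rfl
    | false =>
      show Table.sigma hT (lw (x, false)) = (Table.sigma hT (lw (x, true)))⁻¹
      rw [lwinv, Table.sigma_inv hT (lwk _)]
  have hlt : ∀ L : List (α × Bool), ∀ l ∈ pathOf lw L, l < T.k := by
    intro L l hl
    unfold pathOf at hl
    rw [List.mem_reverse, List.mem_map] at hl
    obtain ⟨xb, _, rfl⟩ := hl
    exact lwk _
  have hlift : ∀ L : List (α × Bool), FreeGroup.lift (fun x => Table.sigma hT (lw (x, true))) (FreeGroup.mk L) =
      pathProd (Table.sigma hT) (pathOf lw L) :=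
    fun L => lift_mk_eq_pathProd _ lw _ hσ L
  have hr : ∀ r ∈ relSet relWords, FreeGroup.lift (fun x => Table.sigma hT (lw (x, true))) r = 1 := by
    rintro _ ⟨L, hLm, rfl⟩
    rw [hlift]
    exact Table.pathProd_sigma_eq_one hT _ (hlt L) (hrelT L hLm)
  refine ⟨PresentedGroup.toGroup hr, ?_⟩
  intro L p
  have h1 : PresentedGroup.toGroup hr (PresentedGroup.mk _ (FreeGroup.mk L)) =
      FreeGroup.lift (fun x => Table.sigma hT (lw (x, true))) (FreeGroup.mk L) := rfl
  rw [h1, hlift, Table.pathProd_sigma_apply hT _ (hlt L)]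

/-- a word that moves a point is not trivial -/
theorem ne_one_of_walk {relWords : List (List (α × Bool))} {lw : α × Bool → ℕ} {T : Table}
    (φ : PresentedGroup (relSet relWords) →* Equiv.Perm (Fin T.n))
    (hφ : ∀ (L : List (α × Bool)) (p : Fin T.n),
      (φ (PresentedGroup.mk _ (FreeGroup.mk L)) p).val = T.walkT (pathOf lw L) p.val)
    (L : List (α × Bool)) (p : Fin T.n) (h : T.walkT (pathOf lw L) p.val ≠ p.val) :
    φ (PresentedGroup.mk _ (FreeGroup.mk L)) ≠ 1 := by
  intro h1
  apply h
  rw [← hφ L p, h1]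
  rfl

/-- a word that fixes all points acts trivially -/
theorem eq_one_of_walk {relWords : List (List (α × Bool))} {lw : α × Bool → ℕ} {T : Table}
    (φ : PresentedGroup (relSet relWords) →* Equiv.Perm (Fin T.n))
    (hφ : ∀ (L : List (α × Bool)) (p : Fin T.n),
      (φ (PresentedGroup.mk _ (FreeGroup.mk L)) p).val = T.walkT (pathOf lw L) p.val)
    (L : List (α × Bool)) (h : ∀ p, p < T.n → T.walkT (pathOf lw L) p = p) :
    φ (PresentedGroup.mk _ (FreeGroup.mk L)) = 1 := by
  ext p
  rw [hφ L p, h p.val p.2]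
  rfl

end Cfsg.Agent.Lib.Helper3.Cover
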