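import Cfsg.Agent.Lib.Helper3.Fus.Groups
import Cfsg.Agent.Lib.Helper3.Cover.Basic

set_option autoImplicit false

/-!
# Presentations of groups of permutations of the 24 points, through coded permutations
-/

namespace Cfsg.Agent.Lib.Helper3.Cover

open Cfsg.Agent.Lib.Helper3.Golay Cfsg.Agent.Lib.Helper3.Fus

variable {α : Type}

/-- the code of a word, from the codes of the letters -/
def evalC (c : α × Bool → ℕ) : List (α × Bool) → ℕ
  | [] => idN
  | p :: L => compN (c p) (evalC c L)

theorem codeOf_lift (f : α → Equiv.Perm GolayPt) (c : α × Bool → ℕ)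
    (hc : ∀ x, codeOf (f x) = c (x, true)) (hci : ∀ x, codeOf (f x)⁻¹ = c (x, false))
    (L : List (α × Bool)) : codeOf (FreeGroup.lift f (FreeGroup.mk L)) = evalC c L := by
  induction L with
  | nil =>
    show codeOf (FreeGroup.lift f 1) = idN
    rw [map_one, codeOf_one]
  | cons p L ih =>
    have h : (FreeGroup.mk (p :: L) : FreeGroup α) = FreeGroup.mk [p] * FreeGroup.mk L := by
      rw [FreeGroup.mul_mk]; rfl
    rw [h, map_mul, codeOf_mul, ih]
    show compN _ _ = compN (c p) (evalC c L)
    congr 1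
    obtain ⟨x, b⟩ := p
    cases b with
    | true =>
      have : (FreeGroup.mk [(x, true)] : FreeGroup α) = FreeGroup.of x := rfl
      rw [this, FreeGroup.lift_apply_of, hc]
    | false =>
      have : (FreeGroup.mk [(x, false)] : FreeGroup α) = (FreeGroup.of x)⁻¹ := rfl
      rw [this, map_inv, FreeGroup.lift_apply_of, hci]

/-- the codes of the letters given by a family of tables -/
def codesOf (tab : α → List ℕ) (p : α × Bool) : ℕ :=
  if p.2 then encL (tab p.1) else encL (invT (tab p.1))

/-- a presented group of order at most `|H|` whose relators hold for generators of `H` is isomorphic to `H` -/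
theorem exists_iso_of_tables (R : List (List (α × Bool))) (H : Subgroup (Equiv.Perm GolayPt)) [Finite H]
    (tab : α → List ℕ)
    (hT : ∀ x, ∃ σ ∈ H, HasTbl σ (tab x) ∧ HasTbl σ⁻¹ (invT (tab x)))
    (hR : ∀ L ∈ R, Nat.beq (evalC (codesOf tab) L) idN = true)
    (a0 b0 : Equiv.Perm GolayPt) (hgen : H ≤ Subgroup.closure {a0, b0})
    (aT bT : List ℕ) (ha0 : HasTbl a0 aT) (hb0 : HasTbl b0 bT)
    (wa wb : List (α × Bool))
    (hwa : Nat.beq (evalC (codesOf tab) wa) (encL aT) = true)
    (hwb : Nat.beq (evalC (codesOf tab) wb) (encL bT) = true)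
    [Finite (PresentedGroup (relSet R))]
    (hcard : Nat.card (PresentedGroup (relSet R)) ≤ Nat.card H) :
    Nonempty (PresentedGroup (relSet R) ≃* H) := by
  choose f hfH hf hfi using hT
  have hc : ∀ x, codeOf (f x) = codesOf tab (x, true) := fun x => codeOf_of_hasTbl (hf x)
  have hci : ∀ x, codeOf (f x)⁻¹ = codesOf tab (x, false) := fun x => codeOf_of_hasTbl (hfi x)
  let f' : α → H := fun x => ⟨f x, hfH x⟩
  have hsub : ∀ w : FreeGroup α, ((FreeGroup.lift f' w : H) : Equiv.Perm GolayPt) = FreeGroup.lift f w := by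
    have : H.subtype.comp (FreeGroup.lift f') = FreeGroup.lift f := by
      ext x
      simp [f']
    exact fun w => DFunLike.congr_fun this w
  have hrel : ∀ r ∈ relSet R, FreeGroup.lift f' r = 1 := by
    rintro _ ⟨L, hL, rfl⟩
    apply Subtype.ext
    rw [hsub]
    apply codeOf_injective
    rw [codeOf_lift f _ hc hci, Nat.eq_of_beq_eq_true (hR L hL)]
    exact codeOf_one.symm
  let ψ : PresentedGroup (relSet R) →* H := PresentedGroup.toGroup hrel
  have hψmk : ∀ w, ψ (PresentedGroup.mk _ w) = FreeGroup.lift f' w := fun w => rfl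
  have hmem : ∀ w : List (α × Bool), FreeGroup.lift f (FreeGroup.mk w) ∈ (ψ.range).map H.subtype := by
    intro w
    refine ⟨FreeGroup.lift f' (FreeGroup.mk w), ⟨PresentedGroup.mk _ (FreeGroup.mk w), hψmk _⟩, ?_⟩
    exact hsub _
  have ha : a0 ∈ (ψ.range).map H.subtype := by
    have : a0 = FreeGroup.lift f (FreeGroup.mk wa) := by
      apply codeOf_injective
      rw [codeOf_lift f _ hc hci, Nat.eq_of_beq_eq_true hwa]
      exact codeOf_of_hasTbl ha0
    rw [this]; exact hmem wa
  have hb : b0 ∈ (ψ.range).map H.subtype := by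
    have : b0 = FreeGroup.lift f (FreeGroup.mk wb) := by
      apply codeOf_injective
      rw [codeOf_lift f _ hc hci, Nat.eq_of_beq_eq_true hwb]
      exact codeOf_of_hasTbl hb0
    rw [this]; exact hmem wb
  have hle : H ≤ (ψ.range).map H.subtype := by
    refine le_trans hgen ?_
    rw [Subgroup.closure_le]
    intro x hx
    simp only [Set.mem_insert_iff, Set.mem_singleton_iff] at hx
    rcases hx with rfl | rfl
    · exact ha
    · exact hb
  have hsurj : Function.Surjective ψ := by
    intro h
    obtain ⟨y, ⟨e, rfl⟩, hy⟩ := hle h.2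
    exact ⟨e, Subtype.ext hy⟩
  exact ⟨MulEquiv.ofBijective ψ (hsurj.bijective_of_nat_card_le hcard)⟩

end Cfsg.Agent.Lib.Helper3.Cover
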