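import Cfsg.Agent.Lib.Helper28.TC2Upper
import Cfsg.Agent.Lib.Helper3.Cover.P11DataC0
set_option autoImplicit false
set_option maxRecDepth 100000

namespace Cfsg.Agent.Lib.Helper3.Cover.P11Data
open Cfsg.Agent.Lib.Helper28.TC2Upper

/-- relators -/
def relT : BT (ℕ × List ℕ × List ℕ) := (BT.node 2 (BT.node 1 (BT.node 0 (BT.leaf (2, [0, 0], [1, 1])) (BT.leaf (4, [2, 2, 2, 2], [3, 3, 3, 3]))) (BT.leaf (22, [2, 0, 2, 0, 2, 0, 2, 0, 2, 0, 2, 0, 2, 0, 2, 0, 2, 0, 2, 0, 2, 0], [1, 3, 1, 3, 1, 3, 1, 3, 1, 3, 1, 3, 1, 3, 1, 3, 1, 3, 1, 3, 1, 3]))) (BT.node 3 (BT.leaf (18, [2, 2, 0, 2, 2, 0, 2, 2, 0, 2, 2, 0, 2, 2, 0, 2, 2, 0], [1, 3, 3, 1, 3, 3, 1, 3, 3, 1, 3, 3, 1, 3, 3, 1, 3, 3])) (BT.leaf (19, [3, 0, 3, 0, 2, 0, 3, 0, 2, 2, 0, 2, 0, 3, 0, 2, 0, 2, 0], [1, 3, 1, 3, 1, 2, 1, 3, 1, 3, 3, 1, 2, 1, 3, 1, 2, 1, 2]))))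
/-- subgroup generators -/
def subT : BT (ℕ × List ℕ × List ℕ) := (BT.leaf (0, [], []))
/-- fact chunks -/
def colET : BT ℕ := (BT.node 122 (BT.node 61 (BT.node 30 (BT.node 15 (BT.node 7 (BT.node 3 (BT.node 1 (BT.node 0 (BT.leaf cE0) (BT.leaf cE1)) (BT.node 2 (BT.leaf cE2) (BT.leaf cE3))) (BT.node 5 (BT.node 4 (BT.leaf cE4) (BT.leaf cE5)) (BT.node 6 (BT.leaf cE6) (BT.leaf cE7)))) (BT.node 11 (BT.node 9 (BT.node 8 (BT.leaf cE8) (BT.leaf cE9)) (BT.node 10 (BT.leaf cE10) (BT.leaf cE11))) (BT.node 13 (BT.node 12 (BT.leaf cE12) (BT.leaf cE13)) (BT.node 14 (BT.leaf cE14) (BT.leaf cE15))))) (BT.node 23 (BT.node 19 (BT.node 17 (BT.node 16 (BT.leaf cE16) (BT.leaf cE17)) (BT.node 18 (BT.leaf cE18) (BT.leaf cE19))) (BT.node 21 (BT.node 20 (BT.leaf cE20) (BT.leaf cE21)) (BT.node 22 (BT.leaf cE22) (BT.leaf cE23)))) (BT.node 27 (BT.node 25 (BT.node 24 (BT.leaf cE24)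 (BT.leaf cE25)) (BT.node 26 (BT.leaf cE26) (BT.leaf cE27))) (BT.node 29 (BT.node 28 (BT.leaf cE28) (BT.leaf cE29)) (BT.leaf cE30))))) (BT.node 46 (BT.node 38 (BT.node 34 (BT.node 32 (BT.node 31 (BT.leaf cE31) (BT.leaf cE32)) (BT.node 33 (BT.leaf cE33) (BT.leaf cE34))) (BT.node 36 (BT.node 35 (BT.leaf cE35) (BT.leaf cE36)) (BT.node 37 (BT.leaf cE37) (BT.leaf cE38)))) (BT.node 42 (BT.node 40 (BT.node 39 (BT.leaf cE39) (BT.leaf cE40)) (BT.node 41 (BT.leaf cE41) (BT.leaf cE42))) (BT.node 44 (BT.node 43 (BT.leaf cE43) (BT.leaf cE44)) (BT.node 45 (BT.leaf cE45) (BT.leaf cE46))))) (BT.node 54 (BT.node 50 (BT.node 48 (BT.node 47 (BT.leaf cE47) (BT.leaf cE48)) (BT.node 49 (BT.leaf cE49) (BT.leaf cE50))) (BT.node 52 (BT.node 51 (BT.leaf cE51) (BT.leaf cE52)) (BT.node 53 (BT.leaf cE53) (BT.leaf cE54)))) (BT.node 58 (BT.node 56 (BT.node 55 (BT.leaf cE55) (BT.leaf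 cE56)) (BT.node 57 (BT.leaf cE57) (BT.leaf cE58))) (BT.node 60 (BT.node 59 (BT.leaf cE59) (BT.leaf cE60)) (BT.leaf cE61)))))) (BT.node 92 (BT.node 77 (BT.node 69 (BT.node 65 (BT.node 63 (BT.node 62 (BT.leaf cE62) (BT.leaf cE63)) (BT.node 64 (BT.leaf cE64) (BT.leaf cE65))) (BT.node 67 (BT.node 66 (BT.leaf cE66) (BT.leaf cE67)) (BT.node 68 (BT.leaf cE68) (BT.leaf cE69)))) (BT.node 73 (BT.node 71 (BT.node 70 (BT.leaf cE70) (BT.leaf cE71)) (BT.node 72 (BT.leaf cE72) (BT.leaf cE73))) (BT.node 75 (BT.node 74 (BT.leaf cE74) (BT.leaf cE75)) (BT.node 76 (BT.leaf cE76) (BT.leaf cE77))))) (BT.node 85 (BT.node 81 (BT.node 79 (BT.node 78 (BT.leaf cE78) (BT.leaf cE79)) (BT.node 80 (BT.leaf cE80) (BT.leaf cE81))) (BT.node 83 (BT.node 82 (BT.leaf cE82) (BT.leaf cE83)) (BT.node 84 (BT.leaf cE84) (BT.leaf cE85)))) (BT.node 89 (BT.node 87 (BT.node 86 (BT.leaf cE86) (BT.leaf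 cE87)) (BT.node 88 (BT.leaf cE88) (BT.leaf cE89))) (BT.node 91 (BT.node 90 (BT.leaf cE90) (BT.leaf cE91)) (BT.leaf cE92))))) (BT.node 107 (BT.node 100 (BT.node 96 (BT.node 94 (BT.node 93 (BT.leaf cE93) (BT.leaf cE94)) (BT.node 95 (BT.leaf cE95) (BT.leaf cE96))) (BT.node 98 (BT.node 97 (BT.leaf cE97) (BT.leaf cE98)) (BT.node 99 (BT.leaf cE99) (BT.leaf cE100)))) (BT.node 104 (BT.node 102 (BT.node 101 (BT.leaf cE101) (BT.leaf cE102)) (BT.node 103 (BT.leaf cE103) (BT.leaf cE104))) (BT.node 106 (BT.node 105 (BT.leaf cE105) (BT.leaf cE106)) (BT.leaf cE107)))) (BT.node 115 (BT.node 111 (BT.node 109 (BT.node 108 (BT.leaf cE108) (BT.leaf cE109)) (BT.node 110 (BT.leaf cE110) (BT.leaf cE111))) (BT.node 113 (BT.node 112 (BT.leaf cE112) (BT.leaf cE113)) (BT.node 114 (BT.leaf cE114) (BT.leaf cE115)))) (BT.node 119 (BT.node 117 (BT.node 116 (BT.leaf cE116) (BT.leaf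 cE117)) (BT.node 118 (BT.leaf cE118) (BT.leaf cE119))) (BT.node 121 (BT.node 120 (BT.leaf cE120) (BT.leaf cE121)) (BT.leaf cE122))))))) (BT.node 183 (BT.node 153 (BT.node 138 (BT.node 130 (BT.node 126 (BT.node 124 (BT.node 123 (BT.leaf cE123) (BT.leaf cE124)) (BT.node 125 (BT.leaf cE125) (BT.leaf cE126))) (BT.node 128 (BT.node 127 (BT.leaf cE127) (BT.leaf cE128)) (BT.node 129 (BT.leaf cE129) (BT.leaf cE130)))) (BT.node 134 (BT.node 132 (BT.node 131 (BT.leaf cE131) (BT.leaf cE132)) (BT.node 133 (BT.leaf cE133) (BT.leaf cE134))) (BT.node 136 (BT.node 135 (BT.leaf cE135) (BT.leaf cE136)) (BT.node 137 (BT.leaf cE137) (BT.leaf cE138))))) (BT.node 146 (BT.node 142 (BT.node 140 (BT.node 139 (BT.leaf cE139) (BT.leaf cE140)) (BT.node 141 (BT.leaf cE141) (BT.leaf cE142))) (BT.node 144 (BT.node 143 (BT.leaf cE143) (BT.leaf cE144)) (BT.node 145 (BT.leaf cE145) (BT.leaf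 cE146)))) (BT.node 150 (BT.node 148 (BT.node 147 (BT.leaf cE147) (BT.leaf cE148)) (BT.node 149 (BT.leaf cE149) (BT.leaf cE150))) (BT.node 152 (BT.node 151 (BT.leaf cE151) (BT.leaf cE152)) (BT.leaf cE153))))) (BT.node 168 (BT.node 161 (BT.node 157 (BT.node 155 (BT.node 154 (BT.leaf cE154) (BT.leaf cE155)) (BT.node 156 (BT.leaf cE156) (BT.leaf cE157))) (BT.node 159 (BT.node 158 (BT.leaf cE158) (BT.leaf cE159)) (BT.node 160 (BT.leaf cE160) (BT.leaf cE161)))) (BT.node 165 (BT.node 163 (BT.node 162 (BT.leaf cE162) (BT.leaf cE163)) (BT.node 164 (BT.leaf cE164) (BT.leaf cE165))) (BT.node 167 (BT.node 166 (BT.leaf cE166) (BT.leaf cE167)) (BT.leaf cE168)))) (BT.node 176 (BT.node 172 (BT.node 170 (BT.node 169 (BT.leaf cE169) (BT.leaf cE170)) (BT.node 171 (BT.leaf cE171) (BT.leaf cE172))) (BT.node 174 (BT.node 173 (BT.leaf cE173) (BT.leaf cE174)) (BT.node 175 (BT.leaf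 cE175) (BT.leaf cE176)))) (BT.node 180 (BT.node 178 (BT.node 177 (BT.leaf cE177) (BT.leaf cE178)) (BT.node 179 (BT.leaf cE179) (BT.leaf cE180))) (BT.node 182 (BT.node 181 (BT.leaf cE181) (BT.leaf cE182)) (BT.leaf cE183)))))) (BT.node 214 (BT.node 199 (BT.node 191 (BT.node 187 (BT.node 185 (BT.node 184 (BT.leaf cE184) (BT.leaf cE185)) (BT.node 186 (BT.leaf cE186) (BT.leaf cE187))) (BT.node 189 (BT.node 188 (BT.leaf cE188) (BT.leaf cE189)) (BT.node 190 (BT.leaf cE190) (BT.leaf cE191)))) (BT.node 195 (BT.node 193 (BT.node 192 (BT.leaf cE192) (BT.leaf cE193)) (BT.node 194 (BT.leaf cE194) (BT.leaf cE195))) (BT.node 197 (BT.node 196 (BT.leaf cE196) (BT.leaf cE197)) (BT.node 198 (BT.leaf cE198) (BT.leaf cE199))))) (BT.node 207 (BT.node 203 (BT.node 201 (BT.node 200 (BT.leaf cE200) (BT.leaf cE201)) (BT.node 202 (BT.leaf cE202) (BT.leaf cE203))) (BT.node 205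 (BT.node 204 (BT.leaf cE204) (BT.leaf cE205)) (BT.node 206 (BT.leaf cE206) (BT.leaf cE207)))) (BT.node 211 (BT.node 209 (BT.node 208 (BT.leaf cE208) (BT.leaf cE209)) (BT.node 210 (BT.leaf cE210) (BT.leaf cE211))) (BT.node 213 (BT.node 212 (BT.leaf cE212) (BT.leaf cE213)) (BT.leaf cE214))))) (BT.node 229 (BT.node 222 (BT.node 218 (BT.node 216 (BT.node 215 (BT.leaf cE215) (BT.leaf cE216)) (BT.node 217 (BT.leaf cE217) (BT.leaf cE218))) (BT.node 220 (BT.node 219 (BT.leaf cE219) (BT.leaf cE220)) (BT.node 221 (BT.leaf cE221) (BT.leaf cE222)))) (BT.node 226 (BT.node 224 (BT.node 223 (BT.leaf cE223) (BT.leaf cE224)) (BT.node 225 (BT.leaf cE225) (BT.leaf cE226))) (BT.node 228 (BT.node 227 (BT.leaf cE227) (BT.leaf cE228)) (BT.leaf cE229)))) (BT.node 237 (BT.node 233 (BT.node 231 (BT.node 230 (BT.leaf cE230) (BT.leaf cE231)) (BT.node 232 (BT.leaf cE232) (BT.leaf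 cE233))) (BT.node 235 (BT.node 234 (BT.leaf cE234) (BT.leaf cE235)) (BT.node 236 (BT.leaf cE236) (BT.leaf cE237)))) (BT.node 241 (BT.node 239 (BT.node 238 (BT.leaf cE238) (BT.leaf cE239)) (BT.node 240 (BT.leaf cE240) (BT.leaf cE241))) (BT.node 243 (BT.node 242 (BT.leaf cE242) (BT.leaf cE243)) (BT.leaf cE244))))))))
/-- justification chunks -/
def colJT : BT ℕ := (BT.node 122 (BT.node 61 (BT.node 30 (BT.node 15 (BT.node 7 (BT.node 3 (BT.node 1 (BT.node 0 (BT.leaf cJ0) (BT.leaf cJ1)) (BT.node 2 (BT.leaf cJ2) (BT.leaf cJ3))) (BT.node 5 (BT.node 4 (BT.leaf cJ4) (BT.leaf cJ5)) (BT.node 6 (BT.leaf cJ6) (BT.leaf cJ7)))) (BT.node 11 (BT.node 9 (BT.node 8 (BT.leaf cJ8) (BT.leaf cJ9)) (BT.node 10 (BT.leaf cJ10) (BT.leaf cJ11))) (BT.node 13 (BT.node 12 (BT.leaf cJ12) (BT.leaf cJ13)) (BT.node 14 (BT.leaf cJ14) (BT.leaf cJ15))))) (BT.node 23 (BT.node 19 (BT.node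 17 (BT.node 16 (BT.leaf cJ16) (BT.leaf cJ17)) (BT.node 18 (BT.leaf cJ18) (BT.leaf cJ19))) (BT.node 21 (BT.node 20 (BT.leaf cJ20) (BT.leaf cJ21)) (BT.node 22 (BT.leaf cJ22) (BT.leaf cJ23)))) (BT.node 27 (BT.node 25 (BT.node 24 (BT.leaf cJ24) (BT.leaf cJ25)) (BT.node 26 (BT.leaf cJ26) (BT.leaf cJ27))) (BT.node 29 (BT.node 28 (BT.leaf cJ28) (BT.leaf cJ29)) (BT.leaf cJ30))))) (BT.node 46 (BT.node 38 (BT.node 34 (BT.node 32 (BT.node 31 (BT.leaf cJ31) (BT.leaf cJ32)) (BT.node 33 (BT.leaf cJ33) (BT.leaf cJ34))) (BT.node 36 (BT.node 35 (BT.leaf cJ35) (BT.leaf cJ36)) (BT.node 37 (BT.leaf cJ37) (BT.leaf cJ38)))) (BT.node 42 (BT.node 40 (BT.node 39 (BT.leaf cJ39) (BT.leaf cJ40)) (BT.node 41 (BT.leaf cJ41) (BT.leaf cJ42))) (BT.node 44 (BT.node 43 (BT.leaf cJ43) (BT.leaf cJ44)) (BT.node 45 (BT.leaf cJ45) (BT.leaf cJ46))))) (BT.node 54 (BT.node 50 (BT.node 48 (BT.node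 47 (BT.leaf cJ47) (BT.leaf cJ48)) (BT.node 49 (BT.leaf cJ49) (BT.leaf cJ50))) (BT.node 52 (BT.node 51 (BT.leaf cJ51) (BT.leaf cJ52)) (BT.node 53 (BT.leaf cJ53) (BT.leaf cJ54)))) (BT.node 58 (BT.node 56 (BT.node 55 (BT.leaf cJ55) (BT.leaf cJ56)) (BT.node 57 (BT.leaf cJ57) (BT.leaf cJ58))) (BT.node 60 (BT.node 59 (BT.leaf cJ59) (BT.leaf cJ60)) (BT.leaf cJ61)))))) (BT.node 92 (BT.node 77 (BT.node 69 (BT.node 65 (BT.node 63 (BT.node 62 (BT.leaf cJ62) (BT.leaf cJ63)) (BT.node 64 (BT.leaf cJ64) (BT.leaf cJ65))) (BT.node 67 (BT.node 66 (BT.leaf cJ66) (BT.leaf cJ67)) (BT.node 68 (BT.leaf cJ68) (BT.leaf cJ69)))) (BT.node 73 (BT.node 71 (BT.node 70 (BT.leaf cJ70) (BT.leaf cJ71)) (BT.node 72 (BT.leaf cJ72) (BT.leaf cJ73))) (BT.node 75 (BT.node 74 (BT.leaf cJ74) (BT.leaf cJ75)) (BT.node 76 (BT.leaf cJ76) (BT.leaf cJ77))))) (BT.node 85 (BT.node 81 (BT.node 79 (BT.node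 78 (BT.leaf cJ78) (BT.leaf cJ79)) (BT.node 80 (BT.leaf cJ80) (BT.leaf cJ81))) (BT.node 83 (BT.node 82 (BT.leaf cJ82) (BT.leaf cJ83)) (BT.node 84 (BT.leaf cJ84) (BT.leaf cJ85)))) (BT.node 89 (BT.node 87 (BT.node 86 (BT.leaf cJ86) (BT.leaf cJ87)) (BT.node 88 (BT.leaf cJ88) (BT.leaf cJ89))) (BT.node 91 (BT.node 90 (BT.leaf cJ90) (BT.leaf cJ91)) (BT.leaf cJ92))))) (BT.node 107 (BT.node 100 (BT.node 96 (BT.node 94 (BT.node 93 (BT.leaf cJ93) (BT.leaf cJ94)) (BT.node 95 (BT.leaf cJ95) (BT.leaf cJ96))) (BT.node 98 (BT.node 97 (BT.leaf cJ97) (BT.leaf cJ98)) (BT.node 99 (BT.leaf cJ99) (BT.leaf cJ100)))) (BT.node 104 (BT.node 102 (BT.node 101 (BT.leaf cJ101) (BT.leaf cJ102)) (BT.node 103 (BT.leaf cJ103) (BT.leaf cJ104))) (BT.node 106 (BT.node 105 (BT.leaf cJ105) (BT.leaf cJ106)) (BT.leaf cJ107)))) (BT.node 115 (BT.node 111 (BT.node 109 (BT.node 108 (BT.leaf cJ108)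 (BT.leaf cJ109)) (BT.node 110 (BT.leaf cJ110) (BT.leaf cJ111))) (BT.node 113 (BT.node 112 (BT.leaf cJ112) (BT.leaf cJ113)) (BT.node 114 (BT.leaf cJ114) (BT.leaf cJ115)))) (BT.node 119 (BT.node 117 (BT.node 116 (BT.leaf cJ116) (BT.leaf cJ117)) (BT.node 118 (BT.leaf cJ118) (BT.leaf cJ119))) (BT.node 121 (BT.node 120 (BT.leaf cJ120) (BT.leaf cJ121)) (BT.leaf cJ122))))))) (BT.node 183 (BT.node 153 (BT.node 138 (BT.node 130 (BT.node 126 (BT.node 124 (BT.node 123 (BT.leaf cJ123) (BT.leaf cJ124)) (BT.node 125 (BT.leaf cJ125) (BT.leaf cJ126))) (BT.node 128 (BT.node 127 (BT.leaf cJ127) (BT.leaf cJ128)) (BT.node 129 (BT.leaf cJ129) (BT.leaf cJ130)))) (BT.node 134 (BT.node 132 (BT.node 131 (BT.leaf cJ131) (BT.leaf cJ132)) (BT.node 133 (BT.leaf cJ133) (BT.leaf cJ134))) (BT.node 136 (BT.node 135 (BT.leaf cJ135) (BT.leaf cJ136)) (BT.node 137 (BT.leaf cJ137) (BT.leaf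 cJ138))))) (BT.node 146 (BT.node 142 (BT.node 140 (BT.node 139 (BT.leaf cJ139) (BT.leaf cJ140)) (BT.node 141 (BT.leaf cJ141) (BT.leaf cJ142))) (BT.node 144 (BT.node 143 (BT.leaf cJ143) (BT.leaf cJ144)) (BT.node 145 (BT.leaf cJ145) (BT.leaf cJ146)))) (BT.node 150 (BT.node 148 (BT.node 147 (BT.leaf cJ147) (BT.leaf cJ148)) (BT.node 149 (BT.leaf cJ149) (BT.leaf cJ150))) (BT.node 152 (BT.node 151 (BT.leaf cJ151) (BT.leaf cJ152)) (BT.leaf cJ153))))) (BT.node 168 (BT.node 161 (BT.node 157 (BT.node 155 (BT.node 154 (BT.leaf cJ154) (BT.leaf cJ155)) (BT.node 156 (BT.leaf cJ156) (BT.leaf cJ157))) (BT.node 159 (BT.node 158 (BT.leaf cJ158) (BT.leaf cJ159)) (BT.node 160 (BT.leaf cJ160) (BT.leaf cJ161)))) (BT.node 165 (BT.node 163 (BT.node 162 (BT.leaf cJ162) (BT.leaf cJ163)) (BT.node 164 (BT.leaf cJ164) (BT.leaf cJ165))) (BT.node 167 (BT.node 166 (BT.leaf cJ166) (BT.leaf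 cJ167)) (BT.leaf cJ168)))) (BT.node 176 (BT.node 172 (BT.node 170 (BT.node 169 (BT.leaf cJ169) (BT.leaf cJ170)) (BT.node 171 (BT.leaf cJ171) (BT.leaf cJ172))) (BT.node 174 (BT.node 173 (BT.leaf cJ173) (BT.leaf cJ174)) (BT.node 175 (BT.leaf cJ175) (BT.leaf cJ176)))) (BT.node 180 (BT.node 178 (BT.node 177 (BT.leaf cJ177) (BT.leaf cJ178)) (BT.node 179 (BT.leaf cJ179) (BT.leaf cJ180))) (BT.node 182 (BT.node 181 (BT.leaf cJ181) (BT.leaf cJ182)) (BT.leaf cJ183)))))) (BT.node 214 (BT.node 199 (BT.node 191 (BT.node 187 (BT.node 185 (BT.node 184 (BT.leaf cJ184) (BT.leaf cJ185)) (BT.node 186 (BT.leaf cJ186) (BT.leaf cJ187))) (BT.node 189 (BT.node 188 (BT.leaf cJ188) (BT.leaf cJ189)) (BT.node 190 (BT.leaf cJ190) (BT.leaf cJ191)))) (BT.node 195 (BT.node 193 (BT.node 192 (BT.leaf cJ192) (BT.leaf cJ193)) (BT.node 194 (BT.leaf cJ194) (BT.leaf cJ195))) (BT.node 197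 (BT.node 196 (BT.leaf cJ196) (BT.leaf cJ197)) (BT.node 198 (BT.leaf cJ198) (BT.leaf cJ199))))) (BT.node 207 (BT.node 203 (BT.node 201 (BT.node 200 (BT.leaf cJ200) (BT.leaf cJ201)) (BT.node 202 (BT.leaf cJ202) (BT.leaf cJ203))) (BT.node 205 (BT.node 204 (BT.leaf cJ204) (BT.leaf cJ205)) (BT.node 206 (BT.leaf cJ206) (BT.leaf cJ207)))) (BT.node 211 (BT.node 209 (BT.node 208 (BT.leaf cJ208) (BT.leaf cJ209)) (BT.node 210 (BT.leaf cJ210) (BT.leaf cJ211))) (BT.node 213 (BT.node 212 (BT.leaf cJ212) (BT.leaf cJ213)) (BT.leaf cJ214))))) (BT.node 229 (BT.node 222 (BT.node 218 (BT.node 216 (BT.node 215 (BT.leaf cJ215) (BT.leaf cJ216)) (BT.node 217 (BT.leaf cJ217) (BT.leaf cJ218))) (BT.node 220 (BT.node 219 (BT.leaf cJ219) (BT.leaf cJ220)) (BT.node 221 (BT.leaf cJ221) (BT.leaf cJ222)))) (BT.node 226 (BT.node 224 (BT.node 223 (BT.leaf cJ223) (BT.leaf cJ224)) (BT.node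 225 (BT.leaf cJ225) (BT.leaf cJ226))) (BT.node 228 (BT.node 227 (BT.leaf cJ227) (BT.leaf cJ228)) (BT.leaf cJ229)))) (BT.node 237 (BT.node 233 (BT.node 231 (BT.node 230 (BT.leaf cJ230) (BT.leaf cJ231)) (BT.node 232 (BT.leaf cJ232) (BT.leaf cJ233))) (BT.node 235 (BT.node 234 (BT.leaf cJ234) (BT.leaf cJ235)) (BT.node 236 (BT.leaf cJ236) (BT.leaf cJ237)))) (BT.node 241 (BT.node 239 (BT.node 238 (BT.leaf cJ238) (BT.leaf cJ239)) (BT.node 240 (BT.leaf cJ240) (BT.leaf cJ241))) (BT.node 243 (BT.node 242 (BT.leaf cJ242) (BT.leaf cJ243)) (BT.leaf cJ244))))))))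
/-- parent chunks -/
def parCT : BT ℕ := (BT.node 24 (BT.node 12 (BT.node 6 (BT.node 3 (BT.node 1 (BT.node 0 (BT.leaf cP0) (BT.leaf cP1)) (BT.node 2 (BT.leaf cP2) (BT.leaf cP3))) (BT.node 5 (BT.node 4 (BT.leaf cP4) (BT.leaf cP5)) (BT.leaf cP6))) (BT.node 9 (BT.node 8 (BT.node 7 (BT.leaf cP7) (BT.leaf cP8)) (BT.leaf cP9)) (BT.node 11 (BT.node 10 (BT.leaf cP10) (BT.leaf cP11)) (BT.leaf cP12)))) (BT.node 18 (BT.node 15 (BT.node 14 (BT.node 13 (BT.leaf cP13) (BT.leaf cP14)) (BT.leaf cP15)) (BT.node 17 (BT.node 16 (BT.leaf cP16) (BT.leaf cP17)) (BT.leaf cP18))) (BT.node 21 (BT.node 20 (BT.node 19 (BT.leaf cP19) (BT.leaf cP20)) (BT.leaf cP21)) (BT.node 23 (BT.node 22 (BT.leaf cP22) (BT.leaf cP23)) (BT.leaf cP24))))) (BT.node 36 (BT.node 30 (BT.node 27 (BT.node 26 (BT.node 25 (BT.leaf cP25) (BT.leaf cP26)) (BT.leaf cP27)) (BT.node 29 (BT.node 28 (BT.leaf cP28)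 (BT.leaf cP29)) (BT.leaf cP30))) (BT.node 33 (BT.node 32 (BT.node 31 (BT.leaf cP31) (BT.leaf cP32)) (BT.leaf cP33)) (BT.node 35 (BT.node 34 (BT.leaf cP34) (BT.leaf cP35)) (BT.leaf cP36)))) (BT.node 42 (BT.node 39 (BT.node 38 (BT.node 37 (BT.leaf cP37) (BT.leaf cP38)) (BT.leaf cP39)) (BT.node 41 (BT.node 40 (BT.leaf cP40) (BT.leaf cP41)) (BT.leaf cP42))) (BT.node 45 (BT.node 44 (BT.node 43 (BT.leaf cP43) (BT.leaf cP44)) (BT.leaf cP45)) (BT.node 47 (BT.node 46 (BT.leaf cP46) (BT.leaf cP47)) (BT.leaf cP48))))))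
/-- the certificate -/
def data : Data where
  k := 4
  N := 24963
  W := 32
  MW := 4294967296
  B := 32768
  CH := 512
  NCH := 49
  colE := colET
  JW := 64
  MJ := 18446744073709551616
  A := 1048576
  colJ := colJT
  PW := 25
  MP := 33554432
  parC := parCT
  inv := (BT.node 2 (BT.node 1 (BT.node 0 (BT.leaf 1) (BT.leaf 0)) (BT.leaf 3)) (BT.node 3 (BT.leaf 2) (BT.leaf 4)))
  rel := relT
  sub := subT
  fuel := 64

end Cfsg.Agent.Lib.Helper3.Cover.P11Data
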