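import Cfsg.Agent.Lib.Helper3.Cover.P11Data
set_option autoImplicit false
set_option maxRecDepth 100000
set_option maxHeartbeats 0

namespace Cfsg.Agent.Lib.Helper3.Cover.P11U3
open Cfsg.Agent.Lib.Helper28.TC2Upper Cfsg.Agent.Lib.Helper3.Cover.P11Data

theorem chk15 : data.checkRange 19855 1630 = true := by decide +kernel
theorem chk16 : data.checkRange 21485 1691 = true := by decide +kernel
theorem chk17 : data.checkRange 23176 1787 = true := by decide +kernel

end Cfsg.Agent.Lib.Helper3.Cover.P11U3
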