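import Cfsg.Agent.Lib.Helper28.TC2GlueOrb
import Cfsg.Agent.Lib.Helper28.TC2Range
import Cfsg.Agent.Lib.Helper3.Cover.P11Link
import Cfsg.Agent.Lib.Helper3.Cover.P11M
import Cfsg.Agent.Lib.Helper3.Cover.P11M0
import Cfsg.Agent.Lib.Helper3.Cover.P11M1
import Cfsg.Agent.Lib.Helper3.Cover.P11M2
import Cfsg.Agent.Lib.Helper3.Cover.P11U0
import Cfsg.Agent.Lib.Helper3.Cover.P11U1
import Cfsg.Agent.Lib.Helper3.Cover.P11U2
import Cfsg.Agent.Lib.Helper3.Cover.P11U3
import Cfsg.Agent.Lib.Helper3.Cover.P11L0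

set_option autoImplicit false
set_option maxRecDepth 100000
open Cfsg

namespace Cfsg.Agent.Lib.Helper3.Cover.P11Main
open Cfsg.Agent.Lib.Helper28.TC2Upper Cfsg.Agent.Lib.Helper28.TC2Lower Cfsg.Agent.Lib.Helper28.TC2Glue Cfsg.Agent.Lib.Helper28.TC2GlueOrb Cfsg.Agent.Lib.Helper28.TC2Orbit Cfsg.Agent.Lib.Helper28.TC2Range
open Cfsg.Agent.Lib.Helper3.Cover.P11Data Cfsg.Agent.Lib.Helper3.Cover.P11Table Cfsg.Agent.Lib.Helper3.Cover.P11Link Cfsg.Agent.Lib.Helper3.Cover.P11M

theorem hchk : ∀ v, v < data.N → data.checkNode v = true := by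
  intro v hv
  have hv' : v < 24963 := hv
  rcases Nat.lt_or_ge v 1196 with h0 | h0
  · exact (data.checkRange_iff 0 1196).mp Cfsg.Agent.Lib.Helper3.Cover.P11U0.chk0 v (by omega) (by omega)
  rcases Nat.lt_or_ge v 2381 with h1 | h1
  · exact (data.checkRange_iff 1196 1185).mp Cfsg.Agent.Lib.Helper3.Cover.P11U0.chk1 v (by omega) (by omega)
  rcases Nat.lt_or_ge v 3573 with h2 | h2
  · exact (data.checkRange_iff 2381 1192).mp Cfsg.Agent.Lib.Helper3.Cover.P11U0.chk2 v (by omega) (by omega)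
  rcases Nat.lt_or_ge v 4784 with h3 | h3
  · exact (data.checkRange_iff 3573 1211).mp Cfsg.Agent.Lib.Helper3.Cover.P11U0.chk3 v (by omega) (by omega)
  rcases Nat.lt_or_ge v 6006 with h4 | h4
  · exact (data.checkRange_iff 4784 1222).mp Cfsg.Agent.Lib.Helper3.Cover.P11U0.chk4 v (by omega) (by omega)
  rcases Nat.lt_or_ge v 7252 with h5 | h5
  · exact (data.checkRange_iff 6006 1246).mp Cfsg.Agent.Lib.Helper3.Cover.P11U1.chk5 v (by omega) (by omega)
  rcases Nat.lt_or_ge v 8505 with h6 | h6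
  · exact (data.checkRange_iff 7252 1253).mp Cfsg.Agent.Lib.Helper3.Cover.P11U1.chk6 v (by omega) (by omega)
  rcases Nat.lt_or_ge v 9788 with h7 | h7
  · exact (data.checkRange_iff 8505 1283).mp Cfsg.Agent.Lib.Helper3.Cover.P11U1.chk7 v (by omega) (by omega)
  rcases Nat.lt_or_ge v 11112 with h8 | h8
  · exact (data.checkRange_iff 9788 1324).mp Cfsg.Agent.Lib.Helper3.Cover.P11U1.chk8 v (by omega) (by omega)
  rcases Nat.lt_or_ge v 12447 with h9 | h9
  · exact (data.checkRange_iff 11112 1335).mp Cfsg.Agent.Lib.Helper3.Cover.P11U1.chk9 v (by omega) (by omega)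
  rcases Nat.lt_or_ge v 13848 with h10 | h10
  · exact (data.checkRange_iff 12447 1401).mp Cfsg.Agent.Lib.Helper3.Cover.P11U2.chk10 v (by omega) (by omega)
  rcases Nat.lt_or_ge v 15283 with h11 | h11
  · exact (data.checkRange_iff 13848 1435).mp Cfsg.Agent.Lib.Helper3.Cover.P11U2.chk11 v (by omega) (by omega)
  rcases Nat.lt_or_ge v 16765 with h12 | h12
  · exact (data.checkRange_iff 15283 1482).mp Cfsg.Agent.Lib.Helper3.Cover.P11U2.chk12 v (by omega) (by omega)
  rcases Nat.lt_or_ge v 18301 with h13 | h13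
  · exact (data.checkRange_iff 16765 1536).mp Cfsg.Agent.Lib.Helper3.Cover.P11U2.chk13 v (by omega) (by omega)
  rcases Nat.lt_or_ge v 19855 with h14 | h14
  · exact (data.checkRange_iff 18301 1554).mp Cfsg.Agent.Lib.Helper3.Cover.P11U2.chk14 v (by omega) (by omega)
  rcases Nat.lt_or_ge v 21485 with h15 | h15
  · exact (data.checkRange_iff 19855 1630).mp Cfsg.Agent.Lib.Helper3.Cover.P11U3.chk15 v (by omega) (by omega)
  rcases Nat.lt_or_ge v 23176 with h16 | h16
  · exact (data.checkRange_iff 21485 1691).mp Cfsg.Agent.Lib.Helper3.Cover.P11U3.chk16 v (by omega) (by omega)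
  exact (data.checkRange_iff 23176 1787).mp Cfsg.Agent.Lib.Helper3.Cover.P11U3.chk17 v (by omega) (by omega)

theorem hrows : ∀ v, v < data.N → Data.rowOK data v = true := by
  intro v hv
  have hv' : v < 24963 := hv
  rcases Nat.lt_or_ge v 6000 with h0 | h0
  · exact (Data.finalRange_iff data 0 6000).mp Cfsg.Agent.Lib.Helper3.Cover.P11M0.fin0 v (by omega) (by omega)
  rcases Nat.lt_or_ge v 12000 with h1 | h1
  · exact (Data.finalRange_iff data 6000 6000).mp Cfsg.Agent.Lib.Helper3.Cover.P11M0.fin1 v (by omega) (by omega)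
  rcases Nat.lt_or_ge v 18000 with h2 | h2
  · exact (Data.finalRange_iff data 12000 6000).mp Cfsg.Agent.Lib.Helper3.Cover.P11M0.fin2 v (by omega) (by omega)
  rcases Nat.lt_or_ge v 24000 with h3 | h3
  · exact (Data.finalRange_iff data 18000 6000).mp Cfsg.Agent.Lib.Helper3.Cover.P11M0.fin3 v (by omega) (by omega)
  exact (Data.finalRange_iff data 24000 963).mp Cfsg.Agent.Lib.Helper3.Cover.P11M0.fin4 v (by omega) (by omega)

theorem hfin : data.finalOK = true := Data.finalOK_of_rows data hlive0 (by decide) hrows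

theorem pc0 : Data.countFrom data 0 6000 = 4711 := Cfsg.Agent.Lib.Helper3.Cover.P11M1.cnt0
theorem pc1 : Data.countFrom data 0 12000 = 7058 := Data.countFrom_step data pc0 Cfsg.Agent.Lib.Helper3.Cover.P11M1.cnt1 (by norm_num) (by norm_num)
theorem pc2 : Data.countFrom data 0 18000 = 7806 := Data.countFrom_step data pc1 Cfsg.Agent.Lib.Helper3.Cover.P11M1.cnt2 (by norm_num) (by norm_num)
theorem pc3 : Data.countFrom data 0 24000 = 7920 := Data.countFrom_step data pc2 Cfsg.Agent.Lib.Helper3.Cover.P11M1.cnt3 (by norm_num) (by norm_num)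
theorem pc4 : Data.countFrom data 0 24963 = 7920 := Data.countFrom_step data pc3 Cfsg.Agent.Lib.Helper3.Cover.P11M1.cnt4 (by norm_num) (by norm_num)

theorem hcount : data.countLive = table.n := by
  rw [Data.countLive_eq]
  exact pc4

theorem hpermAll : ∀ p, p < table.n → Table.permRow table p = true := by
  intro p hv
  have hv' : p < 7920 := hv
  rcases Nat.lt_or_ge p 6000 with h0 | h0
  · exact (Table.permRange_iff table 0 6000).mp Cfsg.Agent.Lib.Helper3.Cover.P11M2.prm0 p (by omega) (by omega)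
  exact (Table.permRange_iff table 6000 1920).mp Cfsg.Agent.Lib.Helper3.Cover.P11M2.prm1 p (by omega) (by omega)

theorem hT : table.OK := Table.ok_of_rows table hinvOK hpermAll

theorem htreeAll : ∀ i, i < Nat.pred table.n → Table.treeRow table i = true := by
  intro p hv
  have hv' : p < 7919 := hv
  rcases Nat.lt_or_ge p 6000 with h0 | h0
  · exact (Table.treeRange_iff table 0 6000).mp Cfsg.Agent.Lib.Helper3.Cover.P11M2.tre0 p (by omega) (by omega)
  exact (Table.treeRange_iff table 6000 1919).mp Cfsg.Agent.Lib.Helper3.Cover.P11M2.tre1 p (by omega) (by omega)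

theorem htree : table.treeOK = true := Table.treeOK_of_rows table htreeAll

theorem hchkT : ∀ P ∈ chkPaths, ∀ p, p < table.n → table.walkT P p = p := by
  intro P hm p hv
  have hv' : p < 7920 := hv
  rcases Nat.lt_or_ge p 2000 with h0 | h0
  · exact (Table.relOK_iff chkPaths 0 2000).mp Cfsg.Agent.Lib.Helper3.Cover.P11L0.rel0 p (by omega) (by omega) _ hm
  rcases Nat.lt_or_ge p 4000 with h1 | h1
  · exact (Table.relOK_iff chkPaths 2000 2000).mp Cfsg.Agent.Lib.Helper3.Cover.P11L0.rel1 p (by omega) (by omega) _ hm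
  rcases Nat.lt_or_ge p 6000 with h2 | h2
  · exact (Table.relOK_iff chkPaths 4000 2000).mp Cfsg.Agent.Lib.Helper3.Cover.P11L0.rel2 p (by omega) (by omega) _ hm
  exact (Table.relOK_iff chkPaths 6000 1920).mp Cfsg.Agent.Lib.Helper3.Cover.P11L0.rel3 p (by omega) (by omega) _ hm

theorem hrelT : ∀ L ∈ relWords, ∀ p, p < table.n → table.walkT (pathOf lw L) p = p :=
  fun L hL => Table.fix_of_covered hT chkPaths hchkT _ (hcov _ (hrelmem L hL)).1 (hcov _ (hrelmem L hL)).2

theorem hsubT : ∀ L ∈ subWords, table.walkT (pathOf lw L) 0 = 0 :=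
  fun L hL => (Table.subOK_iff subPaths).mp hsub0 _ (hsubmem L hL)

theorem hn : 0 < table.n := by decide

theorem main : ((Subgroup.closure S).map (PresentedGroup.mk rels)).index = table.n ∧
    ∃ φ : PresentedGroup rels →* Equiv.Perm (Fin table.n),
      (∀ x, φ (PresentedGroup.of x) = Table.sigma hT (lw (x, true))) ∧
      ∃ f : PresentedGroup rels ⧸ (Subgroup.closure S).map (PresentedGroup.mk rels) → Fin table.n,
        Function.Bijective f ∧ (∀ g q, f (g • q) = φ g (f q)) ∧ f (QuotientGroup.mk 1) = ⟨0, hn⟩ :=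
  index_eq link hchk hfin hcount hT hn hrelT hsubT htree

end Cfsg.Agent.Lib.Helper3.Cover.P11Main
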