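import Cfsg.Agent.Lib.Helper28.TC2Orbit
set_option autoImplicit false
set_option maxRecDepth 100000

namespace Cfsg.Agent.Lib.Helper3.Cover.P12Table
open Cfsg.Agent.Lib.Helper28.TC2Upper Cfsg.Agent.Lib.Helper28.TC2Lower Cfsg.Agent.Lib.Helper28.TC2Orbit

def cT0 : ℕ := 0x79a4b6583120
def cT1 : ℕ := 0x79a4b6583120
def cT2 : ℕ := 0xba6842917530
def cT3 : ℕ := 0xba5839271640
def cT4 : ℕ := 0xb59467a83201
def cT5 : ℕ := 0xb59467a83201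
def cR0 : ℕ := 0x7045025004023032022031021001040000
/-- table chunks -/
def colTT : BT ℕ := (BT.node 2 (BT.node 1 (BT.node 0 (BT.leaf cT0) (BT.leaf cT1)) (BT.leaf cT2)) (BT.node 4 (BT.node 3 (BT.leaf cT3) (BT.leaf cT4)) (BT.leaf cT5)))
/-- spanning tree chunks -/
def treeT : BT ℕ := (BT.leaf cR0)
/-- relator paths -/
def relPaths : List (List ℕ) := [[0, 0], [2, 2, 2, 2], [2, 0, 2, 0, 2, 0, 2, 0, 2, 0, 2, 0, 2, 0, 2, 0, 2, 0, 2, 0, 2, 0], [2, 2, 0, 2, 2, 0, 2, 2, 0, 2, 2, 0, 2, 2, 0, 2, 2, 0], [3, 0, 3, 0, 2, 0, 3, 0, 2, 2, 0, 2, 0, 3, 0, 2, 0, 2, 0], [4, 4], [4, 2, 4, 0, 4, 0, 4, 3, 4, 2, 0, 3], [4, 3, 4, 3, 0, 2, 4, 3, 0, 3, 0, 3, 3]]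
/-- subgroup generator paths -/
def subPaths : List (List ℕ) := [[0], [2]]
/-- the relator paths that are checked directly -/
def chkPaths : List (List ℕ) := [[0, 0], [2, 2, 2, 2], [2, 0, 2, 0, 2, 0, 2, 0, 2, 0, 2, 0, 2, 0, 2, 0, 2, 0, 2, 0, 2, 0], [2, 2, 0, 2, 2, 0, 2, 2, 0, 2, 2, 0, 2, 2, 0, 2, 2, 0], [3, 0, 3, 0, 2, 0, 3, 0, 2, 2, 0, 2, 0, 3, 0, 2, 0, 2, 0], [4, 4], [4, 2, 4, 0, 4, 0, 4, 3, 4, 2, 0, 3], [4, 3, 4, 3, 0, 2, 4, 3, 0, 3, 0, 3, 3]]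
/-- the coset table -/
def table : Table where
  n := 12
  k := 6
  w := 4
  M := 16
  CH := 1024
  NCH := 1
  col := colTT
  inv := (BT.node 3 (BT.node 1 (BT.node 0 (BT.leaf 1) (BT.leaf 0)) (BT.node 2 (BT.leaf 3) (BT.leaf 2))) (BT.node 5 (BT.node 4 (BT.leaf 5) (BT.leaf 4)) (BT.leaf 6)))
  tw := 12
  TM := 4096
  tree := treeT

end Cfsg.Agent.Lib.Helper3.Cover.P12Table
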