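import Cfsg.Agent.Lib.Helper3.Cover.Finite
import Cfsg.Agent.Lib.Helper3.Cover.CodeHom
import Cfsg.Agent.Lib.Helper3.Cover.E12Main
import Cfsg.Agent.Lib.Helper3.Cover.P11Main
import Cfsg.Agent.Lib.Helper3.Cover.P12Main
import Cfsg.Agent.Lib.Helper3.Schur.M11
import Cfsg.Agent.Lib.Helper3.OutAut.M11
import Cfsg.Agent.Lib.Helper3.OutAut.M12
import Cfsg.Agent.Lib.Helper28.TC2Tower

set_option autoImplicit false
set_option maxRecDepth 100000

/-!
# The Schur multiplier of `M12` has order 2

`P11 = ⟨a, b | R11⟩ ≅ M11`, `P12 = ⟨a, b, t | R12⟩ ≅ M12`; the covering presentation `E12` of `P12` has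
order at most `24 * 7920` (the subgroup `⟨a, b⟩` is a quotient of the covering presentation `E11` of `P11`,
which is `M11` itself as the multiplier of `M11` is trivial), and the relator `r2` is not trivial in `E12`.
-/

namespace Cfsg.Agent.Lib.Helper3.Cover.M12Main

open Cfsg Cfsg.Agent.Lib.Helper3 Cfsg.Agent.Lib.Helper3.Golay Cfsg.Agent.Lib.Helper3.Fus
open Cfsg.Agent.Lib.Helper3.OutAut
open Cfsg.Agent.Lib.Helper28.TC2Upper Cfsg.Agent.Lib.Helper28.TC2Lower Cfsg.Agent.Lib.Helper28.TC2Glue
open Cfsg.Agent.Lib.Helper28.TC2Tower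

/-- the covering data of the presentation of `M11` -/
abbrev D11 : CoverData E11Def.Gen := E11Def.cover
/-- the covering data of the presentation of `M12` -/
abbrev D12 : CoverData E12Def.Gen := E12Def.cover

def TA : List ℕ := [0, 3, 13, 1, 4, 5, 16, 14, 8, 12, 15, 11, 9, 2, 7, 10, 6, 22, 18, 23, 20, 21, 17, 19]
def TB : List ℕ := [0, 4, 6, 3, 12, 22, 9, 11, 1, 18, 15, 20, 8, 13, 23, 5, 16, 7, 2, 21, 17, 19, 10, 14]
def TT : List ℕ := [9, 1, 4, 8, 2, 5, 16, 15, 3, 0, 22, 11, 12, 13, 17, 7, 6, 14, 18, 19, 20, 23, 10, 21]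

/-- the tables of the generators of `M12` -/
def tab12 : E12Def.Gen → List ℕ
  | .a => TA
  | .b => TB
  | .t => TT

/-- the tables of the generators of `M11` -/
def tab11 : E11Def.Gen → List ℕ
  | .a => TA
  | .b => TB

theorem cert_mem12 : [TA, TB, TT].all memOK12 = true := by decide +kernel
theorem cert_mem11 : [TA, TB].all memOK11 = true := by decide +kernel

theorem cert_rel12 : ∀ L ∈ E12Def.R, Nat.beq (evalC (codesOf tab12) L) idN = true := by decide +kernel
theorem cert_rel11 : ∀ L ∈ E11Def.R, Nat.beq (evalC (codesOf tab11) L) idN = true := by decide +kernel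

def wa12 : List (E12Def.Gen × Bool) := [(.a, true), (.b, false), (.a, true), (.b, true), (.a, true), (.t, true), (.b, true), (.a, true), (.t, true), (.b, false), (.t, true), (.b, true), (.b, true), (.a, true)]
def wb12 : List (E12Def.Gen × Bool) := [(.b, true), (.a, true), (.b, false), (.t, true), (.a, true), (.b, true), (.t, true), (.b, false), (.t, true), (.b, true), (.a, true), (.b, false)]
def wa11 : List (E11Def.Gen × Bool) := [(.a, true), (.b, false), (.a, true), (.b, true), (.a, true), (.b, true), (.a, true), (.b, true), (.a, true), (.b, true), (.a, true), (.b, false), (.a, true), (.b, false), (.a, true), (.b, true)]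
def wb11 : List (E11Def.Gen × Bool) := [(.b, true), (.a, true), (.b, false)]

theorem cert_gen12 : Nat.beq (evalC (codesOf tab12) wa12) (encL OutM12.aT) = true ∧
    Nat.beq (evalC (codesOf tab12) wb12) (encL OutM12.bT) = true := by decide +kernel
theorem cert_gen11 : Nat.beq (evalC (codesOf tab11) wa11) (encL OutM11.aT) = true ∧
    Nat.beq (evalC (codesOf tab11) wb11) (encL OutM11.bT) = true := by decide +kernel

/-! ### the group `P11` -/

theorem cardP11 : Finite D11.P ∧ Nat.card D11.P = 7920 := by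
  have h : ((Subgroup.closure P11Link.S).map (PresentedGroup.mk P11Link.rels)).index = 7920 := P11Main.main.1
  have e : (Subgroup.closure P11Link.S).map (PresentedGroup.mk P11Link.rels) = ⊥ := by
    show (Subgroup.closure {1}).map _ = ⊥
    rw [Subgroup.closure_singleton_one, Subgroup.map_bot]
  rw [e] at h
  exact card_of_index_bot (by norm_num) h

theorem gen11 : Cfsg.Spor.M11 ≤ Subgroup.closure {(Classical.choose (tblOK_sound OutM11.cert_tbl.1)),
    (Classical.choose (tblOK_sound OutM11.cert_tbl.2.1))} := by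
  have ha := Classical.choose_spec (tblOK_sound OutM11.cert_tbl.1)
  have hb := Classical.choose_spec (tblOK_sound OutM11.cert_tbl.2.1)
  rw [M11_eq']
  exact H12_fix_le (closure_pair_le ha.1 hb.1) (sound_pair ha.2 hb.2 OutM11.prog) 1 (by norm_num)
    OutM11.cert_gen

theorem iso11 : Nonempty (D11.P ≃* ↥Cfsg.Spor.M11) := by
  haveI : Finite (PresentedGroup (relSet E11Def.R)) := cardP11.1
  haveI : Finite ↥Cfsg.Spor.M11 := Nat.finite_of_card_ne_zero (by rw [card_M11]; norm_num)
  have ha := Classical.choose_spec (tblOK_sound OutM11.cert_tbl.1)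
  have hb := Classical.choose_spec (tblOK_sound OutM11.cert_tbl.2.1)
  refine exists_iso_of_tables E11Def.R Cfsg.Spor.M11 tab11 ?_ cert_rel11 _ _ gen11 _ _ ha.2 hb.2
    wa11 wb11 cert_gen11.1 cert_gen11.2 ?_
  · intro x
    cases x
    · exact tsound11 cert_mem11 TA (by simp)
    · exact tsound11 cert_mem11 TB (by simp)
  · rw [card_M11]
    exact le_of_eq cardP11.2

/-- the covering presentation of `P11` has order at most 7920 -/
theorem cardE11 : Finite D11.E ∧ Nat.card D11.E ≤ 7920 := by
  haveI := cardP11.1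
  obtain ⟨φ⟩ := iso11
  refine ⟨D11.finite_E, ?_⟩
  have h := D11.card_E_le φ Cfsg.Agent.Lib.Helper3.SchurM11.schur_M11
  rw [cardP11.2] at h
  have e : Nat.card (Multiplicative (ZMod 1)) = 1 := by
    rw [Nat.card_eq_fintype_card]; rfl
  rw [e, one_mul] at h
  exact h

/-! ### the group `P12` -/

theorem upP : ∀ L ∈ E11Def.R, upWord E11Def.up L ∈ E12Def.R := by decide +kernel
theorem upE : ∀ L ∈ E11Def.relWords, upWord E11Def.up L ∈ E12Def.relWords := by decide +kernel

theorem hS12 : ∀ s ∈ P12Link.S, ∃ b, s = FreeGroup.of (E11Def.up b) := by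
  intro s hs
  simp only [P12Link.S, Set.mem_insert_iff, Set.mem_singleton_iff] at hs
  rcases hs with rfl | rfl
  exacts [⟨.a, rfl⟩, ⟨.b, rfl⟩]

theorem cardP12' : Finite (PresentedGroup P12Link.rels) ∧ Nat.card (PresentedGroup P12Link.rels) ≤ 95040 := by
  haveI : Finite (PresentedGroup P11Link.rels) := cardP11.1
  have hrel := hrel_of_words P12Link.rels P11Link.rels E11Def.up P12Link.relWords P11Link.relWords
    P12Link.link.hrels P11Link.link.hrels upP
  obtain ⟨hfin, hle⟩ := card_le_of_subpres P12Link.rels P11Link.rels E11Def.up hrel P12Link.S hS12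
  have hidx : ((Subgroup.closure P12Link.S).map (PresentedGroup.mk P12Link.rels)).index = 12 := P12Main.main.1
  have := hfin
  refine ⟨finite_of_index _ (by rw [hidx]; norm_num), ?_⟩
  exact card_le_of_index _ hidx (le_trans hle (le_of_eq cardP11.2))

theorem cardP12 : Finite D12.P ∧ Nat.card D12.P ≤ 95040 := cardP12'

theorem gen12 : Cfsg.Spor.M12 ≤ Subgroup.closure {(Classical.choose (tblOK_sound OutM12.cert_tbl.1)),
    (Classical.choose (tblOK_sound OutM12.cert_tbl.2.1))} := by
  have ha := Classical.choose_spec (tblOK_sound OutM12.cert_tbl.1)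
  have hb := Classical.choose_spec (tblOK_sound OutM12.cert_tbl.2.1)
  rw [M12_eq]
  have := H12_fix_le (closure_pair_le ha.1 hb.1) (sound_pair ha.2 hb.2 OutM12.prog) 0 (by norm_num)
    OutM12.cert_gen
  simpa [fixSeq] using this

theorem iso12 : Nonempty (D12.P ≃* ↥Cfsg.Spor.M12) := by
  haveI : Finite (PresentedGroup (relSet E12Def.R)) := cardP12.1
  haveI : Finite ↥Cfsg.Spor.M12 := Nat.finite_of_card_ne_zero (by rw [card_M12]; norm_num)
  have ha := Classical.choose_spec (tblOK_sound OutM12.cert_tbl.1)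
  have hb := Classical.choose_spec (tblOK_sound OutM12.cert_tbl.2.1)
  refine exists_iso_of_tables E12Def.R Cfsg.Spor.M12 tab12 ?_ cert_rel12 _ _ gen12 _ _ ha.2 hb.2
    wa12 wb12 cert_gen12.1 cert_gen12.2 ?_
  · intro x
    cases x
    · exact tsound12 cert_mem12 TA (by simp)
    · exact tsound12 cert_mem12 TB (by simp)
    · exact tsound12 cert_mem12 TT (by simp)
  · rw [card_M12]
    exact cardP12.2

theorem cardP12_eq : Nat.card D12.P = 95040 := by
  obtain ⟨φ⟩ := iso12
  rw [Nat.card_congr φ.toEquiv, card_M12]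

/-! ### the covering group `E12` -/

theorem hSE12 : ∀ s ∈ E12Link.S, ∃ b, s = FreeGroup.of (E11Def.up b) := by
  intro s hs
  simp only [E12Link.S, Set.mem_insert_iff, Set.mem_singleton_iff] at hs
  rcases hs with rfl | rfl
  exacts [⟨.a, rfl⟩, ⟨.b, rfl⟩]

theorem cardE12' : Finite (PresentedGroup E12Link.rels) ∧ Nat.card (PresentedGroup E12Link.rels) ≤ 190080 := by
  haveI : Finite (PresentedGroup D11.relsE) := cardE11.1
  have hrel := hrel_of_words E12Link.rels D11.relsE E11Def.up E12Link.relWords E11Def.relWords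
    E12Link.link.hrels (fun _ => Iff.rfl) upE
  obtain ⟨hfin, hle⟩ := card_le_of_subpres E12Link.rels D11.relsE E11Def.up hrel E12Link.S hSE12
  have hidx : ((Subgroup.closure E12Link.S).map (PresentedGroup.mk E12Link.rels)).index = 24 := E12Main.main.1
  have := hfin
  refine ⟨finite_of_index _ (by rw [hidx]; norm_num), ?_⟩
  exact card_le_of_index _ hidx (le_trans hle cardE11.2)

theorem cardE12 : Finite D12.E ∧ Nat.card D12.E ≤ 190080 := cardE12'

/-- the action of a word on the points of the table -/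
theorem phi_mk_apply {β : Type} {rels : Set (FreeGroup β)} {S : Set (FreeGroup β)}
    {relWords subWords : List (List (β × Bool))} {lw : β × Bool → ℕ} {dec : ℕ → β × Bool}
    {D : Data} {T : Table} (hL : Link rels S relWords subWords lw dec D T) (hT : T.OK)
    (φ : PresentedGroup rels →* Equiv.Perm (Fin T.n))
    (hφ : ∀ x, φ (PresentedGroup.of x) = Table.sigma hT (lw (x, true)))
    (L : List (β × Bool)) (p : Fin T.n) :
    (φ (PresentedGroup.mk rels (FreeGroup.mk L)) p).val = T.walkT (pathOf lw L) p.val := by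
  have hσ : ∀ x b, Table.sigma hT (lw (x, b)) =
      cond b (Table.sigma hT (lw (x, true))) (Table.sigma hT (lw (x, true)))⁻¹ := by
    intro x b
    cases b with
    | true => rfl
    | false =>
      show Table.sigma hT (lw (x, false)) = (Table.sigma hT (lw (x, true)))⁻¹
      rw [hL.lwinv, ← hL.Tinv, Table.sigma_inv hT (by rw [hL.Tk]; exact hL.lwk _)]
  have hlt : ∀ l ∈ pathOf lw L, l < T.k := by
    intro l hl
    unfold pathOf at hl
    rw [List.mem_reverse, List.mem_map] at hl
    obtain ⟨xb, _, rfl⟩ := hl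
    rw [hL.Tk]; exact hL.lwk _
  have h1 : φ.comp (PresentedGroup.mk rels) = FreeGroup.lift (fun x => Table.sigma hT (lw (x, true))) := by
    apply FreeGroup.ext_hom
    intro x
    rw [MonoidHom.comp_apply, FreeGroup.lift_apply_of]
    exact hφ x
  have h2 : φ (PresentedGroup.mk rels (FreeGroup.mk L)) = pathProd (Table.sigma hT) (pathOf lw L) := by
    rw [← lift_mk_eq_pathProd _ lw _ hσ L, ← h1]
    rfl
  rw [h2, Table.pathProd_sigma_apply hT _ hlt]

/-- the last relator of `M12` -/
def r2 : List (E12Def.Gen × Bool) := E12Def.R.getD 7 []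

theorem r2_mem : r2 ∈ E12Def.R := by decide +kernel

theorem walk_r2 : E12Table.table.walkT (pathOf E12Link.lw r2) 0 = 23 := by decide +kernel

/-- the kernel of the projection is not trivial -/
theorem ker_ne_bot : ∃ z ∈ D12.proj.ker, z ≠ 1 := by
  obtain ⟨-, φ, hφ, -⟩ := E12Main.main
  refine ⟨PresentedGroup.mk D12.relsE (FreeGroup.mk r2), ?_, ?_⟩
  · rw [MonoidHom.mem_ker, D12.proj_mk]
    exact PresentedGroup.one_of_mem ⟨r2, r2_mem, rfl⟩
  · intro h
    have h1 := phi_mk_apply E12Link.link E12Main.hT φ hφ r2 ⟨0, E12Main.hn⟩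
    have h2 : φ (PresentedGroup.mk E12Link.rels (FreeGroup.mk r2)) = 1 := by
      have : (PresentedGroup.mk E12Link.rels (FreeGroup.mk r2)) = 1 := h
      rw [this, map_one]
    rw [h2, walk_r2] at h1
    exact absurd h1 (by decide)

theorem card_ker : Nat.card D12.proj.ker = 2 := by
  haveI := cardE12.1
  have h1 := D12.card_E
  rw [cardP12_eq] at h1
  have h2 := cardE12.2
  have h3 : Nat.card D12.proj.ker ≤ 2 := by
    rw [h1] at h2
    have h5 : Nat.card ↥D12.proj.ker * 95040 ≤ 2 * 95040 := h2
    exact Nat.le_of_mul_le_mul_right h5 (by norm_num)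
  have h4 : 1 < Nat.card D12.proj.ker := by
    obtain ⟨z, hz, hz1⟩ := ker_ne_bot
    rw [Finite.one_lt_card_iff_nontrivial]
    exact ⟨⟨⟨z, hz⟩, 1, fun h => hz1 (congrArg Subtype.val h)⟩⟩
  exact le_antisymm h3 h4

/-- the Schur multiplier of `M12` is cyclic of order 2 -/
theorem schur_M12 : Cfsg.HasCyclicSchurMultiplier ↥Cfsg.Spor.M12 2 := by
  haveI := cardE12.1
  obtain ⟨φ⟩ := iso12
  haveI : Fact (Nat.Prime 2) := ⟨Nat.prime_two⟩
  have hc : IsCyclic D12.proj.ker := isCyclic_of_prime_card card_ker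
  have e : Nat.card D12.proj.ker = Nat.card (Multiplicative (ZMod 2)) := by
    rw [card_ker, Nat.card_eq_fintype_card]; rfl
  exact D12.hasSchurMultiplier φ (mulEquivOfCyclicCardEq e)

end Cfsg.Agent.Lib.Helper3.Cover.M12Main
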