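import Cfsg.Agent.Lib.Helper3.Cover.F22BarB

set_option autoImplicit false
set_option maxRecDepth 100000

/-!
# The order of the covering presentation of `Fi₂₂`

The generators `a, b, c, t, d` of the covering group `E` of `Fi₂₂` satisfy the relators of the covering group of
`PSU₆(2)`: the values of the first twenty relators of `PSU₆(2)` are central in `E`, the value of the last one is a
central element times `z`, which commutes with `a, b, c, t, d`, and the normalising words are the same.  So
`⟨a, b, c, t, d⟩` has order at most `12 · |PSU₆(2)|`, and `E` has order at most `3510 · 12 · |PSU₆(2)| = 6 · |Fi₂₂|`.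
-/

namespace Cfsg.Agent.Lib.Helper3.Cover.F22Bar

open Cfsg Cfsg.Agent.Lib.Helper3 Cfsg.Agent.Lib.Helper3.Cover.U62Iso
open Cfsg.Agent.Lib.Helper28.TC2Tower Cfsg.Agent.Lib.Helper28.TC2Subst
open scoped IsMulCommutative

/-- a relator of `PSU₆(2)` is a relator of `Fi₂₂`, or becomes one after multiplication by `z⁻¹` -/
theorem up_rel : ∀ r ∈ EU6Def.R, upWord up6 r ∈ EF22Def.R ∨ upWord up6 r ++ [(EF22Def.Gen.z, false)] ∈ EF22Def.R := by
  decide +kernel

/-- the value of a relator of `PSU₆(2)` commutes with `a, b, c, t, d` -/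
theorem up_rel_comm (r : List (EU6Def.Gen × Bool)) (hr : r ∈ EU6Def.R) (x : EU6Def.Gen) :
    emk (upWord up6 r) * X (up6 x) = X (up6 x) * emk (upWord up6 r) := by
  rcases up_rel r hr with h | h
  · have hc := emk_rel_central _ h
    rw [Subgroup.mem_center_iff] at hc
    exact (hc _).symm
  · have hc := emk_rel_central _ h
    rw [Subgroup.mem_center_iff, emk_append, emk_inv_letter] at hc
    set A := emk (upWord up6 r) with hA
    set Z := X .z with hZ
    have hz := z_comm x
    have e1 : A = (A * Z⁻¹) * Z := by group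
    have hzi : Z⁻¹ * X (up6 x) = X (up6 x) * Z⁻¹ := by
      calc Z⁻¹ * X (up6 x) = Z⁻¹ * (X (up6 x) * Z) * Z⁻¹ := by group
        _ = Z⁻¹ * (Z * X (up6 x)) * Z⁻¹ := by rw [hz]
        _ = X (up6 x) * Z⁻¹ := by group
    calc A * X (up6 x) = (A * Z⁻¹) * (Z * X (up6 x)) := by group
      _ = (A * Z⁻¹) * (X (up6 x) * Z) := by rw [hz]
      _ = ((A * Z⁻¹) * X (up6 x)) * Z := by group
      _ = (X (up6 x) * (A * Z⁻¹)) * Z := by rw [hc (X (up6 x))]
      _ = X (up6 x) * A := by group

/-- the homomorphism from the covering group of `PSU₆(2)` -/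
noncomputable def Lam : DU6.E →* DF.E :=
  PresentedGroup.toGroup (f := fun x => X (up6 x)) (by
    intro w hw
    rcases DU6.mem_relsE hw with ⟨r, hr, x, rfl⟩ | ⟨x, rfl⟩
    · rw [map_commutatorElement, lift_up6, FreeGroup.lift_apply_of, commutatorElement_eq_one_iff_mul_comm]
      exact up_rel_comm r hr x
    · rw [lift_up6]
      exact emk_up_nrm x)

theorem Lam_of (x : EU6Def.Gen) : Lam (PresentedGroup.of x) = X (up6 x) :=
  PresentedGroup.toGroup.of _

theorem Hhat_le_range : Hhat ≤ Lam.range := by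
  unfold Hhat
  rw [Subgroup.map_le_iff_le_comap, Subgroup.closure_le]
  intro s hs
  have hs' : s = FreeGroup.of EF22Def.Gen.a ∨ s = FreeGroup.of EF22Def.Gen.b ∨ s = FreeGroup.of EF22Def.Gen.c ∨
      s = FreeGroup.of EF22Def.Gen.t ∨ s = FreeGroup.of EF22Def.Gen.d := hs
  rcases hs' with rfl | rfl | rfl | rfl | rfl
  · exact ⟨PresentedGroup.of .a, Lam_of .a⟩
  · exact ⟨PresentedGroup.of .b, Lam_of .b⟩
  · exact ⟨PresentedGroup.of .c, Lam_of .c⟩
  · exact ⟨PresentedGroup.of .t, Lam_of .t⟩
  · exact ⟨PresentedGroup.of .d, Lam_of .d⟩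

theorem card_Hhat : Finite Hhat ∧ Nat.card Hhat ≤ 110361968640 := by
  haveI := U62Main.cardEU6.1
  have : Finite Lam.range := Finite.of_surjective Lam.rangeRestrict Lam.rangeRestrict_surjective
  have hfin : Finite Hhat :=
    Finite.of_injective (Subgroup.inclusion Hhat_le_range) (Subgroup.inclusion_injective Hhat_le_range)
  refine ⟨hfin, ?_⟩
  calc Nat.card Hhat ≤ Nat.card Lam.range :=
        Nat.card_le_card_of_injective _ (Subgroup.inclusion_injective Hhat_le_range)
    _ ≤ Nat.card DU6.E := Nat.card_le_card_of_surjective Lam.rangeRestrict Lam.rangeRestrict_surjective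
    _ ≤ 110361968640 := U62Main.cardEU6.2

/-- the covering group of `Fi₂₂` is finite of order at most `6 · |Fi₂₂|` -/
theorem cardEF : Finite DF.E ∧ Nat.card DF.E ≤ 387370509926400 := by
  have hdvd : Hhat.index ∣ 3510 := index_dvd
  have hne : Hhat.index ≠ 0 := fun h0 => by rw [h0] at hdvd; norm_num at hdvd
  have hle' : Hhat.index ≤ 3510 := Nat.le_of_dvd (by norm_num) hdvd
  haveI := card_Hhat.1
  refine ⟨finite_of_index Hhat hne, ?_⟩
  calc Nat.card DF.E = Hhat.index * Nat.card Hhat := (Hhat.index_mul_card).symm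
    _ ≤ 3510 * 110361968640 := Nat.mul_le_mul hle' card_Hhat.2
    _ = 387370509926400 := by norm_num

end Cfsg.Agent.Lib.Helper3.Cover.F22Bar
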