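import Cfsg.Agent.Lib.Helper3.Cover.F22IsoDef

set_option autoImplicit false
set_option maxRecDepth 100000

namespace Cfsg.Agent.Lib.Helper3.Cover.F22IsoData

open Cfsg.Agent.Lib.Helper28.TC2Upper Cfsg.Agent.Lib.Helper28.TC2Lower Cfsg.Agent.Lib.Helper28.TC2Glue
open Cfsg.Agent.Lib.Helper28.TC2Subst
open Cfsg.Agent.Lib.Helper3.Cover.EF22Def

theorem iso2_0 : PF22Table.table.relOK isoPaths 780 130 = true := by decide +kernel
theorem iso2_1 : PF22Table.table.relOK isoPaths 910 130 = true := by decide +kernel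
theorem iso2_2 : PF22Table.table.relOK isoPaths 1040 130 = true := by decide +kernel

end Cfsg.Agent.Lib.Helper3.Cover.F22IsoData
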