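import Cfsg.Agent.Lib.Helper3.Cover.PF22Main
import Cfsg.Agent.Lib.Helper3.Cover.F22IsoMem
import Cfsg.Agent.Lib.Helper3.Cover.F22IsoC0
import Cfsg.Agent.Lib.Helper3.Cover.F22IsoC1
import Cfsg.Agent.Lib.Helper3.Cover.F22IsoC2
import Cfsg.Agent.Lib.Helper3.Cover.F22IsoC3
import Cfsg.Agent.Lib.Helper3.Cover.F22IsoC4
import Cfsg.Agent.Lib.Helper3.Cover.F22IsoC5
import Cfsg.Agent.Lib.Helper3.Cover.F22IsoC6
import Cfsg.Agent.Lib.Helper3.Cover.F22IsoC7
import Cfsg.Agent.Lib.Helper3.Cover.F22IsoC8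

set_option autoImplicit false
set_option maxRecDepth 100000

/-!
# The relators of the definitions of `Fi₂₂`, with the words for the nine generators substituted, fix all the 3510 points
-/

namespace Cfsg.Agent.Lib.Helper3.Cover.F22IsoData

open Cfsg.Agent.Lib.Helper28.TC2Upper Cfsg.Agent.Lib.Helper28.TC2Lower Cfsg.Agent.Lib.Helper28.TC2Glue
open Cfsg.Agent.Lib.Helper28.TC2Subst
open Cfsg.Agent.Lib.Helper3.Cover.EF22Def

theorem hisoT : ∀ P ∈ isoPaths, ∀ p, p < PF22Table.table.n → PF22Table.table.walkT P p = p := by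
  intro P hm p hv
  have hv' : p < 3510 := hv
  rcases Nat.lt_or_ge p 130 with h0 | h0
  · exact (Table.relOK_iff isoPaths 0 130).mp iso0_0 p (by omega) (by omega) _ hm
  rcases Nat.lt_or_ge p 260 with h1 | h1
  · exact (Table.relOK_iff isoPaths 130 130).mp iso0_1 p (by omega) (by omega) _ hm
  rcases Nat.lt_or_ge p 390 with h2 | h2
  · exact (Table.relOK_iff isoPaths 260 130).mp iso0_2 p (by omega) (by omega) _ hm
  rcases Nat.lt_or_ge p 520 with h3 | h3
  · exact (Table.relOK_iff isoPaths 390 130).mp iso1_0 p (by omega) (by omega) _ hm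
  rcases Nat.lt_or_ge p 650 with h4 | h4
  · exact (Table.relOK_iff isoPaths 520 130).mp iso1_1 p (by omega) (by omega) _ hm
  rcases Nat.lt_or_ge p 780 with h5 | h5
  · exact (Table.relOK_iff isoPaths 650 130).mp iso1_2 p (by omega) (by omega) _ hm
  rcases Nat.lt_or_ge p 910 with h6 | h6
  · exact (Table.relOK_iff isoPaths 780 130).mp iso2_0 p (by omega) (by omega) _ hm
  rcases Nat.lt_or_ge p 1040 with h7 | h7
  · exact (Table.relOK_iff isoPaths 910 130).mp iso2_1 p (by omega) (by omega) _ hm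
  rcases Nat.lt_or_ge p 1170 with h8 | h8
  · exact (Table.relOK_iff isoPaths 1040 130).mp iso2_2 p (by omega) (by omega) _ hm
  rcases Nat.lt_or_ge p 1300 with h9 | h9
  · exact (Table.relOK_iff isoPaths 1170 130).mp iso3_0 p (by omega) (by omega) _ hm
  rcases Nat.lt_or_ge p 1430 with h10 | h10
  · exact (Table.relOK_iff isoPaths 1300 130).mp iso3_1 p (by omega) (by omega) _ hm
  rcases Nat.lt_or_ge p 1560 with h11 | h11
  · exact (Table.relOK_iff isoPaths 1430 130).mp iso3_2 p (by omega) (by omega) _ hm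
  rcases Nat.lt_or_ge p 1690 with h12 | h12
  · exact (Table.relOK_iff isoPaths 1560 130).mp iso4_0 p (by omega) (by omega) _ hm
  rcases Nat.lt_or_ge p 1820 with h13 | h13
  · exact (Table.relOK_iff isoPaths 1690 130).mp iso4_1 p (by omega) (by omega) _ hm
  rcases Nat.lt_or_ge p 1950 with h14 | h14
  · exact (Table.relOK_iff isoPaths 1820 130).mp iso4_2 p (by omega) (by omega) _ hm
  rcases Nat.lt_or_ge p 2080 with h15 | h15
  · exact (Table.relOK_iff isoPaths 1950 130).mp iso5_0 p (by omega) (by omega) _ hm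
  rcases Nat.lt_or_ge p 2210 with h16 | h16
  · exact (Table.relOK_iff isoPaths 2080 130).mp iso5_1 p (by omega) (by omega) _ hm
  rcases Nat.lt_or_ge p 2340 with h17 | h17
  · exact (Table.relOK_iff isoPaths 2210 130).mp iso5_2 p (by omega) (by omega) _ hm
  rcases Nat.lt_or_ge p 2470 with h18 | h18
  · exact (Table.relOK_iff isoPaths 2340 130).mp iso6_0 p (by omega) (by omega) _ hm
  rcases Nat.lt_or_ge p 2600 with h19 | h19
  · exact (Table.relOK_iff isoPaths 2470 130).mp iso6_1 p (by omega) (by omega) _ hm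
  rcases Nat.lt_or_ge p 2730 with h20 | h20
  · exact (Table.relOK_iff isoPaths 2600 130).mp iso6_2 p (by omega) (by omega) _ hm
  rcases Nat.lt_or_ge p 2860 with h21 | h21
  · exact (Table.relOK_iff isoPaths 2730 130).mp iso7_0 p (by omega) (by omega) _ hm
  rcases Nat.lt_or_ge p 2990 with h22 | h22
  · exact (Table.relOK_iff isoPaths 2860 130).mp iso7_1 p (by omega) (by omega) _ hm
  rcases Nat.lt_or_ge p 3120 with h23 | h23
  · exact (Table.relOK_iff isoPaths 2990 130).mp iso7_2 p (by omega) (by omega) _ hm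
  rcases Nat.lt_or_ge p 3250 with h24 | h24
  · exact (Table.relOK_iff isoPaths 3120 130).mp iso8_0 p (by omega) (by omega) _ hm
  rcases Nat.lt_or_ge p 3380 with h25 | h25
  · exact (Table.relOK_iff isoPaths 3250 130).mp iso8_1 p (by omega) (by omega) _ hm
  exact (Table.relOK_iff isoPaths 3380 130).mp iso8_2 p (by omega) (by omega) _ hm

theorem hsubT : ∀ L ∈ Cfsg.Agent.Lib.Helper28.TCFi22W0Link.relWords, ∀ p, p < PF22Table.table.n →
    PF22Table.table.walkT (pathOf PF22Link.lw (substW sub9 L)) p = p :=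
  fun L hL => hisoT _ (hiso_mem L hL)

end Cfsg.Agent.Lib.Helper3.Cover.F22IsoData
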