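import Cfsg.Agent.Lib.Helper3.Cover.F22BarA

set_option autoImplicit false
set_option maxRecDepth 100000

/-!
# Maps from the covering presentation of `Fi₂₂` to central extensions given by presentations

A presentation on the generators of `Fi₂₂` and a central letter `k`, in which each relator of `Fi₂₂` holds up to a power
of `k` and the normalising words are relators, receives a homomorphism from the covering group.
-/

namespace Cfsg.Agent.Lib.Helper3.Cover.F22Bar

open Cfsg Cfsg.Agent.Lib.Helper3
open Cfsg.Agent.Lib.Helper28.TC2Tower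

variable {γ : Type} (up : EF22Def.Gen → γ) (k : γ) (W : List (List (γ × Bool)))

/-- the element of the presented group given by a word -/
noncomputable abbrev gmk (L : List (γ × Bool)) : PresentedGroup (relSet W) :=
  PresentedGroup.mk (relSet W) (FreeGroup.mk L)

theorem gmk_append (L M : List (γ × Bool)) : gmk W (L ++ M) = gmk W L * gmk W M := by
  unfold gmk
  rw [← FreeGroup.mul_mk, map_mul]

theorem gmk_invRev (L : List (γ × Bool)) : gmk W (FreeGroup.invRev L) = (gmk W L)⁻¹ := by
  unfold gmk
  rw [← FreeGroup.inv_mk, map_inv]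

theorem gmk_rel (L : List (γ × Bool)) (hL : L ∈ W) : gmk W L = 1 :=
  PresentedGroup.one_of_mem ⟨L, hL, rfl⟩

theorem gmk_inv_letter (x : γ) : gmk W [(x, false)] = (gmk W [(x, true)])⁻¹ := by
  rw [← gmk_invRev]
  rfl

theorem lift_up (L : List (EF22Def.Gen × Bool)) :
    FreeGroup.lift (fun x => gmk W [(up x, true)]) (FreeGroup.mk L) = gmk W (upWord up L) := by
  have : FreeGroup.lift (fun x => gmk W [(up x, true)]) =
      (PresentedGroup.mk (relSet W)).comp (FreeGroup.map up) := by
    ext x
    rw [FreeGroup.lift_apply_of]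
    rfl
  rw [this]
  rfl

/-- the homomorphism from the covering group -/
theorem exists_theta
    (h1 : ∀ r ∈ EF22Def.R, upWord up r ∈ W ∨ upWord up r ++ [(k, false)] ∈ W)
    (h2 : ∀ x, [(k, true), (up x, true), (k, false), (up x, false)] ∈ W)
    (h3 : ∀ x, upWord up (EF22Def.nrm x) ∈ W) :
    ∃ θ : DF.E →* PresentedGroup (relSet W), ∀ L, θ (emk L) = gmk W (upWord up L) := by
  have hk : ∀ x, gmk W [(k, true)] * gmk W [(up x, true)] = gmk W [(up x, true)] * gmk W [(k, true)] := by
    intro x
    have h := gmk_rel W _ (h2 x)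
    have e : [(k, true), (up x, true), (k, false), (up x, false)] =
        [(k, true)] ++ ([(up x, true)] ++ ([(k, false)] ++ [(up x, false)])) := rfl
    rw [e, gmk_append, gmk_append, gmk_append, gmk_inv_letter, gmk_inv_letter] at h
    have h' : gmk W [(k, true)] * gmk W [(up x, true)] * (gmk W [(k, true)])⁻¹ * (gmk W [(up x, true)])⁻¹ = 1 := by
      rw [← h]; group
    calc gmk W [(k, true)] * gmk W [(up x, true)]
        = (gmk W [(k, true)] * gmk W [(up x, true)] * (gmk W [(k, true)])⁻¹ * (gmk W [(up x, true)])⁻¹) *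
          (gmk W [(up x, true)] * gmk W [(k, true)]) := by group
      _ = gmk W [(up x, true)] * gmk W [(k, true)] := by rw [h', one_mul]
  have hr : ∀ r ∈ EF22Def.R, ∀ x, gmk W (upWord up r) * gmk W [(up x, true)] =
      gmk W [(up x, true)] * gmk W (upWord up r) := by
    intro r hr x
    rcases h1 r hr with h | h
    · rw [gmk_rel W _ h, one_mul, mul_one]
    · have h' := gmk_rel W _ h
      rw [gmk_append, gmk_inv_letter, mul_inv_eq_one] at h'
      rw [h']
      exact hk x
  have hrel : ∀ w ∈ DF.relsE, FreeGroup.lift (fun x => gmk W [(up x, true)]) w = 1 := by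
    intro w hw
    rcases DF.mem_relsE hw with ⟨r, hr', x, rfl⟩ | ⟨x, rfl⟩
    · rw [map_commutatorElement, lift_up, FreeGroup.lift_apply_of, commutatorElement_eq_one_iff_mul_comm]
      exact hr r hr' x
    · rw [lift_up]
      exact gmk_rel W _ (h3 x)
  refine ⟨PresentedGroup.toGroup hrel, ?_⟩
  intro L
  show FreeGroup.lift (fun x => gmk W [(up x, true)]) (FreeGroup.mk L) = _
  exact lift_up up W L

/-- the value of a relator that holds up to `k` -/
theorem gmk_eq_k (r : List (γ × Bool)) (h : r ++ [(k, false)] ∈ W) : gmk W r = gmk W [(k, true)] := by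
  have h' := gmk_rel W _ h
  rw [gmk_append, gmk_inv_letter, mul_inv_eq_one] at h'
  exact h'

/-- the order of `k` -/
theorem gmk_k_pow (n : ℕ) (h : List.replicate n (k, true) ∈ W) : gmk W [(k, true)] ^ n = 1 := by
  have h' := gmk_rel W _ h
  have e : ∀ m : ℕ, gmk W (List.replicate m (k, true)) = gmk W [(k, true)] ^ m := by
    intro m
    induction m with
    | zero =>
      rw [pow_zero]
      rfl
    | succ m ih =>
      rw [pow_succ', ← ih, ← gmk_append]
      rfl
  rw [← e]
  exact h'

end Cfsg.Agent.Lib.Helper3.Cover.F22Bar
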