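import Cfsg.Agent.Lib.Helper28.TC2Range
import Cfsg.Agent.Lib.Helper3.Cover.LF2Table
set_option autoImplicit false
set_option maxRecDepth 100000
set_option maxHeartbeats 0

namespace Cfsg.Agent.Lib.Helper3.Cover.LF2C2
open Cfsg.Agent.Lib.Helper28.TC2Upper Cfsg.Agent.Lib.Helper28.TC2Lower Cfsg.Agent.Lib.Helper28.TC2Range Cfsg.Agent.Lib.Helper3.Cover.LF2Table

theorem rel4 : table.relOK chkPaths 1376 344 = true := by decide +kernel
theorem rel5 : table.relOK chkPaths 1720 344 = true := by decide +kernel
theorem rel6 : table.relOK chkPaths 2064 344 = true := by decide +kernel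
theorem rel7 : table.relOK chkPaths 2408 344 = true := by decide +kernel
theorem rel8 : table.relOK chkPaths 2752 344 = true := by decide +kernel

end Cfsg.Agent.Lib.Helper3.Cover.LF2C2
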