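import Cfsg.Agent.Lib.Helper28.TC2Range
import Cfsg.Agent.Lib.Helper3.Cover.LF2Table
set_option autoImplicit false
set_option maxRecDepth 100000
set_option maxHeartbeats 0

namespace Cfsg.Agent.Lib.Helper3.Cover.LF2C5
open Cfsg.Agent.Lib.Helper28.TC2Upper Cfsg.Agent.Lib.Helper28.TC2Lower Cfsg.Agent.Lib.Helper28.TC2Range Cfsg.Agent.Lib.Helper3.Cover.LF2Table

theorem rel19 : table.relOK chkPaths 6536 344 = true := by decide +kernel
theorem rel20 : table.relOK chkPaths 6880 344 = true := by decide +kernel
theorem rel21 : table.relOK chkPaths 7224 344 = true := by decide +kernel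
theorem rel22 : table.relOK chkPaths 7568 344 = true := by decide +kernel
theorem rel23 : table.relOK chkPaths 7912 344 = true := by decide +kernel

end Cfsg.Agent.Lib.Helper3.Cover.LF2C5
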