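import Cfsg.Agent.Lib.Helper28.TC2Range
import Cfsg.Agent.Lib.Helper3.Cover.LF2Table
import Cfsg.Agent.Lib.Helper3.Cover.LF2C0
import Cfsg.Agent.Lib.Helper3.Cover.LF2C1
import Cfsg.Agent.Lib.Helper3.Cover.LF2C2
import Cfsg.Agent.Lib.Helper3.Cover.LF2C3
import Cfsg.Agent.Lib.Helper3.Cover.LF2C4
import Cfsg.Agent.Lib.Helper3.Cover.LF2C5
import Cfsg.Agent.Lib.Helper3.Cover.LF2C6
import Cfsg.Agent.Lib.Helper3.Cover.LF2C7
import Cfsg.Agent.Lib.Helper3.Cover.LF2C8
import Cfsg.Agent.Lib.Helper3.Cover.LF2C9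
import Cfsg.Agent.Lib.Helper3.Cover.LF2C10
import Cfsg.Agent.Lib.Helper3.Cover.LF2C11
import Cfsg.Agent.Lib.Helper3.Cover.LF2C12
import Cfsg.Agent.Lib.Helper3.Cover.LF2C13
import Cfsg.Agent.Lib.Helper3.Cover.LF2C14
import Cfsg.Agent.Lib.Helper3.Cover.LF2C15
import Cfsg.Agent.Lib.Helper3.Cover.LF2C16
import Cfsg.Agent.Lib.Helper3.Cover.LF2C17

set_option autoImplicit false
set_option maxRecDepth 100000

namespace Cfsg.Agent.Lib.Helper3.Cover.LF2Low
open Cfsg.Agent.Lib.Helper28.TC2Upper Cfsg.Agent.Lib.Helper28.TC2Lower Cfsg.Agent.Lib.Helper28.TC2Range Cfsg.Agent.Lib.Helper3.Cover.LF2Table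

theorem hpermAll : ∀ p, p < table.n → Table.permRow table p = true := by
  intro p hv
  have hv' : p < 28160 := hv
  rcases Nat.lt_or_ge p 6000 with h0 | h0
  · exact (Table.permRange_iff table 0 6000).mp Cfsg.Agent.Lib.Helper3.Cover.LF2C0.prm0 p (by omega) (by omega)
  rcases Nat.lt_or_ge p 12000 with h1 | h1
  · exact (Table.permRange_iff table 6000 6000).mp Cfsg.Agent.Lib.Helper3.Cover.LF2C0.prm1 p (by omega) (by omega)
  rcases Nat.lt_or_ge p 18000 with h2 | h2
  · exact (Table.permRange_iff table 12000 6000).mp Cfsg.Agent.Lib.Helper3.Cover.LF2C0.prm2 p (by omega) (by omega)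
  rcases Nat.lt_or_ge p 24000 with h3 | h3
  · exact (Table.permRange_iff table 18000 6000).mp Cfsg.Agent.Lib.Helper3.Cover.LF2C0.prm3 p (by omega) (by omega)
  exact (Table.permRange_iff table 24000 4160).mp Cfsg.Agent.Lib.Helper3.Cover.LF2C1.prm4 p (by omega) (by omega)

theorem hT : table.OK := Table.ok_of_rows table Cfsg.Agent.Lib.Helper3.Cover.LF2C0.hinvOK hpermAll

theorem hchkT : ∀ P ∈ chkPaths, ∀ p, p < table.n → table.walkT P p = p := by
  intro P hm p hv
  have hv' : p < 28160 := hv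
  rcases Nat.lt_or_ge p 344 with h0 | h0
  · exact (Table.relOK_iff chkPaths 0 344).mp Cfsg.Agent.Lib.Helper3.Cover.LF2C1.rel0 p (by omega) (by omega) _ hm
  rcases Nat.lt_or_ge p 688 with h1 | h1
  · exact (Table.relOK_iff chkPaths 344 344).mp Cfsg.Agent.Lib.Helper3.Cover.LF2C1.rel1 p (by omega) (by omega) _ hm
  rcases Nat.lt_or_ge p 1032 with h2 | h2
  · exact (Table.relOK_iff chkPaths 688 344).mp Cfsg.Agent.Lib.Helper3.Cover.LF2C1.rel2 p (by omega) (by omega) _ hm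
  rcases Nat.lt_or_ge p 1376 with h3 | h3
  · exact (Table.relOK_iff chkPaths 1032 344).mp Cfsg.Agent.Lib.Helper3.Cover.LF2C1.rel3 p (by omega) (by omega) _ hm
  rcases Nat.lt_or_ge p 1720 with h4 | h4
  · exact (Table.relOK_iff chkPaths 1376 344).mp Cfsg.Agent.Lib.Helper3.Cover.LF2C2.rel4 p (by omega) (by omega) _ hm
  rcases Nat.lt_or_ge p 2064 with h5 | h5
  · exact (Table.relOK_iff chkPaths 1720 344).mp Cfsg.Agent.Lib.Helper3.Cover.LF2C2.rel5 p (by omega) (by omega) _ hm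
  rcases Nat.lt_or_ge p 2408 with h6 | h6
  · exact (Table.relOK_iff chkPaths 2064 344).mp Cfsg.Agent.Lib.Helper3.Cover.LF2C2.rel6 p (by omega) (by omega) _ hm
  rcases Nat.lt_or_ge p 2752 with h7 | h7
  · exact (Table.relOK_iff chkPaths 2408 344).mp Cfsg.Agent.Lib.Helper3.Cover.LF2C2.rel7 p (by omega) (by omega) _ hm
  rcases Nat.lt_or_ge p 3096 with h8 | h8
  · exact (Table.relOK_iff chkPaths 2752 344).mp Cfsg.Agent.Lib.Helper3.Cover.LF2C2.rel8 p (by omega) (by omega) _ hm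
  rcases Nat.lt_or_ge p 3440 with h9 | h9
  · exact (Table.relOK_iff chkPaths 3096 344).mp Cfsg.Agent.Lib.Helper3.Cover.LF2C3.rel9 p (by omega) (by omega) _ hm
  rcases Nat.lt_or_ge p 3784 with h10 | h10
  · exact (Table.relOK_iff chkPaths 3440 344).mp Cfsg.Agent.Lib.Helper3.Cover.LF2C3.rel10 p (by omega) (by omega) _ hm
  rcases Nat.lt_or_ge p 4128 with h11 | h11
  · exact (Table.relOK_iff chkPaths 3784 344).mp Cfsg.Agent.Lib.Helper3.Cover.LF2C3.rel11 p (by omega) (by omega) _ hm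
  rcases Nat.lt_or_ge p 4472 with h12 | h12
  · exact (Table.relOK_iff chkPaths 4128 344).mp Cfsg.Agent.Lib.Helper3.Cover.LF2C3.rel12 p (by omega) (by omega) _ hm
  rcases Nat.lt_or_ge p 4816 with h13 | h13
  · exact (Table.relOK_iff chkPaths 4472 344).mp Cfsg.Agent.Lib.Helper3.Cover.LF2C3.rel13 p (by omega) (by omega) _ hm
  rcases Nat.lt_or_ge p 5160 with h14 | h14
  · exact (Table.relOK_iff chkPaths 4816 344).mp Cfsg.Agent.Lib.Helper3.Cover.LF2C4.rel14 p (by omega) (by omega) _ hm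
  rcases Nat.lt_or_ge p 5504 with h15 | h15
  · exact (Table.relOK_iff chkPaths 5160 344).mp Cfsg.Agent.Lib.Helper3.Cover.LF2C4.rel15 p (by omega) (by omega) _ hm
  rcases Nat.lt_or_ge p 5848 with h16 | h16
  · exact (Table.relOK_iff chkPaths 5504 344).mp Cfsg.Agent.Lib.Helper3.Cover.LF2C4.rel16 p (by omega) (by omega) _ hm
  rcases Nat.lt_or_ge p 6192 with h17 | h17
  · exact (Table.relOK_iff chkPaths 5848 344).mp Cfsg.Agent.Lib.Helper3.Cover.LF2C4.rel17 p (by omega) (by omega) _ hm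
  rcases Nat.lt_or_ge p 6536 with h18 | h18
  · exact (Table.relOK_iff chkPaths 6192 344).mp Cfsg.Agent.Lib.Helper3.Cover.LF2C4.rel18 p (by omega) (by omega) _ hm
  rcases Nat.lt_or_ge p 6880 with h19 | h19
  · exact (Table.relOK_iff chkPaths 6536 344).mp Cfsg.Agent.Lib.Helper3.Cover.LF2C5.rel19 p (by omega) (by omega) _ hm
  rcases Nat.lt_or_ge p 7224 with h20 | h20
  · exact (Table.relOK_iff chkPaths 6880 344).mp Cfsg.Agent.Lib.Helper3.Cover.LF2C5.rel20 p (by omega) (by omega) _ hm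
  rcases Nat.lt_or_ge p 7568 with h21 | h21
  · exact (Table.relOK_iff chkPaths 7224 344).mp Cfsg.Agent.Lib.Helper3.Cover.LF2C5.rel21 p (by omega) (by omega) _ hm
  rcases Nat.lt_or_ge p 7912 with h22 | h22
  · exact (Table.relOK_iff chkPaths 7568 344).mp Cfsg.Agent.Lib.Helper3.Cover.LF2C5.rel22 p (by omega) (by omega) _ hm
  rcases Nat.lt_or_ge p 8256 with h23 | h23
  · exact (Table.relOK_iff chkPaths 7912 344).mp Cfsg.Agent.Lib.Helper3.Cover.LF2C5.rel23 p (by omega) (by omega) _ hm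
  rcases Nat.lt_or_ge p 8600 with h24 | h24
  · exact (Table.relOK_iff chkPaths 8256 344).mp Cfsg.Agent.Lib.Helper3.Cover.LF2C6.rel24 p (by omega) (by omega) _ hm
  rcases Nat.lt_or_ge p 8944 with h25 | h25
  · exact (Table.relOK_iff chkPaths 8600 344).mp Cfsg.Agent.Lib.Helper3.Cover.LF2C6.rel25 p (by omega) (by omega) _ hm
  rcases Nat.lt_or_ge p 9288 with h26 | h26
  · exact (Table.relOK_iff chkPaths 8944 344).mp Cfsg.Agent.Lib.Helper3.Cover.LF2C6.rel26 p (by omega) (by omega) _ hm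
  rcases Nat.lt_or_ge p 9632 with h27 | h27
  · exact (Table.relOK_iff chkPaths 9288 344).mp Cfsg.Agent.Lib.Helper3.Cover.LF2C6.rel27 p (by omega) (by omega) _ hm
  rcases Nat.lt_or_ge p 9976 with h28 | h28
  · exact (Table.relOK_iff chkPaths 9632 344).mp Cfsg.Agent.Lib.Helper3.Cover.LF2C6.rel28 p (by omega) (by omega) _ hm
  rcases Nat.lt_or_ge p 10320 with h29 | h29
  · exact (Table.relOK_iff chkPaths 9976 344).mp Cfsg.Agent.Lib.Helper3.Cover.LF2C7.rel29 p (by omega) (by omega) _ hm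
  rcases Nat.lt_or_ge p 10664 with h30 | h30
  · exact (Table.relOK_iff chkPaths 10320 344).mp Cfsg.Agent.Lib.Helper3.Cover.LF2C7.rel30 p (by omega) (by omega) _ hm
  rcases Nat.lt_or_ge p 11008 with h31 | h31
  · exact (Table.relOK_iff chkPaths 10664 344).mp Cfsg.Agent.Lib.Helper3.Cover.LF2C7.rel31 p (by omega) (by omega) _ hm
  rcases Nat.lt_or_ge p 11352 with h32 | h32
  · exact (Table.relOK_iff chkPaths 11008 344).mp Cfsg.Agent.Lib.Helper3.Cover.LF2C7.rel32 p (by omega) (by omega) _ hm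
  rcases Nat.lt_or_ge p 11696 with h33 | h33
  · exact (Table.relOK_iff chkPaths 11352 344).mp Cfsg.Agent.Lib.Helper3.Cover.LF2C7.rel33 p (by omega) (by omega) _ hm
  rcases Nat.lt_or_ge p 12040 with h34 | h34
  · exact (Table.relOK_iff chkPaths 11696 344).mp Cfsg.Agent.Lib.Helper3.Cover.LF2C8.rel34 p (by omega) (by omega) _ hm
  rcases Nat.lt_or_ge p 12384 with h35 | h35
  · exact (Table.relOK_iff chkPaths 12040 344).mp Cfsg.Agent.Lib.Helper3.Cover.LF2C8.rel35 p (by omega) (by omega) _ hm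
  rcases Nat.lt_or_ge p 12728 with h36 | h36
  · exact (Table.relOK_iff chkPaths 12384 344).mp Cfsg.Agent.Lib.Helper3.Cover.LF2C8.rel36 p (by omega) (by omega) _ hm
  rcases Nat.lt_or_ge p 13072 with h37 | h37
  · exact (Table.relOK_iff chkPaths 12728 344).mp Cfsg.Agent.Lib.Helper3.Cover.LF2C8.rel37 p (by omega) (by omega) _ hm
  rcases Nat.lt_or_ge p 13416 with h38 | h38
  · exact (Table.relOK_iff chkPaths 13072 344).mp Cfsg.Agent.Lib.Helper3.Cover.LF2C8.rel38 p (by omega) (by omega) _ hm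
  rcases Nat.lt_or_ge p 13760 with h39 | h39
  · exact (Table.relOK_iff chkPaths 13416 344).mp Cfsg.Agent.Lib.Helper3.Cover.LF2C9.rel39 p (by omega) (by omega) _ hm
  rcases Nat.lt_or_ge p 14104 with h40 | h40
  · exact (Table.relOK_iff chkPaths 13760 344).mp Cfsg.Agent.Lib.Helper3.Cover.LF2C9.rel40 p (by omega) (by omega) _ hm
  rcases Nat.lt_or_ge p 14448 with h41 | h41
  · exact (Table.relOK_iff chkPaths 14104 344).mp Cfsg.Agent.Lib.Helper3.Cover.LF2C9.rel41 p (by omega) (by omega) _ hm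
  rcases Nat.lt_or_ge p 14792 with h42 | h42
  · exact (Table.relOK_iff chkPaths 14448 344).mp Cfsg.Agent.Lib.Helper3.Cover.LF2C9.rel42 p (by omega) (by omega) _ hm
  rcases Nat.lt_or_ge p 15136 with h43 | h43
  · exact (Table.relOK_iff chkPaths 14792 344).mp Cfsg.Agent.Lib.Helper3.Cover.LF2C9.rel43 p (by omega) (by omega) _ hm
  rcases Nat.lt_or_ge p 15480 with h44 | h44
  · exact (Table.relOK_iff chkPaths 15136 344).mp Cfsg.Agent.Lib.Helper3.Cover.LF2C10.rel44 p (by omega) (by omega) _ hm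
  rcases Nat.lt_or_ge p 15824 with h45 | h45
  · exact (Table.relOK_iff chkPaths 15480 344).mp Cfsg.Agent.Lib.Helper3.Cover.LF2C10.rel45 p (by omega) (by omega) _ hm
  rcases Nat.lt_or_ge p 16168 with h46 | h46
  · exact (Table.relOK_iff chkPaths 15824 344).mp Cfsg.Agent.Lib.Helper3.Cover.LF2C10.rel46 p (by omega) (by omega) _ hm
  rcases Nat.lt_or_ge p 16512 with h47 | h47
  · exact (Table.relOK_iff chkPaths 16168 344).mp Cfsg.Agent.Lib.Helper3.Cover.LF2C10.rel47 p (by omega) (by omega) _ hm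
  rcases Nat.lt_or_ge p 16856 with h48 | h48
  · exact (Table.relOK_iff chkPaths 16512 344).mp Cfsg.Agent.Lib.Helper3.Cover.LF2C10.rel48 p (by omega) (by omega) _ hm
  rcases Nat.lt_or_ge p 17200 with h49 | h49
  · exact (Table.relOK_iff chkPaths 16856 344).mp Cfsg.Agent.Lib.Helper3.Cover.LF2C11.rel49 p (by omega) (by omega) _ hm
  rcases Nat.lt_or_ge p 17544 with h50 | h50
  · exact (Table.relOK_iff chkPaths 17200 344).mp Cfsg.Agent.Lib.Helper3.Cover.LF2C11.rel50 p (by omega) (by omega) _ hm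
  rcases Nat.lt_or_ge p 17888 with h51 | h51
  · exact (Table.relOK_iff chkPaths 17544 344).mp Cfsg.Agent.Lib.Helper3.Cover.LF2C11.rel51 p (by omega) (by omega) _ hm
  rcases Nat.lt_or_ge p 18232 with h52 | h52
  · exact (Table.relOK_iff chkPaths 17888 344).mp Cfsg.Agent.Lib.Helper3.Cover.LF2C11.rel52 p (by omega) (by omega) _ hm
  rcases Nat.lt_or_ge p 18576 with h53 | h53
  · exact (Table.relOK_iff chkPaths 18232 344).mp Cfsg.Agent.Lib.Helper3.Cover.LF2C11.rel53 p (by omega) (by omega) _ hm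
  rcases Nat.lt_or_ge p 18920 with h54 | h54
  · exact (Table.relOK_iff chkPaths 18576 344).mp Cfsg.Agent.Lib.Helper3.Cover.LF2C12.rel54 p (by omega) (by omega) _ hm
  rcases Nat.lt_or_ge p 19264 with h55 | h55
  · exact (Table.relOK_iff chkPaths 18920 344).mp Cfsg.Agent.Lib.Helper3.Cover.LF2C12.rel55 p (by omega) (by omega) _ hm
  rcases Nat.lt_or_ge p 19608 with h56 | h56
  · exact (Table.relOK_iff chkPaths 19264 344).mp Cfsg.Agent.Lib.Helper3.Cover.LF2C12.rel56 p (by omega) (by omega) _ hm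
  rcases Nat.lt_or_ge p 19952 with h57 | h57
  · exact (Table.relOK_iff chkPaths 19608 344).mp Cfsg.Agent.Lib.Helper3.Cover.LF2C12.rel57 p (by omega) (by omega) _ hm
  rcases Nat.lt_or_ge p 20296 with h58 | h58
  · exact (Table.relOK_iff chkPaths 19952 344).mp Cfsg.Agent.Lib.Helper3.Cover.LF2C12.rel58 p (by omega) (by omega) _ hm
  rcases Nat.lt_or_ge p 20640 with h59 | h59
  · exact (Table.relOK_iff chkPaths 20296 344).mp Cfsg.Agent.Lib.Helper3.Cover.LF2C13.rel59 p (by omega) (by omega) _ hm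
  rcases Nat.lt_or_ge p 20984 with h60 | h60
  · exact (Table.relOK_iff chkPaths 20640 344).mp Cfsg.Agent.Lib.Helper3.Cover.LF2C13.rel60 p (by omega) (by omega) _ hm
  rcases Nat.lt_or_ge p 21328 with h61 | h61
  · exact (Table.relOK_iff chkPaths 20984 344).mp Cfsg.Agent.Lib.Helper3.Cover.LF2C13.rel61 p (by omega) (by omega) _ hm
  rcases Nat.lt_or_ge p 21672 with h62 | h62
  · exact (Table.relOK_iff chkPaths 21328 344).mp Cfsg.Agent.Lib.Helper3.Cover.LF2C13.rel62 p (by omega) (by omega) _ hm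
  rcases Nat.lt_or_ge p 22016 with h63 | h63
  · exact (Table.relOK_iff chkPaths 21672 344).mp Cfsg.Agent.Lib.Helper3.Cover.LF2C13.rel63 p (by omega) (by omega) _ hm
  rcases Nat.lt_or_ge p 22360 with h64 | h64
  · exact (Table.relOK_iff chkPaths 22016 344).mp Cfsg.Agent.Lib.Helper3.Cover.LF2C14.rel64 p (by omega) (by omega) _ hm
  rcases Nat.lt_or_ge p 22704 with h65 | h65
  · exact (Table.relOK_iff chkPaths 22360 344).mp Cfsg.Agent.Lib.Helper3.Cover.LF2C14.rel65 p (by omega) (by omega) _ hm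
  rcases Nat.lt_or_ge p 23048 with h66 | h66
  · exact (Table.relOK_iff chkPaths 22704 344).mp Cfsg.Agent.Lib.Helper3.Cover.LF2C14.rel66 p (by omega) (by omega) _ hm
  rcases Nat.lt_or_ge p 23392 with h67 | h67
  · exact (Table.relOK_iff chkPaths 23048 344).mp Cfsg.Agent.Lib.Helper3.Cover.LF2C14.rel67 p (by omega) (by omega) _ hm
  rcases Nat.lt_or_ge p 23736 with h68 | h68
  · exact (Table.relOK_iff chkPaths 23392 344).mp Cfsg.Agent.Lib.Helper3.Cover.LF2C14.rel68 p (by omega) (by omega) _ hm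
  rcases Nat.lt_or_ge p 24080 with h69 | h69
  · exact (Table.relOK_iff chkPaths 23736 344).mp Cfsg.Agent.Lib.Helper3.Cover.LF2C15.rel69 p (by omega) (by omega) _ hm
  rcases Nat.lt_or_ge p 24424 with h70 | h70
  · exact (Table.relOK_iff chkPaths 24080 344).mp Cfsg.Agent.Lib.Helper3.Cover.LF2C15.rel70 p (by omega) (by omega) _ hm
  rcases Nat.lt_or_ge p 24768 with h71 | h71
  · exact (Table.relOK_iff chkPaths 24424 344).mp Cfsg.Agent.Lib.Helper3.Cover.LF2C15.rel71 p (by omega) (by omega) _ hm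
  rcases Nat.lt_or_ge p 25112 with h72 | h72
  · exact (Table.relOK_iff chkPaths 24768 344).mp Cfsg.Agent.Lib.Helper3.Cover.LF2C15.rel72 p (by omega) (by omega) _ hm
  rcases Nat.lt_or_ge p 25456 with h73 | h73
  · exact (Table.relOK_iff chkPaths 25112 344).mp Cfsg.Agent.Lib.Helper3.Cover.LF2C15.rel73 p (by omega) (by omega) _ hm
  rcases Nat.lt_or_ge p 25800 with h74 | h74
  · exact (Table.relOK_iff chkPaths 25456 344).mp Cfsg.Agent.Lib.Helper3.Cover.LF2C16.rel74 p (by omega) (by omega) _ hm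
  rcases Nat.lt_or_ge p 26144 with h75 | h75
  · exact (Table.relOK_iff chkPaths 25800 344).mp Cfsg.Agent.Lib.Helper3.Cover.LF2C16.rel75 p (by omega) (by omega) _ hm
  rcases Nat.lt_or_ge p 26488 with h76 | h76
  · exact (Table.relOK_iff chkPaths 26144 344).mp Cfsg.Agent.Lib.Helper3.Cover.LF2C16.rel76 p (by omega) (by omega) _ hm
  rcases Nat.lt_or_ge p 26832 with h77 | h77
  · exact (Table.relOK_iff chkPaths 26488 344).mp Cfsg.Agent.Lib.Helper3.Cover.LF2C16.rel77 p (by omega) (by omega) _ hm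
  rcases Nat.lt_or_ge p 27176 with h78 | h78
  · exact (Table.relOK_iff chkPaths 26832 344).mp Cfsg.Agent.Lib.Helper3.Cover.LF2C16.rel78 p (by omega) (by omega) _ hm
  rcases Nat.lt_or_ge p 27520 with h79 | h79
  · exact (Table.relOK_iff chkPaths 27176 344).mp Cfsg.Agent.Lib.Helper3.Cover.LF2C17.rel79 p (by omega) (by omega) _ hm
  rcases Nat.lt_or_ge p 27864 with h80 | h80
  · exact (Table.relOK_iff chkPaths 27520 344).mp Cfsg.Agent.Lib.Helper3.Cover.LF2C17.rel80 p (by omega) (by omega) _ hm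
  exact (Table.relOK_iff chkPaths 27864 296).mp Cfsg.Agent.Lib.Helper3.Cover.LF2C17.rel81 p (by omega) (by omega) _ hm

end Cfsg.Agent.Lib.Helper3.Cover.LF2Low
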