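import Cfsg.Agent.Lib.Helper3.Cover.EF22Def
set_option autoImplicit false
set_option maxRecDepth 100000

namespace Cfsg.Agent.Lib.Helper3.Cover.LF3Def

/-- the generators: those of `Fi₂₂` and a central letter -/
inductive Gen
  | a
  | b
  | c
  | t
  | d
  | f
  | z
  | k
  deriving DecidableEq

/-- the generators of `Fi₂₂` -/
def up : Cfsg.Agent.Lib.Helper3.Cover.EF22Def.Gen → Gen
  | .a => .a
  | .b => .b
  | .c => .c
  | .t => .t
  | .d => .d
  | .f => .f
  | .z => .z

/-- the exponents of the central letter in the values of the relators of `Fi₂₂` -/
def expo : List ℕ := [0, 0, 0, 0, 0, 0, 0, 0, 1, 1, 0, 0, 0, 0, 0, 0, 0, 0, 0, 0, 0, 0, 0, 0, 0, 0, 0, 0, 0, 0, 0, 0, 0, 0]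

/-- the relators: `r k^(-e_r)`, `[k, x]`, `k^3`, the normalising words -/
def relWords : List (List (Gen × Bool)) := [
  [(.a, true), (.a, true)],
  [(.b, true), (.b, true), (.b, true), (.b, true), (.b, true), (.b, true)],
  [(.a, true), (.b, true), (.a, true), (.b, true), (.a, true), (.b, true), (.a, true), (.b, true), (.a, true), (.b, true), (.a, true), (.b, true), (.a, true), (.b, true)],
  [(.b, false), (.b, false), (.a, true), (.b, false), (.b, false), (.a, true), (.b, false), (.b, false), (.a, true), (.b, true), (.b, true), (.a, true), (.b, true), (.b, true), (.a, true), (.b, true), (.b, true), (.a, true)],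
  [(.b, false), (.b, false), (.a, true), (.b, true), (.a, true), (.b, false), (.b, false), (.a, true), (.b, true), (.a, true), (.b, false), (.b, false), (.a, true), (.b, true), (.a, true), (.b, false), (.a, true), (.b, false), (.a, true), (.b, true), (.a, true)],
  [(.c, true), (.c, true)],
  [(.b, false), (.b, false), (.a, true), (.c, true), (.b, true), (.b, true), (.c, true), (.a, true)],
  [(.b, false), (.a, true), (.b, false), (.a, true), (.c, true), (.b, true), (.a, true), (.b, false), (.a, true), (.c, true), (.b, true), (.a, true), (.b, true), (.a, true), (.c, true)],
  [(.b, false), (.b, false), (.a, true), (.b, false), (.c, true), (.b, false), (.c, true), (.b, false), (.c, true), (.b, false), (.c, true), (.b, false), (.c, true), (.b, false), (.c, true), (.b, true), (.c, true), (.a, true), (.k, false)],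
  [(.b, false), (.b, false), (.a, true), (.b, true), (.a, true), (.c, true), (.b, false), (.a, true), (.c, true), (.b, true), (.a, true), (.c, true), (.b, true), (.c, true), (.b, false), (.b, false), (.a, true), (.b, true), (.b, true), (.a, true), (.k, false)],
  [(.t, true), (.t, true)],
  [(.t, true), (.a, true), (.t, true), (.a, false)],
  [(.t, true), (.b, true), (.t, true), (.c, false), (.b, false), (.b, false), (.b, false), (.a, false), (.b, false), (.a, false), (.b, false), (.a, false), (.b, true), (.c, false), (.a, false), (.c, false), (.b, true), (.c, false)],
  [(.t, true), (.c, true), (.t, true), (.c, false)],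
  [(.d, true), (.d, true)],
  [(.d, true), (.b, false), (.b, false), (.c, true), (.b, true), (.b, true), (.d, false), (.b, false), (.b, false), (.c, false), (.b, true), (.b, true)],
  [(.d, true), (.b, true), (.c, true), (.b, false), (.a, true), (.b, false), (.c, true), (.b, false), (.c, true), (.b, false), (.a, true), (.c, true), (.d, false), (.c, false), (.a, false), (.b, true), (.c, false), (.b, true), (.c, false), (.b, true), (.a, false), (.b, true), (.c, false), (.b, false)],
  [(.t, true), (.d, true), (.t, true), (.d, true), (.t, true), (.d, true)],
  [(.b, false), (.b, false), (.b, false), (.c, true), (.b, true), (.b, true), (.d, true), (.a, true), (.b, true), (.c, true), (.b, true), (.a, true), (.d, true), (.t, true), (.c, true), (.d, true), (.c, true), (.a, true), (.d, true), (.b, true), (.a, true), (.b, false), (.c, true), (.b, false), (.c, true)],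
  [(.b, false), (.b, false), (.a, true), (.b, true), (.c, true), (.a, true), (.d, true), (.a, true), (.c, true), (.b, false), (.t, true), (.a, true), (.b, true), (.b, true), (.d, true), (.t, true)],
  [(.b, false), (.b, false), (.a, true), (.b, true), (.b, true), (.d, true), (.c, true), (.a, true), (.d, true), (.c, true), (.d, true), (.t, true), (.d, true), (.a, true), (.d, true), (.t, true), (.c, true), (.d, true), (.z, false)],
  [(.z, true), (.z, true)],
  [(.z, true), (.a, true), (.z, false), (.a, false)],
  [(.z, true), (.b, true), (.z, false), (.b, false)],
  [(.z, true), (.c, true), (.z, false), (.c, false)],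
  [(.z, true), (.t, true), (.z, false), (.t, false)],
  [(.z, true), (.d, true), (.z, false), (.d, false)],
  [(.f, true), (.f, true)],
  [(.f, true), (.a, true), (.f, false), (.a, false)],
  [(.f, true), (.b, true), (.f, false), (.b, false)],
  [(.f, true), (.c, true), (.f, false), (.c, false)],
  [(.f, true), (.t, true), (.f, false), (.t, false)],
  [(.f, true), (.d, true), (.f, true), (.d, true), (.f, true), (.d, true)],
  [(.f, true), (.z, true), (.f, true), (.z, true), (.f, true), (.z, true)],
  [(.k, true), (.a, true), (.k, false), (.a, false)],
  [(.k, true), (.b, true), (.k, false), (.b, false)],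
  [(.k, true), (.c, true), (.k, false), (.c, false)],
  [(.k, true), (.t, true), (.k, false), (.t, false)],
  [(.k, true), (.d, true), (.k, false), (.d, false)],
  [(.k, true), (.f, true), (.k, false), (.f, false)],
  [(.k, true), (.z, true), (.k, false), (.z, false)],
  [(.k, true), (.k, true), (.k, true)],
  [(.b, true), (.b, true), (.b, true), (.b, true), (.b, true), (.b, true), (.b, true), (.b, true), (.b, true), (.b, true), (.b, true), (.b, true), (.b, true), (.b, true), (.b, true), (.b, true), (.b, true), (.b, true), (.b, false), (.a, false), (.b, false), (.a, false), (.b, false), (.a, false), (.b, false), (.a, false), (.b, false), (.a, false), (.b, false), (.a, false), (.b, false), (.a, false), (.b, false), (.a, false), (.b, false), (.a, false), (.b, false), (.a, false), (.b, false), (.a, false), (.b, false), (.a, false), (.b, false), (.a, false), (.b, false), (.a, false), (.b, false), (.b, false), (.a, true), (.b, false), (.b, false), (.a, true), (.b, false), (.b, false), (.a, true), (.b, true), (.b, true), (.a, true), (.b, true), (.b, true), (.a, true), (.b, true), (.b, true), (.a, true), (.b, false), (.b, false), (.a, true), (.b, true), (.a, true), (.b, false),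 (.b, false), (.a, true), (.b, true), (.a, true), (.b, false), (.b, false), (.a, true), (.b, true), (.a, true), (.b, false), (.a, true), (.b, false), (.a, true), (.b, true), (.a, true)],
  [(.a, false), (.a, false), (.b, true), (.b, true), (.b, true), (.b, true), (.b, true), (.b, true), (.b, true), (.b, true), (.b, true), (.b, true), (.b, true), (.b, true), (.b, false), (.a, false), (.b, false), (.a, false), (.b, false), (.a, false), (.b, false), (.a, false), (.b, false), (.a, false), (.b, false), (.a, false), (.b, false), (.a, false), (.b, false), (.b, false), (.a, true), (.b, true), (.a, true), (.b, false), (.b, false), (.a, true), (.b, true), (.a, true), (.b, false), (.b, false), (.a, true), (.b, true), (.a, true), (.b, false), (.a, true), (.b, false), (.a, true), (.b, true), (.a, true)],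
  [(.b, false), (.a, true), (.b, false), (.a, true), (.c, true), (.b, true), (.a, true), (.b, false), (.a, true), (.c, true), (.b, true), (.a, true), (.b, true), (.a, true), (.c, true), (.c, false), (.c, false), (.a, false), (.b, false), (.b, false), (.a, false), (.b, false), (.b, false), (.a, false), (.b, false), (.b, false), (.a, false), (.b, true), (.b, true), (.a, false), (.b, true), (.b, true), (.a, false), (.b, true), (.b, true)],
  [(.b, false), (.b, false), (.b, false), (.c, true), (.b, true), (.b, true), (.d, true), (.a, true), (.b, true), (.c, true), (.b, true), (.a, true), (.d, true), (.t, true), (.c, true), (.d, true), (.c, true), (.a, true), (.d, true), (.b, true), (.a, true), (.b, false), (.c, true), (.b, false), (.c, true), (.a, false), (.a, false), (.a, false), (.a, false), (.c, false), (.c, false), (.c, false), (.c, false), (.c, false), (.c, false), (.d, false), (.d, false), (.d, false), (.d, false)],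
  [(.t, true), (.d, true), (.t, true), (.d, true), (.t, true), (.d, true), (.t, false), (.t, false), (.d, false), (.d, false), (.d, true), (.d, true), (.d, true), (.d, true), (.c, true), (.c, true), (.c, true), (.c, true), (.c, true), (.c, true), (.a, true), (.a, true), (.a, true), (.a, true), (.c, false), (.b, true), (.c, false), (.b, true), (.a, false), (.b, false), (.d, false), (.a, false), (.c, false), (.d, false), (.c, false), (.t, false), (.d, false), (.a, false), (.b, false), (.c, false), (.b, false), (.a, false), (.d, false), (.b, false), (.b, false), (.c, false), (.b, true), (.b, true), (.b, true)],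
  [(.f, true), (.d, true), (.f, true), (.d, true), (.f, true), (.d, true), (.f, false), (.f, false), (.d, false), (.d, false), (.b, false), (.b, false), (.b, false), (.c, true), (.b, true), (.b, true), (.d, true), (.a, true), (.b, true), (.c, true), (.b, true), (.a, true), (.d, true), (.t, true), (.c, true), (.d, true), (.c, true), (.a, true), (.d, true), (.b, true), (.a, true), (.b, false), (.c, true), (.b, false), (.c, true), (.a, false), (.a, false), (.a, false), (.a, false), (.c, false), (.c, false), (.c, false), (.c, false), (.c, false), (.c, false), (.d, false), (.d, false), (.d, false), (.d, false), (.d, true), (.d, true), (.t, true), (.t, true), (.d, false), (.t, false), (.d, false), (.t, false), (.d, false), (.t, false)],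
  [(.f, true), (.z, true), (.f, true), (.z, true), (.f, true), (.z, true), (.z, false), (.z, false), (.f, false), (.f, false), (.t, true), (.d, true), (.t, true), (.d, true), (.t, true), (.d, true), (.t, false), (.t, false), (.d, false), (.d, false), (.d, true), (.d, true), (.d, true), (.d, true), (.c, true), (.c, true), (.c, true), (.c, true), (.c, true), (.c, true), (.a, true), (.a, true), (.a, true), (.a, true), (.c, false), (.b, true), (.c, false), (.b, true), (.a, false), (.b, false), (.d, false), (.a, false), (.c, false), (.d, false), (.c, false), (.t, false), (.d, false), (.a, false), (.b, false), (.c, false), (.b, false), (.a, false), (.d, false), (.b, false), (.b, false), (.c, false), (.b, true), (.b, true), (.b, true), (.d, true), (.d, true), (.f, true), (.f, true), (.d, false), (.f, false), (.d, false), (.f, false), (.d, false), (.f, false)] ]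

/-- coding of the letters -/
def lw : Gen × Bool → ℕ
  | (.a, true) => 0
  | (.a, false) => 1
  | (.b, true) => 2
  | (.b, false) => 3
  | (.c, true) => 4
  | (.c, false) => 5
  | (.t, true) => 6
  | (.t, false) => 7
  | (.d, true) => 8
  | (.d, false) => 9
  | (.f, true) => 10
  | (.f, false) => 11
  | (.z, true) => 12
  | (.z, false) => 13
  | (.k, true) => 14
  | (.k, false) => 15

end Cfsg.Agent.Lib.Helper3.Cover.LF3Def
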