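import Cfsg.Agent.Lib.Helper28.TC2Range
import Cfsg.Agent.Lib.Helper3.Cover.LF3Table
import Cfsg.Agent.Lib.Helper3.Cover.LF3C0
import Cfsg.Agent.Lib.Helper3.Cover.LF3C1
import Cfsg.Agent.Lib.Helper3.Cover.LF3C2
import Cfsg.Agent.Lib.Helper3.Cover.LF3C3
import Cfsg.Agent.Lib.Helper3.Cover.LF3C4
import Cfsg.Agent.Lib.Helper3.Cover.LF3C5
import Cfsg.Agent.Lib.Helper3.Cover.LF3C6
import Cfsg.Agent.Lib.Helper3.Cover.LF3C7
import Cfsg.Agent.Lib.Helper3.Cover.LF3C8
import Cfsg.Agent.Lib.Helper3.Cover.LF3C9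
import Cfsg.Agent.Lib.Helper3.Cover.LF3C10
import Cfsg.Agent.Lib.Helper3.Cover.LF3C11
import Cfsg.Agent.Lib.Helper3.Cover.LF3C12
import Cfsg.Agent.Lib.Helper3.Cover.LF3C13
import Cfsg.Agent.Lib.Helper3.Cover.LF3C14
import Cfsg.Agent.Lib.Helper3.Cover.LF3C15
import Cfsg.Agent.Lib.Helper3.Cover.LF3C16
import Cfsg.Agent.Lib.Helper3.Cover.LF3C17
import Cfsg.Agent.Lib.Helper3.Cover.LF3C18
import Cfsg.Agent.Lib.Helper3.Cover.LF3C19
import Cfsg.Agent.Lib.Helper3.Cover.LF3C20
import Cfsg.Agent.Lib.Helper3.Cover.LF3C21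
import Cfsg.Agent.Lib.Helper3.Cover.LF3C22
import Cfsg.Agent.Lib.Helper3.Cover.LF3C23
import Cfsg.Agent.Lib.Helper3.Cover.LF3C24
import Cfsg.Agent.Lib.Helper3.Cover.LF3C25
import Cfsg.Agent.Lib.Helper3.Cover.LF3C26
import Cfsg.Agent.Lib.Helper3.Cover.LF3C27
import Cfsg.Agent.Lib.Helper3.Cover.LF3C28
import Cfsg.Agent.Lib.Helper3.Cover.LF3C29
import Cfsg.Agent.Lib.Helper3.Cover.LF3C30
import Cfsg.Agent.Lib.Helper3.Cover.LF3C31
import Cfsg.Agent.Lib.Helper3.Cover.LF3C32
import Cfsg.Agent.Lib.Helper3.Cover.LF3C33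
import Cfsg.Agent.Lib.Helper3.Cover.LF3C34
import Cfsg.Agent.Lib.Helper3.Cover.LF3C35
import Cfsg.Agent.Lib.Helper3.Cover.LF3C36
import Cfsg.Agent.Lib.Helper3.Cover.LF3C37
import Cfsg.Agent.Lib.Helper3.Cover.LF3C38
import Cfsg.Agent.Lib.Helper3.Cover.LF3C39
import Cfsg.Agent.Lib.Helper3.Cover.LF3C40
import Cfsg.Agent.Lib.Helper3.Cover.LF3C41
import Cfsg.Agent.Lib.Helper3.Cover.LF3C42
import Cfsg.Agent.Lib.Helper3.Cover.LF3C43
import Cfsg.Agent.Lib.Helper3.Cover.LF3C44
import Cfsg.Agent.Lib.Helper3.Cover.LF3C45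
import Cfsg.Agent.Lib.Helper3.Cover.LF3C46
import Cfsg.Agent.Lib.Helper3.Cover.LF3C47
import Cfsg.Agent.Lib.Helper3.Cover.LF3C48
import Cfsg.Agent.Lib.Helper3.Cover.LF3C49
import Cfsg.Agent.Lib.Helper3.Cover.LF3C50
import Cfsg.Agent.Lib.Helper3.Cover.LF3C51
import Cfsg.Agent.Lib.Helper3.Cover.LF3C52
import Cfsg.Agent.Lib.Helper3.Cover.LF3C53
import Cfsg.Agent.Lib.Helper3.Cover.LF3C54
import Cfsg.Agent.Lib.Helper3.Cover.LF3C55

set_option autoImplicit false
set_option maxRecDepth 100000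

namespace Cfsg.Agent.Lib.Helper3.Cover.LF3Low
open Cfsg.Agent.Lib.Helper28.TC2Upper Cfsg.Agent.Lib.Helper28.TC2Lower Cfsg.Agent.Lib.Helper28.TC2Range Cfsg.Agent.Lib.Helper3.Cover.LF3Table

theorem hpermAll : ∀ p, p < table.n → Table.permRow table p = true := by
  intro p hv
  have hv' : p < 185328 := hv
  rcases Nat.lt_or_ge p 6000 with h0 | h0
  · exact (Table.permRange_iff table 0 6000).mp Cfsg.Agent.Lib.Helper3.Cover.LF3C0.prm0 p (by omega) (by omega)
  rcases Nat.lt_or_ge p 12000 with h1 | h1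
  · exact (Table.permRange_iff table 6000 6000).mp Cfsg.Agent.Lib.Helper3.Cover.LF3C0.prm1 p (by omega) (by omega)
  rcases Nat.lt_or_ge p 18000 with h2 | h2
  · exact (Table.permRange_iff table 12000 6000).mp Cfsg.Agent.Lib.Helper3.Cover.LF3C1.prm2 p (by omega) (by omega)
  rcases Nat.lt_or_ge p 24000 with h3 | h3
  · exact (Table.permRange_iff table 18000 6000).mp Cfsg.Agent.Lib.Helper3.Cover.LF3C1.prm3 p (by omega) (by omega)
  rcases Nat.lt_or_ge p 30000 with h4 | h4
  · exact (Table.permRange_iff table 24000 6000).mp Cfsg.Agent.Lib.Helper3.Cover.LF3C1.prm4 p (by omega) (by omega)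
  rcases Nat.lt_or_ge p 36000 with h5 | h5
  · exact (Table.permRange_iff table 30000 6000).mp Cfsg.Agent.Lib.Helper3.Cover.LF3C2.prm5 p (by omega) (by omega)
  rcases Nat.lt_or_ge p 42000 with h6 | h6
  · exact (Table.permRange_iff table 36000 6000).mp Cfsg.Agent.Lib.Helper3.Cover.LF3C2.prm6 p (by omega) (by omega)
  rcases Nat.lt_or_ge p 48000 with h7 | h7
  · exact (Table.permRange_iff table 42000 6000).mp Cfsg.Agent.Lib.Helper3.Cover.LF3C2.prm7 p (by omega) (by omega)
  rcases Nat.lt_or_ge p 54000 with h8 | h8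
  · exact (Table.permRange_iff table 48000 6000).mp Cfsg.Agent.Lib.Helper3.Cover.LF3C3.prm8 p (by omega) (by omega)
  rcases Nat.lt_or_ge p 60000 with h9 | h9
  · exact (Table.permRange_iff table 54000 6000).mp Cfsg.Agent.Lib.Helper3.Cover.LF3C3.prm9 p (by omega) (by omega)
  rcases Nat.lt_or_ge p 66000 with h10 | h10
  · exact (Table.permRange_iff table 60000 6000).mp Cfsg.Agent.Lib.Helper3.Cover.LF3C3.prm10 p (by omega) (by omega)
  rcases Nat.lt_or_ge p 72000 with h11 | h11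
  · exact (Table.permRange_iff table 66000 6000).mp Cfsg.Agent.Lib.Helper3.Cover.LF3C4.prm11 p (by omega) (by omega)
  rcases Nat.lt_or_ge p 78000 with h12 | h12
  · exact (Table.permRange_iff table 72000 6000).mp Cfsg.Agent.Lib.Helper3.Cover.LF3C4.prm12 p (by omega) (by omega)
  rcases Nat.lt_or_ge p 84000 with h13 | h13
  · exact (Table.permRange_iff table 78000 6000).mp Cfsg.Agent.Lib.Helper3.Cover.LF3C4.prm13 p (by omega) (by omega)
  rcases Nat.lt_or_ge p 90000 with h14 | h14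
  · exact (Table.permRange_iff table 84000 6000).mp Cfsg.Agent.Lib.Helper3.Cover.LF3C5.prm14 p (by omega) (by omega)
  rcases Nat.lt_or_ge p 96000 with h15 | h15
  · exact (Table.permRange_iff table 90000 6000).mp Cfsg.Agent.Lib.Helper3.Cover.LF3C5.prm15 p (by omega) (by omega)
  rcases Nat.lt_or_ge p 102000 with h16 | h16
  · exact (Table.permRange_iff table 96000 6000).mp Cfsg.Agent.Lib.Helper3.Cover.LF3C5.prm16 p (by omega) (by omega)
  rcases Nat.lt_or_ge p 108000 with h17 | h17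
  · exact (Table.permRange_iff table 102000 6000).mp Cfsg.Agent.Lib.Helper3.Cover.LF3C6.prm17 p (by omega) (by omega)
  rcases Nat.lt_or_ge p 114000 with h18 | h18
  · exact (Table.permRange_iff table 108000 6000).mp Cfsg.Agent.Lib.Helper3.Cover.LF3C6.prm18 p (by omega) (by omega)
  rcases Nat.lt_or_ge p 120000 with h19 | h19
  · exact (Table.permRange_iff table 114000 6000).mp Cfsg.Agent.Lib.Helper3.Cover.LF3C6.prm19 p (by omega) (by omega)
  rcases Nat.lt_or_ge p 126000 with h20 | h20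
  · exact (Table.permRange_iff table 120000 6000).mp Cfsg.Agent.Lib.Helper3.Cover.LF3C7.prm20 p (by omega) (by omega)
  rcases Nat.lt_or_ge p 132000 with h21 | h21
  · exact (Table.permRange_iff table 126000 6000).mp Cfsg.Agent.Lib.Helper3.Cover.LF3C7.prm21 p (by omega) (by omega)
  rcases Nat.lt_or_ge p 138000 with h22 | h22
  · exact (Table.permRange_iff table 132000 6000).mp Cfsg.Agent.Lib.Helper3.Cover.LF3C7.prm22 p (by omega) (by omega)
  rcases Nat.lt_or_ge p 144000 with h23 | h23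
  · exact (Table.permRange_iff table 138000 6000).mp Cfsg.Agent.Lib.Helper3.Cover.LF3C8.prm23 p (by omega) (by omega)
  rcases Nat.lt_or_ge p 150000 with h24 | h24
  · exact (Table.permRange_iff table 144000 6000).mp Cfsg.Agent.Lib.Helper3.Cover.LF3C8.prm24 p (by omega) (by omega)
  rcases Nat.lt_or_ge p 156000 with h25 | h25
  · exact (Table.permRange_iff table 150000 6000).mp Cfsg.Agent.Lib.Helper3.Cover.LF3C8.prm25 p (by omega) (by omega)
  rcases Nat.lt_or_ge p 162000 with h26 | h26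
  · exact (Table.permRange_iff table 156000 6000).mp Cfsg.Agent.Lib.Helper3.Cover.LF3C9.prm26 p (by omega) (by omega)
  rcases Nat.lt_or_ge p 168000 with h27 | h27
  · exact (Table.permRange_iff table 162000 6000).mp Cfsg.Agent.Lib.Helper3.Cover.LF3C9.prm27 p (by omega) (by omega)
  rcases Nat.lt_or_ge p 174000 with h28 | h28
  · exact (Table.permRange_iff table 168000 6000).mp Cfsg.Agent.Lib.Helper3.Cover.LF3C9.prm28 p (by omega) (by omega)
  rcases Nat.lt_or_ge p 180000 with h29 | h29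
  · exact (Table.permRange_iff table 174000 6000).mp Cfsg.Agent.Lib.Helper3.Cover.LF3C10.prm29 p (by omega) (by omega)
  exact (Table.permRange_iff table 180000 5328).mp Cfsg.Agent.Lib.Helper3.Cover.LF3C10.prm30 p (by omega) (by omega)

theorem hT : table.OK := Table.ok_of_rows table Cfsg.Agent.Lib.Helper3.Cover.LF3C0.hinvOK hpermAll

theorem hchkT : ∀ P ∈ chkPaths, ∀ p, p < table.n → table.walkT P p = p := by
  intro P hm p hv
  have hv' : p < 185328 := hv
  rcases Nat.lt_or_ge p 1377 with h0 | h0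
  · exact (Table.relOK_iff chkPaths 0 1377).mp Cfsg.Agent.Lib.Helper3.Cover.LF3C10.rel0 p (by omega) (by omega) _ hm
  rcases Nat.lt_or_ge p 2754 with h1 | h1
  · exact (Table.relOK_iff chkPaths 1377 1377).mp Cfsg.Agent.Lib.Helper3.Cover.LF3C11.rel1 p (by omega) (by omega) _ hm
  rcases Nat.lt_or_ge p 4131 with h2 | h2
  · exact (Table.relOK_iff chkPaths 2754 1377).mp Cfsg.Agent.Lib.Helper3.Cover.LF3C11.rel2 p (by omega) (by omega) _ hm
  rcases Nat.lt_or_ge p 5508 with h3 | h3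
  · exact (Table.relOK_iff chkPaths 4131 1377).mp Cfsg.Agent.Lib.Helper3.Cover.LF3C11.rel3 p (by omega) (by omega) _ hm
  rcases Nat.lt_or_ge p 6885 with h4 | h4
  · exact (Table.relOK_iff chkPaths 5508 1377).mp Cfsg.Agent.Lib.Helper3.Cover.LF3C12.rel4 p (by omega) (by omega) _ hm
  rcases Nat.lt_or_ge p 8262 with h5 | h5
  · exact (Table.relOK_iff chkPaths 6885 1377).mp Cfsg.Agent.Lib.Helper3.Cover.LF3C12.rel5 p (by omega) (by omega) _ hm
  rcases Nat.lt_or_ge p 9639 with h6 | h6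
  · exact (Table.relOK_iff chkPaths 8262 1377).mp Cfsg.Agent.Lib.Helper3.Cover.LF3C12.rel6 p (by omega) (by omega) _ hm
  rcases Nat.lt_or_ge p 11016 with h7 | h7
  · exact (Table.relOK_iff chkPaths 9639 1377).mp Cfsg.Agent.Lib.Helper3.Cover.LF3C13.rel7 p (by omega) (by omega) _ hm
  rcases Nat.lt_or_ge p 12393 with h8 | h8
  · exact (Table.relOK_iff chkPaths 11016 1377).mp Cfsg.Agent.Lib.Helper3.Cover.LF3C13.rel8 p (by omega) (by omega) _ hm
  rcases Nat.lt_or_ge p 13770 with h9 | h9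
  · exact (Table.relOK_iff chkPaths 12393 1377).mp Cfsg.Agent.Lib.Helper3.Cover.LF3C13.rel9 p (by omega) (by omega) _ hm
  rcases Nat.lt_or_ge p 15147 with h10 | h10
  · exact (Table.relOK_iff chkPaths 13770 1377).mp Cfsg.Agent.Lib.Helper3.Cover.LF3C14.rel10 p (by omega) (by omega) _ hm
  rcases Nat.lt_or_ge p 16524 with h11 | h11
  · exact (Table.relOK_iff chkPaths 15147 1377).mp Cfsg.Agent.Lib.Helper3.Cover.LF3C14.rel11 p (by omega) (by omega) _ hm
  rcases Nat.lt_or_ge p 17901 with h12 | h12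
  · exact (Table.relOK_iff chkPaths 16524 1377).mp Cfsg.Agent.Lib.Helper3.Cover.LF3C14.rel12 p (by omega) (by omega) _ hm
  rcases Nat.lt_or_ge p 19278 with h13 | h13
  · exact (Table.relOK_iff chkPaths 17901 1377).mp Cfsg.Agent.Lib.Helper3.Cover.LF3C15.rel13 p (by omega) (by omega) _ hm
  rcases Nat.lt_or_ge p 20655 with h14 | h14
  · exact (Table.relOK_iff chkPaths 19278 1377).mp Cfsg.Agent.Lib.Helper3.Cover.LF3C15.rel14 p (by omega) (by omega) _ hm
  rcases Nat.lt_or_ge p 22032 with h15 | h15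
  · exact (Table.relOK_iff chkPaths 20655 1377).mp Cfsg.Agent.Lib.Helper3.Cover.LF3C15.rel15 p (by omega) (by omega) _ hm
  rcases Nat.lt_or_ge p 23409 with h16 | h16
  · exact (Table.relOK_iff chkPaths 22032 1377).mp Cfsg.Agent.Lib.Helper3.Cover.LF3C16.rel16 p (by omega) (by omega) _ hm
  rcases Nat.lt_or_ge p 24786 with h17 | h17
  · exact (Table.relOK_iff chkPaths 23409 1377).mp Cfsg.Agent.Lib.Helper3.Cover.LF3C16.rel17 p (by omega) (by omega) _ hm
  rcases Nat.lt_or_ge p 26163 with h18 | h18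
  · exact (Table.relOK_iff chkPaths 24786 1377).mp Cfsg.Agent.Lib.Helper3.Cover.LF3C16.rel18 p (by omega) (by omega) _ hm
  rcases Nat.lt_or_ge p 27540 with h19 | h19
  · exact (Table.relOK_iff chkPaths 26163 1377).mp Cfsg.Agent.Lib.Helper3.Cover.LF3C17.rel19 p (by omega) (by omega) _ hm
  rcases Nat.lt_or_ge p 28917 with h20 | h20
  · exact (Table.relOK_iff chkPaths 27540 1377).mp Cfsg.Agent.Lib.Helper3.Cover.LF3C17.rel20 p (by omega) (by omega) _ hm
  rcases Nat.lt_or_ge p 30294 with h21 | h21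
  · exact (Table.relOK_iff chkPaths 28917 1377).mp Cfsg.Agent.Lib.Helper3.Cover.LF3C17.rel21 p (by omega) (by omega) _ hm
  rcases Nat.lt_or_ge p 31671 with h22 | h22
  · exact (Table.relOK_iff chkPaths 30294 1377).mp Cfsg.Agent.Lib.Helper3.Cover.LF3C18.rel22 p (by omega) (by omega) _ hm
  rcases Nat.lt_or_ge p 33048 with h23 | h23
  · exact (Table.relOK_iff chkPaths 31671 1377).mp Cfsg.Agent.Lib.Helper3.Cover.LF3C18.rel23 p (by omega) (by omega) _ hm
  rcases Nat.lt_or_ge p 34425 with h24 | h24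
  · exact (Table.relOK_iff chkPaths 33048 1377).mp Cfsg.Agent.Lib.Helper3.Cover.LF3C18.rel24 p (by omega) (by omega) _ hm
  rcases Nat.lt_or_ge p 35802 with h25 | h25
  · exact (Table.relOK_iff chkPaths 34425 1377).mp Cfsg.Agent.Lib.Helper3.Cover.LF3C19.rel25 p (by omega) (by omega) _ hm
  rcases Nat.lt_or_ge p 37179 with h26 | h26
  · exact (Table.relOK_iff chkPaths 35802 1377).mp Cfsg.Agent.Lib.Helper3.Cover.LF3C19.rel26 p (by omega) (by omega) _ hm
  rcases Nat.lt_or_ge p 38556 with h27 | h27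
  · exact (Table.relOK_iff chkPaths 37179 1377).mp Cfsg.Agent.Lib.Helper3.Cover.LF3C19.rel27 p (by omega) (by omega) _ hm
  rcases Nat.lt_or_ge p 39933 with h28 | h28
  · exact (Table.relOK_iff chkPaths 38556 1377).mp Cfsg.Agent.Lib.Helper3.Cover.LF3C20.rel28 p (by omega) (by omega) _ hm
  rcases Nat.lt_or_ge p 41310 with h29 | h29
  · exact (Table.relOK_iff chkPaths 39933 1377).mp Cfsg.Agent.Lib.Helper3.Cover.LF3C20.rel29 p (by omega) (by omega) _ hm
  rcases Nat.lt_or_ge p 42687 with h30 | h30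
  · exact (Table.relOK_iff chkPaths 41310 1377).mp Cfsg.Agent.Lib.Helper3.Cover.LF3C20.rel30 p (by omega) (by omega) _ hm
  rcases Nat.lt_or_ge p 44064 with h31 | h31
  · exact (Table.relOK_iff chkPaths 42687 1377).mp Cfsg.Agent.Lib.Helper3.Cover.LF3C21.rel31 p (by omega) (by omega) _ hm
  rcases Nat.lt_or_ge p 45441 with h32 | h32
  · exact (Table.relOK_iff chkPaths 44064 1377).mp Cfsg.Agent.Lib.Helper3.Cover.LF3C21.rel32 p (by omega) (by omega) _ hm
  rcases Nat.lt_or_ge p 46818 with h33 | h33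
  · exact (Table.relOK_iff chkPaths 45441 1377).mp Cfsg.Agent.Lib.Helper3.Cover.LF3C21.rel33 p (by omega) (by omega) _ hm
  rcases Nat.lt_or_ge p 48195 with h34 | h34
  · exact (Table.relOK_iff chkPaths 46818 1377).mp Cfsg.Agent.Lib.Helper3.Cover.LF3C22.rel34 p (by omega) (by omega) _ hm
  rcases Nat.lt_or_ge p 49572 with h35 | h35
  · exact (Table.relOK_iff chkPaths 48195 1377).mp Cfsg.Agent.Lib.Helper3.Cover.LF3C22.rel35 p (by omega) (by omega) _ hm
  rcases Nat.lt_or_ge p 50949 with h36 | h36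
  · exact (Table.relOK_iff chkPaths 49572 1377).mp Cfsg.Agent.Lib.Helper3.Cover.LF3C22.rel36 p (by omega) (by omega) _ hm
  rcases Nat.lt_or_ge p 52326 with h37 | h37
  · exact (Table.relOK_iff chkPaths 50949 1377).mp Cfsg.Agent.Lib.Helper3.Cover.LF3C23.rel37 p (by omega) (by omega) _ hm
  rcases Nat.lt_or_ge p 53703 with h38 | h38
  · exact (Table.relOK_iff chkPaths 52326 1377).mp Cfsg.Agent.Lib.Helper3.Cover.LF3C23.rel38 p (by omega) (by omega) _ hm
  rcases Nat.lt_or_ge p 55080 with h39 | h39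
  · exact (Table.relOK_iff chkPaths 53703 1377).mp Cfsg.Agent.Lib.Helper3.Cover.LF3C23.rel39 p (by omega) (by omega) _ hm
  rcases Nat.lt_or_ge p 56457 with h40 | h40
  · exact (Table.relOK_iff chkPaths 55080 1377).mp Cfsg.Agent.Lib.Helper3.Cover.LF3C24.rel40 p (by omega) (by omega) _ hm
  rcases Nat.lt_or_ge p 57834 with h41 | h41
  · exact (Table.relOK_iff chkPaths 56457 1377).mp Cfsg.Agent.Lib.Helper3.Cover.LF3C24.rel41 p (by omega) (by omega) _ hm
  rcases Nat.lt_or_ge p 59211 with h42 | h42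
  · exact (Table.relOK_iff chkPaths 57834 1377).mp Cfsg.Agent.Lib.Helper3.Cover.LF3C24.rel42 p (by omega) (by omega) _ hm
  rcases Nat.lt_or_ge p 60588 with h43 | h43
  · exact (Table.relOK_iff chkPaths 59211 1377).mp Cfsg.Agent.Lib.Helper3.Cover.LF3C25.rel43 p (by omega) (by omega) _ hm
  rcases Nat.lt_or_ge p 61965 with h44 | h44
  · exact (Table.relOK_iff chkPaths 60588 1377).mp Cfsg.Agent.Lib.Helper3.Cover.LF3C25.rel44 p (by omega) (by omega) _ hm
  rcases Nat.lt_or_ge p 63342 with h45 | h45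
  · exact (Table.relOK_iff chkPaths 61965 1377).mp Cfsg.Agent.Lib.Helper3.Cover.LF3C25.rel45 p (by omega) (by omega) _ hm
  rcases Nat.lt_or_ge p 64719 with h46 | h46
  · exact (Table.relOK_iff chkPaths 63342 1377).mp Cfsg.Agent.Lib.Helper3.Cover.LF3C26.rel46 p (by omega) (by omega) _ hm
  rcases Nat.lt_or_ge p 66096 with h47 | h47
  · exact (Table.relOK_iff chkPaths 64719 1377).mp Cfsg.Agent.Lib.Helper3.Cover.LF3C26.rel47 p (by omega) (by omega) _ hm
  rcases Nat.lt_or_ge p 67473 with h48 | h48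
  · exact (Table.relOK_iff chkPaths 66096 1377).mp Cfsg.Agent.Lib.Helper3.Cover.LF3C26.rel48 p (by omega) (by omega) _ hm
  rcases Nat.lt_or_ge p 68850 with h49 | h49
  · exact (Table.relOK_iff chkPaths 67473 1377).mp Cfsg.Agent.Lib.Helper3.Cover.LF3C27.rel49 p (by omega) (by omega) _ hm
  rcases Nat.lt_or_ge p 70227 with h50 | h50
  · exact (Table.relOK_iff chkPaths 68850 1377).mp Cfsg.Agent.Lib.Helper3.Cover.LF3C27.rel50 p (by omega) (by omega) _ hm
  rcases Nat.lt_or_ge p 71604 with h51 | h51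
  · exact (Table.relOK_iff chkPaths 70227 1377).mp Cfsg.Agent.Lib.Helper3.Cover.LF3C27.rel51 p (by omega) (by omega) _ hm
  rcases Nat.lt_or_ge p 72981 with h52 | h52
  · exact (Table.relOK_iff chkPaths 71604 1377).mp Cfsg.Agent.Lib.Helper3.Cover.LF3C28.rel52 p (by omega) (by omega) _ hm
  rcases Nat.lt_or_ge p 74358 with h53 | h53
  · exact (Table.relOK_iff chkPaths 72981 1377).mp Cfsg.Agent.Lib.Helper3.Cover.LF3C28.rel53 p (by omega) (by omega) _ hm
  rcases Nat.lt_or_ge p 75735 with h54 | h54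
  · exact (Table.relOK_iff chkPaths 74358 1377).mp Cfsg.Agent.Lib.Helper3.Cover.LF3C28.rel54 p (by omega) (by omega) _ hm
  rcases Nat.lt_or_ge p 77112 with h55 | h55
  · exact (Table.relOK_iff chkPaths 75735 1377).mp Cfsg.Agent.Lib.Helper3.Cover.LF3C29.rel55 p (by omega) (by omega) _ hm
  rcases Nat.lt_or_ge p 78489 with h56 | h56
  · exact (Table.relOK_iff chkPaths 77112 1377).mp Cfsg.Agent.Lib.Helper3.Cover.LF3C29.rel56 p (by omega) (by omega) _ hm
  rcases Nat.lt_or_ge p 79866 with h57 | h57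
  · exact (Table.relOK_iff chkPaths 78489 1377).mp Cfsg.Agent.Lib.Helper3.Cover.LF3C29.rel57 p (by omega) (by omega) _ hm
  rcases Nat.lt_or_ge p 81243 with h58 | h58
  · exact (Table.relOK_iff chkPaths 79866 1377).mp Cfsg.Agent.Lib.Helper3.Cover.LF3C30.rel58 p (by omega) (by omega) _ hm
  rcases Nat.lt_or_ge p 82620 with h59 | h59
  · exact (Table.relOK_iff chkPaths 81243 1377).mp Cfsg.Agent.Lib.Helper3.Cover.LF3C30.rel59 p (by omega) (by omega) _ hm
  rcases Nat.lt_or_ge p 83997 with h60 | h60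
  · exact (Table.relOK_iff chkPaths 82620 1377).mp Cfsg.Agent.Lib.Helper3.Cover.LF3C30.rel60 p (by omega) (by omega) _ hm
  rcases Nat.lt_or_ge p 85374 with h61 | h61
  · exact (Table.relOK_iff chkPaths 83997 1377).mp Cfsg.Agent.Lib.Helper3.Cover.LF3C31.rel61 p (by omega) (by omega) _ hm
  rcases Nat.lt_or_ge p 86751 with h62 | h62
  · exact (Table.relOK_iff chkPaths 85374 1377).mp Cfsg.Agent.Lib.Helper3.Cover.LF3C31.rel62 p (by omega) (by omega) _ hm
  rcases Nat.lt_or_ge p 88128 with h63 | h63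
  · exact (Table.relOK_iff chkPaths 86751 1377).mp Cfsg.Agent.Lib.Helper3.Cover.LF3C31.rel63 p (by omega) (by omega) _ hm
  rcases Nat.lt_or_ge p 89505 with h64 | h64
  · exact (Table.relOK_iff chkPaths 88128 1377).mp Cfsg.Agent.Lib.Helper3.Cover.LF3C32.rel64 p (by omega) (by omega) _ hm
  rcases Nat.lt_or_ge p 90882 with h65 | h65
  · exact (Table.relOK_iff chkPaths 89505 1377).mp Cfsg.Agent.Lib.Helper3.Cover.LF3C32.rel65 p (by omega) (by omega) _ hm
  rcases Nat.lt_or_ge p 92259 with h66 | h66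
  · exact (Table.relOK_iff chkPaths 90882 1377).mp Cfsg.Agent.Lib.Helper3.Cover.LF3C32.rel66 p (by omega) (by omega) _ hm
  rcases Nat.lt_or_ge p 93636 with h67 | h67
  · exact (Table.relOK_iff chkPaths 92259 1377).mp Cfsg.Agent.Lib.Helper3.Cover.LF3C33.rel67 p (by omega) (by omega) _ hm
  rcases Nat.lt_or_ge p 95013 with h68 | h68
  · exact (Table.relOK_iff chkPaths 93636 1377).mp Cfsg.Agent.Lib.Helper3.Cover.LF3C33.rel68 p (by omega) (by omega) _ hm
  rcases Nat.lt_or_ge p 96390 with h69 | h69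
  · exact (Table.relOK_iff chkPaths 95013 1377).mp Cfsg.Agent.Lib.Helper3.Cover.LF3C33.rel69 p (by omega) (by omega) _ hm
  rcases Nat.lt_or_ge p 97767 with h70 | h70
  · exact (Table.relOK_iff chkPaths 96390 1377).mp Cfsg.Agent.Lib.Helper3.Cover.LF3C34.rel70 p (by omega) (by omega) _ hm
  rcases Nat.lt_or_ge p 99144 with h71 | h71
  · exact (Table.relOK_iff chkPaths 97767 1377).mp Cfsg.Agent.Lib.Helper3.Cover.LF3C34.rel71 p (by omega) (by omega) _ hm
  rcases Nat.lt_or_ge p 100521 with h72 | h72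
  · exact (Table.relOK_iff chkPaths 99144 1377).mp Cfsg.Agent.Lib.Helper3.Cover.LF3C34.rel72 p (by omega) (by omega) _ hm
  rcases Nat.lt_or_ge p 101898 with h73 | h73
  · exact (Table.relOK_iff chkPaths 100521 1377).mp Cfsg.Agent.Lib.Helper3.Cover.LF3C35.rel73 p (by omega) (by omega) _ hm
  rcases Nat.lt_or_ge p 103275 with h74 | h74
  · exact (Table.relOK_iff chkPaths 101898 1377).mp Cfsg.Agent.Lib.Helper3.Cover.LF3C35.rel74 p (by omega) (by omega) _ hm
  rcases Nat.lt_or_ge p 104652 with h75 | h75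
  · exact (Table.relOK_iff chkPaths 103275 1377).mp Cfsg.Agent.Lib.Helper3.Cover.LF3C35.rel75 p (by omega) (by omega) _ hm
  rcases Nat.lt_or_ge p 106029 with h76 | h76
  · exact (Table.relOK_iff chkPaths 104652 1377).mp Cfsg.Agent.Lib.Helper3.Cover.LF3C36.rel76 p (by omega) (by omega) _ hm
  rcases Nat.lt_or_ge p 107406 with h77 | h77
  · exact (Table.relOK_iff chkPaths 106029 1377).mp Cfsg.Agent.Lib.Helper3.Cover.LF3C36.rel77 p (by omega) (by omega) _ hm
  rcases Nat.lt_or_ge p 108783 with h78 | h78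
  · exact (Table.relOK_iff chkPaths 107406 1377).mp Cfsg.Agent.Lib.Helper3.Cover.LF3C36.rel78 p (by omega) (by omega) _ hm
  rcases Nat.lt_or_ge p 110160 with h79 | h79
  · exact (Table.relOK_iff chkPaths 108783 1377).mp Cfsg.Agent.Lib.Helper3.Cover.LF3C37.rel79 p (by omega) (by omega) _ hm
  rcases Nat.lt_or_ge p 111537 with h80 | h80
  · exact (Table.relOK_iff chkPaths 110160 1377).mp Cfsg.Agent.Lib.Helper3.Cover.LF3C37.rel80 p (by omega) (by omega) _ hm
  rcases Nat.lt_or_ge p 112914 with h81 | h81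
  · exact (Table.relOK_iff chkPaths 111537 1377).mp Cfsg.Agent.Lib.Helper3.Cover.LF3C37.rel81 p (by omega) (by omega) _ hm
  rcases Nat.lt_or_ge p 114291 with h82 | h82
  · exact (Table.relOK_iff chkPaths 112914 1377).mp Cfsg.Agent.Lib.Helper3.Cover.LF3C38.rel82 p (by omega) (by omega) _ hm
  rcases Nat.lt_or_ge p 115668 with h83 | h83
  · exact (Table.relOK_iff chkPaths 114291 1377).mp Cfsg.Agent.Lib.Helper3.Cover.LF3C38.rel83 p (by omega) (by omega) _ hm
  rcases Nat.lt_or_ge p 117045 with h84 | h84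
  · exact (Table.relOK_iff chkPaths 115668 1377).mp Cfsg.Agent.Lib.Helper3.Cover.LF3C38.rel84 p (by omega) (by omega) _ hm
  rcases Nat.lt_or_ge p 118422 with h85 | h85
  · exact (Table.relOK_iff chkPaths 117045 1377).mp Cfsg.Agent.Lib.Helper3.Cover.LF3C39.rel85 p (by omega) (by omega) _ hm
  rcases Nat.lt_or_ge p 119799 with h86 | h86
  · exact (Table.relOK_iff chkPaths 118422 1377).mp Cfsg.Agent.Lib.Helper3.Cover.LF3C39.rel86 p (by omega) (by omega) _ hm
  rcases Nat.lt_or_ge p 121176 with h87 | h87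
  · exact (Table.relOK_iff chkPaths 119799 1377).mp Cfsg.Agent.Lib.Helper3.Cover.LF3C39.rel87 p (by omega) (by omega) _ hm
  rcases Nat.lt_or_ge p 122553 with h88 | h88
  · exact (Table.relOK_iff chkPaths 121176 1377).mp Cfsg.Agent.Lib.Helper3.Cover.LF3C40.rel88 p (by omega) (by omega) _ hm
  rcases Nat.lt_or_ge p 123930 with h89 | h89
  · exact (Table.relOK_iff chkPaths 122553 1377).mp Cfsg.Agent.Lib.Helper3.Cover.LF3C40.rel89 p (by omega) (by omega) _ hm
  rcases Nat.lt_or_ge p 125307 with h90 | h90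
  · exact (Table.relOK_iff chkPaths 123930 1377).mp Cfsg.Agent.Lib.Helper3.Cover.LF3C40.rel90 p (by omega) (by omega) _ hm
  rcases Nat.lt_or_ge p 126684 with h91 | h91
  · exact (Table.relOK_iff chkPaths 125307 1377).mp Cfsg.Agent.Lib.Helper3.Cover.LF3C41.rel91 p (by omega) (by omega) _ hm
  rcases Nat.lt_or_ge p 128061 with h92 | h92
  · exact (Table.relOK_iff chkPaths 126684 1377).mp Cfsg.Agent.Lib.Helper3.Cover.LF3C41.rel92 p (by omega) (by omega) _ hm
  rcases Nat.lt_or_ge p 129438 with h93 | h93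
  · exact (Table.relOK_iff chkPaths 128061 1377).mp Cfsg.Agent.Lib.Helper3.Cover.LF3C41.rel93 p (by omega) (by omega) _ hm
  rcases Nat.lt_or_ge p 130815 with h94 | h94
  · exact (Table.relOK_iff chkPaths 129438 1377).mp Cfsg.Agent.Lib.Helper3.Cover.LF3C42.rel94 p (by omega) (by omega) _ hm
  rcases Nat.lt_or_ge p 132192 with h95 | h95
  · exact (Table.relOK_iff chkPaths 130815 1377).mp Cfsg.Agent.Lib.Helper3.Cover.LF3C42.rel95 p (by omega) (by omega) _ hm
  rcases Nat.lt_or_ge p 133569 with h96 | h96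
  · exact (Table.relOK_iff chkPaths 132192 1377).mp Cfsg.Agent.Lib.Helper3.Cover.LF3C42.rel96 p (by omega) (by omega) _ hm
  rcases Nat.lt_or_ge p 134946 with h97 | h97
  · exact (Table.relOK_iff chkPaths 133569 1377).mp Cfsg.Agent.Lib.Helper3.Cover.LF3C43.rel97 p (by omega) (by omega) _ hm
  rcases Nat.lt_or_ge p 136323 with h98 | h98
  · exact (Table.relOK_iff chkPaths 134946 1377).mp Cfsg.Agent.Lib.Helper3.Cover.LF3C43.rel98 p (by omega) (by omega) _ hm
  rcases Nat.lt_or_ge p 137700 with h99 | h99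
  · exact (Table.relOK_iff chkPaths 136323 1377).mp Cfsg.Agent.Lib.Helper3.Cover.LF3C43.rel99 p (by omega) (by omega) _ hm
  rcases Nat.lt_or_ge p 139077 with h100 | h100
  · exact (Table.relOK_iff chkPaths 137700 1377).mp Cfsg.Agent.Lib.Helper3.Cover.LF3C44.rel100 p (by omega) (by omega) _ hm
  rcases Nat.lt_or_ge p 140454 with h101 | h101
  · exact (Table.relOK_iff chkPaths 139077 1377).mp Cfsg.Agent.Lib.Helper3.Cover.LF3C44.rel101 p (by omega) (by omega) _ hm
  rcases Nat.lt_or_ge p 141831 with h102 | h102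
  · exact (Table.relOK_iff chkPaths 140454 1377).mp Cfsg.Agent.Lib.Helper3.Cover.LF3C44.rel102 p (by omega) (by omega) _ hm
  rcases Nat.lt_or_ge p 143208 with h103 | h103
  · exact (Table.relOK_iff chkPaths 141831 1377).mp Cfsg.Agent.Lib.Helper3.Cover.LF3C45.rel103 p (by omega) (by omega) _ hm
  rcases Nat.lt_or_ge p 144585 with h104 | h104
  · exact (Table.relOK_iff chkPaths 143208 1377).mp Cfsg.Agent.Lib.Helper3.Cover.LF3C45.rel104 p (by omega) (by omega) _ hm
  rcases Nat.lt_or_ge p 145962 with h105 | h105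
  · exact (Table.relOK_iff chkPaths 144585 1377).mp Cfsg.Agent.Lib.Helper3.Cover.LF3C45.rel105 p (by omega) (by omega) _ hm
  rcases Nat.lt_or_ge p 147339 with h106 | h106
  · exact (Table.relOK_iff chkPaths 145962 1377).mp Cfsg.Agent.Lib.Helper3.Cover.LF3C46.rel106 p (by omega) (by omega) _ hm
  rcases Nat.lt_or_ge p 148716 with h107 | h107
  · exact (Table.relOK_iff chkPaths 147339 1377).mp Cfsg.Agent.Lib.Helper3.Cover.LF3C46.rel107 p (by omega) (by omega) _ hm
  rcases Nat.lt_or_ge p 150093 with h108 | h108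
  · exact (Table.relOK_iff chkPaths 148716 1377).mp Cfsg.Agent.Lib.Helper3.Cover.LF3C46.rel108 p (by omega) (by omega) _ hm
  rcases Nat.lt_or_ge p 151470 with h109 | h109
  · exact (Table.relOK_iff chkPaths 150093 1377).mp Cfsg.Agent.Lib.Helper3.Cover.LF3C47.rel109 p (by omega) (by omega) _ hm
  rcases Nat.lt_or_ge p 152847 with h110 | h110
  · exact (Table.relOK_iff chkPaths 151470 1377).mp Cfsg.Agent.Lib.Helper3.Cover.LF3C47.rel110 p (by omega) (by omega) _ hm
  rcases Nat.lt_or_ge p 154224 with h111 | h111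
  · exact (Table.relOK_iff chkPaths 152847 1377).mp Cfsg.Agent.Lib.Helper3.Cover.LF3C47.rel111 p (by omega) (by omega) _ hm
  rcases Nat.lt_or_ge p 155601 with h112 | h112
  · exact (Table.relOK_iff chkPaths 154224 1377).mp Cfsg.Agent.Lib.Helper3.Cover.LF3C48.rel112 p (by omega) (by omega) _ hm
  rcases Nat.lt_or_ge p 156978 with h113 | h113
  · exact (Table.relOK_iff chkPaths 155601 1377).mp Cfsg.Agent.Lib.Helper3.Cover.LF3C48.rel113 p (by omega) (by omega) _ hm
  rcases Nat.lt_or_ge p 158355 with h114 | h114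
  · exact (Table.relOK_iff chkPaths 156978 1377).mp Cfsg.Agent.Lib.Helper3.Cover.LF3C48.rel114 p (by omega) (by omega) _ hm
  rcases Nat.lt_or_ge p 159732 with h115 | h115
  · exact (Table.relOK_iff chkPaths 158355 1377).mp Cfsg.Agent.Lib.Helper3.Cover.LF3C49.rel115 p (by omega) (by omega) _ hm
  rcases Nat.lt_or_ge p 161109 with h116 | h116
  · exact (Table.relOK_iff chkPaths 159732 1377).mp Cfsg.Agent.Lib.Helper3.Cover.LF3C49.rel116 p (by omega) (by omega) _ hm
  rcases Nat.lt_or_ge p 162486 with h117 | h117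
  · exact (Table.relOK_iff chkPaths 161109 1377).mp Cfsg.Agent.Lib.Helper3.Cover.LF3C49.rel117 p (by omega) (by omega) _ hm
  rcases Nat.lt_or_ge p 163863 with h118 | h118
  · exact (Table.relOK_iff chkPaths 162486 1377).mp Cfsg.Agent.Lib.Helper3.Cover.LF3C50.rel118 p (by omega) (by omega) _ hm
  rcases Nat.lt_or_ge p 165240 with h119 | h119
  · exact (Table.relOK_iff chkPaths 163863 1377).mp Cfsg.Agent.Lib.Helper3.Cover.LF3C50.rel119 p (by omega) (by omega) _ hm
  rcases Nat.lt_or_ge p 166617 with h120 | h120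
  · exact (Table.relOK_iff chkPaths 165240 1377).mp Cfsg.Agent.Lib.Helper3.Cover.LF3C50.rel120 p (by omega) (by omega) _ hm
  rcases Nat.lt_or_ge p 167994 with h121 | h121
  · exact (Table.relOK_iff chkPaths 166617 1377).mp Cfsg.Agent.Lib.Helper3.Cover.LF3C51.rel121 p (by omega) (by omega) _ hm
  rcases Nat.lt_or_ge p 169371 with h122 | h122
  · exact (Table.relOK_iff chkPaths 167994 1377).mp Cfsg.Agent.Lib.Helper3.Cover.LF3C51.rel122 p (by omega) (by omega) _ hm
  rcases Nat.lt_or_ge p 170748 with h123 | h123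
  · exact (Table.relOK_iff chkPaths 169371 1377).mp Cfsg.Agent.Lib.Helper3.Cover.LF3C51.rel123 p (by omega) (by omega) _ hm
  rcases Nat.lt_or_ge p 172125 with h124 | h124
  · exact (Table.relOK_iff chkPaths 170748 1377).mp Cfsg.Agent.Lib.Helper3.Cover.LF3C52.rel124 p (by omega) (by omega) _ hm
  rcases Nat.lt_or_ge p 173502 with h125 | h125
  · exact (Table.relOK_iff chkPaths 172125 1377).mp Cfsg.Agent.Lib.Helper3.Cover.LF3C52.rel125 p (by omega) (by omega) _ hm
  rcases Nat.lt_or_ge p 174879 with h126 | h126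
  · exact (Table.relOK_iff chkPaths 173502 1377).mp Cfsg.Agent.Lib.Helper3.Cover.LF3C52.rel126 p (by omega) (by omega) _ hm
  rcases Nat.lt_or_ge p 176256 with h127 | h127
  · exact (Table.relOK_iff chkPaths 174879 1377).mp Cfsg.Agent.Lib.Helper3.Cover.LF3C53.rel127 p (by omega) (by omega) _ hm
  rcases Nat.lt_or_ge p 177633 with h128 | h128
  · exact (Table.relOK_iff chkPaths 176256 1377).mp Cfsg.Agent.Lib.Helper3.Cover.LF3C53.rel128 p (by omega) (by omega) _ hm
  rcases Nat.lt_or_ge p 179010 with h129 | h129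
  · exact (Table.relOK_iff chkPaths 177633 1377).mp Cfsg.Agent.Lib.Helper3.Cover.LF3C53.rel129 p (by omega) (by omega) _ hm
  rcases Nat.lt_or_ge p 180387 with h130 | h130
  · exact (Table.relOK_iff chkPaths 179010 1377).mp Cfsg.Agent.Lib.Helper3.Cover.LF3C54.rel130 p (by omega) (by omega) _ hm
  rcases Nat.lt_or_ge p 181764 with h131 | h131
  · exact (Table.relOK_iff chkPaths 180387 1377).mp Cfsg.Agent.Lib.Helper3.Cover.LF3C54.rel131 p (by omega) (by omega) _ hm
  rcases Nat.lt_or_ge p 183141 with h132 | h132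
  · exact (Table.relOK_iff chkPaths 181764 1377).mp Cfsg.Agent.Lib.Helper3.Cover.LF3C54.rel132 p (by omega) (by omega) _ hm
  rcases Nat.lt_or_ge p 184518 with h133 | h133
  · exact (Table.relOK_iff chkPaths 183141 1377).mp Cfsg.Agent.Lib.Helper3.Cover.LF3C55.rel133 p (by omega) (by omega) _ hm
  exact (Table.relOK_iff chkPaths 184518 810).mp Cfsg.Agent.Lib.Helper3.Cover.LF3C55.rel134 p (by omega) (by omega) _ hm

end Cfsg.Agent.Lib.Helper3.Cover.LF3Low
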