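import Cfsg.Agent.S1696
import Cfsg.Agent.Lib.Helper28.TC2Subst
import Cfsg.Agent.Lib.Helper3.Cover.Lower
import Cfsg.Agent.Lib.Helper3.Cover.F22Hhat
import Cfsg.Agent.Lib.Helper3.Cover.F22Theta
import Cfsg.Agent.Lib.Helper3.Cover.F22IsoData
import Cfsg.Agent.Lib.Helper3.Cover.LF2Def
import Cfsg.Agent.Lib.Helper3.Cover.LF2Low
import Cfsg.Agent.Lib.Helper3.Cover.LF3Def
import Cfsg.Agent.Lib.Helper3.Cover.LF3Low

set_option autoImplicit false
set_option maxRecDepth 100000

/-!
# The Schur multiplier of `Fi₂₂` is cyclic of order 6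

`PF22 = ⟨a, b, c, t, d, f, z | …⟩`; its covering presentation `E` has order at most `6 · |Fi₂₂|` (`F22Hhat`).  The
permutation representations of degrees 28160 and 185328 of the central extensions `2·Fi₂₂` and `3·Fi₂₂` show that the
value of the relator number 8 has order divisible by 6 in `E`.  The nine generators of the presentation of the
definitions are mapped to permutations of the 3510 cosets of `⟨a, b, c, t, d⟩`; as `Fi₂₂` is simple of the known order
(statement S1696), the presented group `PF22` is `Fi₂₂` and the kernel of `E` is cyclic of order 6.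
-/

namespace Cfsg.Agent.Lib.Helper3.Cover.F22Main

open Cfsg Cfsg.Agent.Lib.Helper3 Cfsg.Agent.Lib.Helper3.Cover.F22Bar
open Cfsg.Agent.Lib.Helper28.TC2Upper Cfsg.Agent.Lib.Helper28.TC2Lower Cfsg.Agent.Lib.Helper28.TC2Glue
open Cfsg.Agent.Lib.Helper28.TC2Tower Cfsg.Agent.Lib.Helper28.TC2Subst

/-- the relator whose value generates the kernel -/
def r8 : List (EF22Def.Gen × Bool) := EF22Def.R.getD 8 []

theorem r8_mem : r8 ∈ EF22Def.R := by decide +kernel

/-! ### the double cover -/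

theorem h1_2 : ∀ r ∈ EF22Def.R, upWord LF2Def.up r ∈ LF2Def.relWords ∨
    upWord LF2Def.up r ++ [(LF2Def.Gen.k, false)] ∈ LF2Def.relWords := by decide +kernel
theorem h2_2 : ∀ x, [(LF2Def.Gen.k, true), (LF2Def.up x, true), (LF2Def.Gen.k, false), (LF2Def.up x, false)] ∈
    LF2Def.relWords := by intro x; cases x <;> decide +kernel
theorem h3_2 : ∀ x, upWord LF2Def.up (EF22Def.nrm x) ∈ LF2Def.relWords := by intro x; cases x <;> decide +kernel
theorem hr8_2 : upWord LF2Def.up r8 ++ [(LF2Def.Gen.k, false)] ∈ LF2Def.relWords := by decide +kernel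
theorem hk_2 : List.replicate 2 (LF2Def.Gen.k, true) ∈ LF2Def.relWords := by decide +kernel
theorem lwk2 : ∀ xb, LF2Def.lw xb < LF2Table.table.k := by
  rintro ⟨x, b⟩; cases x <;> cases b <;> decide
theorem lwinv2 : ∀ x, LF2Def.lw (x, false) = LF2Table.table.invl (LF2Def.lw (x, true)) := by
  intro x; cases x <;> decide +kernel
theorem hmem2 : ∀ L ∈ LF2Def.relWords, pathOf LF2Def.lw L ∈ LF2Table.chkPaths := by decide +kernel
theorem move2 : LF2Table.table.walkT (pathOf LF2Def.lw (upWord LF2Def.up r8)) 0 ≠ 0 := by decide +kernel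

theorem two_dvd : 2 ∣ orderOf (emk r8) := by
  obtain ⟨θ, hθ⟩ := exists_theta LF2Def.up LF2Def.Gen.k LF2Def.relWords h1_2 h2_2 h3_2
  obtain ⟨φ, hφ⟩ := lower_hom LF2Def.relWords LF2Def.lw LF2Table.table LF2Low.hT lwk2 lwinv2
    (fun L hL => LF2Low.hchkT _ (hmem2 L hL))
  have hne : φ (θ (emk r8)) ≠ 1 := by
    rw [hθ]
    exact ne_one_of_walk φ hφ _ ⟨0, by decide⟩ move2
  have hpow : (φ (θ (emk r8))) ^ 2 = 1 := by
    rw [hθ, gmk_eq_k LF2Def.Gen.k LF2Def.relWords _ hr8_2, ← map_pow, gmk_k_pow LF2Def.Gen.k LF2Def.relWords 2 hk_2, map_one]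
  haveI : Fact (Nat.Prime 2) := ⟨Nat.prime_two⟩
  have h2 : orderOf (φ (θ (emk r8))) = 2 := orderOf_eq_prime hpow hne
  have h := orderOf_map_dvd (φ.comp θ) (emk r8)
  rw [MonoidHom.comp_apply, h2] at h
  exact h

/-! ### the triple cover -/

theorem h1_3 : ∀ r ∈ EF22Def.R, upWord LF3Def.up r ∈ LF3Def.relWords ∨
    upWord LF3Def.up r ++ [(LF3Def.Gen.k, false)] ∈ LF3Def.relWords := by decide +kernel
theorem h2_3 : ∀ x, [(LF3Def.Gen.k, true), (LF3Def.up x, true), (LF3Def.Gen.k, false), (LF3Def.up x, false)] ∈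
    LF3Def.relWords := by intro x; cases x <;> decide +kernel
theorem h3_3 : ∀ x, upWord LF3Def.up (EF22Def.nrm x) ∈ LF3Def.relWords := by intro x; cases x <;> decide +kernel
theorem hr8_3 : upWord LF3Def.up r8 ++ [(LF3Def.Gen.k, false)] ∈ LF3Def.relWords := by decide +kernel
theorem hk_3 : List.replicate 3 (LF3Def.Gen.k, true) ∈ LF3Def.relWords := by decide +kernel
theorem lwk3 : ∀ xb, LF3Def.lw xb < LF3Table.table.k := by
  rintro ⟨x, b⟩; cases x <;> cases b <;> decide
theorem lwinv3 : ∀ x, LF3Def.lw (x, false) = LF3Table.table.invl (LF3Def.lw (x, true)) := by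
  intro x; cases x <;> decide +kernel
theorem hmem3 : ∀ L ∈ LF3Def.relWords, pathOf LF3Def.lw L ∈ LF3Table.chkPaths := by decide +kernel
theorem move3 : LF3Table.table.walkT (pathOf LF3Def.lw (upWord LF3Def.up r8)) 0 ≠ 0 := by decide +kernel

theorem three_dvd : 3 ∣ orderOf (emk r8) := by
  obtain ⟨θ, hθ⟩ := exists_theta LF3Def.up LF3Def.Gen.k LF3Def.relWords h1_3 h2_3 h3_3
  obtain ⟨φ, hφ⟩ := lower_hom LF3Def.relWords LF3Def.lw LF3Table.table LF3Low.hT lwk3 lwinv3
    (fun L hL => LF3Low.hchkT _ (hmem3 L hL))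
  have hne : φ (θ (emk r8)) ≠ 1 := by
    rw [hθ]
    exact ne_one_of_walk φ hφ _ ⟨0, by decide⟩ move3
  have hpow : (φ (θ (emk r8))) ^ 3 = 1 := by
    rw [hθ, gmk_eq_k LF3Def.Gen.k LF3Def.relWords _ hr8_3, ← map_pow, gmk_k_pow LF3Def.Gen.k LF3Def.relWords 3 hk_3, map_one]
  haveI : Fact (Nat.Prime 3) := ⟨Nat.prime_three⟩
  have h3 : orderOf (φ (θ (emk r8))) = 3 := orderOf_eq_prime hpow hne
  have h := orderOf_map_dvd (φ.comp θ) (emk r8)
  rw [MonoidHom.comp_apply, h3] at h
  exact h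

theorem six_dvd : 6 ∣ orderOf (emk r8) :=
  Nat.Coprime.mul_dvd_of_dvd_of_dvd (by norm_num : Nat.Coprime 2 3) two_dvd three_dvd

theorem r8_mem_ker : emk r8 ∈ DF.proj.ker := by
  rw [MonoidHom.mem_ker, DF.proj_mk]
  exact PresentedGroup.one_of_mem ⟨r8, r8_mem, rfl⟩

/-! ### the permutation representation of degree 3510 -/

theorem lwkP : ∀ xb, PF22Link.lw xb < PF22Table.table.k := by
  rintro ⟨x, b⟩; cases x <;> cases b <;> decide
theorem lwinvP : ∀ x, PF22Link.lw (x, false) = PF22Table.table.invl (PF22Link.lw (x, true)) := by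
  intro x; cases x <;> decide +kernel

theorem moveP : PF22Table.table.walkT (pathOf PF22Link.lw (F22IsoData.sub9 .a)) 1 ≠ 1 := by decide +kernel

/-- the number of points -/
abbrev nP : ℕ := PF22Table.table.n

theorem exists_pi_psi : ∃ (π : DF.P →* Equiv.Perm (Fin nP)) (ψ : Cfsg.Spor.Fi22 →* Equiv.Perm (Fin nP)),
    ψ.range ≤ π.range ∧ ∃ x, ψ x ≠ 1 := by
  obtain ⟨π, hπ⟩ := lower_hom EF22Def.R PF22Link.lw PF22Table.table PF22Main.hT lwkP lwinvP PF22Main.hrelT
  let F : FreeGroup EF22Def.Gen →* Equiv.Perm (Fin nP) := π.comp (PresentedGroup.mk (relSet EF22Def.R))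
  obtain ⟨ψ, hψ⟩ := exists_hom_of_words Cfsg.Agent.Lib.Helper28.TCFi22W0Link.rels
    (fun b => F (FreeGroup.mk (F22IsoData.sub9 b))) Cfsg.Agent.Lib.Helper28.TCFi22W0Link.relWords
    (fun r hr => (Cfsg.Agent.Lib.Helper28.TCFi22W0Link.link.hrels r).mp hr)
    (fun L hL => by
      rw [lift_mk_subst F F22IsoData.sub9 L]
      exact eq_one_of_walk π hπ _ (F22IsoData.hsubT L hL))
  refine ⟨π, ψ, ?_, PresentedGroup.of Cfsg.Spor.Fi22.Gen.a, ?_⟩
  · rw [MonoidHom.range_eq_map, ← PresentedGroup.closure_range_of, MonoidHom.map_closure, Subgroup.closure_le]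
    rintro _ ⟨_, ⟨b, rfl⟩, rfl⟩
    rw [hψ]
    exact ⟨_, rfl⟩
  · rw [hψ]
    exact ne_one_of_walk π hπ _ ⟨1, by decide⟩ moveP

/-! ### the orders -/

theorem main_aux : Nonempty (DF.P ≃* Cfsg.Spor.Fi22) ∧ Nonempty (↥DF.proj.ker ≃* Multiplicative (ZMod 6)) := by
  haveI := cardEF.1
  haveI : Finite DF.P := Finite.of_surjective DF.proj DF.proj_surjective
  obtain ⟨hsimple, hN⟩ := Cfsg.Agent.S1696.result
  obtain ⟨π, ψ, hle, x0, hx0⟩ := exists_pi_psi
  -- `ψ` is injective
  have hker : ψ.ker = ⊥ := by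
    rcases hsimple.eq_bot_or_eq_top_of_normal ψ.ker inferInstance with h | h
    · exact h
    · exfalso
      apply hx0
      have : x0 ∈ ψ.ker := by rw [h]; exact Subgroup.mem_top _
      exact MonoidHom.mem_ker.mp this
  have hinj : Function.Injective ψ := (MonoidHom.ker_eq_bot_iff ψ).mp hker
  -- the map to the range of `π`
  let j : Cfsg.Spor.Fi22 →* π.range := ψ.codRestrict π.range (fun x => hle ⟨x, rfl⟩)
  have hjinj : Function.Injective j := by
    intro x y hxy
    apply hinj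
    exact congrArg Subtype.val hxy
  have c1 : Nat.card Cfsg.Spor.Fi22 ≤ Nat.card π.range := Nat.card_le_card_of_injective j hjinj
  have c2 : Nat.card π.range ≤ Nat.card DF.P :=
    Nat.card_le_card_of_surjective π.rangeRestrict π.rangeRestrict_surjective
  -- the kernel
  have hκ : orderOf (⟨emk r8, r8_mem_ker⟩ : ↥DF.proj.ker) = orderOf (emk r8) :=
    (Subgroup.orderOf_mk (emk r8) r8_mem_ker)
  have c3 : 6 ∣ Nat.card ↥DF.proj.ker := by
    have h1 : orderOf (⟨emk r8, r8_mem_ker⟩ : ↥DF.proj.ker) ∣ Nat.card ↥DF.proj.ker := orderOf_dvd_natCard _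
    rw [hκ] at h1
    exact dvd_trans six_dvd h1
  have hkpos : 0 < Nat.card ↥DF.proj.ker := Nat.card_pos
  have c4 : 6 ≤ Nat.card ↥DF.proj.ker := Nat.le_of_dvd hkpos c3
  have c5 := DF.card_E
  have c6 := cardEF.2
  rw [c5] at c6
  rw [hN] at c1
  have hP : 64561751654400 ≤ Nat.card DF.P := le_trans c1 c2
  have hk6 : Nat.card ↥DF.proj.ker ≤ 6 := by
    by_contra hcon
    have h7 : 7 ≤ Nat.card ↥DF.proj.ker := by omega
    have : 7 * 64561751654400 ≤ Nat.card ↥DF.proj.ker * Nat.card DF.P := Nat.mul_le_mul h7 hP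
    exact absurd (le_trans this c6) (by norm_num)
  have hk : Nat.card ↥DF.proj.ker = 6 := le_antisymm hk6 c4
  have hPle : Nat.card DF.P ≤ 64561751654400 := by
    rw [hk] at c6
    omega
  have hPeq : Nat.card DF.P = 64561751654400 := le_antisymm hPle hP
  constructor
  · -- the isomorphism
    have hr : Nat.card π.range = 64561751654400 := le_antisymm (by rw [← hPeq]; exact c2) c1
    have b1 : Function.Bijective π.rangeRestrict :=
      (Nat.bijective_iff_surjective_and_card π.rangeRestrict).mpr ⟨π.rangeRestrict_surjective, by rw [hPeq, hr]⟩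
    have b2 : Function.Bijective j :=
      (Nat.bijective_iff_injective_and_card j).mpr ⟨hjinj, by rw [hN, hr]⟩
    exact ⟨(MulEquiv.ofBijective π.rangeRestrict b1).trans (MulEquiv.ofBijective j b2).symm⟩
  · -- the kernel is cyclic
    have ho : orderOf (⟨emk r8, r8_mem_ker⟩ : ↥DF.proj.ker) = Nat.card ↥DF.proj.ker := by
      apply Nat.dvd_antisymm (orderOf_dvd_natCard _)
      rw [hκ, hk]
      exact six_dvd
    have hc : IsCyclic ↥DF.proj.ker := isCyclic_of_orderOf_eq_card _ ho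
    have e := zmodCyclicMulEquiv hc
    rw [hk] at e
    exact ⟨e.symm⟩

/-- the Schur multiplier of `Fi₂₂` is cyclic of order 6 -/
theorem main : Cfsg.HasCyclicSchurMultiplier Cfsg.Spor.Fi22 6 := by
  haveI := cardEF.1
  obtain ⟨⟨φ⟩, ⟨ψ⟩⟩ := main_aux
  exact DF.hasSchurMultiplier φ ψ

/-- the kernel of a finite stem extension of `Fi₂₂` has order dividing 6 -/
theorem stem_ker_dvd6 (G : Type) [Group G] [Finite G] (s : G →* Cfsg.Spor.Fi22) (hs : Cfsg.IsStemExtension s) :
    Nat.card s.ker ∣ 6 := by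
  obtain ⟨π, hπ⟩ := main.2 G s hs
  have h := Subgroup.card_dvd_of_surjective π hπ
  rw [Nat.card_congr Multiplicative.toAdd, Nat.card_zmod] at h
  exact h

end Cfsg.Agent.Lib.Helper3.Cover.F22Main
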