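import Cfsg.Agent.Lib.Helper3.Cover.Basic

set_option autoImplicit false

/-!
# Finiteness of covering presentations, and bounds for the kernel
-/

namespace Cfsg.Agent.Lib.Helper3.Cover

open Subgroup
open scoped commutatorElement

/-- if the centre has finite index, there are finitely many commutators -/
theorem finite_commutatorSet_of_center_finiteIndex {E : Type*} [Group E] [(center E).FiniteIndex] :
    Finite (commutatorSet E) := by
  haveI : Finite (E ⧸ center E) := Subgroup.finite_quotient_of_finiteIndex
  let f : (E ⧸ center E) × (E ⧸ center E) → E := fun p => ⁅p.1.out, p.2.out⁆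
  have hfin : (Set.range f).Finite := Set.finite_range f
  refine Set.Finite.subset hfin ?_
  rintro _ ⟨g, h, rfl⟩
  refine ⟨((QuotientGroup.mk g : E ⧸ center E), (QuotientGroup.mk h : E ⧸ center E)), ?_⟩
  obtain ⟨z, hz⟩ := QuotientGroup.mk_out_eq_mul (center E) g
  obtain ⟨z', hz'⟩ := QuotientGroup.mk_out_eq_mul (center E) h
  show ⁅(QuotientGroup.mk g : E ⧸ center E).out, (QuotientGroup.mk h : E ⧸ center E).out⁆ = ⁅g, h⁆
  rw [hz, hz', Cfsg.Agent.Lib.Helper3.SchurM.commElt_mul_central_left z.2,
    Cfsg.Agent.Lib.Helper3.SchurM.commElt_mul_central_right z'.2]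

/-- Schur: a perfect group whose centre has finite index is finite -/
theorem finite_of_perfect_of_center_finiteIndex {E : Type*} [Group E] (hp : commutator E = ⊤)
    [(center E).FiniteIndex] : Finite E := by
  haveI := finite_commutatorSet_of_center_finiteIndex (E := E)
  have h1 : Finite (commutator E) := inferInstance
  rw [hp] at h1
  exact Finite.of_equiv _ (Subgroup.topEquiv (G := E)).toEquiv

namespace CoverData

variable {α : Type} [DecidableEq α] [Fintype α] (D : CoverData α)

/-- the covering group of a finite group is finite -/
theorem finite_E [Finite D.P] : Finite D.E := by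
  haveI : D.proj.ker.FiniteIndex := by
    constructor
    rw [Subgroup.index_ker]
    have : D.proj.range = ⊤ := MonoidHom.range_eq_top.mpr D.proj_surjective
    rw [this]
    simp only [Subgroup.mem_top, Nat.card_congr (Equiv.subtypeUnivEquiv (fun _ => trivial))]
    exact Nat.card_pos.ne'
  haveI : (center D.E).FiniteIndex := Subgroup.finiteIndex_of_le D.ker_proj_le_center
  exact finite_of_perfect_of_center_finiteIndex D.commutator_eq_top

/-- the kernel is bounded by any group known to be the multiplier -/
theorem card_ker_le {G : Type} [Group G] (φ : D.P ≃* G) [Finite D.E]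
    {A : Type} [CommGroup A] [Finite A] (h : Cfsg.HasSchurMultiplier G A) :
    Nat.card D.proj.ker ≤ Nat.card A := by
  obtain ⟨π, hπ⟩ := h.2 D.E (D.projTo φ) (D.isStem_projTo φ)
  have h1 := Nat.card_le_card_of_surjective π hπ
  rw [D.ker_projTo] at h1
  exact h1

/-- the order of the covering group is bounded by the order of the multiplier times the order of the group -/
theorem card_E_le {G : Type} [Group G] (φ : D.P ≃* G) [Finite D.P]
    {A : Type} [CommGroup A] [Finite A] (h : Cfsg.HasSchurMultiplier G A) :
    Nat.card D.E ≤ Nat.card A * Nat.card D.P := by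
  haveI := D.finite_E
  rw [D.card_E]
  exact Nat.mul_le_mul_right _ (D.card_ker_le φ h)

end CoverData

end Cfsg.Agent.Lib.Helper3.Cover
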