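import Cfsg.Agent.Lib.Helper3.Cover.PU6Data
set_option autoImplicit false
set_option maxRecDepth 100000
set_option maxHeartbeats 0

namespace Cfsg.Agent.Lib.Helper3.Cover.PU6U8
open Cfsg.Agent.Lib.Helper28.TC2Upper Cfsg.Agent.Lib.Helper3.Cover.PU6Data

theorem chk40 : data.checkRange 52076 1806 = true := by decide +kernel
theorem chk41 : data.checkRange 53882 1798 = true := by decide +kernel
theorem chk42 : data.checkRange 55680 1043 = true := by decide +kernel

end Cfsg.Agent.Lib.Helper3.Cover.PU6U8
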