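import Cfsg.Agent.Lib.Helper28.TC2GlueOrb
import Cfsg.Agent.Lib.Helper28.TC2Range
import Cfsg.Agent.Lib.Helper3.Cover.PU6Link
import Cfsg.Agent.Lib.Helper3.Cover.PU6M
import Cfsg.Agent.Lib.Helper3.Cover.PU6M0
import Cfsg.Agent.Lib.Helper3.Cover.PU6M1
import Cfsg.Agent.Lib.Helper3.Cover.PU6M2
import Cfsg.Agent.Lib.Helper3.Cover.PU6M3
import Cfsg.Agent.Lib.Helper3.Cover.PU6M4
import Cfsg.Agent.Lib.Helper3.Cover.PU6U0
import Cfsg.Agent.Lib.Helper3.Cover.PU6U1
import Cfsg.Agent.Lib.Helper3.Cover.PU6U2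
import Cfsg.Agent.Lib.Helper3.Cover.PU6U3
import Cfsg.Agent.Lib.Helper3.Cover.PU6U4
import Cfsg.Agent.Lib.Helper3.Cover.PU6U5
import Cfsg.Agent.Lib.Helper3.Cover.PU6U6
import Cfsg.Agent.Lib.Helper3.Cover.PU6U7
import Cfsg.Agent.Lib.Helper3.Cover.PU6U8
import Cfsg.Agent.Lib.Helper3.Cover.PU6L0

set_option autoImplicit false
set_option maxRecDepth 100000
open Cfsg

namespace Cfsg.Agent.Lib.Helper3.Cover.PU6Main
open Cfsg.Agent.Lib.Helper28.TC2Upper Cfsg.Agent.Lib.Helper28.TC2Lower Cfsg.Agent.Lib.Helper28.TC2Glue Cfsg.Agent.Lib.Helper28.TC2GlueOrb Cfsg.Agent.Lib.Helper28.TC2Orbit Cfsg.Agent.Lib.Helper28.TC2Range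
open Cfsg.Agent.Lib.Helper3.Cover.PU6Data Cfsg.Agent.Lib.Helper3.Cover.PU6Table Cfsg.Agent.Lib.Helper3.Cover.PU6Link Cfsg.Agent.Lib.Helper3.Cover.PU6M

theorem hchk : ∀ v, v < data.N → data.checkNode v = true := by
  intro v hv
  have hv' : v < 56723 := hv
  rcases Nat.lt_or_ge v 613 with h0 | h0
  · exact (data.checkRange_iff 0 613).mp Cfsg.Agent.Lib.Helper3.Cover.PU6U0.chk0 v (by omega) (by omega)
  rcases Nat.lt_or_ge v 1288 with h1 | h1
  · exact (data.checkRange_iff 613 675).mp Cfsg.Agent.Lib.Helper3.Cover.PU6U0.chk1 v (by omega) (by omega)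
  rcases Nat.lt_or_ge v 2030 with h2 | h2
  · exact (data.checkRange_iff 1288 742).mp Cfsg.Agent.Lib.Helper3.Cover.PU6U0.chk2 v (by omega) (by omega)
  rcases Nat.lt_or_ge v 2763 with h3 | h3
  · exact (data.checkRange_iff 2030 733).mp Cfsg.Agent.Lib.Helper3.Cover.PU6U0.chk3 v (by omega) (by omega)
  rcases Nat.lt_or_ge v 3559 with h4 | h4
  · exact (data.checkRange_iff 2763 796).mp Cfsg.Agent.Lib.Helper3.Cover.PU6U0.chk4 v (by omega) (by omega)
  rcases Nat.lt_or_ge v 4379 with h5 | h5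
  · exact (data.checkRange_iff 3559 820).mp Cfsg.Agent.Lib.Helper3.Cover.PU6U1.chk5 v (by omega) (by omega)
  rcases Nat.lt_or_ge v 5249 with h6 | h6
  · exact (data.checkRange_iff 4379 870).mp Cfsg.Agent.Lib.Helper3.Cover.PU6U1.chk6 v (by omega) (by omega)
  rcases Nat.lt_or_ge v 6199 with h7 | h7
  · exact (data.checkRange_iff 5249 950).mp Cfsg.Agent.Lib.Helper3.Cover.PU6U1.chk7 v (by omega) (by omega)
  rcases Nat.lt_or_ge v 7168 with h8 | h8
  · exact (data.checkRange_iff 6199 969).mp Cfsg.Agent.Lib.Helper3.Cover.PU6U1.chk8 v (by omega) (by omega)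
  rcases Nat.lt_or_ge v 8097 with h9 | h9
  · exact (data.checkRange_iff 7168 929).mp Cfsg.Agent.Lib.Helper3.Cover.PU6U1.chk9 v (by omega) (by omega)
  rcases Nat.lt_or_ge v 9158 with h10 | h10
  · exact (data.checkRange_iff 8097 1061).mp Cfsg.Agent.Lib.Helper3.Cover.PU6U2.chk10 v (by omega) (by omega)
  rcases Nat.lt_or_ge v 10239 with h11 | h11
  · exact (data.checkRange_iff 9158 1081).mp Cfsg.Agent.Lib.Helper3.Cover.PU6U2.chk11 v (by omega) (by omega)
  rcases Nat.lt_or_ge v 11377 with h12 | h12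
  · exact (data.checkRange_iff 10239 1138).mp Cfsg.Agent.Lib.Helper3.Cover.PU6U2.chk12 v (by omega) (by omega)
  rcases Nat.lt_or_ge v 12575 with h13 | h13
  · exact (data.checkRange_iff 11377 1198).mp Cfsg.Agent.Lib.Helper3.Cover.PU6U2.chk13 v (by omega) (by omega)
  rcases Nat.lt_or_ge v 13818 with h14 | h14
  · exact (data.checkRange_iff 12575 1243).mp Cfsg.Agent.Lib.Helper3.Cover.PU6U2.chk14 v (by omega) (by omega)
  rcases Nat.lt_or_ge v 15004 with h15 | h15
  · exact (data.checkRange_iff 13818 1186).mp Cfsg.Agent.Lib.Helper3.Cover.PU6U3.chk15 v (by omega) (by omega)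
  rcases Nat.lt_or_ge v 16309 with h16 | h16
  · exact (data.checkRange_iff 15004 1305).mp Cfsg.Agent.Lib.Helper3.Cover.PU6U3.chk16 v (by omega) (by omega)
  rcases Nat.lt_or_ge v 17576 with h17 | h17
  · exact (data.checkRange_iff 16309 1267).mp Cfsg.Agent.Lib.Helper3.Cover.PU6U3.chk17 v (by omega) (by omega)
  rcases Nat.lt_or_ge v 18902 with h18 | h18
  · exact (data.checkRange_iff 17576 1326).mp Cfsg.Agent.Lib.Helper3.Cover.PU6U3.chk18 v (by omega) (by omega)
  rcases Nat.lt_or_ge v 20255 with h19 | h19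
  · exact (data.checkRange_iff 18902 1353).mp Cfsg.Agent.Lib.Helper3.Cover.PU6U3.chk19 v (by omega) (by omega)
  rcases Nat.lt_or_ge v 21591 with h20 | h20
  · exact (data.checkRange_iff 20255 1336).mp Cfsg.Agent.Lib.Helper3.Cover.PU6U4.chk20 v (by omega) (by omega)
  rcases Nat.lt_or_ge v 22945 with h21 | h21
  · exact (data.checkRange_iff 21591 1354).mp Cfsg.Agent.Lib.Helper3.Cover.PU6U4.chk21 v (by omega) (by omega)
  rcases Nat.lt_or_ge v 24396 with h22 | h22
  · exact (data.checkRange_iff 22945 1451).mp Cfsg.Agent.Lib.Helper3.Cover.PU6U4.chk22 v (by omega) (by omega)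
  rcases Nat.lt_or_ge v 25898 with h23 | h23
  · exact (data.checkRange_iff 24396 1502).mp Cfsg.Agent.Lib.Helper3.Cover.PU6U4.chk23 v (by omega) (by omega)
  rcases Nat.lt_or_ge v 27442 with h24 | h24
  · exact (data.checkRange_iff 25898 1544).mp Cfsg.Agent.Lib.Helper3.Cover.PU6U4.chk24 v (by omega) (by omega)
  rcases Nat.lt_or_ge v 28966 with h25 | h25
  · exact (data.checkRange_iff 27442 1524).mp Cfsg.Agent.Lib.Helper3.Cover.PU6U5.chk25 v (by omega) (by omega)
  rcases Nat.lt_or_ge v 30466 with h26 | h26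
  · exact (data.checkRange_iff 28966 1500).mp Cfsg.Agent.Lib.Helper3.Cover.PU6U5.chk26 v (by omega) (by omega)
  rcases Nat.lt_or_ge v 32025 with h27 | h27
  · exact (data.checkRange_iff 30466 1559).mp Cfsg.Agent.Lib.Helper3.Cover.PU6U5.chk27 v (by omega) (by omega)
  rcases Nat.lt_or_ge v 33548 with h28 | h28
  · exact (data.checkRange_iff 32025 1523).mp Cfsg.Agent.Lib.Helper3.Cover.PU6U5.chk28 v (by omega) (by omega)
  rcases Nat.lt_or_ge v 35116 with h29 | h29
  · exact (data.checkRange_iff 33548 1568).mp Cfsg.Agent.Lib.Helper3.Cover.PU6U5.chk29 v (by omega) (by omega)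
  rcases Nat.lt_or_ge v 36672 with h30 | h30
  · exact (data.checkRange_iff 35116 1556).mp Cfsg.Agent.Lib.Helper3.Cover.PU6U6.chk30 v (by omega) (by omega)
  rcases Nat.lt_or_ge v 38219 with h31 | h31
  · exact (data.checkRange_iff 36672 1547).mp Cfsg.Agent.Lib.Helper3.Cover.PU6U6.chk31 v (by omega) (by omega)
  rcases Nat.lt_or_ge v 39832 with h32 | h32
  · exact (data.checkRange_iff 38219 1613).mp Cfsg.Agent.Lib.Helper3.Cover.PU6U6.chk32 v (by omega) (by omega)
  rcases Nat.lt_or_ge v 41428 with h33 | h33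
  · exact (data.checkRange_iff 39832 1596).mp Cfsg.Agent.Lib.Helper3.Cover.PU6U6.chk33 v (by omega) (by omega)
  rcases Nat.lt_or_ge v 43076 with h34 | h34
  · exact (data.checkRange_iff 41428 1648).mp Cfsg.Agent.Lib.Helper3.Cover.PU6U6.chk34 v (by omega) (by omega)
  rcases Nat.lt_or_ge v 44850 with h35 | h35
  · exact (data.checkRange_iff 43076 1774).mp Cfsg.Agent.Lib.Helper3.Cover.PU6U7.chk35 v (by omega) (by omega)
  rcases Nat.lt_or_ge v 46675 with h36 | h36
  · exact (data.checkRange_iff 44850 1825).mp Cfsg.Agent.Lib.Helper3.Cover.PU6U7.chk36 v (by omega) (by omega)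
  rcases Nat.lt_or_ge v 48493 with h37 | h37
  · exact (data.checkRange_iff 46675 1818).mp Cfsg.Agent.Lib.Helper3.Cover.PU6U7.chk37 v (by omega) (by omega)
  rcases Nat.lt_or_ge v 50275 with h38 | h38
  · exact (data.checkRange_iff 48493 1782).mp Cfsg.Agent.Lib.Helper3.Cover.PU6U7.chk38 v (by omega) (by omega)
  rcases Nat.lt_or_ge v 52076 with h39 | h39
  · exact (data.checkRange_iff 50275 1801).mp Cfsg.Agent.Lib.Helper3.Cover.PU6U7.chk39 v (by omega) (by omega)
  rcases Nat.lt_or_ge v 53882 with h40 | h40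
  · exact (data.checkRange_iff 52076 1806).mp Cfsg.Agent.Lib.Helper3.Cover.PU6U8.chk40 v (by omega) (by omega)
  rcases Nat.lt_or_ge v 55680 with h41 | h41
  · exact (data.checkRange_iff 53882 1798).mp Cfsg.Agent.Lib.Helper3.Cover.PU6U8.chk41 v (by omega) (by omega)
  exact (data.checkRange_iff 55680 1043).mp Cfsg.Agent.Lib.Helper3.Cover.PU6U8.chk42 v (by omega) (by omega)

theorem hrows : ∀ v, v < data.N → Data.rowOK data v = true := by
  intro v hv
  have hv' : v < 56723 := hv
  rcases Nat.lt_or_ge v 6000 with h0 | h0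
  · exact (Data.finalRange_iff data 0 6000).mp Cfsg.Agent.Lib.Helper3.Cover.PU6M0.fin0 v (by omega) (by omega)
  rcases Nat.lt_or_ge v 12000 with h1 | h1
  · exact (Data.finalRange_iff data 6000 6000).mp Cfsg.Agent.Lib.Helper3.Cover.PU6M0.fin1 v (by omega) (by omega)
  rcases Nat.lt_or_ge v 18000 with h2 | h2
  · exact (Data.finalRange_iff data 12000 6000).mp Cfsg.Agent.Lib.Helper3.Cover.PU6M0.fin2 v (by omega) (by omega)
  rcases Nat.lt_or_ge v 24000 with h3 | h3
  · exact (Data.finalRange_iff data 18000 6000).mp Cfsg.Agent.Lib.Helper3.Cover.PU6M0.fin3 v (by omega) (by omega)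
  rcases Nat.lt_or_ge v 30000 with h4 | h4
  · exact (Data.finalRange_iff data 24000 6000).mp Cfsg.Agent.Lib.Helper3.Cover.PU6M0.fin4 v (by omega) (by omega)
  rcases Nat.lt_or_ge v 36000 with h5 | h5
  · exact (Data.finalRange_iff data 30000 6000).mp Cfsg.Agent.Lib.Helper3.Cover.PU6M1.fin5 v (by omega) (by omega)
  rcases Nat.lt_or_ge v 42000 with h6 | h6
  · exact (Data.finalRange_iff data 36000 6000).mp Cfsg.Agent.Lib.Helper3.Cover.PU6M1.fin6 v (by omega) (by omega)
  rcases Nat.lt_or_ge v 48000 with h7 | h7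
  · exact (Data.finalRange_iff data 42000 6000).mp Cfsg.Agent.Lib.Helper3.Cover.PU6M1.fin7 v (by omega) (by omega)
  rcases Nat.lt_or_ge v 54000 with h8 | h8
  · exact (Data.finalRange_iff data 48000 6000).mp Cfsg.Agent.Lib.Helper3.Cover.PU6M1.fin8 v (by omega) (by omega)
  exact (Data.finalRange_iff data 54000 2723).mp Cfsg.Agent.Lib.Helper3.Cover.PU6M1.fin9 v (by omega) (by omega)

theorem hfin : data.finalOK = true := Data.finalOK_of_rows data hlive0 (by decide) hrows

theorem pc0 : Data.countFrom data 0 6000 = 2184 := Cfsg.Agent.Lib.Helper3.Cover.PU6M2.cnt0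
theorem pc1 : Data.countFrom data 0 12000 = 2695 := Data.countFrom_step data pc0 Cfsg.Agent.Lib.Helper3.Cover.PU6M2.cnt1 (by norm_num) (by norm_num)
theorem pc2 : Data.countFrom data 0 18000 = 2798 := Data.countFrom_step data pc1 Cfsg.Agent.Lib.Helper3.Cover.PU6M2.cnt2 (by norm_num) (by norm_num)
theorem pc3 : Data.countFrom data 0 24000 = 2812 := Data.countFrom_step data pc2 Cfsg.Agent.Lib.Helper3.Cover.PU6M2.cnt3 (by norm_num) (by norm_num)
theorem pc4 : Data.countFrom data 0 30000 = 2816 := Data.countFrom_step data pc3 Cfsg.Agent.Lib.Helper3.Cover.PU6M2.cnt4 (by norm_num) (by norm_num)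
theorem pc5 : Data.countFrom data 0 36000 = 2816 := Data.countFrom_step data pc4 Cfsg.Agent.Lib.Helper3.Cover.PU6M3.cnt5 (by norm_num) (by norm_num)
theorem pc6 : Data.countFrom data 0 42000 = 2816 := Data.countFrom_step data pc5 Cfsg.Agent.Lib.Helper3.Cover.PU6M3.cnt6 (by norm_num) (by norm_num)
theorem pc7 : Data.countFrom data 0 48000 = 2816 := Data.countFrom_step data pc6 Cfsg.Agent.Lib.Helper3.Cover.PU6M3.cnt7 (by norm_num) (by norm_num)
theorem pc8 : Data.countFrom data 0 54000 = 2816 := Data.countFrom_step data pc7 Cfsg.Agent.Lib.Helper3.Cover.PU6M3.cnt8 (by norm_num) (by norm_num)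
theorem pc9 : Data.countFrom data 0 56723 = 2816 := Data.countFrom_step data pc8 Cfsg.Agent.Lib.Helper3.Cover.PU6M3.cnt9 (by norm_num) (by norm_num)

theorem hcount : data.countLive = table.n := by
  rw [Data.countLive_eq]
  exact pc9

theorem hpermAll : ∀ p, p < table.n → Table.permRow table p = true := by
  intro p hv
  have hv' : p < 2816 := hv
  exact (Table.permRange_iff table 0 2816).mp Cfsg.Agent.Lib.Helper3.Cover.PU6M4.prm0 p (by omega) (by omega)

theorem hT : table.OK := Table.ok_of_rows table hinvOK hpermAll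

theorem htreeAll : ∀ i, i < Nat.pred table.n → Table.treeRow table i = true := by
  intro p hv
  have hv' : p < 2815 := hv
  exact (Table.treeRange_iff table 0 2815).mp Cfsg.Agent.Lib.Helper3.Cover.PU6M4.tre0 p (by omega) (by omega)

theorem htree : table.treeOK = true := Table.treeOK_of_rows table htreeAll

theorem hchkT : ∀ P ∈ chkPaths, ∀ p, p < table.n → table.walkT P p = p := by
  intro P hm p hv
  have hv' : p < 2816 := hv
  rcases Nat.lt_or_ge p 2000 with h0 | h0
  · exact (Table.relOK_iff chkPaths 0 2000).mp Cfsg.Agent.Lib.Helper3.Cover.PU6L0.rel0 p (by omega) (by omega) _ hm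
  exact (Table.relOK_iff chkPaths 2000 816).mp Cfsg.Agent.Lib.Helper3.Cover.PU6L0.rel1 p (by omega) (by omega) _ hm

theorem hrelT : ∀ L ∈ relWords, ∀ p, p < table.n → table.walkT (pathOf lw L) p = p :=
  fun L hL => Table.fix_of_covered hT chkPaths hchkT _ (hcov _ (hrelmem L hL)).1 (hcov _ (hrelmem L hL)).2

theorem hsubT : ∀ L ∈ subWords, table.walkT (pathOf lw L) 0 = 0 :=
  fun L hL => (Table.subOK_iff subPaths).mp hsub0 _ (hsubmem L hL)

theorem hn : 0 < table.n := by decide

theorem main : ((Subgroup.closure S).map (PresentedGroup.mk rels)).index = table.n ∧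
    ∃ φ : PresentedGroup rels →* Equiv.Perm (Fin table.n),
      (∀ x, φ (PresentedGroup.of x) = Table.sigma hT (lw (x, true))) ∧
      ∃ f : PresentedGroup rels ⧸ (Subgroup.closure S).map (PresentedGroup.mk rels) → Fin table.n,
        Function.Bijective f ∧ (∀ g q, f (g • q) = φ g (f q)) ∧ f (QuotientGroup.mk 1) = ⟨0, hn⟩ :=
  index_eq link hchk hfin hcount hT hn hrelT hsubT htree

end Cfsg.Agent.Lib.Helper3.Cover.PU6Main
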