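import Cfsg.Agent.Lib.Helper28.TC2Orbit
set_option autoImplicit false
set_option maxRecDepth 100000

namespace Cfsg.Agent.Lib.Helper3.Cover.S64Table
open Cfsg.Agent.Lib.Helper28.TC2Upper Cfsg.Agent.Lib.Helper28.TC2Lower Cfsg.Agent.Lib.Helper28.TC2Orbit

def cT0 : ℕ := 0x7eedc3c7ce9cbd1a2450e182058f54b96a956bd6283070f9b3274f1a4a8512648811a72e4c8142c4889560d1bb362d5b320418281061c200
def cT1 : ℕ := 0x7eedc3c7ce9cbd1a2450e182058f54b96a956bd6283070f9b3274f1a4a8512648811a72e4c8142c4889560d1bb362d5b320418281061c200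
def cT2 : ℕ := 0x32d45a738c0722627518f686130a36dc4a53cc8620667d08d6c6920822f41af28e032a7255587784170226fc0ad2ce8228765d4857c49600
def cT3 : ℕ := 0x1c0cf130e28b9a5c8df334ea9bba38446012a6028878c56216ae12a84cadb3b5e89fb20c2cb1b1e08f9268e52297ac16a028642093a40680
def cT4 : ℕ := 0x4af9ea642e9ca25ad9aae52c98aa5ed1bac56c19a84ef1fa446e1da00a78e860268c821a58a8e124888a1e50b8c16409880e70f840660d80
def cT5 : ℕ := 0x4af9ea642e9ca25ad9aae52c98aa5ed1bac56c19a84ef1fa446e1da00a78e860268c821a58a8e124888a1e50b8c16409880e70f840660d80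
def cR0 : ℕ := 0x21c040c0c58113020e04280c7011a001a0024005000e00180020005818a033604440c48101022a046008281080030007000f818d0032066800f0188040a08780c18206040208680c30202020c042c0080187041204080088182041e08500c0820c041608400c202080004001808200010006001c0020000
/-- table chunks -/
def colTT : BT ℕ := (BT.node 2 (BT.node 1 (BT.node 0 (BT.leaf cT0) (BT.leaf cT1)) (BT.leaf cT2)) (BT.node 4 (BT.node 3 (BT.leaf cT3) (BT.leaf cT4)) (BT.leaf cT5)))
/-- spanning tree chunks -/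
def treeT : BT ℕ := (BT.leaf cR0)
/-- the paths that are checked -/
def chkPaths : List (List ℕ) := [[0, 0], [2, 2, 2, 2, 2, 2], [2, 0, 2, 0, 2, 0, 2, 0, 2, 0, 2, 0, 2, 0], [0, 2, 2, 0, 2, 2, 0, 2, 2, 0, 3, 3, 0, 3, 3, 0, 3, 3], [0, 2, 0, 3, 0, 3, 0, 2, 0, 3, 3, 0, 2, 0, 3, 3, 0, 2, 0, 3, 3], [4, 4], [4, 2, 4, 2, 4, 3, 4, 3], [4, 0, 4, 0, 4, 0, 4, 0], [0, 4, 0, 3, 0, 4, 0, 3, 0, 4, 0, 3], [0, 2, 0, 4, 0, 3, 0, 2, 0, 4, 0, 3]]
/-- the table -/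
def table : Table where
  n := 64
  k := 6
  w := 7
  M := 128
  CH := 1024
  NCH := 1
  col := colTT
  inv := (BT.node 3 (BT.node 1 (BT.node 0 (BT.leaf 1) (BT.leaf 0)) (BT.node 2 (BT.leaf 3) (BT.leaf 2))) (BT.node 5 (BT.node 4 (BT.leaf 5) (BT.leaf 4)) (BT.leaf 6)))
  tw := 15
  TM := 32768
  tree := treeT

end Cfsg.Agent.Lib.Helper3.Cover.S64Table
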