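import Cfsg.Agent.Lib.Helper3.Cover.ES6Def
set_option autoImplicit false

/-!
# Words for the 63 transvections of `Sp₆(2)`, and the generators as products of transvections
(generated by `tools/tcx/sp6_data_emit.py`)
-/

namespace Cfsg.Agent.Lib.Helper3.Cover.Sp6Data

open Cfsg.Agent.Lib.Helper3.Cover.ES6Def

/-- the word number `w` acts as the transvection of the vector with code `w + 1` -/
def tw : List (List (Gen × Bool)) := [
  [(.a, false), (.b, true), (.a, false), (.b, false), (.a, false), (.b, false), (.c, true), (.b, true), (.a, true), (.b, true), (.a, true), (.b, false), (.a, true)],
  [(.c, false), (.b, true), (.a, false), (.b, true), (.a, false), (.c, true), (.a, true), (.b, false), (.a, true), (.b, false), (.c, true)],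
  [(.b, true), (.a, false), (.b, false), (.c, true), (.b, true), (.a, true), (.b, false)],
  [(.b, true), (.a, false), (.b, false), (.a, false), (.b, false), (.c, true), (.b, true), (.a, true), (.b, true), (.a, true), (.b, false)],
  [(.b, true), (.b, true), (.a, false), (.b, false), (.a, false), (.b, false), (.c, true), (.b, true), (.a, true), (.b, true), (.a, true), (.b, false), (.b, false)],
  [(.b, true), (.a, false), (.b, false), (.b, false), (.a, false), (.b, false), (.c, true), (.b, true), (.a, true), (.b, true), (.b, true), (.a, true), (.b, false)],
  [(.a, false), (.c, false), (.b, true), (.a, false), (.b, true), (.a, false), (.c, true), (.a, true), (.b, false), (.a, true), (.b, false), (.c, true), (.a, true)],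
  [(.b, true), (.a, false), (.c, true), (.a, true), (.b, false)],
  [(.a, false), (.b, false), (.a, false), (.b, false), (.c, true), (.b, true), (.a, true), (.b, true), (.a, true)],
  [(.b, true), (.c, false), (.b, false), (.a, false), (.b, true), (.a, false), (.c, true), (.a, true), (.b, false), (.a, true), (.b, true), (.c, true), (.b, false)],
  [(.b, true), (.a, false), (.b, true), (.c, true), (.b, false), (.a, true), (.b, false)],
  [(.b, false), (.b, false), (.a, false), (.b, false), (.a, false), (.b, false), (.c, true), (.b, true), (.a, true), (.b, true), (.a, true), (.b, true), (.b, true)],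
  [(.b, true), (.b, true), (.a, false), (.b, false), (.a, false), (.b, true), (.c, true), (.b, false), (.a, true), (.b, true), (.a, true), (.b, false), (.b, false)],
  [(.b, false), (.b, false), (.a, false), (.b, false), (.b, false), (.a, false), (.b, false), (.c, true), (.b, true), (.a, true), (.b, true), (.b, true), (.a, true), (.b, true), (.b, true)],
  [(.a, false), (.c, false), (.b, false), (.a, false), (.b, true), (.a, false), (.c, true), (.a, true), (.b, false), (.a, true), (.b, true), (.c, true), (.a, true)],
  [(.b, false), (.c, false), (.b, true), (.a, false), (.b, true), (.a, false), (.c, true), (.a, true), (.b, false), (.a, true), (.b, false), (.c, true), (.b, true)],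
  [(.b, true), (.a, false), (.b, false), (.a, false), (.b, false), (.a, false), (.b, true), (.c, true), (.b, false), (.a, true), (.b, true), (.a, true), (.b, true), (.a, true), (.b, false)],
  [(.b, true), (.c, false), (.b, true), (.a, false), (.b, true), (.a, false), (.c, true), (.a, true), (.b, false), (.a, true), (.b, false), (.c, true), (.b, false)],
  [(.c, false), (.a, false), (.b, false), (.a, false), (.b, false), (.c, true), (.b, true), (.a, true), (.b, true), (.a, true), (.c, true)],
  [(.b, true), (.b, true), (.a, false), (.b, false), (.a, false), (.b, true), (.a, false), (.c, true), (.a, true), (.b, false), (.a, true), (.b, true), (.a, true), (.b, false), (.b, false)],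
  [(.b, false), (.b, false), (.b, false), (.a, false), (.b, true), (.c, true), (.b, false), (.a, true), (.b, true), (.b, true), (.b, true)],
  [(.b, true), (.b, true), (.a, false), (.b, true), (.c, true), (.b, false), (.a, true), (.b, false), (.b, false)],
  [(.b, true), (.b, true), (.a, false), (.b, false), (.b, false), (.a, false), (.b, false), (.c, true), (.b, true), (.a, true), (.b, true), (.b, true), (.a, true), (.b, false), (.b, false)],
  [(.b, true), (.a, false), (.b, true), (.a, false), (.c, true), (.a, true), (.b, false), (.a, true), (.b, false)],
  [(.a, false), (.b, false), (.b, false), (.a, false), (.b, false), (.c, true), (.b, true), (.a, true), (.b, true), (.b, true), (.a, true)],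
  [(.c, true)],
  [(.b, true), (.a, false), (.b, false), (.a, false), (.b, true), (.a, false), (.c, true), (.a, true), (.b, false), (.a, true), (.b, true), (.a, true), (.b, false)],
  [(.b, false), (.a, false), (.b, false), (.a, false), (.b, true), (.a, false), (.c, true), (.a, true), (.b, false), (.a, true), (.b, true), (.a, true), (.b, true)],
  [(.a, false), (.b, false), (.c, true), (.b, true), (.a, true)],
  [(.b, false), (.a, false), (.b, true), (.c, true), (.b, false), (.a, true), (.b, true)],
  [(.a, false), (.b, false), (.a, false), (.b, false), (.a, false), (.b, true), (.c, true), (.b, false), (.a, true), (.b, true), (.a, true), (.b, true), (.a, true)],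
  [(.a, false), (.c, true), (.a, true)],
  [(.a, false), (.b, false), (.a, false), (.b, true), (.c, true), (.b, false), (.a, true), (.b, true), (.a, true)],
  [(.b, false), (.c, true), (.b, true)],
  [(.b, false), (.b, false), (.a, false), (.b, false), (.c, true), (.b, true), (.a, true), (.b, true), (.b, true)],
  [(.b, true), (.a, false), (.b, false), (.a, false), (.b, true), (.c, true), (.b, false), (.a, true), (.b, true), (.a, true), (.b, false)],
  [(.b, false), (.a, false), (.b, false), (.a, false), (.b, true), (.c, true), (.b, false), (.a, true), (.b, true), (.a, true), (.b, true)],
  [(.b, true), (.a, false), (.b, true), (.a, false), (.b, true), (.c, true), (.b, false), (.a, true), (.b, false), (.a, true), (.b, false)],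
  [(.a, false), (.b, true), (.a, false), (.b, true), (.a, false), (.c, true), (.a, true), (.b, false), (.a, true), (.b, false), (.a, true)],
  [(.b, false), (.a, false), (.c, true), (.a, true), (.b, true)],
  [(.c, false), (.b, true), (.a, false), (.b, true), (.a, false), (.b, true), (.a, false), (.c, true), (.a, true), (.b, false), (.a, true), (.b, false), (.a, true), (.b, false), (.c, true)],
  [(.b, false), (.a, false), (.b, true), (.a, false), (.c, true), (.a, true), (.b, false), (.a, true), (.b, true)],
  [(.b, false), (.b, false), (.a, false), (.b, true), (.c, true), (.b, false), (.a, true), (.b, true), (.b, true)],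
  [(.b, false), (.b, false), (.a, false), (.b, false), (.a, false), (.b, true), (.c, true), (.b, false), (.a, true), (.b, true), (.a, true), (.b, true), (.b, true)],
  [(.b, false), (.a, false), (.b, false), (.a, false), (.b, false), (.c, true), (.b, true), (.a, true), (.b, true), (.a, true), (.b, true)],
  [(.b, false), (.b, false), (.a, false), (.b, true), (.a, false), (.b, true), (.c, true), (.b, false), (.a, true), (.b, false), (.a, true), (.b, true), (.b, true)],
  [(.a, false), (.b, false), (.a, false), (.b, true), (.a, false), (.c, true), (.a, true), (.b, false), (.a, true), (.b, true), (.a, true)],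
  [(.c, false), (.b, false), (.a, false), (.b, true), (.a, false), (.c, true), (.a, true), (.b, false), (.a, true), (.b, true), (.c, true)],
  [(.a, false), (.b, true), (.a, false), (.b, true), (.c, true), (.b, false), (.a, true), (.b, false), (.a, true)],
  [(.a, false), (.b, true), (.a, false), (.c, true), (.a, true), (.b, false), (.a, true)],
  [(.b, true), (.a, false), (.b, true), (.a, false), (.b, true), (.a, false), (.c, true), (.a, true), (.b, false), (.a, true), (.b, false), (.a, true), (.b, false)],
  [(.b, false), (.a, false), (.c, false), (.b, false), (.a, false), (.b, true), (.a, false), (.c, true), (.a, true), (.b, false), (.a, true), (.b, true), (.c, true), (.a, true), (.b, true)],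
  [(.b, false), (.b, false), (.b, false), (.a, false), (.b, false), (.c, true), (.b, true), (.a, true), (.b, true), (.b, true), (.b, true)],
  [(.b, false), (.a, false), (.b, false), (.c, true), (.b, true), (.a, true), (.b, true)],
  [(.b, false), (.a, false), (.b, true), (.a, false), (.b, true), (.c, true), (.b, false), (.a, true), (.b, false), (.a, true), (.b, true)],
  [(.b, true), (.c, true), (.b, false)],
  [(.b, false), (.b, false), (.b, false), (.a, false), (.b, false), (.b, false), (.a, false), (.b, false), (.c, true), (.b, true), (.a, true), (.b, true), (.b, true), (.a, true), (.b, true), (.b, true), (.b, true)],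
  [(.b, false), (.c, false), (.b, false), (.a, false), (.b, true), (.a, false), (.c, true), (.a, true), (.b, false), (.a, true), (.b, true), (.c, true), (.b, true)],
  [(.a, false), (.b, true), (.b, true), (.a, false), (.b, false), (.c, true), (.b, true), (.a, true), (.b, false), (.b, false), (.a, true)],
  [(.b, false), (.a, false), (.b, true), (.a, false), (.b, true), (.a, false), (.c, true), (.a, true), (.b, false), (.a, true), (.b, false), (.a, true), (.b, true)],
  [(.a, false), (.b, true), (.c, true), (.b, false), (.a, true)],
  [(.b, true), (.b, true), (.a, false), (.b, false), (.c, true), (.b, true), (.a, true), (.b, false), (.b, false)],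
  [(.b, false), (.a, false), (.b, false), (.b, false), (.a, false), (.b, false), (.c, true), (.b, true), (.a, true), (.b, true), (.b, true), (.a, true), (.b, true)] ]

/-- the generators as products of transvections -/
def decA : List ℕ := [63, 58, 5]
def decB : List ℕ := [49, 48, 17, 12, 4, 2]
def decC : List ℕ := [26]

end Cfsg.Agent.Lib.Helper3.Cover.Sp6Data
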