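import Mathlib
import Cfsg.Prelude.Def_ClassicalGeometry
import Cfsg.Agent.Lib.Helper5.SympGen2
import Cfsg.Agent.Lib.Helper14.SympCount

set_option autoImplicit false

/-!
# The symplectic group `Sp₆(2)` acting on the 64 coded vectors

The vectors of `(ZMod 2)^(Fin 3 ⊕ Fin 3)` are coded by the natural numbers below 64; the symplectic
transvections act on the codes by an explicit formula.
-/

namespace Cfsg.Agent.Lib.Helper3.Cover.Sp6Num

open Matrix

/-- the index type -/
abbrev I6 : Type := Fin 3 ⊕ Fin 3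
/-- the vectors -/
abbrev V6 : Type := I6 → ZMod 2
/-- the symplectic group -/
abbrev Sp6 : Type := Matrix.symplecticGroup (Fin 3) (ZMod 2)

/-- the position of an index -/
def pos6 : I6 → ℕ
  | Sum.inl i => i.val
  | Sum.inr i => 3 + i.val

/-- a bit as an element of the field -/
def bz (b : Bool) : ZMod 2 := if b then 1 else 0

/-- the vector with a given code -/
def vdec (p : ℕ) : V6 := fun i => bz (p.testBit (pos6 i))

/-- the code of a vector -/
def venc (v : V6) : ℕ :=
  (v (Sum.inl 0)).val + 2 * (v (Sum.inl 1)).val + 4 * (v (Sum.inl 2)).val +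
    8 * (v (Sum.inr 0)).val + 16 * (v (Sum.inr 1)).val + 32 * (v (Sum.inr 2)).val

theorem venc_lt (v : V6) : venc v < 64 := by
  have h : ∀ x : ZMod 2, x.val < 2 := fun x => ZMod.val_lt x
  have h0 := h (v (Sum.inl 0))
  have h1 := h (v (Sum.inl 1))
  have h2 := h (v (Sum.inl 2))
  have h3 := h (v (Sum.inr 0))
  have h4 := h (v (Sum.inr 1))
  have h5 := h (v (Sum.inr 2))
  unfold venc
  omega

theorem venc_vdec : ∀ p : Fin 64, venc (vdec p.val) = p.val := by decide +kernel

theorem bits_aux : ∀ x0 x1 x2 x3 x4 x5 : ZMod 2,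
    bz ((x0.val + 2 * x1.val + 4 * x2.val + 8 * x3.val + 16 * x4.val + 32 * x5.val).testBit 0) = x0 ∧
    bz ((x0.val + 2 * x1.val + 4 * x2.val + 8 * x3.val + 16 * x4.val + 32 * x5.val).testBit 1) = x1 ∧
    bz ((x0.val + 2 * x1.val + 4 * x2.val + 8 * x3.val + 16 * x4.val + 32 * x5.val).testBit 2) = x2 ∧
    bz ((x0.val + 2 * x1.val + 4 * x2.val + 8 * x3.val + 16 * x4.val + 32 * x5.val).testBit 3) = x3 ∧
    bz ((x0.val + 2 * x1.val + 4 * x2.val + 8 * x3.val + 16 * x4.val + 32 * x5.val).testBit 4) = x4 ∧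
    bz ((x0.val + 2 * x1.val + 4 * x2.val + 8 * x3.val + 16 * x4.val + 32 * x5.val).testBit 5) = x5 := by
  decide +kernel

theorem vdec_venc (v : V6) : vdec (venc v) = v := by
  have h := bits_aux (v (Sum.inl 0)) (v (Sum.inl 1)) (v (Sum.inl 2)) (v (Sum.inr 0)) (v (Sum.inr 1))
    (v (Sum.inr 2))
  funext i
  rcases i with i | i <;> fin_cases i
  · exact h.1
  · exact h.2.1
  · exact h.2.2.1
  · exact h.2.2.2.1
  · exact h.2.2.2.2.1
  · exact h.2.2.2.2.2

/-- the form on the codes -/
def formN (p w : ℕ) : Bool :=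
  xor (xor (xor (p.testBit 3 && w.testBit 0) (p.testBit 0 && w.testBit 3))
    (xor (p.testBit 4 && w.testBit 1) (p.testBit 1 && w.testBit 4)))
    (xor (p.testBit 5 && w.testBit 2) (p.testBit 2 && w.testBit 5))

/-- the transvection on the codes -/
def transvN (w p : ℕ) : ℕ := if formN p w then p ^^^ w else p

theorem form_aux : ∀ p w : Fin 64,
    (vdec p.val (Sum.inr 0) * vdec w.val (Sum.inl 0) - vdec p.val (Sum.inl 0) * vdec w.val (Sum.inr 0)) +
    (vdec p.val (Sum.inr 1) * vdec w.val (Sum.inl 1) - vdec p.val (Sum.inl 1) * vdec w.val (Sum.inr 1)) +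
    (vdec p.val (Sum.inr 2) * vdec w.val (Sum.inl 2) - vdec p.val (Sum.inl 2) * vdec w.val (Sum.inr 2)) =
      bz (formN p.val w.val) := by decide +kernel

theorem sympForm_vdec (p w : ℕ) (hp : p < 64) (hw : w < 64) :
    Cfsg.sympForm 3 (ZMod 2) (vdec p) (vdec w) = bz (formN p w) := by
  rw [Cfsg.Agent.Lib.Helper5.sympForm_eq_sum, Fin.sum_univ_three]
  exact form_aux ⟨p, hp⟩ ⟨w, hw⟩

theorem bz_xor (a b : Bool) : bz (xor a b) = bz a + bz b := by
  cases a <;> cases b <;> decide

theorem vdec_xor (p w : ℕ) : vdec (p ^^^ w) = vdec p + vdec w := by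
  funext i
  show bz ((p ^^^ w).testBit (pos6 i)) = bz (p.testBit (pos6 i)) + bz (w.testBit (pos6 i))
  rw [Nat.testBit_xor, bz_xor]

theorem xor_lt64 (p w : ℕ) (hp : p < 64) (hw : w < 64) : p ^^^ w < 64 :=
  Nat.xor_lt_two_pow (n := 6) hp hw

theorem transvN_lt (w p : ℕ) (hp : p < 64) (hw : w < 64) : transvN w p < 64 := by
  unfold transvN
  split
  · exact xor_lt64 p w hp hw
  · exact hp

/-- the transvections act on the codes by the explicit formula -/
theorem transvection_mulVec (w p : ℕ) (hp : p < 64) (hw : w < 64) :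
    Cfsg.sympTransvection 3 (vdec w) (1 : ZMod 2) *ᵥ vdec p = vdec (transvN w p) := by
  rw [Cfsg.Agent.Lib.Helper5.sympTransvection_mulVec, one_mul, sympForm_vdec p w hp hw]
  unfold transvN
  cases h : formN p w
  · simp [bz]
  · simp [bz, vdec_xor]

/-- the action of a symplectic matrix on the codes -/
def smulP (A : Sp6) (p : Fin 64) : Fin 64 := ⟨venc (A.1 *ᵥ vdec p.val), venc_lt _⟩

/-- the action on the codes of the vectors -/
def actInst : MulAction Sp6 (Fin 64) where
  smul := smulP
  one_smul p := by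
    apply Fin.ext
    show venc ((1 : Matrix I6 I6 (ZMod 2)) *ᵥ vdec p.val) = p.val
    rw [Matrix.one_mulVec]
    exact venc_vdec p
  mul_smul A B p := by
    apply Fin.ext
    show venc ((A.1 * B.1) *ᵥ vdec p.val) = venc (A.1 *ᵥ vdec (venc (B.1 *ᵥ vdec p.val)))
    rw [vdec_venc, Matrix.mulVec_mulVec]

/-- the permutation representation on the codes of the vectors -/
def rho : Sp6 →* Equiv.Perm (Fin 64) := @MulAction.toPermHom Sp6 (Fin 64) _ actInst

theorem rho_apply (A : Sp6) (p : Fin 64) : (rho A p).val = venc (A.1 *ᵥ vdec p.val) := rfl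

theorem vdec_surjective (v : V6) : ∃ p : Fin 64, vdec p.val = v := ⟨⟨venc v, venc_lt v⟩, vdec_venc v⟩

theorem rho_injective : Function.Injective rho := by
  rw [injective_iff_map_eq_one]
  intro A hA
  apply Subtype.ext
  apply Matrix.mulVec_injective
  funext v
  obtain ⟨p, rfl⟩ := vdec_surjective v
  have h1 : (rho A p).val = p.val := by rw [hA]; rfl
  rw [rho_apply] at h1
  have h2 := congrArg vdec h1
  rw [vdec_venc] at h2
  rw [h2]
  show vdec p.val = (1 : Matrix I6 I6 (ZMod 2)) *ᵥ vdec p.val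
  rw [Matrix.one_mulVec]

/-- the permutation of a transvection -/
theorem rho_transvection (A : Sp6) (w : ℕ) (hw : w < 64)
    (hA : A.1 = Cfsg.sympTransvection 3 (vdec w) (1 : ZMod 2)) (p : Fin 64) :
    (rho A p).val = transvN w p.val := by
  rw [rho_apply, hA, transvection_mulVec w p.val p.2 hw]
  exact venc_vdec ⟨transvN w p.val, transvN_lt w p.val p.2 hw⟩

/-- a transvection with trivial parameters is the identity -/
theorem transvection_zero (v : V6) : Cfsg.sympTransvection 3 v (0 : ZMod 2) = 1 := by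
  unfold Cfsg.sympTransvection
  rw [zero_smul, add_zero]

theorem vdec_zero : vdec 0 = 0 := by
  funext i
  show bz ((0 : ℕ).testBit (pos6 i)) = 0
  rw [Nat.zero_testBit]
  rfl

theorem transvection_vec_zero (c : ZMod 2) : Cfsg.sympTransvection 3 (0 : V6) c = 1 := by
  unfold Cfsg.sympTransvection
  rw [Matrix.zero_vecMulVec, smul_zero, add_zero]

theorem zmod2_cases (c : ZMod 2) : c = 0 ∨ c = 1 := by
  revert c; decide

/-- the order of the symplectic group -/
theorem card_Sp6 : Nat.card Sp6 = 1451520 := by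
  have h := Cfsg.Agent.Lib.Helper14.card_symplectic (F := ZMod 2) 3
  rw [h, ZMod.card]
  decide

end Cfsg.Agent.Lib.Helper3.Cover.Sp6Num
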