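import Cfsg.Agent.Lib.Helper3.Cover.Finite
import Cfsg.Agent.Lib.Helper3.Cover.Lower
import Cfsg.Agent.Lib.Helper3.Cover.Sp6Num
import Cfsg.Agent.Lib.Helper3.Cover.Sp6Data
import Cfsg.Agent.Lib.Helper3.Cover.S64Low
import Cfsg.Agent.Lib.Helper3.Cover.PS6Main
import Cfsg.Agent.Lib.Helper3.Cover.PU3Main
import Cfsg.Agent.Lib.Helper28.TC2Tower

set_option autoImplicit false
set_option maxRecDepth 100000

/-!
# The presented group `PS6 = ⟨a, b, c | …⟩` is the symplectic group `Sp₆(2)`

The presented group has order at most `240 * 6048` (coset enumeration over `⟨a, b⟩`, a quotient of the presented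
group `PU3` of order 6048) and acts on the 64 coded vectors; in this action the generators are products of
transvections and every transvection is the image of a word, so the image is the image of the symplectic group.
-/

namespace Cfsg.Agent.Lib.Helper3.Cover.Sp6Iso

open Cfsg Cfsg.Agent.Lib.Helper3 Cfsg.Agent.Lib.Helper3.Cover.Sp6Num
open Cfsg.Agent.Lib.Helper28.TC2Upper Cfsg.Agent.Lib.Helper28.TC2Lower Cfsg.Agent.Lib.Helper28.TC2Glue
open Cfsg.Agent.Lib.Helper28.TC2Tower

/-- the covering data of the presentation of `U₃(3)` -/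
abbrev DU : CoverData EU3Def.Gen := EU3Def.cover
/-- the covering data of the presentation of `Sp₆(2)` -/
abbrev DS : CoverData ES6Def.Gen := ES6Def.cover

/-! ### the order of the presented group -/

theorem cardPU3 : Finite (PresentedGroup PU3Link.rels) ∧ Nat.card (PresentedGroup PU3Link.rels) = 6048 := by
  have h : ((Subgroup.closure PU3Link.S).map (PresentedGroup.mk PU3Link.rels)).index = 6048 := PU3Main.main.1
  have e : (Subgroup.closure PU3Link.S).map (PresentedGroup.mk PU3Link.rels) = ⊥ := by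
    show (Subgroup.closure {1}).map _ = ⊥
    rw [Subgroup.closure_singleton_one, Subgroup.map_bot]
  rw [e] at h
  exact card_of_index_bot (by norm_num) h

theorem upP : ∀ L ∈ EU3Def.R, upWord EU3Def.up L ∈ ES6Def.R := by decide +kernel

theorem hSPS6 : ∀ s ∈ PS6Link.S, ∃ b, s = FreeGroup.of (EU3Def.up b) := by
  intro s hs
  simp only [PS6Link.S, Set.mem_insert_iff, Set.mem_singleton_iff] at hs
  rcases hs with rfl | rfl
  exacts [⟨.a, rfl⟩, ⟨.b, rfl⟩]

theorem cardPS6' : Finite (PresentedGroup PS6Link.rels) ∧ Nat.card (PresentedGroup PS6Link.rels) ≤ 1451520 := by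
  haveI : Finite (PresentedGroup PU3Link.rels) := cardPU3.1
  have hrel := hrel_of_words PS6Link.rels PU3Link.rels EU3Def.up PS6Link.relWords PU3Link.relWords
    PS6Link.link.hrels PU3Link.link.hrels upP
  obtain ⟨hfin, hle⟩ := card_le_of_subpres PS6Link.rels PU3Link.rels EU3Def.up hrel PS6Link.S hSPS6
  have hidx : ((Subgroup.closure PS6Link.S).map (PresentedGroup.mk PS6Link.rels)).index = 240 := PS6Main.main.1
  have := hfin
  refine ⟨finite_of_index _ (by rw [hidx]; norm_num), ?_⟩
  exact card_le_of_index _ hidx (le_trans hle (le_of_eq cardPU3.2))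

theorem cardPS6 : Finite DS.P ∧ Nat.card DS.P ≤ 1451520 := cardPS6'

/-! ### the action on the coded vectors -/

theorem lwkS : ∀ xb, PS6Link.lw xb < S64Table.table.k := by
  rintro ⟨x, b⟩; cases x <;> cases b <;> decide
theorem lwinvS : ∀ x, PS6Link.lw (x, false) = S64Table.table.invl (PS6Link.lw (x, true)) := by
  intro x; cases x <;> decide +kernel
theorem hmemS : ∀ L ∈ ES6Def.R, pathOf PS6Link.lw L ∈ S64Table.chkPaths := by decide +kernel

theorem exists_sigma : ∃ σ : DS.P →* Equiv.Perm (Fin 64), ∀ (L : List (ES6Def.Gen × Bool)) (p : Fin 64),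
    (σ (PresentedGroup.mk _ (FreeGroup.mk L)) p).val = S64Table.table.walkT (pathOf PS6Link.lw L) p.val :=
  lower_hom ES6Def.R PS6Link.lw S64Table.table S64Low.hT lwkS lwinvS
    (fun L hL => S64Low.hchkT _ (hmemS L hL))

theorem tw_ok : ∀ w, w < 63 → ∀ p, p < 64 →
    S64Table.table.walkT (pathOf PS6Link.lw (Sp6Data.tw.getD w [])) p = transvN (w + 1) p := by
  decide +kernel

/-- composition of transvections on the codes -/
def compTv : List ℕ → ℕ → ℕ
  | [], p => p
  | w :: ws, p => transvN w (compTv ws p)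

theorem dec_ok :
    (∀ p, p < 64 → S64Table.table.walkT (pathOf PS6Link.lw [(.a, true)]) p = compTv Sp6Data.decA p) ∧
    (∀ p, p < 64 → S64Table.table.walkT (pathOf PS6Link.lw [(.b, true)]) p = compTv Sp6Data.decB p) ∧
    (∀ p, p < 64 → S64Table.table.walkT (pathOf PS6Link.lw [(.c, true)]) p = compTv Sp6Data.decC p) := by
  decide +kernel

theorem dec_lt : (∀ w ∈ Sp6Data.decA, w < 64) ∧ (∀ w ∈ Sp6Data.decB, w < 64) ∧
    (∀ w ∈ Sp6Data.decC, w < 64) := by decide

/-- the transvection of the vector with code `w` -/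
noncomputable def tv (w : ℕ) : Sp6 :=
  ⟨Cfsg.sympTransvection 3 (vdec w) (1 : ZMod 2), Cfsg.Agent.Lib.Helper5.sympTransvection_mem 3 _ _⟩

theorem rho_tv (w : ℕ) (hw : w < 64) (p : Fin 64) : (rho (tv w) p).val = transvN w p.val :=
  rho_transvection (tv w) w hw rfl p

theorem tv_zero : tv 0 = 1 := by
  apply Subtype.ext
  show Cfsg.sympTransvection 3 (vdec 0) (1 : ZMod 2) = 1
  rw [vdec_zero, transvection_vec_zero]

theorem rho_prod (ws : List ℕ) (hws : ∀ w ∈ ws, w < 64) (p : Fin 64) :
    (rho (ws.map tv).prod p).val = compTv ws p.val := by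
  induction ws with
  | nil => simp [compTv]
  | cons w ws ih =>
    rw [List.map_cons, List.prod_cons, map_mul, Equiv.Perm.mul_apply, rho_tv w (hws w List.mem_cons_self)]
    rw [ih (fun x hx => hws x (List.mem_cons_of_mem _ hx))]
    rfl

theorem of_eq_mk (x : ES6Def.Gen) :
    (PresentedGroup.of x : DS.P) = PresentedGroup.mk _ (FreeGroup.mk [(x, true)]) := rfl

/-- the presented group is the symplectic group -/
theorem iso_Sp6 : Nonempty (DS.P ≃* Sp6) := by
  haveI := cardPS6.1
  obtain ⟨σ, hσ⟩ := exists_sigma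
  -- every transvection lies in the image
  have h1 : ∀ w, w < 64 → rho (tv w) ∈ σ.range := by
    intro w hw
    rcases Nat.eq_zero_or_pos w with rfl | hpos
    · rw [tv_zero, map_one]; exact one_mem _
    · obtain ⟨k, rfl⟩ : ∃ k, w = k + 1 := ⟨w - 1, by omega⟩
      refine ⟨PresentedGroup.mk _ (FreeGroup.mk (Sp6Data.tw.getD k [])), ?_⟩
      ext p
      rw [hσ, rho_tv (k + 1) hw, tw_ok k (by omega) p.val p.2]
  have h2 : rho.range ≤ σ.range := by
    rw [MonoidHom.range_eq_map, ← Cfsg.Agent.Lib.Helper5.transvGroup_eq_top, Subgroup.map_le_iff_le_comap]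
    unfold Cfsg.Agent.Lib.Helper5.transvGroup
    rw [Subgroup.closure_le]
    rintro A ⟨v, c, hA⟩
    show rho A ∈ σ.range
    rcases zmod2_cases c with rfl | rfl
    · have : A = 1 := by
        apply Subtype.ext
        rw [hA, transvection_zero]; rfl
      rw [this, map_one]; exact one_mem _
    · have : A = tv (venc v) := by
        apply Subtype.ext
        rw [hA]
        show _ = Cfsg.sympTransvection 3 (vdec (venc v)) (1 : ZMod 2)
        rw [vdec_venc]
      rw [this]
      exact h1 _ (venc_lt v)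
  have h3 : σ.range ≤ rho.range := by
    rw [MonoidHom.range_eq_map, ← PresentedGroup.closure_range_of, MonoidHom.map_closure, Subgroup.closure_le]
    rintro _ ⟨_, ⟨x, rfl⟩, rfl⟩
    have key : ∀ (ws : List ℕ) (hws : ∀ w ∈ ws, w < 64),
        (∀ p, p < 64 → S64Table.table.walkT (pathOf PS6Link.lw [(x, true)]) p = compTv ws p) →
        σ (PresentedGroup.of x) ∈ rho.range := by
      intro ws hws hw
      refine ⟨(ws.map tv).prod, ?_⟩
      ext p
      rw [rho_prod ws hws, of_eq_mk, hσ, hw p.val p.2]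
    cases x
    · exact key _ dec_lt.1 dec_ok.1
    · exact key _ dec_lt.2.1 dec_ok.2.1
    · exact key _ dec_lt.2.2 dec_ok.2.2
  have h4 : σ.range = rho.range := le_antisymm h3 h2
  have h5 : Nat.card σ.range = 1451520 := by
    rw [h4, ← Nat.card_congr (MonoidHom.ofInjective rho_injective).toEquiv, card_Sp6]
  have h6 : Function.Bijective σ.rangeRestrict :=
    Function.Surjective.bijective_of_nat_card_le σ.rangeRestrict_surjective (by rw [h5]; exact cardPS6.2)
  exact ⟨(MulEquiv.ofBijective _ h6).trans ((MulEquiv.subgroupCongr h4).trans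
    (MonoidHom.ofInjective rho_injective).symm)⟩

theorem cardPS6_eq : Nat.card DS.P = 1451520 := by
  obtain ⟨φ⟩ := iso_Sp6
  rw [Nat.card_congr φ.toEquiv, card_Sp6]

end Cfsg.Agent.Lib.Helper3.Cover.Sp6Iso
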