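import Cfsg.Agent.Lib.Helper19.U43Main
import Cfsg.Agent.Lib.Helper3.Cover.EU4Def

set_option autoImplicit false
set_option maxRecDepth 100000

/-!
# Matrices in `SU₄(3)` satisfying the relators of the presentation `PU4` modulo scalars
-/

namespace Cfsg.Agent.Lib.Helper3.Cover.U43Mat

open Cfsg Cfsg.Agent.Lib.Helper19.PSU33Spec Cfsg.Agent.Lib.Helper19.U43Model Cfsg.Agent.Lib.Helper19.U43Main

def MA : M4 := !![⟨1, 0⟩, ⟨0, 0⟩, ⟨0, 0⟩, ⟨0, 0⟩; ⟨0, 0⟩, ⟨2, 0⟩, ⟨0, 0⟩, ⟨0, 0⟩; ⟨0, 0⟩, ⟨0, 0⟩, ⟨2, 0⟩, ⟨0, 0⟩; ⟨0, 0⟩, ⟨0, 0⟩, ⟨0, 0⟩, ⟨1, 0⟩]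
def MB : M4 := !![⟨0, 2⟩, ⟨2, 0⟩, ⟨2, 1⟩, ⟨0, 0⟩; ⟨0, 1⟩, ⟨1, 1⟩, ⟨0, 2⟩, ⟨0, 0⟩; ⟨2, 2⟩, ⟨0, 1⟩, ⟨1, 0⟩, ⟨0, 0⟩; ⟨0, 0⟩, ⟨0, 0⟩, ⟨0, 0⟩, ⟨1, 0⟩]
def MBi : M4 := !![⟨0, 1⟩, ⟨0, 2⟩, ⟨2, 1⟩, ⟨0, 0⟩; ⟨2, 0⟩, ⟨1, 2⟩, ⟨0, 2⟩, ⟨0, 0⟩; ⟨2, 2⟩, ⟨0, 1⟩, ⟨1, 0⟩, ⟨0, 0⟩; ⟨0, 0⟩, ⟨0, 0⟩, ⟨0, 0⟩, ⟨1, 0⟩]
def MC : M4 := !![⟨2, 0⟩, ⟨0, 0⟩, ⟨0, 0⟩, ⟨0, 0⟩; ⟨0, 0⟩, ⟨1, 0⟩, ⟨0, 0⟩, ⟨0, 0⟩; ⟨0, 0⟩, ⟨0, 0⟩, ⟨0, 0⟩, ⟨1, 0⟩; ⟨0, 0⟩, ⟨0, 0⟩, ⟨1, 0⟩, ⟨0, 0⟩]
def MD : M4 := !![⟨1, 0⟩, ⟨0, 0⟩, ⟨0, 0⟩, ⟨0, 0⟩; ⟨0, 0⟩, ⟨1, 0⟩, ⟨0, 0⟩, ⟨0, 0⟩; ⟨0, 0⟩, ⟨0, 0⟩, ⟨0, 1⟩, ⟨0, 0⟩; ⟨0, 0⟩, ⟨0, 0⟩, ⟨0, 0⟩, ⟨0, 2⟩]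

theorem det_MA : MA.det = 1 := by decide +kernel
theorem det_MB : MB.det = 1 := by decide +kernel
theorem det_MC : MC.det = 1 := by decide +kernel
theorem det_MD : MD.det = 1 := by decide +kernel
theorem uni_MA : MA.transpose * MA.map (fun x => x ^ 3) = 1 := by decide +kernel
theorem uni_MB : MB.transpose * MB.map (fun x => x ^ 3) = 1 := by decide +kernel
theorem uni_MC : MC.transpose * MC.map (fun x => x ^ 3) = 1 := by decide +kernel
theorem uni_MD : MD.transpose * MD.map (fun x => x ^ 3) = 1 := by decide +kernel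
theorem MA_sq : MA * MA = 1 := by decide +kernel
theorem MB_inv : MB * MBi = 1 := by decide +kernel
theorem MC_sq : MC * MC = 1 := by decide +kernel

/-- the generators -/
def gA : S9 := mkSU MA det_MA uni_MA
def gB : S9 := mkSU MB det_MB uni_MB
def gC : S9 := mkSU MC det_MC uni_MC
def gD : S9 := mkSU MD det_MD uni_MD

/-- the generators -/
def gen : EU4Def.Gen → S9
  | .a => gA
  | .b => gB
  | .c => gC

/-- the matrix of a letter -/
def letterMat : EU4Def.Gen × Bool → M4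
  | (.a, _) => MA
  | (.b, true) => MB
  | (.b, false) => MBi
  | (.c, _) => MC

/-- the matrix of a word -/
def evalW (L : List (EU4Def.Gen × Bool)) : M4 := (L.map letterMat).prod

theorem val_inv_eq {x : S9} {N : M4} (h : val x * N = 1) : val x⁻¹ = N := by
  have h1 : val x⁻¹ * (val x * N) = val x⁻¹ := by rw [h, mul_one]
  rw [← mul_assoc, val_inv_mul, one_mul] at h1
  exact h1.symm

theorem val_letter (p : EU4Def.Gen × Bool) :
    val (FreeGroup.lift gen (FreeGroup.mk [p])) = letterMat p := by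
  obtain ⟨x, b⟩ := p
  cases b
  · have e : (FreeGroup.mk [(x, false)] : FreeGroup EU4Def.Gen) = (FreeGroup.of x)⁻¹ := by
      rw [FreeGroup.of, FreeGroup.inv_mk]; rfl
    rw [e, map_inv, FreeGroup.lift_apply_of]
    cases x
    · exact val_inv_eq MA_sq
    · exact val_inv_eq MB_inv
    · exact val_inv_eq MC_sq
  · have e : (FreeGroup.mk [(x, true)] : FreeGroup EU4Def.Gen) = FreeGroup.of x := rfl
    rw [e, FreeGroup.lift_apply_of]
    cases x <;> rfl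

theorem val_lift (L : List (EU4Def.Gen × Bool)) :
    val (FreeGroup.lift gen (FreeGroup.mk L)) = evalW L := by
  induction L with
  | nil =>
    have : (FreeGroup.mk ([] : List (EU4Def.Gen × Bool))) = 1 := rfl
    rw [this, map_one]
    rfl
  | cons p L ih =>
    have h : (FreeGroup.mk (p :: L) : FreeGroup EU4Def.Gen) = FreeGroup.mk [p] * FreeGroup.mk L := by
      rw [FreeGroup.mul_mk]; rfl
    rw [h, map_mul, val_mul, ih, val_letter]
    unfold evalW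
    rw [List.map_cons, List.prod_cons]

/-- the relators are scalar matrices -/
theorem rel_scalar : ∀ L ∈ EU4Def.R, evalW L = (evalW L 0 0) • (1 : M4) := by decide +kernel

/-- an element whose matrix is scalar is central -/
theorem mem_center_of_scalar (z : S9) (s : K9) (hz : val z = s • (1 : M4)) : z ∈ Subgroup.center S9 := by
  rw [Subgroup.mem_center_iff]
  intro g
  apply val_injective
  rw [val_mul, val_mul, hz, mul_smul_comm, smul_mul_assoc, mul_one, one_mul]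

theorem lift_rel_mem_center (L : List (EU4Def.Gen × Bool)) (hL : L ∈ EU4Def.R) :
    FreeGroup.lift gen (FreeGroup.mk L) ∈ Subgroup.center S9 :=
  mem_center_of_scalar _ _ ((val_lift L).trans (rel_scalar L hL))

/-! ### the stabiliser of the last coordinate line -/

/-- the elements whose last column is a multiple of the last basis vector -/
def LineStab : Subgroup S9 where
  carrier := {x | ∀ i : Fin 4, i ≠ 3 → val x i 3 = 0}
  one_mem' := by
    intro i hi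
    rw [val_one, Matrix.one_apply_ne hi]
  mul_mem' := by
    intro x y hx hy i hi
    rw [val_mul, Matrix.mul_apply, Fin.sum_univ_four, hy 0 (by decide), hy 1 (by decide), hy 2 (by decide),
      hx i hi]
    simp
  inv_mem' := by
    intro x hx i hi
    have h1 : (val x⁻¹ * val x) i 3 = 0 := by rw [val_inv_mul, Matrix.one_apply_ne hi]
    have h2 : (val x⁻¹ * val x) 3 3 = 1 := by rw [val_inv_mul, Matrix.one_apply_eq]
    rw [Matrix.mul_apply, Fin.sum_univ_four, hx 0 (by decide), hx 1 (by decide), hx 2 (by decide)] at h1 h2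
    simp only [mul_zero, zero_add] at h1 h2
    have h3 : val x 3 3 ≠ 0 := by
      intro h0
      rw [h0, mul_zero] at h2
      exact zero_ne_one h2
    exact (mul_eq_zero.mp h1).resolve_right h3

theorem mem_LineStab (x : S9) : x ∈ LineStab ↔ ∀ i : Fin 4, i ≠ 3 → val x i 3 = 0 := Iff.rfl

theorem gA_mem : gA ∈ LineStab := by
  intro i hi
  show MA i 3 = 0
  revert i; decide +kernel

theorem gB_mem : gB ∈ LineStab := by
  intro i hi
  show MB i 3 = 0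
  revert i; decide +kernel

theorem gC_not_mem : gC ∉ LineStab := by
  intro h
  have := h 2 (by decide)
  have h2 : MC 2 3 = 0 := this
  revert h2; decide +kernel

theorem MD_diag' : ∀ p : Fin 4 × Fin 4, p.1 ≠ p.2 → MD p.1 p.2 = 0 := by decide +kernel
theorem MD_diag (i j : Fin 4) (h : i ≠ j) : MD i j = 0 := MD_diag' (i, j) h
theorem MD_ne : ∀ i : Fin 4, i ≠ 3 → MD 3 3 - MD i i ≠ 0 := by decide +kernel

/-- the centre fixes the last coordinate line -/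
theorem center_le_LineStab : Subgroup.center S9 ≤ LineStab := by
  intro z hz i hi
  have h := Subgroup.mem_center_iff.mp hz gD
  have h1 := congrArg val h
  rw [val_mul, val_mul] at h1
  have h2 := congrFun (congrFun h1 i) 3
  have hD : val gD = MD := rfl
  rw [hD, Matrix.mul_apply, Matrix.mul_apply, Fin.sum_univ_four, Fin.sum_univ_four] at h2
  -- left: sum_j MD i j * z j 3 = MD i i * z i 3 ; right: sum_j z i j * MD j 3 = z i 3 * MD 3 3
  have e1 : MD i 0 * val z 0 3 + MD i 1 * val z 1 3 + MD i 2 * val z 2 3 + MD i 3 * val z 3 3 =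
      MD i i * val z i 3 := by
    fin_cases i
    · simp [MD_diag 0 1 (by decide), MD_diag 0 2 (by decide), MD_diag 0 3 (by decide)]
    · simp [MD_diag 1 0 (by decide), MD_diag 1 2 (by decide), MD_diag 1 3 (by decide)]
    · simp [MD_diag 2 0 (by decide), MD_diag 2 1 (by decide), MD_diag 2 3 (by decide)]
    · exact absurd rfl hi
  have e2 : val z i 0 * MD 0 3 + val z i 1 * MD 1 3 + val z i 2 * MD 2 3 + val z i 3 * MD 3 3 =
      val z i 3 * MD 3 3 := by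
    simp [MD_diag 0 3 (by decide), MD_diag 1 3 (by decide), MD_diag 2 3 (by decide)]
  rw [e1, e2] at h2
  have h3 : val z i 3 * (MD 3 3 - MD i i) = 0 := by
    rw [mul_sub, ← h2, mul_comm]
    exact sub_self _
  exact (mul_eq_zero.mp h3).resolve_right (MD_ne i hi)

end Cfsg.Agent.Lib.Helper3.Cover.U43Mat
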