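import Cfsg.Agent.Lib.Helper28.TC2Tower
import Cfsg.Agent.Lib.Helper28.TC2Simple
import Cfsg.Agent.Lib.Helper28.TC2Bsgs
import Cfsg.Agent.Lib.Helper3.TCX.Max
import Cfsg.Agent.Lib.Helper3.Cover.Finite
import Cfsg.Agent.Lib.Helper3.Cover.Lower
import Cfsg.Agent.Lib.Helper3.Cover.Sp6Iso
import Cfsg.Agent.Lib.Helper3.Cover.U43Mat
import Cfsg.Agent.Lib.Helper3.Cover.PU4Main
import Cfsg.Agent.Lib.Helper3.Cover.PU4BSMain
import Cfsg.Agent.Lib.Helper3.Cover.PU4OrbChk

set_option autoImplicit false
set_option maxRecDepth 100000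

/-!
# The presented group `PU4 = ⟨a, b, c | …⟩` is the unitary group `PSU₄(3)`

The presented group has order at most `540 * 6048` (coset enumeration over `⟨a, b⟩`, a quotient of the presented group
`PU3 ≅ U₃(3)`); its permutation group on the 540 cosets has order at least `3265920` (transversals of a chain of
stabilisers), so the presented group has this order and acts faithfully; the subgroup `⟨a, b⟩` is maximal (suborbits
of lengths 1, 63, 224, 252).  The generators map to matrices in `SU₄(3)` satisfying the relators modulo scalars; the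
kernel of the resulting map to `PSU₄(3)` lies in the preimage of a line stabiliser, which is `⟨a, b⟩`, so it is
trivial.
-/

namespace Cfsg.Agent.Lib.Helper3.Cover.U43Iso

open Cfsg Cfsg.Agent.Lib.Helper3 Cfsg.Agent.Lib.Helper3.Cover.Sp6Iso Cfsg.Agent.Lib.Helper3.TCX
open Cfsg.Agent.Lib.Helper28.TC2Upper Cfsg.Agent.Lib.Helper28.TC2Lower Cfsg.Agent.Lib.Helper28.TC2Orbit
open Cfsg.Agent.Lib.Helper28.TC2Glue Cfsg.Agent.Lib.Helper28.TC2GlueOrb Cfsg.Agent.Lib.Helper28.TC2Simple
open Cfsg.Agent.Lib.Helper28.TC2Bsgs Cfsg.Agent.Lib.Helper28.TC2Tower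
open Cfsg.Agent.Lib.Helper3.Cover.PU4Table Cfsg.Agent.Lib.Helper3.Cover.PU4Link
open Cfsg.Agent.Lib.Helper3.Cover.PU4Orb Cfsg.Agent.Lib.Helper3.Cover.PU4OrbChk
open Cfsg.Agent.Lib.Helper19.PSU33Spec Cfsg.Agent.Lib.Helper19.U43Model Cfsg.Agent.Lib.Helper19.U43Main
open Cfsg.Agent.Lib.Helper3.Cover.U43Mat

/-- the covering data of the presentation of `PSU₄(3)` -/
abbrev DU4 : CoverData EU4Def.Gen := EU4Def.cover

/-- the generators of `U₃(3)` as generators of `PSU₄(3)` -/
def up : EU3Def.Gen → EU4Def.Gen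
  | .a => .a
  | .b => .b

/-! ### the order of the presented group -/

theorem upP : ∀ L ∈ EU3Def.R, upWord up L ∈ EU4Def.R := by decide +kernel

theorem hSPU4 : ∀ s ∈ PU4Link.S, ∃ b, s = FreeGroup.of (up b) := by
  intro s hs
  simp only [PU4Link.S, Set.mem_insert_iff, Set.mem_singleton_iff] at hs
  rcases hs with rfl | rfl
  exacts [⟨.a, rfl⟩, ⟨.b, rfl⟩]

theorem cardPU4' : Finite (PresentedGroup PU4Link.rels) ∧ Nat.card (PresentedGroup PU4Link.rels) ≤ 3265920 := by
  haveI : Finite (PresentedGroup PU3Link.rels) := cardPU3.1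
  have hrel := hrel_of_words PU4Link.rels PU3Link.rels up PU4Link.relWords PU3Link.relWords
    PU4Link.link.hrels PU3Link.link.hrels upP
  obtain ⟨hfin, hle⟩ := card_le_of_subpres PU4Link.rels PU3Link.rels up hrel PU4Link.S hSPU4
  have hidx : ((Subgroup.closure PU4Link.S).map (PresentedGroup.mk PU4Link.rels)).index = 540 := PU4Main.main.1
  have := hfin
  refine ⟨finite_of_index _ (by rw [hidx]; norm_num), ?_⟩
  exact card_le_of_index _ hidx (le_trans hle (le_of_eq cardPU3.2))

/-- the presented group -/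
abbrev P : Type := PresentedGroup PU4Link.rels

/-- the subgroup generated by `a` and `b` -/
noncomputable abbrev H : Subgroup P := (Subgroup.closure PU4Link.S).map (PresentedGroup.mk PU4Link.rels)

/-- the suborbit lengths -/
def cnt (c : ℕ) : ℕ := [1, 63, 224, 252].getD c 0

theorem harith : ∀ C ∈ (Finset.range 4).powerset, (∑ c ∈ C, cnt c) ∣ 540 →
    (∑ c ∈ C, cnt c) = 1 ∨ (∑ c ∈ C, cnt c) = 540 := by decide +kernel

theorem hcnt : ∀ c, c < 4 → (Finset.univ.filter fun p : Fin table.n => orbData.oid p.val = c).card = cnt c := by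
  intro c hc
  have h := ncard_class orbData table.n c
  have e : {q : Fin table.n | orbData.oid q.val = c} =
      ↑(Finset.univ.filter fun p : Fin table.n => orbData.oid p.val = c) := by
    ext q; simp
  rw [e, Set.ncard_coe_finset] at h
  rw [h]
  interval_cases c
  · exact cntc0
  · exact cntc1
  · exact cntc2
  · exact cntc3

/-- the presented group has order 3265920, the subgroup `⟨a, b⟩` is core-free and maximal -/
theorem struct : Nat.card P = 3265920 ∧ (H.normalCore = ⊥) ∧ H ≠ ⊤ ∧ (∀ K : Subgroup P, H ≤ K → K = H ∨ K = ⊤) := by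
  obtain ⟨hidx, φ, hφ, f, hbij, hequiv, h0⟩ := PU4Main.main
  obtain ⟨hfin, hle⟩ := cardPU4'
  haveI : Finite (PresentedGroup rels) := hfin
  have hlow : 3265920 ≤ Nat.card φ.range :=
    le_trans PU4BSMain.card_base (card_baseGroup_le PU4Main.hT PU4BSMain.hTB rfl (by decide)
      PU4BSMain.hagree φ.range (sigma_mem_range link PU4Main.hT φ hφ))
  obtain ⟨hinj, hcard⟩ := injective_of_card_le φ hle hlow
  have hidx' : ((Subgroup.closure S).map (PresentedGroup.mk rels)).index = 540 := hidx
  have hcore := normalCore_eq_bot _ φ f hbij.2 hequiv hinj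
  have hne : (Subgroup.closure S).map (PresentedGroup.mk rels) ≠ ⊤ := by
    intro e
    rw [e, Subgroup.index_top] at hidx'
    norm_num at hidx'
  have hgens' := BT.All_of_all (fun _ h => of_decide_eq_true h) _ hgens
  have hmax : ∀ K : Subgroup (PresentedGroup rels), (Subgroup.closure S).map (PresentedGroup.mk rels) ≤ K →
      K = (Subgroup.closure S).map (PresentedGroup.mk rels) ∨ K = ⊤ :=
    max_of_suborbits _ PU4Main.hn φ f hbij hequiv (fun q => orbData.oid q.val) 4
      (fun p => hclsAll p.val p.2)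
      (fun p q hpq => exists_perm_of_oid_eq link PU4Main.hT φ hφ orbData subPaths hsubmem hsubmem' hclosed
        hgens' hconn p q hpq)
      cnt hcnt harith
  exact ⟨hcard, hcore, hne, hmax⟩

/-! ### the map to the unitary group -/

/-- the images of the generators in `PSU₄(3)` -/
def genP (x : EU4Def.Gen) : PSU 4 K9 3 := QuotientGroup.mk (gen x)

theorem lift_genP (w : FreeGroup EU4Def.Gen) :
    FreeGroup.lift genP w = QuotientGroup.mk (FreeGroup.lift gen w) := by
  have h : FreeGroup.lift genP = (QuotientGroup.mk' (Subgroup.center S9)).comp (FreeGroup.lift gen) := by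
    apply FreeGroup.ext_hom
    intro x
    rw [FreeGroup.lift_apply_of, MonoidHom.comp_apply, FreeGroup.lift_apply_of]
    rfl
  rw [h]
  rfl

theorem hrelP : ∀ r ∈ PU4Link.rels, FreeGroup.lift genP r = 1 := by
  intro r hr
  obtain ⟨L, hL, rfl⟩ := hr
  rw [lift_genP]
  exact (QuotientGroup.eq_one_iff _).mpr (lift_rel_mem_center L hL)

/-- the map from the presented group to `PSU₄(3)` -/
noncomputable def phi : P →* PSU 4 K9 3 := PresentedGroup.toGroup hrelP

theorem phi_of (x : EU4Def.Gen) : phi (PresentedGroup.of x) = QuotientGroup.mk (gen x) :=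
  PresentedGroup.toGroup.of hrelP

/-- the image of the line stabiliser in `PSU₄(3)` -/
noncomputable def LS : Subgroup (PSU 4 K9 3) := LineStab.map (QuotientGroup.mk' (Subgroup.center S9))

theorem mk_mem_LS (g : S9) : (QuotientGroup.mk g : PSU 4 K9 3) ∈ LS ↔ g ∈ LineStab := by
  constructor
  · rintro ⟨y, hy, hyg⟩
    have h1 : y⁻¹ * g ∈ Subgroup.center S9 := QuotientGroup.eq.mp hyg
    have h2 : y * (y⁻¹ * g) ∈ LineStab := LineStab.mul_mem hy (center_le_LineStab h1)
    rwa [mul_inv_cancel_left] at h2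
  · intro hg
    exact ⟨g, hg, rfl⟩

theorem H_le : H ≤ LS.comap phi := by
  rw [Subgroup.map_le_iff_le_comap, Subgroup.closure_le]
  intro s hs
  simp only [PU4Link.S, Set.mem_insert_iff, Set.mem_singleton_iff] at hs
  rcases hs with rfl | rfl
  · show phi (PresentedGroup.of .a) ∈ LS
    rw [phi_of, mk_mem_LS]
    exact gA_mem
  · show phi (PresentedGroup.of .b) ∈ LS
    rw [phi_of, mk_mem_LS]
    exact gB_mem

theorem comap_ne_top : LS.comap phi ≠ ⊤ := by
  intro e
  have h : (PresentedGroup.of EU4Def.Gen.c : P) ∈ LS.comap phi := by rw [e]; exact Subgroup.mem_top _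
  rw [Subgroup.mem_comap, phi_of, mk_mem_LS] at h
  exact gC_not_mem h

theorem phi_injective : Function.Injective phi := by
  obtain ⟨-, hcore, -, hmax⟩ := struct
  rw [← MonoidHom.ker_eq_bot_iff, eq_bot_iff, ← hcore]
  apply Subgroup.normal_le_normalCore.mpr
  have hS : LS.comap phi = H := (hmax _ H_le).resolve_right comap_ne_top
  rw [← hS]
  intro x hx
  rw [Subgroup.mem_comap, MonoidHom.mem_ker.mp hx]
  exact LS.one_mem

/-- the presented group is `PSU₄(3)` -/
theorem iso_PSU : Nonempty (DU4.P ≃* PSU 4 K9 3) := by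
  haveI : Finite P := cardPU4'.1
  haveI : Finite (PSU 4 K9 3) := Nat.finite_of_card_ne_zero (by rw [card_PSU43]; norm_num)
  have hbij : Function.Bijective phi := by
    rw [Nat.bijective_iff_injective_and_card]
    exact ⟨phi_injective, by rw [struct.1, card_PSU43]⟩
  exact ⟨MulEquiv.ofBijective phi hbij⟩

theorem cardPU4 : Finite DU4.P ∧ Nat.card DU4.P = 3265920 := ⟨cardPU4'.1, struct.1⟩

end Cfsg.Agent.Lib.Helper3.Cover.U43Iso
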