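import Cfsg.Agent.Lib.Helper28.U6Bfs
import Cfsg.Agent.Lib.Helper28.U6Card
import Cfsg.Agent.Lib.Helper28.TC2Tower
import Cfsg.Agent.Lib.Helper28.TC2Subst
import Cfsg.Agent.Lib.Helper3.Cover.Finite
import Cfsg.Agent.Lib.Helper3.Cover.U43Iso
import Cfsg.Agent.Lib.Helper3.Cover.PU6Main

set_option autoImplicit false
set_option maxRecDepth 100000

/-!
# The presented group `PU6 = ⟨a, b, c, t, d | …⟩` is the unitary group `PSU₆(2)`

The generators `a, b, c` satisfy the presentation of `PSU₄(3)`, the generator `t` normalises the subgroup they generate,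
and the subgroup `⟨a, b, c⟩` has index 2816, so the presented group has order at most `2816 * 3265920 = |PSU₆(2)|`.
The generators are mapped to products of unitary transvections of `F₄⁶` (in the coded model of helper28), the relators
are scalar matrices, and the images generate: this gives an isomorphism.
-/

namespace Cfsg.Agent.Lib.Helper3.Cover.U62Iso

open Cfsg Cfsg.Agent.Lib.Helper3 Cfsg.Agent.Lib.Helper3.Cover.U43Iso
open Cfsg.Agent.Lib.Helper28.TC2Tower Cfsg.Agent.Lib.Helper28.TC2Subst
open Cfsg.Agent.Lib.Helper28.U6F4 Cfsg.Agent.Lib.Helper28.U6Vec Cfsg.Agent.Lib.Helper5.SUGen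

/-- the covering data of the presentation of `PSU₆(2)` -/
abbrev DU6 : CoverData EU6Def.Gen := EU6Def.cover

/-- the generators of `PSU₄(3)` as generators of `PSU₆(2)` -/
def up : EU4Def.Gen → EU6Def.Gen
  | .a => .a
  | .b => .b
  | .c => .c

/-! ### the order of the presented group -/

theorem upP : ∀ L ∈ EU4Def.R, upWord up L ∈ EU6Def.R := by decide +kernel

theorem hSPU6 : ∀ s ∈ PU6Link.S, ∃ b, s = FreeGroup.of (up b) := by
  intro s hs
  simp only [PU6Link.S, Set.mem_insert_iff, Set.mem_singleton_iff] at hs
  rcases hs with rfl | rfl | rfl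
  exacts [⟨.a, rfl⟩, ⟨.b, rfl⟩, ⟨.c, rfl⟩]

theorem cardPU6' : Finite (PresentedGroup PU6Link.rels) ∧ Nat.card (PresentedGroup PU6Link.rels) ≤ 9196830720 := by
  haveI : Finite (PresentedGroup PU4Link.rels) := cardPU4.1
  have hrel := hrel_of_words PU6Link.rels PU4Link.rels up PU6Link.relWords PU4Link.relWords
    PU6Link.link.hrels PU4Link.link.hrels upP
  obtain ⟨hfin, hle⟩ := card_le_of_subpres PU6Link.rels PU4Link.rels up hrel PU6Link.S hSPU6
  have hidx : ((Subgroup.closure PU6Link.S).map (PresentedGroup.mk PU6Link.rels)).index = 2816 := PU6Main.main.1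
  have := hfin
  refine ⟨finite_of_index _ (by rw [hidx]; norm_num), ?_⟩
  exact card_le_of_index _ hidx (le_trans hle (le_of_eq cardPU4.2))

/-- the presented group -/
abbrev P : Type := PresentedGroup PU6Link.rels

/-! ### the map to the unitary group -/

/-- the codes of the centres of the transvections whose product is a generator -/
def vc : EU6Def.Gen → List ℕ
  | .a => [1621, 2836]
  | .b => [965, 2101, 3033, 2677]
  | .c => [109, 1445]
  | .t => [3792]
  | .d => [2852]

/-- the codes of a letter -/
def lc (p : EU6Def.Gen × Bool) : List ℕ := if p.2 then vc p.1 else (vc p.1).reverse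

/-- the codes of a word -/
def wc (L : List (EU6Def.Gen × Bool)) : List ℕ := (L.map lc).flatten

/-- all the codes used -/
def allCodes : List ℕ := [1621, 2836, 965, 2101, 3033, 2677, 109, 1445, 3792, 2852]

theorem vc_sub (x : EU6Def.Gen) : ∀ p ∈ vc x, p ∈ allCodes := by
  cases x <;> decide

theorem iso_all : ∀ p ∈ allCodes, hN p p = 0 := by decide

theorem sq_all : ∀ p ∈ allCodes, ∀ j ∈ List.range 6, walkN [p, p] (4 ^ j) = 4 ^ j := by decide +kernel

theorem tv_sq (p : ℕ) (hp : p ∈ allCodes) : tv p * tv p = 1 := by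
  apply av_ext
  intro y
  rw [av_one]
  have h := scalar_of_basis (tv p * tv p) 1 (by
    intro j
    rw [← dec_basis j]
    have h1 := av_prod [p, p] (by
      intro q hq
      simp only [List.mem_cons, List.not_mem_nil, or_false, or_self] at hq
      rw [hq]; exact iso_all p hp) (4 ^ j.val)
    simp only [List.map_cons, List.map_nil, List.prod_cons, List.prod_nil, mul_one] at h1
    rw [h1, sq_all p hp j.val (List.mem_range.mpr j.2), one_smul]) y
  rw [h, one_smul]

theorem tv_inv (p : ℕ) (hp : p ∈ allCodes) : (tv p)⁻¹ = tv p :=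
  inv_eq_of_mul_eq_one_left (tv_sq p hp)

/-- the image of a generator in `SU₆(2)` -/
noncomputable def sgen (x : EU6Def.Gen) : SU6 := ((vc x).map tv).prod

/-- the image of a generator in `PSU₆(2)` -/
noncomputable def fgen (x : EU6Def.Gen) : Cfsg.PSU 6 F4 2 := QuotientGroup.mk (sgen x)

theorem prod_reverse_of (l : List ℕ) (hl : ∀ p ∈ l, p ∈ allCodes) :
    ((l.map tv).prod)⁻¹ = (l.reverse.map tv).prod := by
  induction l with
  | nil => simp
  | cons p l ih =>
    rw [List.map_cons, List.prod_cons, mul_inv_rev, ih (fun q hq => hl q (List.mem_cons_of_mem _ hq)),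
      tv_inv p (hl p List.mem_cons_self), List.reverse_cons, List.map_append, List.prod_append]
    simp

theorem lift_sgen_mk (L : List (EU6Def.Gen × Bool)) :
    FreeGroup.lift sgen (FreeGroup.mk L) = ((wc L).map tv).prod := by
  induction L with
  | nil => rfl
  | cons xb L ih =>
    have e : FreeGroup.mk (xb :: L) = FreeGroup.mk [xb] * FreeGroup.mk L := by
      rw [FreeGroup.mul_mk]; rfl
    rw [e, map_mul, ih]
    have e2 : wc (xb :: L) = lc xb ++ wc L := by
      unfold wc
      rw [List.map_cons, List.flatten_cons]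
    rw [e2, List.map_append, List.prod_append]
    congr 1
    obtain ⟨x, s⟩ := xb
    cases s with
    | true =>
      have e1 : FreeGroup.mk [(x, true)] = FreeGroup.of x := rfl
      rw [e1, FreeGroup.lift_apply_of]
      rfl
    | false =>
      have e1 : FreeGroup.mk [(x, false)] = (FreeGroup.of x)⁻¹ := by
        show _ = (FreeGroup.mk [(x, true)])⁻¹
        rw [FreeGroup.inv_mk]; rfl
      rw [e1, map_inv, FreeGroup.lift_apply_of]
      show ((vc x).map tv).prod⁻¹ = ((vc x).reverse.map tv).prod
      exact prod_reverse_of _ (vc_sub x)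

theorem lift_fgen (w : FreeGroup EU6Def.Gen) :
    FreeGroup.lift fgen w = QuotientGroup.mk (FreeGroup.lift sgen w) := by
  have h : FreeGroup.lift fgen = (QuotientGroup.mk' (Subgroup.center SU6)).comp (FreeGroup.lift sgen) := by
    apply FreeGroup.ext_hom
    intro x
    rw [FreeGroup.lift_apply_of, MonoidHom.comp_apply, FreeGroup.lift_apply_of]
    rfl
  rw [h]
  rfl

theorem wc_iso (L : List (EU6Def.Gen × Bool)) : ∀ p ∈ wc L, hN p p = 0 := by
  intro p hp
  unfold wc at hp
  rw [List.mem_flatten] at hp
  obtain ⟨l, hl, hpl⟩ := hp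
  rw [List.mem_map] at hl
  obtain ⟨xb, -, rfl⟩ := hl
  apply iso_all
  apply vc_sub xb.1
  unfold lc at hpl
  split at hpl
  · exact hpl
  · exact List.mem_reverse.mp hpl

/-- the check that a list of transvections acts as a scalar -/
def scalChk (ps : List ℕ) : Bool :=
  [1, 2, 3].any (fun cN => (List.range 6).all (fun j => walkN ps (4 ^ j) == smN cN (4 ^ j)))

theorem mk_eq_one_of_chk (ps : List ℕ) (hps : ∀ p ∈ ps, hN p p = 0) (h : scalChk ps = true) :
    (QuotientGroup.mk ((ps.map tv).prod) : Cfsg.PSU 6 F4 2) = 1 := by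
  unfold scalChk at h
  rw [List.any_eq_true] at h
  obtain ⟨cN, hcN, h2⟩ := h
  have hlt : cN < 4 := by
    simp only [List.mem_cons, List.not_mem_nil, or_false] at hcN
    omega
  apply mk_eq_one_of_scalar _ (toF4 cN)
  apply scalar_of_basis
  intro j
  rw [← dec_basis j, av_prod ps hps, ← dec_smN cN _ hlt]
  have := List.all_eq_true.mp h2 j.val (List.mem_range.mpr j.2)
  rw [beq_iff_eq] at this
  rw [this]

theorem relChk_all : ∀ L ∈ EU6Def.R, scalChk (wc L) = true := by decide +kernel

theorem hrelP : ∀ r ∈ PU6Link.rels, FreeGroup.lift fgen r = 1 := by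
  intro r hr
  obtain ⟨L, hL, rfl⟩ := hr
  rw [lift_fgen, lift_sgen_mk]
  exact mk_eq_one_of_chk _ (wc_iso L) (relChk_all L hL)

/-- the map from the presented group to `PSU₆(2)` -/
noncomputable def phi : P →* Cfsg.PSU 6 F4 2 := PresentedGroup.toGroup hrelP

theorem phi_mk (L : List (EU6Def.Gen × Bool)) :
    phi (PresentedGroup.mk PU6Link.rels (FreeGroup.mk L)) = QuotientGroup.mk (((wc L).map tv).prod) := by
  show FreeGroup.lift fgen (FreeGroup.mk L) = _
  rw [lift_fgen, lift_sgen_mk]

/-- words for the generating transvections -/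
def genWords : List (ℕ × List (EU6Def.Gen × Bool)) := [
  (2457, [(.b, false), (.c, true), (.b, false), (.a, true), (.d, true), (.a, true), (.b, true), (.c, true), (.b, true)]),
  (1280, [(.a, true), (.d, true), (.a, true), (.c, true), (.a, true), (.d, true), (.c, true), (.b, true), (.c, true), (.a, true), (.b, true), (.c, true), (.b, true), (.c, true), (.b, true), (.b, true), (.a, true), (.b, true), (.c, true), (.b, false), (.t, true)]),
  (2304, [(.c, true), (.b, true), (.a, true), (.b, true), (.d, true), (.b, false), (.a, true), (.b, false), (.c, true)]),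
  (1360, [(.b, true), (.a, true), (.b, true), (.b, true), (.a, true), (.b, false), (.c, true), (.b, true), (.a, true), (.b, false), (.a, true), (.c, true), (.b, false), (.a, true), (.b, false), (.c, true), (.t, true)]),
  (153, [(.b, false), (.c, true), (.b, false), (.a, true), (.b, false), (.d, true), (.b, true), (.a, true), (.b, true), (.c, true), (.b, true)]),
  (2448, [(.a, true), (.d, true), (.b, true), (.a, true), (.b, false), (.d, true), (.a, true), (.b, true), (.a, true), (.b, true), (.a, true), (.b, false), (.b, false), (.c, true), (.b, false), (.c, true), (.b, true), (.a, true), (.b, false), (.a, true), (.t, true)]),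
  (85, [(.d, true), (.b, false), (.d, true), (.c, true), (.b, false), (.d, true), (.a, true), (.c, true), (.b, true), (.c, true), (.a, true), (.b, false), (.c, true), (.b, true), (.b, true), (.a, true), (.b, true), (.c, true), (.b, true), (.a, true), (.b, true), (.c, true), (.a, true), (.c, true)]),
  (233, [(.b, true), (.b, true), (.a, true), (.b, true), (.c, true), (.b, false), (.a, true), (.b, true), (.c, true), (.b, true), (.c, true), (.b, true), (.a, true), (.b, true), (.t, true)]) ]

theorem genWords_fst : genWords.map Prod.fst = Cfsg.Agent.Lib.Helper28.U6Bfs.gens := by decide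

theorem genWords_chk : ∀ q ∈ genWords, hN q.1 q.1 = 0 ∧ scalChk (q.1 :: wc q.2) = true := by decide +kernel

theorem phi_surjective : Function.Surjective phi := by
  have hJ : (phi.range).comap (QuotientGroup.mk' (Subgroup.center SU6)) = ⊤ := by
    apply Cfsg.Agent.Lib.Helper28.U6Bfs.eq_top_of_gens
    intro x hx
    rw [← genWords_fst, List.mem_map] at hx
    obtain ⟨q, hq, rfl⟩ := hx
    obtain ⟨h1, h2⟩ := genWords_chk q hq
    have h3 := mk_eq_one_of_chk (q.1 :: wc q.2) (by
      intro p hp
      rcases List.mem_cons.mp hp with rfl | hp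
      · exact h1
      · exact wc_iso _ p hp) h2
    rw [List.map_cons, List.prod_cons, QuotientGroup.mk_mul, ← phi_mk] at h3
    show (QuotientGroup.mk (tv q.1) : Cfsg.PSU 6 F4 2) ∈ phi.range
    rw [eq_inv_of_mul_eq_one_left h3]
    exact phi.range.inv_mem ⟨_, rfl⟩
  intro y
  obtain ⟨A, rfl⟩ := QuotientGroup.mk_surjective y
  have : A ∈ (phi.range).comap (QuotientGroup.mk' (Subgroup.center SU6)) := by rw [hJ]; exact Subgroup.mem_top A
  exact this

theorem phi_bijective : Function.Bijective phi := by
  haveI : Finite P := cardPU6'.1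
  have hle : Nat.card P ≤ Nat.card (Cfsg.PSU 6 F4 2) := by
    rw [Cfsg.Agent.Lib.Helper28.U6Card.card_PSU6]; exact cardPU6'.2
  exact (Nat.bijective_iff_surjective_and_card phi).mpr
    ⟨phi_surjective, le_antisymm hle (Nat.card_le_card_of_surjective phi phi_surjective)⟩

/-- the presented group is `PSU₆(2)` -/
theorem iso_PSU : Nonempty (DU6.P ≃* Cfsg.PSU 6 F4 2) :=
  ⟨MulEquiv.ofBijective phi phi_bijective⟩

/-- a word whose transvections multiply to a scalar is trivial in the presented group -/
theorem mk_eq_one_of_scalChk (L : List (EU6Def.Gen × Bool)) (h : scalChk (wc L) = true) :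
    PresentedGroup.mk (relSet EU6Def.R) (FreeGroup.mk L) = 1 := by
  have h1 : phi (PresentedGroup.mk PU6Link.rels (FreeGroup.mk L)) = phi 1 := by
    rw [map_one, phi_mk]
    exact mk_eq_one_of_chk _ (wc_iso L) h
  exact phi_bijective.1 h1

theorem cardPU6 : Finite DU6.P ∧ Nat.card DU6.P = 9196830720 := by
  haveI : Finite P := cardPU6'.1
  obtain ⟨e⟩ := iso_PSU
  exact ⟨cardPU6'.1, by rw [Nat.card_congr e.toEquiv, Cfsg.Agent.Lib.Helper28.U6Card.card_PSU6]⟩

end Cfsg.Agent.Lib.Helper3.Cover.U62Iso
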