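import Cfsg.Agent.Lib.Helper3.Cover.Basic
import Cfsg.Agent.Lib.Helper28.TC2Tower
import Cfsg.Agent.Lib.Helper28.TC2Subst

set_option autoImplicit false

/-!
# Killing a part of the multiplier of a subgroup with a normalising element

Let `E` be the covering presentation of a group `G = ⟨X | R⟩` and `H = ⟨Y | R'⟩` a subgroup given by a
sub-presentation.  The image in `E` of the kernel of the covering presentation of `H` is central in `E`; if `t ∈ X`
normalises `H` (with relators `t y t w_y⁻¹` and `t t` in `R`) this image is centralised by `t`, so a product of relators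
`m` of `H` with exponent sums zero and its substituted word `m^σ` have the same image in `E`.  This bounds the order of
the image of `H` in `E` by the order of the covering presentation of `H` divided by the number of known kernel
elements.
-/

namespace Cfsg.Agent.Lib.Helper3.Cover.KillKer

open Cfsg.Agent.Lib.Helper3.Cover Cfsg.Agent.Lib.Helper28.TC2Tower Cfsg.Agent.Lib.Helper28.TC2Subst
open scoped IsMulCommutative

section Card
variable {α β : Type}

/-- the image of a sub-presentation in a presented group: the order is at most the order of the sub-presentation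
divided by the number of known elements of the kernel -/
theorem card_le_of_subpres_ker (rels : Set (FreeGroup α)) (rels' : Set (FreeGroup β)) (ι : β → α)
    (hrel : ∀ r ∈ rels', FreeGroup.map ι r ∈ rels)
    (S : Set (FreeGroup α)) (hS : ∀ s ∈ S, ∃ b, s = FreeGroup.of (ι b))
    [Finite (PresentedGroup rels')]
    (ws : List (List (β × Bool)))
    (hker : ∀ L ∈ ws, PresentedGroup.mk rels (FreeGroup.mk (upWord ι L)) = 1)
    (hdist : (ws.map fun L => (PresentedGroup.mk rels' (FreeGroup.mk L))).Nodup) :
    Finite ((Subgroup.closure S).map (PresentedGroup.mk rels)) ∧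
    Nat.card ((Subgroup.closure S).map (PresentedGroup.mk rels)) * ws.length ≤
      Nat.card (PresentedGroup rels') := by
  have key : FreeGroup.lift (fun b => (PresentedGroup.of (ι b) : PresentedGroup rels)) =
      (PresentedGroup.mk rels).comp (FreeGroup.map ι) := by
    ext b
    simp [PresentedGroup.of]
  have h1 : ∀ r ∈ rels', FreeGroup.lift (fun b => (PresentedGroup.of (ι b) : PresentedGroup rels)) r = 1 := by
    intro r hr
    rw [key]
    exact PresentedGroup.one_of_mem (hrel r hr)
  let ψ : PresentedGroup rels' →* PresentedGroup rels := PresentedGroup.toGroup h1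
  have hψmk : ∀ w : FreeGroup β, ψ (PresentedGroup.mk rels' w) =
      PresentedGroup.mk rels (FreeGroup.map ι w) := by
    intro w
    show FreeGroup.lift (fun b => (PresentedGroup.of (ι b) : PresentedGroup rels)) w = _
    rw [key]
    rfl
  have hle : (Subgroup.closure S).map (PresentedGroup.mk rels) ≤ ψ.range := by
    rw [Subgroup.map_le_iff_le_comap, Subgroup.closure_le]
    intro s hs
    obtain ⟨b, rfl⟩ := hS s hs
    show PresentedGroup.mk rels (FreeGroup.of (ι b)) ∈ ψ.range
    exact ⟨PresentedGroup.of b, PresentedGroup.toGroup.of h1⟩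
  have : Finite ψ.range := Finite.of_surjective ψ.rangeRestrict ψ.rangeRestrict_surjective
  have hfin : Finite ((Subgroup.closure S).map (PresentedGroup.mk rels)) :=
    Finite.of_injective (Subgroup.inclusion hle) (Subgroup.inclusion_injective hle)
  refine ⟨hfin, ?_⟩
  -- the kernel has at least `ws.length` elements
  have hk : ws.length ≤ Nat.card ψ.ker := by
    classical
    set l : List (PresentedGroup rels') := ws.map fun L => (PresentedGroup.mk rels' (FreeGroup.mk L)) with hl
    have hsub : (↑l.toFinset : Set (PresentedGroup rels')) ⊆ (ψ.ker : Set (PresentedGroup rels')) := by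
      intro g hg
      rw [Finset.mem_coe, List.mem_toFinset, hl, List.mem_map] at hg
      obtain ⟨L, hL, rfl⟩ := hg
      rw [SetLike.mem_coe, MonoidHom.mem_ker, hψmk, map_mk]
      exact hker L hL
    have h2 := Set.ncard_le_ncard hsub (Set.toFinite _)
    rw [Set.ncard_coe_finset, List.toFinset_card_of_nodup hdist] at h2
    have h3 : Nat.card ψ.ker = (ψ.ker : Set (PresentedGroup rels')).ncard := Nat.card_coe_set_eq _
    rw [h3]
    have h4 : l.length = ws.length := by rw [hl, List.length_map]
    rw [← h4]
    exact h2
  have hcard : Nat.card (PresentedGroup rels') = Nat.card ψ.range * Nat.card ψ.ker := by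
    rw [Subgroup.card_eq_card_quotient_mul_card_subgroup ψ.ker]
    congr 1
    exact Nat.card_congr (QuotientGroup.quotientKerEquivRange ψ).toEquiv
  calc Nat.card ((Subgroup.closure S).map (PresentedGroup.mk rels)) * ws.length
      ≤ Nat.card ψ.range * Nat.card ψ.ker :=
        Nat.mul_le_mul (Nat.card_le_card_of_injective _ (Subgroup.inclusion_injective hle)) hk
    _ = Nat.card (PresentedGroup rels') := hcard.symm

end Card

section Conj
variable {α : Type} [DecidableEq α] [Fintype α] {β : Type} [DecidableEq β] [Fintype β]

omit [DecidableEq α] [Fintype α] [DecidableEq β] [Fintype β] in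
/-- a product of powers of words with values in a subgroup has its value in the subgroup -/
theorem map_combWord_mem {G : Type*} [Group G] (f : FreeGroup β →* G) (K : Subgroup G)
    (items : List (List (β × Bool) × ℤ)) (h : ∀ p ∈ items, f (FreeGroup.mk p.1) ∈ K) :
    f (FreeGroup.mk (combWord items)) ∈ K := by
  induction items with
  | nil => rw [show (FreeGroup.mk (combWord ([] : List (List (β × Bool) × ℤ)))) = (1 : FreeGroup β) from rfl,
      map_one]; exact K.one_mem
  | cons p items ih =>
    unfold combWord
    rw [List.map_cons, List.flatten_cons, ← FreeGroup.mul_mk, map_mul, mk_powWord, map_zpow]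
    exact K.mul_mem (K.zpow_mem (h p List.mem_cons_self) _)
      (ih fun q hq => h q (List.mem_cons_of_mem _ hq))

omit [DecidableEq α] [Fintype α] in
/-- twisting the images of the generators by central elements changes the value of a word of exponent sums zero
by nothing -/
theorem lift_twist_eq {G : Type*} [Group G] (g κ : β → G) (hκ : ∀ x, κ x ∈ Subgroup.center G)
    (m : List (β × Bool)) (hexp : ∀ x, expL x m = 0) :
    FreeGroup.lift (fun x => g x * κ x) (FreeGroup.mk m) = FreeGroup.lift g (FreeGroup.mk m) := by
  let κc : β → Subgroup.center G := fun x => ⟨κ x, hκ x⟩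
  let ρ : FreeGroup β →* G :=
    { toFun := fun w => FreeGroup.lift g w * ((FreeGroup.lift κc w : Subgroup.center G) : G)
      map_one' := by simp
      map_mul' := by
        intro u v
        have hc := (FreeGroup.lift κc u).2
        rw [Subgroup.mem_center_iff] at hc
        rw [map_mul, map_mul, Subgroup.coe_mul, mul_assoc, mul_assoc]
        congr 1
        rw [← mul_assoc, ← mul_assoc, hc (FreeGroup.lift g v)] }
  have h1 : FreeGroup.lift (fun x => g x * κ x) = ρ := by
    ext x
    show _ = FreeGroup.lift g (FreeGroup.of x) * ((FreeGroup.lift κc (FreeGroup.of x) : Subgroup.center G) : G)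
    rw [FreeGroup.lift_apply_of, FreeGroup.lift_apply_of, FreeGroup.lift_apply_of]
  rw [h1]
  show FreeGroup.lift g (FreeGroup.mk m) * ((FreeGroup.lift κc (FreeGroup.mk m) : Subgroup.center G) : G) = _
  have h2 : FreeGroup.lift κc (FreeGroup.mk m) = 1 := by
    rw [hom_eq_prod (FreeGroup.lift κc) (FreeGroup.mk m)]
    apply Finset.prod_eq_one
    intro x _
    rw [expSum_mk, toAdd_ofAdd, hexp x, zpow_zero]
  rw [h2, Subgroup.coe_one, mul_one]

variable (D : CoverData α)

/-- the conjugation argument: `t` normalises the subgroup generated by the `ι x` with `t (ι x) t = sub x` modulo the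
centre, a central product `m` of relators with exponent sums zero equals its substituted word -/
theorem mk_subst_eq (ι : β → α) (t : α) (sub : β → List (α × Bool))
    (htt : [(t, true), (t, true)] ∈ D.R)
    (hconj : ∀ x : β, ((t, true) :: (ι x, true) :: (t, true) :: FreeGroup.invRev (sub x)) ∈ D.R)
    (items : List (List (β × Bool) × ℤ)) (hitems : ∀ p ∈ items, upWord ι p.1 ∈ D.R)
    (hexp : ∀ x : β, expL x (combWord items) = 0) :
    PresentedGroup.mk D.relsE (FreeGroup.mk (upWord ι (combWord items))) =
      PresentedGroup.mk D.relsE (FreeGroup.mk (substW sub (combWord items))) := by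
  set F : FreeGroup α →* D.E := PresentedGroup.mk D.relsE with hF
  set X : β → D.E := fun x => F (FreeGroup.of (ι x)) with hX
  set T : D.E := F (FreeGroup.of t) with hT
  set m := combWord items with hm
  have hliftX : ∀ w : FreeGroup β, FreeGroup.lift X w = F (FreeGroup.map ι w) := by
    intro w
    have : FreeGroup.lift X = F.comp (FreeGroup.map ι) := by
      ext x
      simp [hX]
    rw [this]; rfl
  -- the value of `m` is central
  have hc : FreeGroup.lift X (FreeGroup.mk m) ∈ Subgroup.center D.E := by
    apply map_combWord_mem (FreeGroup.lift X) (Subgroup.center D.E) items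
    intro p hp
    rw [hliftX, map_mk]
    exact D.mk_rel_mem_center _ (hitems p hp)
  -- conjugation by `T`
  have hconjhom : ∀ w : FreeGroup β, T * FreeGroup.lift X w * T⁻¹ =
      FreeGroup.lift (fun x => T * X x * T⁻¹) w := by
    intro w
    have : (MulAut.conj T).toMonoidHom.comp (FreeGroup.lift X) = FreeGroup.lift (fun x => T * X x * T⁻¹) := by
      ext x
      simp [MulAut.conj_apply]
    rw [← this]
    simp [MulAut.conj_apply]
  set Wσ : β → D.E := fun x => F (FreeGroup.mk (sub x)) with hW
  set κ : β → D.E := fun x => (Wσ x)⁻¹ * (T * X x * T⁻¹) with hκdef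
  have hz2 : T * T ∈ Subgroup.center D.E := by
    have := D.mk_rel_mem_center _ htt
    have e : (FreeGroup.mk [(t, true), (t, true)] : FreeGroup α) = FreeGroup.of t * FreeGroup.of t := by
      rw [FreeGroup.of, FreeGroup.mul_mk]; rfl
    rw [e, map_mul] at this
    exact this
  have hz1 : ∀ x, T * X x * T * (Wσ x)⁻¹ ∈ Subgroup.center D.E := by
    intro x
    have := D.mk_rel_mem_center _ (hconj x)
    have e : (FreeGroup.mk ((t, true) :: (ι x, true) :: (t, true) :: FreeGroup.invRev (sub x)) : FreeGroup α) =
        FreeGroup.of t * FreeGroup.of (ι x) * FreeGroup.of t * (FreeGroup.mk (sub x))⁻¹ := by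
      rw [FreeGroup.inv_mk, FreeGroup.of, FreeGroup.of, FreeGroup.mul_mk, FreeGroup.mul_mk, FreeGroup.mul_mk]
      rfl
    rw [e, map_mul, map_mul, map_mul, map_inv] at this
    exact this
  have hκ : ∀ x, κ x ∈ Subgroup.center D.E := by
    intro x
    have h1 := hz1 x
    have h2 := hz2
    -- κ x = (Wσ x)⁻¹ * z1 * Wσ x * z2⁻¹
    have e : κ x = (T * X x * T * (Wσ x)⁻¹) * (T * T)⁻¹ := by
      have hcomm := Subgroup.mem_center_iff.mp h1 (Wσ x)⁻¹
      -- (Wσ x)⁻¹ * z1 = z1 * (Wσ x)⁻¹
      have e2 : (Wσ x)⁻¹ * (T * X x * T⁻¹) =
          ((Wσ x)⁻¹ * (T * X x * T * (Wσ x)⁻¹)) * (Wσ x) * (T * T)⁻¹ := by group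
      rw [hκdef]
      show (Wσ x)⁻¹ * (T * X x * T⁻¹) = _
      rw [e2, hcomm]
      group
    rw [e]
    exact (Subgroup.center D.E).mul_mem h1 ((Subgroup.center D.E).inv_mem h2)
  have hsplit : (fun x => T * X x * T⁻¹) = fun x => Wσ x * κ x := by
    funext x
    rw [hκdef]
    group
  -- assemble
  have e1 : T * FreeGroup.lift X (FreeGroup.mk m) * T⁻¹ = FreeGroup.lift X (FreeGroup.mk m) := by
    have := Subgroup.mem_center_iff.mp hc T
    rw [this, mul_inv_cancel_right]
  have e2 : FreeGroup.lift (fun x => T * X x * T⁻¹) (FreeGroup.mk m) = FreeGroup.lift Wσ (FreeGroup.mk m) := by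
    rw [hsplit]
    exact lift_twist_eq Wσ κ hκ m hexp
  have e3 : FreeGroup.lift Wσ (FreeGroup.mk m) = F (FreeGroup.mk (substW sub m)) :=
    lift_mk_subst F sub m
  rw [← map_mk, ← hliftX, ← e1, hconjhom, e2, e3]

end Conj

end Cfsg.Agent.Lib.Helper3.Cover.KillKer
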