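import Mathlib
import Cfsg.Prelude.Def_KGroupFacts

/-!
Transport of `Cfsg.HasSchurMultiplier` along group isomorphisms, across universes (helper3).
-/

set_option autoImplicit false

namespace Cfsg.Agent.Lib.Helper3.Cover

universe u1 u2 v1 v2 w

open Subgroup

section Transport

variable {Γ : Type u1} {Γ' : Type u2} {G : Type v1} {G' : Type v2}
  [Group Γ] [Group Γ'] [Group G] [Group G']

/-- conjugating a homomorphism by isomorphisms on both sides -/
def conjHom (ε : Γ' ≃* Γ) (e : G ≃* G') (σ : Γ →* G) : Γ' →* G' :=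
  e.toMonoidHom.comp (σ.comp ε.toMonoidHom)

theorem conjHom_apply (ε : Γ' ≃* Γ) (e : G ≃* G') (σ : Γ →* G) (x : Γ') :
    conjHom ε e σ x = e (σ (ε x)) := rfl

theorem mem_ker_conjHom (ε : Γ' ≃* Γ) (e : G ≃* G') (σ : Γ →* G) (x : Γ') :
    x ∈ (conjHom ε e σ).ker ↔ ε x ∈ σ.ker := by
  rw [MonoidHom.mem_ker, MonoidHom.mem_ker, conjHom_apply]
  constructor
  · intro h; exact e.injective (by rw [h, map_one])
  · intro h; rw [h, map_one]

/-- the kernels correspond -/
def kerConjEquiv (ε : Γ' ≃* Γ) (e : G ≃* G') (σ : Γ →* G) : (conjHom ε e σ).ker ≃* σ.ker where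
  toFun x := ⟨ε x.1, (mem_ker_conjHom ε e σ x.1).mp x.2⟩
  invFun y := ⟨ε.symm y.1, (mem_ker_conjHom ε e σ _).mpr (by rw [MulEquiv.apply_symm_apply]; exact y.2)⟩
  left_inv x := Subtype.ext (ε.symm_apply_apply _)
  right_inv y := Subtype.ext (ε.apply_symm_apply _)
  map_mul' x y := Subtype.ext (map_mul ε _ _)

theorem isStem_conjHom (ε : Γ' ≃* Γ) (e : G ≃* G') (σ : Γ →* G) (hσ : Cfsg.IsStemExtension σ) :
    Cfsg.IsStemExtension (conjHom ε e σ) := by
  refine ⟨?_, ?_, ?_⟩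
  · exact e.surjective.comp (hσ.1.comp ε.surjective)
  · intro x hx
    have h1 : ε x ∈ center Γ := hσ.2.1 ((mem_ker_conjHom ε e σ x).mp hx)
    rw [Subgroup.mem_center_iff] at h1 ⊢
    intro g
    apply ε.injective
    rw [map_mul, map_mul]
    exact h1 (ε g)
  · intro x hx
    have h1 : ε x ∈ commutator Γ := hσ.2.2 ((mem_ker_conjHom ε e σ x).mp hx)
    have h2 : (commutator Γ).map ε.symm.toMonoidHom = commutator Γ' := by
      rw [commutator_def, Subgroup.map_commutator, ← MonoidHom.range_eq_map,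
        MonoidHom.range_eq_top.mpr ε.symm.surjective, commutator_def]
    rw [← h2]
    exact ⟨ε x, h1, ε.symm_apply_apply x⟩

end Transport

/-- a bare copy of `Fin n` in an arbitrary universe, with no algebraic structure -/
structure FinCopy (n : ℕ) : Type u2 where
  /-- the index -/
  val : Fin n

/-- `FinCopy n` is `Fin n` -/
def finCopyEquiv (n : ℕ) : FinCopy.{u2} n ≃ Fin n where
  toFun x := x.val
  invFun i := ⟨i⟩
  left_inv _ := rfl
  right_inv _ := rfl

/-- a finite group has a copy in every universe -/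
theorem exists_copy (Δ : Type u1) [Group Δ] [Finite Δ] :
    ∃ (Δ' : Type u2) (_ : Group Δ') (_ : Finite Δ'), Nonempty (Δ' ≃* Δ) := by
  obtain ⟨n, ⟨b⟩⟩ := Finite.exists_equiv_fin Δ
  let b' : FinCopy.{u2} n ≃ Δ := (finCopyEquiv n).trans b.symm
  letI : Group (FinCopy.{u2} n) := b'.group
  refine ⟨FinCopy.{u2} n, inferInstance, Finite.of_equiv Δ b'.symm, ⟨?_⟩⟩
  exact { b' with map_mul' := fun x y => b'.apply_symm_apply _ }

/-- `HasSchurMultiplier` is invariant under isomorphism of the group, also across universes -/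
theorem hasSchurMultiplier_transport {G : Type v1} {G' : Type v2} [Group G] [Group G']
    (e : G ≃* G') {A : Type w} [CommGroup A] (h : Cfsg.HasSchurMultiplier G A) :
    Cfsg.HasSchurMultiplier G' A := by
  obtain ⟨⟨Γ, i1, i2, σ, hσ, ⟨f⟩⟩, h2⟩ := h
  constructor
  · obtain ⟨Γ', j1, j2, ⟨ε⟩⟩ := exists_copy.{v1, v2} Γ
    exact ⟨Γ', j1, j2, conjHom ε e σ, isStem_conjHom ε e σ hσ, ⟨(kerConjEquiv ε e σ).trans f⟩⟩
  · intro Δ _ _ τ hτ
    obtain ⟨Δ', j1, j2, ⟨ε⟩⟩ := exists_copy.{v2, v1} Δ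
    obtain ⟨π, hπ⟩ := h2 Δ' (conjHom ε e.symm τ) (isStem_conjHom ε e.symm τ hτ)
    refine ⟨(kerConjEquiv ε e.symm τ).toMonoidHom.comp π, ?_⟩
    exact (kerConjEquiv ε e.symm τ).surjective.comp hπ

end Cfsg.Agent.Lib.Helper3.Cover
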