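import Cfsg.Agent.Lib.Helper28.TC2Upper
import Cfsg.Agent.Lib.Helper3.Cover.ES6DataC0
import Cfsg.Agent.Lib.Helper3.Cover.ES6DataC1
import Cfsg.Agent.Lib.Helper3.Cover.ES6DataC2
import Cfsg.Agent.Lib.Helper3.Cover.ES6DataC3
import Cfsg.Agent.Lib.Helper3.Cover.ES6DataC4
import Cfsg.Agent.Lib.Helper3.Cover.ES6DataC5
set_option autoImplicit false
set_option maxRecDepth 100000

namespace Cfsg.Agent.Lib.Helper3.Cover.ES6Data
open Cfsg.Agent.Lib.Helper28.TC2Upper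

/-- relators -/
def relT : BT (ℕ × List ℕ × List ℕ) := (BT.node 16 (BT.node 8 (BT.node 4 (BT.node 2 (BT.node 1 (BT.node 0 (BT.leaf (6, [1, 1, 1, 0, 0, 0], [1, 1, 1, 0, 0, 0])) (BT.leaf (6, [3, 1, 1, 2, 0, 0], [1, 1, 3, 0, 0, 2]))) (BT.leaf (6, [5, 1, 1, 4, 0, 0], [1, 1, 5, 0, 0, 4]))) (BT.node 3 (BT.leaf (14, [1, 3, 3, 3, 3, 3, 3, 0, 2, 2, 2, 2, 2, 2], [3, 3, 3, 3, 3, 3, 1, 2, 2, 2, 2, 2, 2, 0])) (BT.leaf (14, [3, 3, 3, 3, 3, 3, 3, 2, 2, 2, 2, 2, 2, 2], [3, 3, 3, 3, 3, 3, 3, 2, 2, 2, 2, 2, 2, 2])))) (BT.node 6 (BT.node 5 (BT.leaf (14, [5, 3, 3, 3, 3, 3, 3, 4, 2, 2, 2, 2, 2, 2], [3, 3, 3, 3, 3, 3, 5, 2, 2, 2, 2, 2, 2, 4])) (BT.leaf (30, [1, 1, 3, 1, 3, 1, 3, 1, 3, 1, 3, 1, 3, 1, 3, 0, 2, 0, 2, 0, 2, 0, 2, 0, 2, 0, 2, 0, 2, 0], [1, 3, 1, 3, 1, 3, 1, 3, 1, 3, 1, 3, 1, 3, 1, 2, 0, 2, 0, 2, 0, 2, 0, 2, 0, 2, 0, 2, 0, 0]))) (BT.node 7 (BT.leaf (30, [3, 1,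 3, 1, 3, 1, 3, 1, 3, 1, 3, 1, 3, 1, 3, 2, 2, 0, 2, 0, 2, 0, 2, 0, 2, 0, 2, 0, 2, 0], [1, 3, 1, 3, 1, 3, 1, 3, 1, 3, 1, 3, 1, 3, 3, 2, 0, 2, 0, 2, 0, 2, 0, 2, 0, 2, 0, 2, 0, 2])) (BT.leaf (30, [5, 1, 3, 1, 3, 1, 3, 1, 3, 1, 3, 1, 3, 1, 3, 4, 2, 0, 2, 0, 2, 0, 2, 0, 2, 0, 2, 0, 2, 0], [1, 3, 1, 3, 1, 3, 1, 3, 1, 3, 1, 3, 1, 3, 5, 2, 0, 2, 0, 2, 0, 2, 0, 2, 0, 2, 0, 2, 0, 4]))))) (BT.node 12 (BT.node 10 (BT.node 9 (BT.leaf (38, [1, 2, 2, 1, 2, 2, 1, 2, 2, 1, 3, 3, 1, 3, 3, 1, 3, 3, 1, 0, 0, 2, 2, 0, 2, 2, 0, 2, 2, 0, 3, 3, 0, 3, 3, 0, 3, 3], [2, 2, 1, 2, 2, 1, 2, 2, 1, 3, 3, 1, 3, 3, 1, 3, 3, 1, 1, 0, 2, 2, 0, 2, 2, 0, 2, 2, 0, 3, 3, 0, 3, 3, 0, 3, 3, 0])) (BT.leaf (38, [3, 2, 2, 1, 2, 2, 1, 2, 2, 1, 3, 3, 1, 3, 3, 1, 3, 3, 1, 2, 0, 2, 2, 0, 2, 2, 0, 2, 2, 0, 3, 3, 0, 3, 3, 0, 3, 3], [2, 2, 1, 2, 2, 1, 2, 2, 1, 3, 3, 1, 3, 3, 1, 3, 3, 1, 3, 0, 2, 2, 0,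 2, 2, 0, 2, 2, 0, 3, 3, 0, 3, 3, 0, 3, 3, 2]))) (BT.node 11 (BT.leaf (38, [5, 2, 2, 1, 2, 2, 1, 2, 2, 1, 3, 3, 1, 3, 3, 1, 3, 3, 1, 4, 0, 2, 2, 0, 2, 2, 0, 2, 2, 0, 3, 3, 0, 3, 3, 0, 3, 3], [2, 2, 1, 2, 2, 1, 2, 2, 1, 3, 3, 1, 3, 3, 1, 3, 3, 1, 5, 0, 2, 2, 0, 2, 2, 0, 2, 2, 0, 3, 3, 0, 3, 3, 0, 3, 3, 4])) (BT.leaf (44, [1, 2, 2, 1, 3, 1, 2, 2, 1, 3, 1, 2, 2, 1, 3, 1, 2, 1, 2, 1, 3, 1, 0, 0, 2, 0, 3, 0, 3, 0, 2, 0, 3, 3, 0, 2, 0, 3, 3, 0, 2, 0, 3, 3], [2, 2, 1, 3, 1, 2, 2, 1, 3, 1, 2, 2, 1, 3, 1, 2, 1, 2, 1, 3, 1, 1, 0, 2, 0, 3, 0, 3, 0, 2, 0, 3, 3, 0, 2, 0, 3, 3, 0, 2, 0, 3, 3, 0])))) (BT.node 14 (BT.node 13 (BT.leaf (44, [3, 2, 2, 1, 3, 1, 2, 2, 1, 3, 1, 2, 2, 1, 3, 1, 2, 1, 2, 1, 3, 1, 2, 0, 2, 0, 3, 0, 3, 0, 2, 0, 3, 3, 0, 2, 0, 3, 3, 0, 2, 0, 3, 3], [2, 2, 1, 3, 1, 2, 2, 1, 3, 1, 2, 2, 1, 3, 1, 2, 1, 2, 1, 3, 1, 3, 0, 2, 0, 3, 0, 3, 0, 2, 0, 3, 3,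 0, 2, 0, 3, 3, 0, 2, 0, 3, 3, 2])) (BT.leaf (44, [5, 2, 2, 1, 3, 1, 2, 2, 1, 3, 1, 2, 2, 1, 3, 1, 2, 1, 2, 1, 3, 1, 4, 0, 2, 0, 3, 0, 3, 0, 2, 0, 3, 3, 0, 2, 0, 3, 3, 0, 2, 0, 3, 3], [2, 2, 1, 3, 1, 2, 2, 1, 3, 1, 2, 2, 1, 3, 1, 2, 1, 2, 1, 3, 1, 5, 0, 2, 0, 3, 0, 3, 0, 2, 0, 3, 3, 0, 2, 0, 3, 3, 0, 2, 0, 3, 3, 4]))) (BT.node 15 (BT.leaf (6, [1, 5, 5, 0, 4, 4], [5, 5, 1, 4, 4, 0])) (BT.leaf (6, [3, 5, 5, 2, 4, 4], [5, 5, 3, 4, 4, 2])))))) (BT.node 24 (BT.node 20 (BT.node 18 (BT.node 17 (BT.leaf (6, [5, 5, 5, 4, 4, 4], [5, 5, 5, 4, 4, 4])) (BT.leaf (18, [1, 2, 5, 2, 5, 3, 5, 3, 5, 0, 4, 2, 4, 2, 4, 3, 4, 3], [2, 5, 2, 5, 3, 5, 3, 5, 1, 4, 2, 4, 2, 4, 3, 4, 3, 0]))) (BT.node 19 (BT.leaf (18, [3, 2, 5, 2, 5, 3, 5, 3, 5, 2, 4, 2, 4, 2, 4, 3, 4, 3], [2, 5, 2, 5, 3, 5, 3, 5, 3, 4, 2, 4, 2, 4, 3, 4, 3, 2])) (BT.leaf (18, [5, 2, 5, 2, 5, 3, 5, 3, 5, 4, 4, 2,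 4, 2, 4, 3, 4, 3], [2, 5, 2, 5, 3, 5, 3, 5, 5, 4, 2, 4, 2, 4, 3, 4, 3, 4])))) (BT.node 22 (BT.node 21 (BT.leaf (18, [1, 1, 5, 1, 5, 1, 5, 1, 5, 0, 4, 0, 4, 0, 4, 0, 4, 0], [1, 5, 1, 5, 1, 5, 1, 5, 1, 4, 0, 4, 0, 4, 0, 4, 0, 0])) (BT.leaf (18, [3, 1, 5, 1, 5, 1, 5, 1, 5, 2, 4, 0, 4, 0, 4, 0, 4, 0], [1, 5, 1, 5, 1, 5, 1, 5, 3, 4, 0, 4, 0, 4, 0, 4, 0, 2]))) (BT.node 23 (BT.leaf (18, [5, 1, 5, 1, 5, 1, 5, 1, 5, 4, 4, 0, 4, 0, 4, 0, 4, 0], [1, 5, 1, 5, 1, 5, 1, 5, 5, 4, 0, 4, 0, 4, 0, 4, 0, 4])) (BT.leaf (26, [1, 2, 1, 5, 1, 2, 1, 5, 1, 2, 1, 5, 1, 0, 0, 4, 0, 3, 0, 4, 0, 3, 0, 4, 0, 3], [2, 1, 5, 1, 2, 1, 5, 1, 2, 1, 5, 1, 1, 0, 4, 0, 3, 0, 4, 0, 3, 0, 4, 0, 3, 0]))))) (BT.node 28 (BT.node 26 (BT.node 25 (BT.leaf (26, [3, 2, 1, 5, 1, 2, 1, 5, 1, 2, 1, 5, 1, 2, 0, 4, 0, 3, 0, 4, 0, 3, 0, 4, 0, 3], [2, 1, 5, 1, 2, 1, 5, 1, 2, 1, 5, 1, 3, 0, 4, 0, 3, 0, 4,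 0, 3, 0, 4, 0, 3, 2])) (BT.leaf (26, [5, 2, 1, 5, 1, 2, 1, 5, 1, 2, 1, 5, 1, 4, 0, 4, 0, 3, 0, 4, 0, 3, 0, 4, 0, 3], [2, 1, 5, 1, 2, 1, 5, 1, 2, 1, 5, 1, 5, 0, 4, 0, 3, 0, 4, 0, 3, 0, 4, 0, 3, 4]))) (BT.node 27 (BT.leaf (26, [1, 2, 1, 5, 1, 3, 1, 2, 1, 5, 1, 3, 1, 0, 0, 2, 0, 4, 0, 3, 0, 2, 0, 4, 0, 3], [2, 1, 5, 1, 3, 1, 2, 1, 5, 1, 3, 1, 1, 0, 2, 0, 4, 0, 3, 0, 2, 0, 4, 0, 3, 0])) (BT.leaf (26, [3, 2, 1, 5, 1, 3, 1, 2, 1, 5, 1, 3, 1, 2, 0, 2, 0, 4, 0, 3, 0, 2, 0, 4, 0, 3], [2, 1, 5, 1, 3, 1, 2, 1, 5, 1, 3, 1, 3, 0, 2, 0, 4, 0, 3, 0, 2, 0, 4, 0, 3, 2])))) (BT.node 30 (BT.node 29 (BT.leaf (26, [5, 2, 1, 5, 1, 3, 1, 2, 1, 5, 1, 3, 1, 4, 0, 2, 0, 4, 0, 3, 0, 2, 0, 4, 0, 3], [2, 1, 5, 1, 3, 1, 2, 1, 5, 1, 3, 1, 5, 0, 2, 0, 4, 0, 3, 0, 2, 0, 4, 0, 3, 4])) (BT.leaf (85, [0, 2, 0, 3, 0, 3, 0, 2, 0, 3, 3, 0, 2, 0, 3, 3, 0, 2, 0, 3, 3, 0, 2, 2, 0, 2, 2, 0, 2,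 2, 0, 3, 3, 0, 3, 3, 0, 3, 3, 1, 3, 1, 3, 1, 3, 1, 3, 1, 3, 1, 3, 1, 3, 1, 3, 1, 3, 1, 3, 1, 3, 1, 3, 1, 3, 1, 3, 2, 2, 2, 2, 2, 2, 2, 2, 2, 2, 2, 2, 2, 2, 2, 2, 2, 2], [3, 3, 3, 3, 3, 3, 3, 3, 3, 3, 3, 3, 3, 3, 3, 3, 3, 3, 2, 0, 2, 0, 2, 0, 2, 0, 2, 0, 2, 0, 2, 0, 2, 0, 2, 0, 2, 0, 2, 0, 2, 0, 2, 0, 2, 0, 2, 2, 1, 2, 2, 1, 2, 2, 1, 3, 3, 1, 3, 3, 1, 3, 3, 1, 2, 2, 1, 3, 1, 2, 2, 1, 3, 1, 2, 2, 1, 3, 1, 2, 1, 2, 1, 3, 1]))) (BT.node 31 (BT.leaf (49, [0, 2, 0, 3, 0, 3, 0, 2, 0, 3, 3, 0, 2, 0, 3, 3, 0, 2, 0, 3, 3, 1, 3, 1, 3, 1, 3, 1, 3, 1, 3, 1, 3, 1, 3, 2, 2, 2, 2, 2, 2, 2, 2, 2, 2, 2, 2, 1, 1], [0, 0, 3, 3, 3, 3, 3, 3, 3, 3, 3, 3, 3, 3, 2, 0, 2, 0, 2, 0, 2, 0, 2, 0, 2, 0, 2, 0, 2, 2, 1, 3, 1, 2, 2, 1, 3, 1, 2, 2, 1, 3, 1, 2, 1, 2, 1, 3, 1])) (BT.leaf (107, [0, 2, 0, 3, 0, 3, 0, 2, 0, 3, 3, 0, 2, 0, 3, 3, 0, 2, 0, 3, 3, 2, 2, 1, 2, 2, 1, 2, 2, 1, 3,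 3, 1, 3, 3, 1, 3, 3, 1, 2, 2, 1, 2, 2, 1, 2, 2, 1, 3, 3, 1, 3, 3, 1, 3, 3, 1, 2, 2, 1, 2, 2, 1, 2, 2, 1, 3, 3, 1, 3, 3, 1, 3, 3, 1, 2, 0, 2, 0, 2, 0, 2, 0, 2, 0, 2, 0, 2, 0, 1, 1, 1, 1, 5, 5, 0, 4, 0, 3, 0, 4, 0, 3, 0, 4, 0, 3], [2, 1, 5, 1, 2, 1, 5, 1, 2, 1, 5, 1, 4, 4, 0, 0, 0, 0, 1, 3, 1, 3, 1, 3, 1, 3, 1, 3, 1, 3, 1, 3, 0, 2, 2, 0, 2, 2, 0, 2, 2, 0, 3, 3, 0, 3, 3, 0, 3, 3, 0, 2, 2, 0, 2, 2, 0, 2, 2, 0, 3, 3, 0, 3, 3, 0, 3, 3, 0, 2, 2, 0, 2, 2, 0, 2, 2, 0, 3, 3, 0, 3, 3, 0, 3, 3, 2, 2, 1, 3, 1, 2, 2, 1, 3, 1, 2, 2, 1, 3, 1, 2, 1, 2, 1, 3, 1])))))))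
/-- subgroup generators -/
def subT : BT (ℕ × List ℕ × List ℕ) := (BT.node 0 (BT.leaf (1, [0], [1])) (BT.leaf (1, [2], [3])))
/-- fact chunks -/
def colET : BT ℕ := (BT.node 1088 (BT.node 544 (BT.node 272 (BT.node 136 (BT.node 68 (BT.node 34 (BT.node 17 (BT.node 8 (BT.node 4 (BT.node 2 (BT.node 1 (BT.node 0 (BT.leaf cE0) (BT.leaf cE1)) (BT.leaf cE2)) (BT.node 3 (BT.leaf cE3) (BT.leaf cE4))) (BT.node 6 (BT.node 5 (BT.leaf cE5) (BT.leaf cE6)) (BT.node 7 (BT.leaf cE7) (BT.leaf cE8)))) (BT.node 13 (BT.node 11 (BT.node 10 (BT.node 9 (BT.leaf cE9) (BT.leaf cE10)) (BT.leaf cE11)) (BT.node 12 (BT.leaf cE12) (BT.leaf cE13))) (BT.node 15 (BT.node 14 (BT.leaf cE14) (BT.leaf cE15)) (BT.node 16 (BT.leaf cE16) (BT.leaf cE17))))) (BT.node 26 (BT.node 22 (BT.node 20 (BT.node 19 (BT.node 18 (BT.leaf cE18) (BT.leaf cE19)) (BT.leaf cE20)) (BT.node 21 (BT.leaf cE21) (BT.leaf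 cE22))) (BT.node 24 (BT.node 23 (BT.leaf cE23) (BT.leaf cE24)) (BT.node 25 (BT.leaf cE25) (BT.leaf cE26)))) (BT.node 30 (BT.node 28 (BT.node 27 (BT.leaf cE27) (BT.leaf cE28)) (BT.node 29 (BT.leaf cE29) (BT.leaf cE30))) (BT.node 32 (BT.node 31 (BT.leaf cE31) (BT.leaf cE32)) (BT.node 33 (BT.leaf cE33) (BT.leaf cE34)))))) (BT.node 51 (BT.node 43 (BT.node 39 (BT.node 37 (BT.node 36 (BT.node 35 (BT.leaf cE35) (BT.leaf cE36)) (BT.leaf cE37)) (BT.node 38 (BT.leaf cE38) (BT.leaf cE39))) (BT.node 41 (BT.node 40 (BT.leaf cE40) (BT.leaf cE41)) (BT.node 42 (BT.leaf cE42) (BT.leaf cE43)))) (BT.node 47 (BT.node 45 (BT.node 44 (BT.leaf cE44) (BT.leaf cE45)) (BT.node 46 (BT.leaf cE46) (BT.leaf cE47))) (BT.node 49 (BT.node 48 (BT.leaf cE48) (BT.leaf cE49)) (BT.node 50 (BT.leaf cE50) (BT.leaf cE51))))) (BT.node 60 (BT.node 56 (BT.node 54 (BT.node 53 (BT.node 52 (BT.leaf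 cE52) (BT.leaf cE53)) (BT.leaf cE54)) (BT.node 55 (BT.leaf cE55) (BT.leaf cE56))) (BT.node 58 (BT.node 57 (BT.leaf cE57) (BT.leaf cE58)) (BT.node 59 (BT.leaf cE59) (BT.leaf cE60)))) (BT.node 64 (BT.node 62 (BT.node 61 (BT.leaf cE61) (BT.leaf cE62)) (BT.node 63 (BT.leaf cE63) (BT.leaf cE64))) (BT.node 66 (BT.node 65 (BT.leaf cE65) (BT.leaf cE66)) (BT.node 67 (BT.leaf cE67) (BT.leaf cE68))))))) (BT.node 102 (BT.node 85 (BT.node 77 (BT.node 73 (BT.node 71 (BT.node 70 (BT.node 69 (BT.leaf cE69) (BT.leaf cE70)) (BT.leaf cE71)) (BT.node 72 (BT.leaf cE72) (BT.leaf cE73))) (BT.node 75 (BT.node 74 (BT.leaf cE74) (BT.leaf cE75)) (BT.node 76 (BT.leaf cE76) (BT.leaf cE77)))) (BT.node 81 (BT.node 79 (BT.node 78 (BT.leaf cE78) (BT.leaf cE79)) (BT.node 80 (BT.leaf cE80) (BT.leaf cE81))) (BT.node 83 (BT.node 82 (BT.leaf cE82) (BT.leaf cE83)) (BT.node 84 (BT.leaf cE84)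 (BT.leaf cE85))))) (BT.node 94 (BT.node 90 (BT.node 88 (BT.node 87 (BT.node 86 (BT.leaf cE86) (BT.leaf cE87)) (BT.leaf cE88)) (BT.node 89 (BT.leaf cE89) (BT.leaf cE90))) (BT.node 92 (BT.node 91 (BT.leaf cE91) (BT.leaf cE92)) (BT.node 93 (BT.leaf cE93) (BT.leaf cE94)))) (BT.node 98 (BT.node 96 (BT.node 95 (BT.leaf cE95) (BT.leaf cE96)) (BT.node 97 (BT.leaf cE97) (BT.leaf cE98))) (BT.node 100 (BT.node 99 (BT.leaf cE99) (BT.leaf cE100)) (BT.node 101 (BT.leaf cE101) (BT.leaf cE102)))))) (BT.node 119 (BT.node 111 (BT.node 107 (BT.node 105 (BT.node 104 (BT.node 103 (BT.leaf cE103) (BT.leaf cE104)) (BT.leaf cE105)) (BT.node 106 (BT.leaf cE106) (BT.leaf cE107))) (BT.node 109 (BT.node 108 (BT.leaf cE108) (BT.leaf cE109)) (BT.node 110 (BT.leaf cE110) (BT.leaf cE111)))) (BT.node 115 (BT.node 113 (BT.node 112 (BT.leaf cE112) (BT.leaf cE113)) (BT.node 114 (BT.leaf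 cE114) (BT.leaf cE115))) (BT.node 117 (BT.node 116 (BT.leaf cE116) (BT.leaf cE117)) (BT.node 118 (BT.leaf cE118) (BT.leaf cE119))))) (BT.node 128 (BT.node 124 (BT.node 122 (BT.node 121 (BT.node 120 (BT.leaf cE120) (BT.leaf cE121)) (BT.leaf cE122)) (BT.node 123 (BT.leaf cE123) (BT.leaf cE124))) (BT.node 126 (BT.node 125 (BT.leaf cE125) (BT.leaf cE126)) (BT.node 127 (BT.leaf cE127) (BT.leaf cE128)))) (BT.node 132 (BT.node 130 (BT.node 129 (BT.leaf cE129) (BT.leaf cE130)) (BT.node 131 (BT.leaf cE131) (BT.leaf cE132))) (BT.node 134 (BT.node 133 (BT.leaf cE133) (BT.leaf cE134)) (BT.node 135 (BT.leaf cE135) (BT.leaf cE136)))))))) (BT.node 204 (BT.node 170 (BT.node 153 (BT.node 145 (BT.node 141 (BT.node 139 (BT.node 138 (BT.node 137 (BT.leaf cE137) (BT.leaf cE138)) (BT.leaf cE139)) (BT.node 140 (BT.leaf cE140) (BT.leaf cE141))) (BT.node 143 (BT.node 142 (BT.leaf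 cE142) (BT.leaf cE143)) (BT.node 144 (BT.leaf cE144) (BT.leaf cE145)))) (BT.node 149 (BT.node 147 (BT.node 146 (BT.leaf cE146) (BT.leaf cE147)) (BT.node 148 (BT.leaf cE148) (BT.leaf cE149))) (BT.node 151 (BT.node 150 (BT.leaf cE150) (BT.leaf cE151)) (BT.node 152 (BT.leaf cE152) (BT.leaf cE153))))) (BT.node 162 (BT.node 158 (BT.node 156 (BT.node 155 (BT.node 154 (BT.leaf cE154) (BT.leaf cE155)) (BT.leaf cE156)) (BT.node 157 (BT.leaf cE157) (BT.leaf cE158))) (BT.node 160 (BT.node 159 (BT.leaf cE159) (BT.leaf cE160)) (BT.node 161 (BT.leaf cE161) (BT.leaf cE162)))) (BT.node 166 (BT.node 164 (BT.node 163 (BT.leaf cE163) (BT.leaf cE164)) (BT.node 165 (BT.leaf cE165) (BT.leaf cE166))) (BT.node 168 (BT.node 167 (BT.leaf cE167) (BT.leaf cE168)) (BT.node 169 (BT.leaf cE169) (BT.leaf cE170)))))) (BT.node 187 (BT.node 179 (BT.node 175 (BT.node 173 (BT.node 172 (BT.node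 171 (BT.leaf cE171) (BT.leaf cE172)) (BT.leaf cE173)) (BT.node 174 (BT.leaf cE174) (BT.leaf cE175))) (BT.node 177 (BT.node 176 (BT.leaf cE176) (BT.leaf cE177)) (BT.node 178 (BT.leaf cE178) (BT.leaf cE179)))) (BT.node 183 (BT.node 181 (BT.node 180 (BT.leaf cE180) (BT.leaf cE181)) (BT.node 182 (BT.leaf cE182) (BT.leaf cE183))) (BT.node 185 (BT.node 184 (BT.leaf cE184) (BT.leaf cE185)) (BT.node 186 (BT.leaf cE186) (BT.leaf cE187))))) (BT.node 196 (BT.node 192 (BT.node 190 (BT.node 189 (BT.node 188 (BT.leaf cE188) (BT.leaf cE189)) (BT.leaf cE190)) (BT.node 191 (BT.leaf cE191) (BT.leaf cE192))) (BT.node 194 (BT.node 193 (BT.leaf cE193) (BT.leaf cE194)) (BT.node 195 (BT.leaf cE195) (BT.leaf cE196)))) (BT.node 200 (BT.node 198 (BT.node 197 (BT.leaf cE197) (BT.leaf cE198)) (BT.node 199 (BT.leaf cE199) (BT.leaf cE200))) (BT.node 202 (BT.node 201 (BT.leaf cE201)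 (BT.leaf cE202)) (BT.node 203 (BT.leaf cE203) (BT.leaf cE204))))))) (BT.node 238 (BT.node 221 (BT.node 213 (BT.node 209 (BT.node 207 (BT.node 206 (BT.node 205 (BT.leaf cE205) (BT.leaf cE206)) (BT.leaf cE207)) (BT.node 208 (BT.leaf cE208) (BT.leaf cE209))) (BT.node 211 (BT.node 210 (BT.leaf cE210) (BT.leaf cE211)) (BT.node 212 (BT.leaf cE212) (BT.leaf cE213)))) (BT.node 217 (BT.node 215 (BT.node 214 (BT.leaf cE214) (BT.leaf cE215)) (BT.node 216 (BT.leaf cE216) (BT.leaf cE217))) (BT.node 219 (BT.node 218 (BT.leaf cE218) (BT.leaf cE219)) (BT.node 220 (BT.leaf cE220) (BT.leaf cE221))))) (BT.node 230 (BT.node 226 (BT.node 224 (BT.node 223 (BT.node 222 (BT.leaf cE222) (BT.leaf cE223)) (BT.leaf cE224)) (BT.node 225 (BT.leaf cE225) (BT.leaf cE226))) (BT.node 228 (BT.node 227 (BT.leaf cE227) (BT.leaf cE228)) (BT.node 229 (BT.leaf cE229) (BT.leaf cE230)))) (BT.node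 234 (BT.node 232 (BT.node 231 (BT.leaf cE231) (BT.leaf cE232)) (BT.node 233 (BT.leaf cE233) (BT.leaf cE234))) (BT.node 236 (BT.node 235 (BT.leaf cE235) (BT.leaf cE236)) (BT.node 237 (BT.leaf cE237) (BT.leaf cE238)))))) (BT.node 255 (BT.node 247 (BT.node 243 (BT.node 241 (BT.node 240 (BT.node 239 (BT.leaf cE239) (BT.leaf cE240)) (BT.leaf cE241)) (BT.node 242 (BT.leaf cE242) (BT.leaf cE243))) (BT.node 245 (BT.node 244 (BT.leaf cE244) (BT.leaf cE245)) (BT.node 246 (BT.leaf cE246) (BT.leaf cE247)))) (BT.node 251 (BT.node 249 (BT.node 248 (BT.leaf cE248) (BT.leaf cE249)) (BT.node 250 (BT.leaf cE250) (BT.leaf cE251))) (BT.node 253 (BT.node 252 (BT.leaf cE252) (BT.leaf cE253)) (BT.node 254 (BT.leaf cE254) (BT.leaf cE255))))) (BT.node 264 (BT.node 260 (BT.node 258 (BT.node 257 (BT.node 256 (BT.leaf cE256) (BT.leaf cE257)) (BT.leaf cE258)) (BT.node 259 (BT.leaf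 cE259) (BT.leaf cE260))) (BT.node 262 (BT.node 261 (BT.leaf cE261) (BT.leaf cE262)) (BT.node 263 (BT.leaf cE263) (BT.leaf cE264)))) (BT.node 268 (BT.node 266 (BT.node 265 (BT.leaf cE265) (BT.leaf cE266)) (BT.node 267 (BT.leaf cE267) (BT.leaf cE268))) (BT.node 270 (BT.node 269 (BT.leaf cE269) (BT.leaf cE270)) (BT.node 271 (BT.leaf cE271) (BT.leaf cE272))))))))) (BT.node 408 (BT.node 340 (BT.node 306 (BT.node 289 (BT.node 281 (BT.node 277 (BT.node 275 (BT.node 274 (BT.node 273 (BT.leaf cE273) (BT.leaf cE274)) (BT.leaf cE275)) (BT.node 276 (BT.leaf cE276) (BT.leaf cE277))) (BT.node 279 (BT.node 278 (BT.leaf cE278) (BT.leaf cE279)) (BT.node 280 (BT.leaf cE280) (BT.leaf cE281)))) (BT.node 285 (BT.node 283 (BT.node 282 (BT.leaf cE282) (BT.leaf cE283)) (BT.node 284 (BT.leaf cE284) (BT.leaf cE285))) (BT.node 287 (BT.node 286 (BT.leaf cE286) (BT.leaf cE287))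 (BT.node 288 (BT.leaf cE288) (BT.leaf cE289))))) (BT.node 298 (BT.node 294 (BT.node 292 (BT.node 291 (BT.node 290 (BT.leaf cE290) (BT.leaf cE291)) (BT.leaf cE292)) (BT.node 293 (BT.leaf cE293) (BT.leaf cE294))) (BT.node 296 (BT.node 295 (BT.leaf cE295) (BT.leaf cE296)) (BT.node 297 (BT.leaf cE297) (BT.leaf cE298)))) (BT.node 302 (BT.node 300 (BT.node 299 (BT.leaf cE299) (BT.leaf cE300)) (BT.node 301 (BT.leaf cE301) (BT.leaf cE302))) (BT.node 304 (BT.node 303 (BT.leaf cE303) (BT.leaf cE304)) (BT.node 305 (BT.leaf cE305) (BT.leaf cE306)))))) (BT.node 323 (BT.node 315 (BT.node 311 (BT.node 309 (BT.node 308 (BT.node 307 (BT.leaf cE307) (BT.leaf cE308)) (BT.leaf cE309)) (BT.node 310 (BT.leaf cE310) (BT.leaf cE311))) (BT.node 313 (BT.node 312 (BT.leaf cE312) (BT.leaf cE313)) (BT.node 314 (BT.leaf cE314) (BT.leaf cE315)))) (BT.node 319 (BT.node 317 (BT.node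 316 (BT.leaf cE316) (BT.leaf cE317)) (BT.node 318 (BT.leaf cE318) (BT.leaf cE319))) (BT.node 321 (BT.node 320 (BT.leaf cE320) (BT.leaf cE321)) (BT.node 322 (BT.leaf cE322) (BT.leaf cE323))))) (BT.node 332 (BT.node 328 (BT.node 326 (BT.node 325 (BT.node 324 (BT.leaf cE324) (BT.leaf cE325)) (BT.leaf cE326)) (BT.node 327 (BT.leaf cE327) (BT.leaf cE328))) (BT.node 330 (BT.node 329 (BT.leaf cE329) (BT.leaf cE330)) (BT.node 331 (BT.leaf cE331) (BT.leaf cE332)))) (BT.node 336 (BT.node 334 (BT.node 333 (BT.leaf cE333) (BT.leaf cE334)) (BT.node 335 (BT.leaf cE335) (BT.leaf cE336))) (BT.node 338 (BT.node 337 (BT.leaf cE337) (BT.leaf cE338)) (BT.node 339 (BT.leaf cE339) (BT.leaf cE340))))))) (BT.node 374 (BT.node 357 (BT.node 349 (BT.node 345 (BT.node 343 (BT.node 342 (BT.node 341 (BT.leaf cE341) (BT.leaf cE342)) (BT.leaf cE343)) (BT.node 344 (BT.leaf cE344) (BT.leaf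 cE345))) (BT.node 347 (BT.node 346 (BT.leaf cE346) (BT.leaf cE347)) (BT.node 348 (BT.leaf cE348) (BT.leaf cE349)))) (BT.node 353 (BT.node 351 (BT.node 350 (BT.leaf cE350) (BT.leaf cE351)) (BT.node 352 (BT.leaf cE352) (BT.leaf cE353))) (BT.node 355 (BT.node 354 (BT.leaf cE354) (BT.leaf cE355)) (BT.node 356 (BT.leaf cE356) (BT.leaf cE357))))) (BT.node 366 (BT.node 362 (BT.node 360 (BT.node 359 (BT.node 358 (BT.leaf cE358) (BT.leaf cE359)) (BT.leaf cE360)) (BT.node 361 (BT.leaf cE361) (BT.leaf cE362))) (BT.node 364 (BT.node 363 (BT.leaf cE363) (BT.leaf cE364)) (BT.node 365 (BT.leaf cE365) (BT.leaf cE366)))) (BT.node 370 (BT.node 368 (BT.node 367 (BT.leaf cE367) (BT.leaf cE368)) (BT.node 369 (BT.leaf cE369) (BT.leaf cE370))) (BT.node 372 (BT.node 371 (BT.leaf cE371) (BT.leaf cE372)) (BT.node 373 (BT.leaf cE373) (BT.leaf cE374)))))) (BT.node 391 (BT.node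 383 (BT.node 379 (BT.node 377 (BT.node 376 (BT.node 375 (BT.leaf cE375) (BT.leaf cE376)) (BT.leaf cE377)) (BT.node 378 (BT.leaf cE378) (BT.leaf cE379))) (BT.node 381 (BT.node 380 (BT.leaf cE380) (BT.leaf cE381)) (BT.node 382 (BT.leaf cE382) (BT.leaf cE383)))) (BT.node 387 (BT.node 385 (BT.node 384 (BT.leaf cE384) (BT.leaf cE385)) (BT.node 386 (BT.leaf cE386) (BT.leaf cE387))) (BT.node 389 (BT.node 388 (BT.leaf cE388) (BT.leaf cE389)) (BT.node 390 (BT.leaf cE390) (BT.leaf cE391))))) (BT.node 400 (BT.node 396 (BT.node 394 (BT.node 393 (BT.node 392 (BT.leaf cE392) (BT.leaf cE393)) (BT.leaf cE394)) (BT.node 395 (BT.leaf cE395) (BT.leaf cE396))) (BT.node 398 (BT.node 397 (BT.leaf cE397) (BT.leaf cE398)) (BT.node 399 (BT.leaf cE399) (BT.leaf cE400)))) (BT.node 404 (BT.node 402 (BT.node 401 (BT.leaf cE401) (BT.leaf cE402)) (BT.node 403 (BT.leaf cE403) (BT.leaf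 cE404))) (BT.node 406 (BT.node 405 (BT.leaf cE405) (BT.leaf cE406)) (BT.node 407 (BT.leaf cE407) (BT.leaf cE408)))))))) (BT.node 476 (BT.node 442 (BT.node 425 (BT.node 417 (BT.node 413 (BT.node 411 (BT.node 410 (BT.node 409 (BT.leaf cE409) (BT.leaf cE410)) (BT.leaf cE411)) (BT.node 412 (BT.leaf cE412) (BT.leaf cE413))) (BT.node 415 (BT.node 414 (BT.leaf cE414) (BT.leaf cE415)) (BT.node 416 (BT.leaf cE416) (BT.leaf cE417)))) (BT.node 421 (BT.node 419 (BT.node 418 (BT.leaf cE418) (BT.leaf cE419)) (BT.node 420 (BT.leaf cE420) (BT.leaf cE421))) (BT.node 423 (BT.node 422 (BT.leaf cE422) (BT.leaf cE423)) (BT.node 424 (BT.leaf cE424) (BT.leaf cE425))))) (BT.node 434 (BT.node 430 (BT.node 428 (BT.node 427 (BT.node 426 (BT.leaf cE426) (BT.leaf cE427)) (BT.leaf cE428)) (BT.node 429 (BT.leaf cE429) (BT.leaf cE430))) (BT.node 432 (BT.node 431 (BT.leaf cE431) (BT.leaf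 cE432)) (BT.node 433 (BT.leaf cE433) (BT.leaf cE434)))) (BT.node 438 (BT.node 436 (BT.node 435 (BT.leaf cE435) (BT.leaf cE436)) (BT.node 437 (BT.leaf cE437) (BT.leaf cE438))) (BT.node 440 (BT.node 439 (BT.leaf cE439) (BT.leaf cE440)) (BT.node 441 (BT.leaf cE441) (BT.leaf cE442)))))) (BT.node 459 (BT.node 451 (BT.node 447 (BT.node 445 (BT.node 444 (BT.node 443 (BT.leaf cE443) (BT.leaf cE444)) (BT.leaf cE445)) (BT.node 446 (BT.leaf cE446) (BT.leaf cE447))) (BT.node 449 (BT.node 448 (BT.leaf cE448) (BT.leaf cE449)) (BT.node 450 (BT.leaf cE450) (BT.leaf cE451)))) (BT.node 455 (BT.node 453 (BT.node 452 (BT.leaf cE452) (BT.leaf cE453)) (BT.node 454 (BT.leaf cE454) (BT.leaf cE455))) (BT.node 457 (BT.node 456 (BT.leaf cE456) (BT.leaf cE457)) (BT.node 458 (BT.leaf cE458) (BT.leaf cE459))))) (BT.node 468 (BT.node 464 (BT.node 462 (BT.node 461 (BT.node 460 (BT.leaf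 cE460) (BT.leaf cE461)) (BT.leaf cE462)) (BT.node 463 (BT.leaf cE463) (BT.leaf cE464))) (BT.node 466 (BT.node 465 (BT.leaf cE465) (BT.leaf cE466)) (BT.node 467 (BT.leaf cE467) (BT.leaf cE468)))) (BT.node 472 (BT.node 470 (BT.node 469 (BT.leaf cE469) (BT.leaf cE470)) (BT.node 471 (BT.leaf cE471) (BT.leaf cE472))) (BT.node 474 (BT.node 473 (BT.leaf cE473) (BT.leaf cE474)) (BT.node 475 (BT.leaf cE475) (BT.leaf cE476))))))) (BT.node 510 (BT.node 493 (BT.node 485 (BT.node 481 (BT.node 479 (BT.node 478 (BT.node 477 (BT.leaf cE477) (BT.leaf cE478)) (BT.leaf cE479)) (BT.node 480 (BT.leaf cE480) (BT.leaf cE481))) (BT.node 483 (BT.node 482 (BT.leaf cE482) (BT.leaf cE483)) (BT.node 484 (BT.leaf cE484) (BT.leaf cE485)))) (BT.node 489 (BT.node 487 (BT.node 486 (BT.leaf cE486) (BT.leaf cE487)) (BT.node 488 (BT.leaf cE488) (BT.leaf cE489))) (BT.node 491 (BT.node 490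 (BT.leaf cE490) (BT.leaf cE491)) (BT.node 492 (BT.leaf cE492) (BT.leaf cE493))))) (BT.node 502 (BT.node 498 (BT.node 496 (BT.node 495 (BT.node 494 (BT.leaf cE494) (BT.leaf cE495)) (BT.leaf cE496)) (BT.node 497 (BT.leaf cE497) (BT.leaf cE498))) (BT.node 500 (BT.node 499 (BT.leaf cE499) (BT.leaf cE500)) (BT.node 501 (BT.leaf cE501) (BT.leaf cE502)))) (BT.node 506 (BT.node 504 (BT.node 503 (BT.leaf cE503) (BT.leaf cE504)) (BT.node 505 (BT.leaf cE505) (BT.leaf cE506))) (BT.node 508 (BT.node 507 (BT.leaf cE507) (BT.leaf cE508)) (BT.node 509 (BT.leaf cE509) (BT.leaf cE510)))))) (BT.node 527 (BT.node 519 (BT.node 515 (BT.node 513 (BT.node 512 (BT.node 511 (BT.leaf cE511) (BT.leaf cE512)) (BT.leaf cE513)) (BT.node 514 (BT.leaf cE514) (BT.leaf cE515))) (BT.node 517 (BT.node 516 (BT.leaf cE516) (BT.leaf cE517)) (BT.node 518 (BT.leaf cE518) (BT.leaf cE519)))) (BT.node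 523 (BT.node 521 (BT.node 520 (BT.leaf cE520) (BT.leaf cE521)) (BT.node 522 (BT.leaf cE522) (BT.leaf cE523))) (BT.node 525 (BT.node 524 (BT.leaf cE524) (BT.leaf cE525)) (BT.node 526 (BT.leaf cE526) (BT.leaf cE527))))) (BT.node 536 (BT.node 532 (BT.node 530 (BT.node 529 (BT.node 528 (BT.leaf cE528) (BT.leaf cE529)) (BT.leaf cE530)) (BT.node 531 (BT.leaf cE531) (BT.leaf cE532))) (BT.node 534 (BT.node 533 (BT.leaf cE533) (BT.leaf cE534)) (BT.node 535 (BT.leaf cE535) (BT.leaf cE536)))) (BT.node 540 (BT.node 538 (BT.node 537 (BT.leaf cE537) (BT.leaf cE538)) (BT.node 539 (BT.leaf cE539) (BT.leaf cE540))) (BT.node 542 (BT.node 541 (BT.leaf cE541) (BT.leaf cE542)) (BT.node 543 (BT.leaf cE543) (BT.leaf cE544)))))))))) (BT.node 816 (BT.node 680 (BT.node 612 (BT.node 578 (BT.node 561 (BT.node 553 (BT.node 549 (BT.node 547 (BT.node 546 (BT.node 545 (BT.leaf cE545)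 (BT.leaf cE546)) (BT.leaf cE547)) (BT.node 548 (BT.leaf cE548) (BT.leaf cE549))) (BT.node 551 (BT.node 550 (BT.leaf cE550) (BT.leaf cE551)) (BT.node 552 (BT.leaf cE552) (BT.leaf cE553)))) (BT.node 557 (BT.node 555 (BT.node 554 (BT.leaf cE554) (BT.leaf cE555)) (BT.node 556 (BT.leaf cE556) (BT.leaf cE557))) (BT.node 559 (BT.node 558 (BT.leaf cE558) (BT.leaf cE559)) (BT.node 560 (BT.leaf cE560) (BT.leaf cE561))))) (BT.node 570 (BT.node 566 (BT.node 564 (BT.node 563 (BT.node 562 (BT.leaf cE562) (BT.leaf cE563)) (BT.leaf cE564)) (BT.node 565 (BT.leaf cE565) (BT.leaf cE566))) (BT.node 568 (BT.node 567 (BT.leaf cE567) (BT.leaf cE568)) (BT.node 569 (BT.leaf cE569) (BT.leaf cE570)))) (BT.node 574 (BT.node 572 (BT.node 571 (BT.leaf cE571) (BT.leaf cE572)) (BT.node 573 (BT.leaf cE573) (BT.leaf cE574))) (BT.node 576 (BT.node 575 (BT.leaf cE575) (BT.leaf cE576))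 (BT.node 577 (BT.leaf cE577) (BT.leaf cE578)))))) (BT.node 595 (BT.node 587 (BT.node 583 (BT.node 581 (BT.node 580 (BT.node 579 (BT.leaf cE579) (BT.leaf cE580)) (BT.leaf cE581)) (BT.node 582 (BT.leaf cE582) (BT.leaf cE583))) (BT.node 585 (BT.node 584 (BT.leaf cE584) (BT.leaf cE585)) (BT.node 586 (BT.leaf cE586) (BT.leaf cE587)))) (BT.node 591 (BT.node 589 (BT.node 588 (BT.leaf cE588) (BT.leaf cE589)) (BT.node 590 (BT.leaf cE590) (BT.leaf cE591))) (BT.node 593 (BT.node 592 (BT.leaf cE592) (BT.leaf cE593)) (BT.node 594 (BT.leaf cE594) (BT.leaf cE595))))) (BT.node 604 (BT.node 600 (BT.node 598 (BT.node 597 (BT.node 596 (BT.leaf cE596) (BT.leaf cE597)) (BT.leaf cE598)) (BT.node 599 (BT.leaf cE599) (BT.leaf cE600))) (BT.node 602 (BT.node 601 (BT.leaf cE601) (BT.leaf cE602)) (BT.node 603 (BT.leaf cE603) (BT.leaf cE604)))) (BT.node 608 (BT.node 606 (BT.node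 605 (BT.leaf cE605) (BT.leaf cE606)) (BT.node 607 (BT.leaf cE607) (BT.leaf cE608))) (BT.node 610 (BT.node 609 (BT.leaf cE609) (BT.leaf cE610)) (BT.node 611 (BT.leaf cE611) (BT.leaf cE612))))))) (BT.node 646 (BT.node 629 (BT.node 621 (BT.node 617 (BT.node 615 (BT.node 614 (BT.node 613 (BT.leaf cE613) (BT.leaf cE614)) (BT.leaf cE615)) (BT.node 616 (BT.leaf cE616) (BT.leaf cE617))) (BT.node 619 (BT.node 618 (BT.leaf cE618) (BT.leaf cE619)) (BT.node 620 (BT.leaf cE620) (BT.leaf cE621)))) (BT.node 625 (BT.node 623 (BT.node 622 (BT.leaf cE622) (BT.leaf cE623)) (BT.node 624 (BT.leaf cE624) (BT.leaf cE625))) (BT.node 627 (BT.node 626 (BT.leaf cE626) (BT.leaf cE627)) (BT.node 628 (BT.leaf cE628) (BT.leaf cE629))))) (BT.node 638 (BT.node 634 (BT.node 632 (BT.node 631 (BT.node 630 (BT.leaf cE630) (BT.leaf cE631)) (BT.leaf cE632)) (BT.node 633 (BT.leaf cE633) (BT.leaf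 cE634))) (BT.node 636 (BT.node 635 (BT.leaf cE635) (BT.leaf cE636)) (BT.node 637 (BT.leaf cE637) (BT.leaf cE638)))) (BT.node 642 (BT.node 640 (BT.node 639 (BT.leaf cE639) (BT.leaf cE640)) (BT.node 641 (BT.leaf cE641) (BT.leaf cE642))) (BT.node 644 (BT.node 643 (BT.leaf cE643) (BT.leaf cE644)) (BT.node 645 (BT.leaf cE645) (BT.leaf cE646)))))) (BT.node 663 (BT.node 655 (BT.node 651 (BT.node 649 (BT.node 648 (BT.node 647 (BT.leaf cE647) (BT.leaf cE648)) (BT.leaf cE649)) (BT.node 650 (BT.leaf cE650) (BT.leaf cE651))) (BT.node 653 (BT.node 652 (BT.leaf cE652) (BT.leaf cE653)) (BT.node 654 (BT.leaf cE654) (BT.leaf cE655)))) (BT.node 659 (BT.node 657 (BT.node 656 (BT.leaf cE656) (BT.leaf cE657)) (BT.node 658 (BT.leaf cE658) (BT.leaf cE659))) (BT.node 661 (BT.node 660 (BT.leaf cE660) (BT.leaf cE661)) (BT.node 662 (BT.leaf cE662) (BT.leaf cE663))))) (BT.node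 672 (BT.node 668 (BT.node 666 (BT.node 665 (BT.node 664 (BT.leaf cE664) (BT.leaf cE665)) (BT.leaf cE666)) (BT.node 667 (BT.leaf cE667) (BT.leaf cE668))) (BT.node 670 (BT.node 669 (BT.leaf cE669) (BT.leaf cE670)) (BT.node 671 (BT.leaf cE671) (BT.leaf cE672)))) (BT.node 676 (BT.node 674 (BT.node 673 (BT.leaf cE673) (BT.leaf cE674)) (BT.node 675 (BT.leaf cE675) (BT.leaf cE676))) (BT.node 678 (BT.node 677 (BT.leaf cE677) (BT.leaf cE678)) (BT.node 679 (BT.leaf cE679) (BT.leaf cE680)))))))) (BT.node 748 (BT.node 714 (BT.node 697 (BT.node 689 (BT.node 685 (BT.node 683 (BT.node 682 (BT.node 681 (BT.leaf cE681) (BT.leaf cE682)) (BT.leaf cE683)) (BT.node 684 (BT.leaf cE684) (BT.leaf cE685))) (BT.node 687 (BT.node 686 (BT.leaf cE686) (BT.leaf cE687)) (BT.node 688 (BT.leaf cE688) (BT.leaf cE689)))) (BT.node 693 (BT.node 691 (BT.node 690 (BT.leaf cE690) (BT.leaf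 cE691)) (BT.node 692 (BT.leaf cE692) (BT.leaf cE693))) (BT.node 695 (BT.node 694 (BT.leaf cE694) (BT.leaf cE695)) (BT.node 696 (BT.leaf cE696) (BT.leaf cE697))))) (BT.node 706 (BT.node 702 (BT.node 700 (BT.node 699 (BT.node 698 (BT.leaf cE698) (BT.leaf cE699)) (BT.leaf cE700)) (BT.node 701 (BT.leaf cE701) (BT.leaf cE702))) (BT.node 704 (BT.node 703 (BT.leaf cE703) (BT.leaf cE704)) (BT.node 705 (BT.leaf cE705) (BT.leaf cE706)))) (BT.node 710 (BT.node 708 (BT.node 707 (BT.leaf cE707) (BT.leaf cE708)) (BT.node 709 (BT.leaf cE709) (BT.leaf cE710))) (BT.node 712 (BT.node 711 (BT.leaf cE711) (BT.leaf cE712)) (BT.node 713 (BT.leaf cE713) (BT.leaf cE714)))))) (BT.node 731 (BT.node 723 (BT.node 719 (BT.node 717 (BT.node 716 (BT.node 715 (BT.leaf cE715) (BT.leaf cE716)) (BT.leaf cE717)) (BT.node 718 (BT.leaf cE718) (BT.leaf cE719))) (BT.node 721 (BT.node 720 (BT.leaf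 cE720) (BT.leaf cE721)) (BT.node 722 (BT.leaf cE722) (BT.leaf cE723)))) (BT.node 727 (BT.node 725 (BT.node 724 (BT.leaf cE724) (BT.leaf cE725)) (BT.node 726 (BT.leaf cE726) (BT.leaf cE727))) (BT.node 729 (BT.node 728 (BT.leaf cE728) (BT.leaf cE729)) (BT.node 730 (BT.leaf cE730) (BT.leaf cE731))))) (BT.node 740 (BT.node 736 (BT.node 734 (BT.node 733 (BT.node 732 (BT.leaf cE732) (BT.leaf cE733)) (BT.leaf cE734)) (BT.node 735 (BT.leaf cE735) (BT.leaf cE736))) (BT.node 738 (BT.node 737 (BT.leaf cE737) (BT.leaf cE738)) (BT.node 739 (BT.leaf cE739) (BT.leaf cE740)))) (BT.node 744 (BT.node 742 (BT.node 741 (BT.leaf cE741) (BT.leaf cE742)) (BT.node 743 (BT.leaf cE743) (BT.leaf cE744))) (BT.node 746 (BT.node 745 (BT.leaf cE745) (BT.leaf cE746)) (BT.node 747 (BT.leaf cE747) (BT.leaf cE748))))))) (BT.node 782 (BT.node 765 (BT.node 757 (BT.node 753 (BT.node 751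 (BT.node 750 (BT.node 749 (BT.leaf cE749) (BT.leaf cE750)) (BT.leaf cE751)) (BT.node 752 (BT.leaf cE752) (BT.leaf cE753))) (BT.node 755 (BT.node 754 (BT.leaf cE754) (BT.leaf cE755)) (BT.node 756 (BT.leaf cE756) (BT.leaf cE757)))) (BT.node 761 (BT.node 759 (BT.node 758 (BT.leaf cE758) (BT.leaf cE759)) (BT.node 760 (BT.leaf cE760) (BT.leaf cE761))) (BT.node 763 (BT.node 762 (BT.leaf cE762) (BT.leaf cE763)) (BT.node 764 (BT.leaf cE764) (BT.leaf cE765))))) (BT.node 774 (BT.node 770 (BT.node 768 (BT.node 767 (BT.node 766 (BT.leaf cE766) (BT.leaf cE767)) (BT.leaf cE768)) (BT.node 769 (BT.leaf cE769) (BT.leaf cE770))) (BT.node 772 (BT.node 771 (BT.leaf cE771) (BT.leaf cE772)) (BT.node 773 (BT.leaf cE773) (BT.leaf cE774)))) (BT.node 778 (BT.node 776 (BT.node 775 (BT.leaf cE775) (BT.leaf cE776)) (BT.node 777 (BT.leaf cE777) (BT.leaf cE778))) (BT.node 780 (BT.node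 779 (BT.leaf cE779) (BT.leaf cE780)) (BT.node 781 (BT.leaf cE781) (BT.leaf cE782)))))) (BT.node 799 (BT.node 791 (BT.node 787 (BT.node 785 (BT.node 784 (BT.node 783 (BT.leaf cE783) (BT.leaf cE784)) (BT.leaf cE785)) (BT.node 786 (BT.leaf cE786) (BT.leaf cE787))) (BT.node 789 (BT.node 788 (BT.leaf cE788) (BT.leaf cE789)) (BT.node 790 (BT.leaf cE790) (BT.leaf cE791)))) (BT.node 795 (BT.node 793 (BT.node 792 (BT.leaf cE792) (BT.leaf cE793)) (BT.node 794 (BT.leaf cE794) (BT.leaf cE795))) (BT.node 797 (BT.node 796 (BT.leaf cE796) (BT.leaf cE797)) (BT.node 798 (BT.leaf cE798) (BT.leaf cE799))))) (BT.node 808 (BT.node 804 (BT.node 802 (BT.node 801 (BT.node 800 (BT.leaf cE800) (BT.leaf cE801)) (BT.leaf cE802)) (BT.node 803 (BT.leaf cE803) (BT.leaf cE804))) (BT.node 806 (BT.node 805 (BT.leaf cE805) (BT.leaf cE806)) (BT.node 807 (BT.leaf cE807) (BT.leaf cE808))))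 (BT.node 812 (BT.node 810 (BT.node 809 (BT.leaf cE809) (BT.leaf cE810)) (BT.node 811 (BT.leaf cE811) (BT.leaf cE812))) (BT.node 814 (BT.node 813 (BT.leaf cE813) (BT.leaf cE814)) (BT.node 815 (BT.leaf cE815) (BT.leaf cE816))))))))) (BT.node 952 (BT.node 884 (BT.node 850 (BT.node 833 (BT.node 825 (BT.node 821 (BT.node 819 (BT.node 818 (BT.node 817 (BT.leaf cE817) (BT.leaf cE818)) (BT.leaf cE819)) (BT.node 820 (BT.leaf cE820) (BT.leaf cE821))) (BT.node 823 (BT.node 822 (BT.leaf cE822) (BT.leaf cE823)) (BT.node 824 (BT.leaf cE824) (BT.leaf cE825)))) (BT.node 829 (BT.node 827 (BT.node 826 (BT.leaf cE826) (BT.leaf cE827)) (BT.node 828 (BT.leaf cE828) (BT.leaf cE829))) (BT.node 831 (BT.node 830 (BT.leaf cE830) (BT.leaf cE831)) (BT.node 832 (BT.leaf cE832) (BT.leaf cE833))))) (BT.node 842 (BT.node 838 (BT.node 836 (BT.node 835 (BT.node 834 (BT.leaf cE834) (BT.leaf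 cE835)) (BT.leaf cE836)) (BT.node 837 (BT.leaf cE837) (BT.leaf cE838))) (BT.node 840 (BT.node 839 (BT.leaf cE839) (BT.leaf cE840)) (BT.node 841 (BT.leaf cE841) (BT.leaf cE842)))) (BT.node 846 (BT.node 844 (BT.node 843 (BT.leaf cE843) (BT.leaf cE844)) (BT.node 845 (BT.leaf cE845) (BT.leaf cE846))) (BT.node 848 (BT.node 847 (BT.leaf cE847) (BT.leaf cE848)) (BT.node 849 (BT.leaf cE849) (BT.leaf cE850)))))) (BT.node 867 (BT.node 859 (BT.node 855 (BT.node 853 (BT.node 852 (BT.node 851 (BT.leaf cE851) (BT.leaf cE852)) (BT.leaf cE853)) (BT.node 854 (BT.leaf cE854) (BT.leaf cE855))) (BT.node 857 (BT.node 856 (BT.leaf cE856) (BT.leaf cE857)) (BT.node 858 (BT.leaf cE858) (BT.leaf cE859)))) (BT.node 863 (BT.node 861 (BT.node 860 (BT.leaf cE860) (BT.leaf cE861)) (BT.node 862 (BT.leaf cE862) (BT.leaf cE863))) (BT.node 865 (BT.node 864 (BT.leaf cE864) (BT.leaf cE865))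 (BT.node 866 (BT.leaf cE866) (BT.leaf cE867))))) (BT.node 876 (BT.node 872 (BT.node 870 (BT.node 869 (BT.node 868 (BT.leaf cE868) (BT.leaf cE869)) (BT.leaf cE870)) (BT.node 871 (BT.leaf cE871) (BT.leaf cE872))) (BT.node 874 (BT.node 873 (BT.leaf cE873) (BT.leaf cE874)) (BT.node 875 (BT.leaf cE875) (BT.leaf cE876)))) (BT.node 880 (BT.node 878 (BT.node 877 (BT.leaf cE877) (BT.leaf cE878)) (BT.node 879 (BT.leaf cE879) (BT.leaf cE880))) (BT.node 882 (BT.node 881 (BT.leaf cE881) (BT.leaf cE882)) (BT.node 883 (BT.leaf cE883) (BT.leaf cE884))))))) (BT.node 918 (BT.node 901 (BT.node 893 (BT.node 889 (BT.node 887 (BT.node 886 (BT.node 885 (BT.leaf cE885) (BT.leaf cE886)) (BT.leaf cE887)) (BT.node 888 (BT.leaf cE888) (BT.leaf cE889))) (BT.node 891 (BT.node 890 (BT.leaf cE890) (BT.leaf cE891)) (BT.node 892 (BT.leaf cE892) (BT.leaf cE893)))) (BT.node 897 (BT.node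 895 (BT.node 894 (BT.leaf cE894) (BT.leaf cE895)) (BT.node 896 (BT.leaf cE896) (BT.leaf cE897))) (BT.node 899 (BT.node 898 (BT.leaf cE898) (BT.leaf cE899)) (BT.node 900 (BT.leaf cE900) (BT.leaf cE901))))) (BT.node 910 (BT.node 906 (BT.node 904 (BT.node 903 (BT.node 902 (BT.leaf cE902) (BT.leaf cE903)) (BT.leaf cE904)) (BT.node 905 (BT.leaf cE905) (BT.leaf cE906))) (BT.node 908 (BT.node 907 (BT.leaf cE907) (BT.leaf cE908)) (BT.node 909 (BT.leaf cE909) (BT.leaf cE910)))) (BT.node 914 (BT.node 912 (BT.node 911 (BT.leaf cE911) (BT.leaf cE912)) (BT.node 913 (BT.leaf cE913) (BT.leaf cE914))) (BT.node 916 (BT.node 915 (BT.leaf cE915) (BT.leaf cE916)) (BT.node 917 (BT.leaf cE917) (BT.leaf cE918)))))) (BT.node 935 (BT.node 927 (BT.node 923 (BT.node 921 (BT.node 920 (BT.node 919 (BT.leaf cE919) (BT.leaf cE920)) (BT.leaf cE921)) (BT.node 922 (BT.leaf cE922) (BT.leaf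 cE923))) (BT.node 925 (BT.node 924 (BT.leaf cE924) (BT.leaf cE925)) (BT.node 926 (BT.leaf cE926) (BT.leaf cE927)))) (BT.node 931 (BT.node 929 (BT.node 928 (BT.leaf cE928) (BT.leaf cE929)) (BT.node 930 (BT.leaf cE930) (BT.leaf cE931))) (BT.node 933 (BT.node 932 (BT.leaf cE932) (BT.leaf cE933)) (BT.node 934 (BT.leaf cE934) (BT.leaf cE935))))) (BT.node 944 (BT.node 940 (BT.node 938 (BT.node 937 (BT.node 936 (BT.leaf cE936) (BT.leaf cE937)) (BT.leaf cE938)) (BT.node 939 (BT.leaf cE939) (BT.leaf cE940))) (BT.node 942 (BT.node 941 (BT.leaf cE941) (BT.leaf cE942)) (BT.node 943 (BT.leaf cE943) (BT.leaf cE944)))) (BT.node 948 (BT.node 946 (BT.node 945 (BT.leaf cE945) (BT.leaf cE946)) (BT.node 947 (BT.leaf cE947) (BT.leaf cE948))) (BT.node 950 (BT.node 949 (BT.leaf cE949) (BT.leaf cE950)) (BT.node 951 (BT.leaf cE951) (BT.leaf cE952)))))))) (BT.node 1020 (BT.node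 986 (BT.node 969 (BT.node 961 (BT.node 957 (BT.node 955 (BT.node 954 (BT.node 953 (BT.leaf cE953) (BT.leaf cE954)) (BT.leaf cE955)) (BT.node 956 (BT.leaf cE956) (BT.leaf cE957))) (BT.node 959 (BT.node 958 (BT.leaf cE958) (BT.leaf cE959)) (BT.node 960 (BT.leaf cE960) (BT.leaf cE961)))) (BT.node 965 (BT.node 963 (BT.node 962 (BT.leaf cE962) (BT.leaf cE963)) (BT.node 964 (BT.leaf cE964) (BT.leaf cE965))) (BT.node 967 (BT.node 966 (BT.leaf cE966) (BT.leaf cE967)) (BT.node 968 (BT.leaf cE968) (BT.leaf cE969))))) (BT.node 978 (BT.node 974 (BT.node 972 (BT.node 971 (BT.node 970 (BT.leaf cE970) (BT.leaf cE971)) (BT.leaf cE972)) (BT.node 973 (BT.leaf cE973) (BT.leaf cE974))) (BT.node 976 (BT.node 975 (BT.leaf cE975) (BT.leaf cE976)) (BT.node 977 (BT.leaf cE977) (BT.leaf cE978)))) (BT.node 982 (BT.node 980 (BT.node 979 (BT.leaf cE979) (BT.leaf cE980)) (BT.node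 981 (BT.leaf cE981) (BT.leaf cE982))) (BT.node 984 (BT.node 983 (BT.leaf cE983) (BT.leaf cE984)) (BT.node 985 (BT.leaf cE985) (BT.leaf cE986)))))) (BT.node 1003 (BT.node 995 (BT.node 991 (BT.node 989 (BT.node 988 (BT.node 987 (BT.leaf cE987) (BT.leaf cE988)) (BT.leaf cE989)) (BT.node 990 (BT.leaf cE990) (BT.leaf cE991))) (BT.node 993 (BT.node 992 (BT.leaf cE992) (BT.leaf cE993)) (BT.node 994 (BT.leaf cE994) (BT.leaf cE995)))) (BT.node 999 (BT.node 997 (BT.node 996 (BT.leaf cE996) (BT.leaf cE997)) (BT.node 998 (BT.leaf cE998) (BT.leaf cE999))) (BT.node 1001 (BT.node 1000 (BT.leaf cE1000) (BT.leaf cE1001)) (BT.node 1002 (BT.leaf cE1002) (BT.leaf cE1003))))) (BT.node 1012 (BT.node 1008 (BT.node 1006 (BT.node 1005 (BT.node 1004 (BT.leaf cE1004) (BT.leaf cE1005)) (BT.leaf cE1006)) (BT.node 1007 (BT.leaf cE1007) (BT.leaf cE1008))) (BT.node 1010 (BT.node 1009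 (BT.leaf cE1009) (BT.leaf cE1010)) (BT.node 1011 (BT.leaf cE1011) (BT.leaf cE1012)))) (BT.node 1016 (BT.node 1014 (BT.node 1013 (BT.leaf cE1013) (BT.leaf cE1014)) (BT.node 1015 (BT.leaf cE1015) (BT.leaf cE1016))) (BT.node 1018 (BT.node 1017 (BT.leaf cE1017) (BT.leaf cE1018)) (BT.node 1019 (BT.leaf cE1019) (BT.leaf cE1020))))))) (BT.node 1054 (BT.node 1037 (BT.node 1029 (BT.node 1025 (BT.node 1023 (BT.node 1022 (BT.node 1021 (BT.leaf cE1021) (BT.leaf cE1022)) (BT.leaf cE1023)) (BT.node 1024 (BT.leaf cE1024) (BT.leaf cE1025))) (BT.node 1027 (BT.node 1026 (BT.leaf cE1026) (BT.leaf cE1027)) (BT.node 1028 (BT.leaf cE1028) (BT.leaf cE1029)))) (BT.node 1033 (BT.node 1031 (BT.node 1030 (BT.leaf cE1030) (BT.leaf cE1031)) (BT.node 1032 (BT.leaf cE1032) (BT.leaf cE1033))) (BT.node 1035 (BT.node 1034 (BT.leaf cE1034) (BT.leaf cE1035)) (BT.node 1036 (BT.leaf cE1036)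 (BT.leaf cE1037))))) (BT.node 1046 (BT.node 1042 (BT.node 1040 (BT.node 1039 (BT.node 1038 (BT.leaf cE1038) (BT.leaf cE1039)) (BT.leaf cE1040)) (BT.node 1041 (BT.leaf cE1041) (BT.leaf cE1042))) (BT.node 1044 (BT.node 1043 (BT.leaf cE1043) (BT.leaf cE1044)) (BT.node 1045 (BT.leaf cE1045) (BT.leaf cE1046)))) (BT.node 1050 (BT.node 1048 (BT.node 1047 (BT.leaf cE1047) (BT.leaf cE1048)) (BT.node 1049 (BT.leaf cE1049) (BT.leaf cE1050))) (BT.node 1052 (BT.node 1051 (BT.leaf cE1051) (BT.leaf cE1052)) (BT.node 1053 (BT.leaf cE1053) (BT.leaf cE1054)))))) (BT.node 1071 (BT.node 1063 (BT.node 1059 (BT.node 1057 (BT.node 1056 (BT.node 1055 (BT.leaf cE1055) (BT.leaf cE1056)) (BT.leaf cE1057)) (BT.node 1058 (BT.leaf cE1058) (BT.leaf cE1059))) (BT.node 1061 (BT.node 1060 (BT.leaf cE1060) (BT.leaf cE1061)) (BT.node 1062 (BT.leaf cE1062) (BT.leaf cE1063)))) (BT.node 1067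 (BT.node 1065 (BT.node 1064 (BT.leaf cE1064) (BT.leaf cE1065)) (BT.node 1066 (BT.leaf cE1066) (BT.leaf cE1067))) (BT.node 1069 (BT.node 1068 (BT.leaf cE1068) (BT.leaf cE1069)) (BT.node 1070 (BT.leaf cE1070) (BT.leaf cE1071))))) (BT.node 1080 (BT.node 1076 (BT.node 1074 (BT.node 1073 (BT.node 1072 (BT.leaf cE1072) (BT.leaf cE1073)) (BT.leaf cE1074)) (BT.node 1075 (BT.leaf cE1075) (BT.leaf cE1076))) (BT.node 1078 (BT.node 1077 (BT.leaf cE1077) (BT.leaf cE1078)) (BT.node 1079 (BT.leaf cE1079) (BT.leaf cE1080)))) (BT.node 1084 (BT.node 1082 (BT.node 1081 (BT.leaf cE1081) (BT.leaf cE1082)) (BT.node 1083 (BT.leaf cE1083) (BT.leaf cE1084))) (BT.node 1086 (BT.node 1085 (BT.leaf cE1085) (BT.leaf cE1086)) (BT.node 1087 (BT.leaf cE1087) (BT.leaf cE1088))))))))))) (BT.node 1632 (BT.node 1360 (BT.node 1224 (BT.node 1156 (BT.node 1122 (BT.node 1105 (BT.node 1097 (BT.node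 1093 (BT.node 1091 (BT.node 1090 (BT.node 1089 (BT.leaf cE1089) (BT.leaf cE1090)) (BT.leaf cE1091)) (BT.node 1092 (BT.leaf cE1092) (BT.leaf cE1093))) (BT.node 1095 (BT.node 1094 (BT.leaf cE1094) (BT.leaf cE1095)) (BT.node 1096 (BT.leaf cE1096) (BT.leaf cE1097)))) (BT.node 1101 (BT.node 1099 (BT.node 1098 (BT.leaf cE1098) (BT.leaf cE1099)) (BT.node 1100 (BT.leaf cE1100) (BT.leaf cE1101))) (BT.node 1103 (BT.node 1102 (BT.leaf cE1102) (BT.leaf cE1103)) (BT.node 1104 (BT.leaf cE1104) (BT.leaf cE1105))))) (BT.node 1114 (BT.node 1110 (BT.node 1108 (BT.node 1107 (BT.node 1106 (BT.leaf cE1106) (BT.leaf cE1107)) (BT.leaf cE1108)) (BT.node 1109 (BT.leaf cE1109) (BT.leaf cE1110))) (BT.node 1112 (BT.node 1111 (BT.leaf cE1111) (BT.leaf cE1112)) (BT.node 1113 (BT.leaf cE1113) (BT.leaf cE1114)))) (BT.node 1118 (BT.node 1116 (BT.node 1115 (BT.leaf cE1115) (BT.leaf cE1116))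 (BT.node 1117 (BT.leaf cE1117) (BT.leaf cE1118))) (BT.node 1120 (BT.node 1119 (BT.leaf cE1119) (BT.leaf cE1120)) (BT.node 1121 (BT.leaf cE1121) (BT.leaf cE1122)))))) (BT.node 1139 (BT.node 1131 (BT.node 1127 (BT.node 1125 (BT.node 1124 (BT.node 1123 (BT.leaf cE1123) (BT.leaf cE1124)) (BT.leaf cE1125)) (BT.node 1126 (BT.leaf cE1126) (BT.leaf cE1127))) (BT.node 1129 (BT.node 1128 (BT.leaf cE1128) (BT.leaf cE1129)) (BT.node 1130 (BT.leaf cE1130) (BT.leaf cE1131)))) (BT.node 1135 (BT.node 1133 (BT.node 1132 (BT.leaf cE1132) (BT.leaf cE1133)) (BT.node 1134 (BT.leaf cE1134) (BT.leaf cE1135))) (BT.node 1137 (BT.node 1136 (BT.leaf cE1136) (BT.leaf cE1137)) (BT.node 1138 (BT.leaf cE1138) (BT.leaf cE1139))))) (BT.node 1148 (BT.node 1144 (BT.node 1142 (BT.node 1141 (BT.node 1140 (BT.leaf cE1140) (BT.leaf cE1141)) (BT.leaf cE1142)) (BT.node 1143 (BT.leaf cE1143)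 (BT.leaf cE1144))) (BT.node 1146 (BT.node 1145 (BT.leaf cE1145) (BT.leaf cE1146)) (BT.node 1147 (BT.leaf cE1147) (BT.leaf cE1148)))) (BT.node 1152 (BT.node 1150 (BT.node 1149 (BT.leaf cE1149) (BT.leaf cE1150)) (BT.node 1151 (BT.leaf cE1151) (BT.leaf cE1152))) (BT.node 1154 (BT.node 1153 (BT.leaf cE1153) (BT.leaf cE1154)) (BT.node 1155 (BT.leaf cE1155) (BT.leaf cE1156))))))) (BT.node 1190 (BT.node 1173 (BT.node 1165 (BT.node 1161 (BT.node 1159 (BT.node 1158 (BT.node 1157 (BT.leaf cE1157) (BT.leaf cE1158)) (BT.leaf cE1159)) (BT.node 1160 (BT.leaf cE1160) (BT.leaf cE1161))) (BT.node 1163 (BT.node 1162 (BT.leaf cE1162) (BT.leaf cE1163)) (BT.node 1164 (BT.leaf cE1164) (BT.leaf cE1165)))) (BT.node 1169 (BT.node 1167 (BT.node 1166 (BT.leaf cE1166) (BT.leaf cE1167)) (BT.node 1168 (BT.leaf cE1168) (BT.leaf cE1169))) (BT.node 1171 (BT.node 1170 (BT.leaf cE1170)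 (BT.leaf cE1171)) (BT.node 1172 (BT.leaf cE1172) (BT.leaf cE1173))))) (BT.node 1182 (BT.node 1178 (BT.node 1176 (BT.node 1175 (BT.node 1174 (BT.leaf cE1174) (BT.leaf cE1175)) (BT.leaf cE1176)) (BT.node 1177 (BT.leaf cE1177) (BT.leaf cE1178))) (BT.node 1180 (BT.node 1179 (BT.leaf cE1179) (BT.leaf cE1180)) (BT.node 1181 (BT.leaf cE1181) (BT.leaf cE1182)))) (BT.node 1186 (BT.node 1184 (BT.node 1183 (BT.leaf cE1183) (BT.leaf cE1184)) (BT.node 1185 (BT.leaf cE1185) (BT.leaf cE1186))) (BT.node 1188 (BT.node 1187 (BT.leaf cE1187) (BT.leaf cE1188)) (BT.node 1189 (BT.leaf cE1189) (BT.leaf cE1190)))))) (BT.node 1207 (BT.node 1199 (BT.node 1195 (BT.node 1193 (BT.node 1192 (BT.node 1191 (BT.leaf cE1191) (BT.leaf cE1192)) (BT.leaf cE1193)) (BT.node 1194 (BT.leaf cE1194) (BT.leaf cE1195))) (BT.node 1197 (BT.node 1196 (BT.leaf cE1196) (BT.leaf cE1197)) (BT.node 1198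 (BT.leaf cE1198) (BT.leaf cE1199)))) (BT.node 1203 (BT.node 1201 (BT.node 1200 (BT.leaf cE1200) (BT.leaf cE1201)) (BT.node 1202 (BT.leaf cE1202) (BT.leaf cE1203))) (BT.node 1205 (BT.node 1204 (BT.leaf cE1204) (BT.leaf cE1205)) (BT.node 1206 (BT.leaf cE1206) (BT.leaf cE1207))))) (BT.node 1216 (BT.node 1212 (BT.node 1210 (BT.node 1209 (BT.node 1208 (BT.leaf cE1208) (BT.leaf cE1209)) (BT.leaf cE1210)) (BT.node 1211 (BT.leaf cE1211) (BT.leaf cE1212))) (BT.node 1214 (BT.node 1213 (BT.leaf cE1213) (BT.leaf cE1214)) (BT.node 1215 (BT.leaf cE1215) (BT.leaf cE1216)))) (BT.node 1220 (BT.node 1218 (BT.node 1217 (BT.leaf cE1217) (BT.leaf cE1218)) (BT.node 1219 (BT.leaf cE1219) (BT.leaf cE1220))) (BT.node 1222 (BT.node 1221 (BT.leaf cE1221) (BT.leaf cE1222)) (BT.node 1223 (BT.leaf cE1223) (BT.leaf cE1224)))))))) (BT.node 1292 (BT.node 1258 (BT.node 1241 (BT.node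 1233 (BT.node 1229 (BT.node 1227 (BT.node 1226 (BT.node 1225 (BT.leaf cE1225) (BT.leaf cE1226)) (BT.leaf cE1227)) (BT.node 1228 (BT.leaf cE1228) (BT.leaf cE1229))) (BT.node 1231 (BT.node 1230 (BT.leaf cE1230) (BT.leaf cE1231)) (BT.node 1232 (BT.leaf cE1232) (BT.leaf cE1233)))) (BT.node 1237 (BT.node 1235 (BT.node 1234 (BT.leaf cE1234) (BT.leaf cE1235)) (BT.node 1236 (BT.leaf cE1236) (BT.leaf cE1237))) (BT.node 1239 (BT.node 1238 (BT.leaf cE1238) (BT.leaf cE1239)) (BT.node 1240 (BT.leaf cE1240) (BT.leaf cE1241))))) (BT.node 1250 (BT.node 1246 (BT.node 1244 (BT.node 1243 (BT.node 1242 (BT.leaf cE1242) (BT.leaf cE1243)) (BT.leaf cE1244)) (BT.node 1245 (BT.leaf cE1245) (BT.leaf cE1246))) (BT.node 1248 (BT.node 1247 (BT.leaf cE1247) (BT.leaf cE1248)) (BT.node 1249 (BT.leaf cE1249) (BT.leaf cE1250)))) (BT.node 1254 (BT.node 1252 (BT.node 1251 (BT.leaf cE1251)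 (BT.leaf cE1252)) (BT.node 1253 (BT.leaf cE1253) (BT.leaf cE1254))) (BT.node 1256 (BT.node 1255 (BT.leaf cE1255) (BT.leaf cE1256)) (BT.node 1257 (BT.leaf cE1257) (BT.leaf cE1258)))))) (BT.node 1275 (BT.node 1267 (BT.node 1263 (BT.node 1261 (BT.node 1260 (BT.node 1259 (BT.leaf cE1259) (BT.leaf cE1260)) (BT.leaf cE1261)) (BT.node 1262 (BT.leaf cE1262) (BT.leaf cE1263))) (BT.node 1265 (BT.node 1264 (BT.leaf cE1264) (BT.leaf cE1265)) (BT.node 1266 (BT.leaf cE1266) (BT.leaf cE1267)))) (BT.node 1271 (BT.node 1269 (BT.node 1268 (BT.leaf cE1268) (BT.leaf cE1269)) (BT.node 1270 (BT.leaf cE1270) (BT.leaf cE1271))) (BT.node 1273 (BT.node 1272 (BT.leaf cE1272) (BT.leaf cE1273)) (BT.node 1274 (BT.leaf cE1274) (BT.leaf cE1275))))) (BT.node 1284 (BT.node 1280 (BT.node 1278 (BT.node 1277 (BT.node 1276 (BT.leaf cE1276) (BT.leaf cE1277)) (BT.leaf cE1278)) (BT.node 1279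 (BT.leaf cE1279) (BT.leaf cE1280))) (BT.node 1282 (BT.node 1281 (BT.leaf cE1281) (BT.leaf cE1282)) (BT.node 1283 (BT.leaf cE1283) (BT.leaf cE1284)))) (BT.node 1288 (BT.node 1286 (BT.node 1285 (BT.leaf cE1285) (BT.leaf cE1286)) (BT.node 1287 (BT.leaf cE1287) (BT.leaf cE1288))) (BT.node 1290 (BT.node 1289 (BT.leaf cE1289) (BT.leaf cE1290)) (BT.node 1291 (BT.leaf cE1291) (BT.leaf cE1292))))))) (BT.node 1326 (BT.node 1309 (BT.node 1301 (BT.node 1297 (BT.node 1295 (BT.node 1294 (BT.node 1293 (BT.leaf cE1293) (BT.leaf cE1294)) (BT.leaf cE1295)) (BT.node 1296 (BT.leaf cE1296) (BT.leaf cE1297))) (BT.node 1299 (BT.node 1298 (BT.leaf cE1298) (BT.leaf cE1299)) (BT.node 1300 (BT.leaf cE1300) (BT.leaf cE1301)))) (BT.node 1305 (BT.node 1303 (BT.node 1302 (BT.leaf cE1302) (BT.leaf cE1303)) (BT.node 1304 (BT.leaf cE1304) (BT.leaf cE1305))) (BT.node 1307 (BT.node 1306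 (BT.leaf cE1306) (BT.leaf cE1307)) (BT.node 1308 (BT.leaf cE1308) (BT.leaf cE1309))))) (BT.node 1318 (BT.node 1314 (BT.node 1312 (BT.node 1311 (BT.node 1310 (BT.leaf cE1310) (BT.leaf cE1311)) (BT.leaf cE1312)) (BT.node 1313 (BT.leaf cE1313) (BT.leaf cE1314))) (BT.node 1316 (BT.node 1315 (BT.leaf cE1315) (BT.leaf cE1316)) (BT.node 1317 (BT.leaf cE1317) (BT.leaf cE1318)))) (BT.node 1322 (BT.node 1320 (BT.node 1319 (BT.leaf cE1319) (BT.leaf cE1320)) (BT.node 1321 (BT.leaf cE1321) (BT.leaf cE1322))) (BT.node 1324 (BT.node 1323 (BT.leaf cE1323) (BT.leaf cE1324)) (BT.node 1325 (BT.leaf cE1325) (BT.leaf cE1326)))))) (BT.node 1343 (BT.node 1335 (BT.node 1331 (BT.node 1329 (BT.node 1328 (BT.node 1327 (BT.leaf cE1327) (BT.leaf cE1328)) (BT.leaf cE1329)) (BT.node 1330 (BT.leaf cE1330) (BT.leaf cE1331))) (BT.node 1333 (BT.node 1332 (BT.leaf cE1332) (BT.leaf cE1333))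 (BT.node 1334 (BT.leaf cE1334) (BT.leaf cE1335)))) (BT.node 1339 (BT.node 1337 (BT.node 1336 (BT.leaf cE1336) (BT.leaf cE1337)) (BT.node 1338 (BT.leaf cE1338) (BT.leaf cE1339))) (BT.node 1341 (BT.node 1340 (BT.leaf cE1340) (BT.leaf cE1341)) (BT.node 1342 (BT.leaf cE1342) (BT.leaf cE1343))))) (BT.node 1352 (BT.node 1348 (BT.node 1346 (BT.node 1345 (BT.node 1344 (BT.leaf cE1344) (BT.leaf cE1345)) (BT.leaf cE1346)) (BT.node 1347 (BT.leaf cE1347) (BT.leaf cE1348))) (BT.node 1350 (BT.node 1349 (BT.leaf cE1349) (BT.leaf cE1350)) (BT.node 1351 (BT.leaf cE1351) (BT.leaf cE1352)))) (BT.node 1356 (BT.node 1354 (BT.node 1353 (BT.leaf cE1353) (BT.leaf cE1354)) (BT.node 1355 (BT.leaf cE1355) (BT.leaf cE1356))) (BT.node 1358 (BT.node 1357 (BT.leaf cE1357) (BT.leaf cE1358)) (BT.node 1359 (BT.leaf cE1359) (BT.leaf cE1360))))))))) (BT.node 1496 (BT.node 1428 (BT.node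 1394 (BT.node 1377 (BT.node 1369 (BT.node 1365 (BT.node 1363 (BT.node 1362 (BT.node 1361 (BT.leaf cE1361) (BT.leaf cE1362)) (BT.leaf cE1363)) (BT.node 1364 (BT.leaf cE1364) (BT.leaf cE1365))) (BT.node 1367 (BT.node 1366 (BT.leaf cE1366) (BT.leaf cE1367)) (BT.node 1368 (BT.leaf cE1368) (BT.leaf cE1369)))) (BT.node 1373 (BT.node 1371 (BT.node 1370 (BT.leaf cE1370) (BT.leaf cE1371)) (BT.node 1372 (BT.leaf cE1372) (BT.leaf cE1373))) (BT.node 1375 (BT.node 1374 (BT.leaf cE1374) (BT.leaf cE1375)) (BT.node 1376 (BT.leaf cE1376) (BT.leaf cE1377))))) (BT.node 1386 (BT.node 1382 (BT.node 1380 (BT.node 1379 (BT.node 1378 (BT.leaf cE1378) (BT.leaf cE1379)) (BT.leaf cE1380)) (BT.node 1381 (BT.leaf cE1381) (BT.leaf cE1382))) (BT.node 1384 (BT.node 1383 (BT.leaf cE1383) (BT.leaf cE1384)) (BT.node 1385 (BT.leaf cE1385) (BT.leaf cE1386)))) (BT.node 1390 (BT.node 1388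 (BT.node 1387 (BT.leaf cE1387) (BT.leaf cE1388)) (BT.node 1389 (BT.leaf cE1389) (BT.leaf cE1390))) (BT.node 1392 (BT.node 1391 (BT.leaf cE1391) (BT.leaf cE1392)) (BT.node 1393 (BT.leaf cE1393) (BT.leaf cE1394)))))) (BT.node 1411 (BT.node 1403 (BT.node 1399 (BT.node 1397 (BT.node 1396 (BT.node 1395 (BT.leaf cE1395) (BT.leaf cE1396)) (BT.leaf cE1397)) (BT.node 1398 (BT.leaf cE1398) (BT.leaf cE1399))) (BT.node 1401 (BT.node 1400 (BT.leaf cE1400) (BT.leaf cE1401)) (BT.node 1402 (BT.leaf cE1402) (BT.leaf cE1403)))) (BT.node 1407 (BT.node 1405 (BT.node 1404 (BT.leaf cE1404) (BT.leaf cE1405)) (BT.node 1406 (BT.leaf cE1406) (BT.leaf cE1407))) (BT.node 1409 (BT.node 1408 (BT.leaf cE1408) (BT.leaf cE1409)) (BT.node 1410 (BT.leaf cE1410) (BT.leaf cE1411))))) (BT.node 1420 (BT.node 1416 (BT.node 1414 (BT.node 1413 (BT.node 1412 (BT.leaf cE1412) (BT.leaf cE1413))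 (BT.leaf cE1414)) (BT.node 1415 (BT.leaf cE1415) (BT.leaf cE1416))) (BT.node 1418 (BT.node 1417 (BT.leaf cE1417) (BT.leaf cE1418)) (BT.node 1419 (BT.leaf cE1419) (BT.leaf cE1420)))) (BT.node 1424 (BT.node 1422 (BT.node 1421 (BT.leaf cE1421) (BT.leaf cE1422)) (BT.node 1423 (BT.leaf cE1423) (BT.leaf cE1424))) (BT.node 1426 (BT.node 1425 (BT.leaf cE1425) (BT.leaf cE1426)) (BT.node 1427 (BT.leaf cE1427) (BT.leaf cE1428))))))) (BT.node 1462 (BT.node 1445 (BT.node 1437 (BT.node 1433 (BT.node 1431 (BT.node 1430 (BT.node 1429 (BT.leaf cE1429) (BT.leaf cE1430)) (BT.leaf cE1431)) (BT.node 1432 (BT.leaf cE1432) (BT.leaf cE1433))) (BT.node 1435 (BT.node 1434 (BT.leaf cE1434) (BT.leaf cE1435)) (BT.node 1436 (BT.leaf cE1436) (BT.leaf cE1437)))) (BT.node 1441 (BT.node 1439 (BT.node 1438 (BT.leaf cE1438) (BT.leaf cE1439)) (BT.node 1440 (BT.leaf cE1440) (BT.leaf cE1441)))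 (BT.node 1443 (BT.node 1442 (BT.leaf cE1442) (BT.leaf cE1443)) (BT.node 1444 (BT.leaf cE1444) (BT.leaf cE1445))))) (BT.node 1454 (BT.node 1450 (BT.node 1448 (BT.node 1447 (BT.node 1446 (BT.leaf cE1446) (BT.leaf cE1447)) (BT.leaf cE1448)) (BT.node 1449 (BT.leaf cE1449) (BT.leaf cE1450))) (BT.node 1452 (BT.node 1451 (BT.leaf cE1451) (BT.leaf cE1452)) (BT.node 1453 (BT.leaf cE1453) (BT.leaf cE1454)))) (BT.node 1458 (BT.node 1456 (BT.node 1455 (BT.leaf cE1455) (BT.leaf cE1456)) (BT.node 1457 (BT.leaf cE1457) (BT.leaf cE1458))) (BT.node 1460 (BT.node 1459 (BT.leaf cE1459) (BT.leaf cE1460)) (BT.node 1461 (BT.leaf cE1461) (BT.leaf cE1462)))))) (BT.node 1479 (BT.node 1471 (BT.node 1467 (BT.node 1465 (BT.node 1464 (BT.node 1463 (BT.leaf cE1463) (BT.leaf cE1464)) (BT.leaf cE1465)) (BT.node 1466 (BT.leaf cE1466) (BT.leaf cE1467))) (BT.node 1469 (BT.node 1468 (BT.leaf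 cE1468) (BT.leaf cE1469)) (BT.node 1470 (BT.leaf cE1470) (BT.leaf cE1471)))) (BT.node 1475 (BT.node 1473 (BT.node 1472 (BT.leaf cE1472) (BT.leaf cE1473)) (BT.node 1474 (BT.leaf cE1474) (BT.leaf cE1475))) (BT.node 1477 (BT.node 1476 (BT.leaf cE1476) (BT.leaf cE1477)) (BT.node 1478 (BT.leaf cE1478) (BT.leaf cE1479))))) (BT.node 1488 (BT.node 1484 (BT.node 1482 (BT.node 1481 (BT.node 1480 (BT.leaf cE1480) (BT.leaf cE1481)) (BT.leaf cE1482)) (BT.node 1483 (BT.leaf cE1483) (BT.leaf cE1484))) (BT.node 1486 (BT.node 1485 (BT.leaf cE1485) (BT.leaf cE1486)) (BT.node 1487 (BT.leaf cE1487) (BT.leaf cE1488)))) (BT.node 1492 (BT.node 1490 (BT.node 1489 (BT.leaf cE1489) (BT.leaf cE1490)) (BT.node 1491 (BT.leaf cE1491) (BT.leaf cE1492))) (BT.node 1494 (BT.node 1493 (BT.leaf cE1493) (BT.leaf cE1494)) (BT.node 1495 (BT.leaf cE1495) (BT.leaf cE1496)))))))) (BT.node 1564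 (BT.node 1530 (BT.node 1513 (BT.node 1505 (BT.node 1501 (BT.node 1499 (BT.node 1498 (BT.node 1497 (BT.leaf cE1497) (BT.leaf cE1498)) (BT.leaf cE1499)) (BT.node 1500 (BT.leaf cE1500) (BT.leaf cE1501))) (BT.node 1503 (BT.node 1502 (BT.leaf cE1502) (BT.leaf cE1503)) (BT.node 1504 (BT.leaf cE1504) (BT.leaf cE1505)))) (BT.node 1509 (BT.node 1507 (BT.node 1506 (BT.leaf cE1506) (BT.leaf cE1507)) (BT.node 1508 (BT.leaf cE1508) (BT.leaf cE1509))) (BT.node 1511 (BT.node 1510 (BT.leaf cE1510) (BT.leaf cE1511)) (BT.node 1512 (BT.leaf cE1512) (BT.leaf cE1513))))) (BT.node 1522 (BT.node 1518 (BT.node 1516 (BT.node 1515 (BT.node 1514 (BT.leaf cE1514) (BT.leaf cE1515)) (BT.leaf cE1516)) (BT.node 1517 (BT.leaf cE1517) (BT.leaf cE1518))) (BT.node 1520 (BT.node 1519 (BT.leaf cE1519) (BT.leaf cE1520)) (BT.node 1521 (BT.leaf cE1521) (BT.leaf cE1522)))) (BT.node 1526 (BT.node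 1524 (BT.node 1523 (BT.leaf cE1523) (BT.leaf cE1524)) (BT.node 1525 (BT.leaf cE1525) (BT.leaf cE1526))) (BT.node 1528 (BT.node 1527 (BT.leaf cE1527) (BT.leaf cE1528)) (BT.node 1529 (BT.leaf cE1529) (BT.leaf cE1530)))))) (BT.node 1547 (BT.node 1539 (BT.node 1535 (BT.node 1533 (BT.node 1532 (BT.node 1531 (BT.leaf cE1531) (BT.leaf cE1532)) (BT.leaf cE1533)) (BT.node 1534 (BT.leaf cE1534) (BT.leaf cE1535))) (BT.node 1537 (BT.node 1536 (BT.leaf cE1536) (BT.leaf cE1537)) (BT.node 1538 (BT.leaf cE1538) (BT.leaf cE1539)))) (BT.node 1543 (BT.node 1541 (BT.node 1540 (BT.leaf cE1540) (BT.leaf cE1541)) (BT.node 1542 (BT.leaf cE1542) (BT.leaf cE1543))) (BT.node 1545 (BT.node 1544 (BT.leaf cE1544) (BT.leaf cE1545)) (BT.node 1546 (BT.leaf cE1546) (BT.leaf cE1547))))) (BT.node 1556 (BT.node 1552 (BT.node 1550 (BT.node 1549 (BT.node 1548 (BT.leaf cE1548) (BT.leaf cE1549))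 (BT.leaf cE1550)) (BT.node 1551 (BT.leaf cE1551) (BT.leaf cE1552))) (BT.node 1554 (BT.node 1553 (BT.leaf cE1553) (BT.leaf cE1554)) (BT.node 1555 (BT.leaf cE1555) (BT.leaf cE1556)))) (BT.node 1560 (BT.node 1558 (BT.node 1557 (BT.leaf cE1557) (BT.leaf cE1558)) (BT.node 1559 (BT.leaf cE1559) (BT.leaf cE1560))) (BT.node 1562 (BT.node 1561 (BT.leaf cE1561) (BT.leaf cE1562)) (BT.node 1563 (BT.leaf cE1563) (BT.leaf cE1564))))))) (BT.node 1598 (BT.node 1581 (BT.node 1573 (BT.node 1569 (BT.node 1567 (BT.node 1566 (BT.node 1565 (BT.leaf cE1565) (BT.leaf cE1566)) (BT.leaf cE1567)) (BT.node 1568 (BT.leaf cE1568) (BT.leaf cE1569))) (BT.node 1571 (BT.node 1570 (BT.leaf cE1570) (BT.leaf cE1571)) (BT.node 1572 (BT.leaf cE1572) (BT.leaf cE1573)))) (BT.node 1577 (BT.node 1575 (BT.node 1574 (BT.leaf cE1574) (BT.leaf cE1575)) (BT.node 1576 (BT.leaf cE1576) (BT.leaf cE1577)))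 (BT.node 1579 (BT.node 1578 (BT.leaf cE1578) (BT.leaf cE1579)) (BT.node 1580 (BT.leaf cE1580) (BT.leaf cE1581))))) (BT.node 1590 (BT.node 1586 (BT.node 1584 (BT.node 1583 (BT.node 1582 (BT.leaf cE1582) (BT.leaf cE1583)) (BT.leaf cE1584)) (BT.node 1585 (BT.leaf cE1585) (BT.leaf cE1586))) (BT.node 1588 (BT.node 1587 (BT.leaf cE1587) (BT.leaf cE1588)) (BT.node 1589 (BT.leaf cE1589) (BT.leaf cE1590)))) (BT.node 1594 (BT.node 1592 (BT.node 1591 (BT.leaf cE1591) (BT.leaf cE1592)) (BT.node 1593 (BT.leaf cE1593) (BT.leaf cE1594))) (BT.node 1596 (BT.node 1595 (BT.leaf cE1595) (BT.leaf cE1596)) (BT.node 1597 (BT.leaf cE1597) (BT.leaf cE1598)))))) (BT.node 1615 (BT.node 1607 (BT.node 1603 (BT.node 1601 (BT.node 1600 (BT.node 1599 (BT.leaf cE1599) (BT.leaf cE1600)) (BT.leaf cE1601)) (BT.node 1602 (BT.leaf cE1602) (BT.leaf cE1603))) (BT.node 1605 (BT.node 1604 (BT.leaf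 cE1604) (BT.leaf cE1605)) (BT.node 1606 (BT.leaf cE1606) (BT.leaf cE1607)))) (BT.node 1611 (BT.node 1609 (BT.node 1608 (BT.leaf cE1608) (BT.leaf cE1609)) (BT.node 1610 (BT.leaf cE1610) (BT.leaf cE1611))) (BT.node 1613 (BT.node 1612 (BT.leaf cE1612) (BT.leaf cE1613)) (BT.node 1614 (BT.leaf cE1614) (BT.leaf cE1615))))) (BT.node 1624 (BT.node 1620 (BT.node 1618 (BT.node 1617 (BT.node 1616 (BT.leaf cE1616) (BT.leaf cE1617)) (BT.leaf cE1618)) (BT.node 1619 (BT.leaf cE1619) (BT.leaf cE1620))) (BT.node 1622 (BT.node 1621 (BT.leaf cE1621) (BT.leaf cE1622)) (BT.node 1623 (BT.leaf cE1623) (BT.leaf cE1624)))) (BT.node 1628 (BT.node 1626 (BT.node 1625 (BT.leaf cE1625) (BT.leaf cE1626)) (BT.node 1627 (BT.leaf cE1627) (BT.leaf cE1628))) (BT.node 1630 (BT.node 1629 (BT.leaf cE1629) (BT.leaf cE1630)) (BT.node 1631 (BT.leaf cE1631) (BT.leaf cE1632)))))))))) (BT.node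 1904 (BT.node 1768 (BT.node 1700 (BT.node 1666 (BT.node 1649 (BT.node 1641 (BT.node 1637 (BT.node 1635 (BT.node 1634 (BT.node 1633 (BT.leaf cE1633) (BT.leaf cE1634)) (BT.leaf cE1635)) (BT.node 1636 (BT.leaf cE1636) (BT.leaf cE1637))) (BT.node 1639 (BT.node 1638 (BT.leaf cE1638) (BT.leaf cE1639)) (BT.node 1640 (BT.leaf cE1640) (BT.leaf cE1641)))) (BT.node 1645 (BT.node 1643 (BT.node 1642 (BT.leaf cE1642) (BT.leaf cE1643)) (BT.node 1644 (BT.leaf cE1644) (BT.leaf cE1645))) (BT.node 1647 (BT.node 1646 (BT.leaf cE1646) (BT.leaf cE1647)) (BT.node 1648 (BT.leaf cE1648) (BT.leaf cE1649))))) (BT.node 1658 (BT.node 1654 (BT.node 1652 (BT.node 1651 (BT.node 1650 (BT.leaf cE1650) (BT.leaf cE1651)) (BT.leaf cE1652)) (BT.node 1653 (BT.leaf cE1653) (BT.leaf cE1654))) (BT.node 1656 (BT.node 1655 (BT.leaf cE1655) (BT.leaf cE1656)) (BT.node 1657 (BT.leaf cE1657) (BT.leaf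 cE1658)))) (BT.node 1662 (BT.node 1660 (BT.node 1659 (BT.leaf cE1659) (BT.leaf cE1660)) (BT.node 1661 (BT.leaf cE1661) (BT.leaf cE1662))) (BT.node 1664 (BT.node 1663 (BT.leaf cE1663) (BT.leaf cE1664)) (BT.node 1665 (BT.leaf cE1665) (BT.leaf cE1666)))))) (BT.node 1683 (BT.node 1675 (BT.node 1671 (BT.node 1669 (BT.node 1668 (BT.node 1667 (BT.leaf cE1667) (BT.leaf cE1668)) (BT.leaf cE1669)) (BT.node 1670 (BT.leaf cE1670) (BT.leaf cE1671))) (BT.node 1673 (BT.node 1672 (BT.leaf cE1672) (BT.leaf cE1673)) (BT.node 1674 (BT.leaf cE1674) (BT.leaf cE1675)))) (BT.node 1679 (BT.node 1677 (BT.node 1676 (BT.leaf cE1676) (BT.leaf cE1677)) (BT.node 1678 (BT.leaf cE1678) (BT.leaf cE1679))) (BT.node 1681 (BT.node 1680 (BT.leaf cE1680) (BT.leaf cE1681)) (BT.node 1682 (BT.leaf cE1682) (BT.leaf cE1683))))) (BT.node 1692 (BT.node 1688 (BT.node 1686 (BT.node 1685 (BT.node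 1684 (BT.leaf cE1684) (BT.leaf cE1685)) (BT.leaf cE1686)) (BT.node 1687 (BT.leaf cE1687) (BT.leaf cE1688))) (BT.node 1690 (BT.node 1689 (BT.leaf cE1689) (BT.leaf cE1690)) (BT.node 1691 (BT.leaf cE1691) (BT.leaf cE1692)))) (BT.node 1696 (BT.node 1694 (BT.node 1693 (BT.leaf cE1693) (BT.leaf cE1694)) (BT.node 1695 (BT.leaf cE1695) (BT.leaf cE1696))) (BT.node 1698 (BT.node 1697 (BT.leaf cE1697) (BT.leaf cE1698)) (BT.node 1699 (BT.leaf cE1699) (BT.leaf cE1700))))))) (BT.node 1734 (BT.node 1717 (BT.node 1709 (BT.node 1705 (BT.node 1703 (BT.node 1702 (BT.node 1701 (BT.leaf cE1701) (BT.leaf cE1702)) (BT.leaf cE1703)) (BT.node 1704 (BT.leaf cE1704) (BT.leaf cE1705))) (BT.node 1707 (BT.node 1706 (BT.leaf cE1706) (BT.leaf cE1707)) (BT.node 1708 (BT.leaf cE1708) (BT.leaf cE1709)))) (BT.node 1713 (BT.node 1711 (BT.node 1710 (BT.leaf cE1710) (BT.leaf cE1711)) (BT.node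 1712 (BT.leaf cE1712) (BT.leaf cE1713))) (BT.node 1715 (BT.node 1714 (BT.leaf cE1714) (BT.leaf cE1715)) (BT.node 1716 (BT.leaf cE1716) (BT.leaf cE1717))))) (BT.node 1726 (BT.node 1722 (BT.node 1720 (BT.node 1719 (BT.node 1718 (BT.leaf cE1718) (BT.leaf cE1719)) (BT.leaf cE1720)) (BT.node 1721 (BT.leaf cE1721) (BT.leaf cE1722))) (BT.node 1724 (BT.node 1723 (BT.leaf cE1723) (BT.leaf cE1724)) (BT.node 1725 (BT.leaf cE1725) (BT.leaf cE1726)))) (BT.node 1730 (BT.node 1728 (BT.node 1727 (BT.leaf cE1727) (BT.leaf cE1728)) (BT.node 1729 (BT.leaf cE1729) (BT.leaf cE1730))) (BT.node 1732 (BT.node 1731 (BT.leaf cE1731) (BT.leaf cE1732)) (BT.node 1733 (BT.leaf cE1733) (BT.leaf cE1734)))))) (BT.node 1751 (BT.node 1743 (BT.node 1739 (BT.node 1737 (BT.node 1736 (BT.node 1735 (BT.leaf cE1735) (BT.leaf cE1736)) (BT.leaf cE1737)) (BT.node 1738 (BT.leaf cE1738) (BT.leaf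 cE1739))) (BT.node 1741 (BT.node 1740 (BT.leaf cE1740) (BT.leaf cE1741)) (BT.node 1742 (BT.leaf cE1742) (BT.leaf cE1743)))) (BT.node 1747 (BT.node 1745 (BT.node 1744 (BT.leaf cE1744) (BT.leaf cE1745)) (BT.node 1746 (BT.leaf cE1746) (BT.leaf cE1747))) (BT.node 1749 (BT.node 1748 (BT.leaf cE1748) (BT.leaf cE1749)) (BT.node 1750 (BT.leaf cE1750) (BT.leaf cE1751))))) (BT.node 1760 (BT.node 1756 (BT.node 1754 (BT.node 1753 (BT.node 1752 (BT.leaf cE1752) (BT.leaf cE1753)) (BT.leaf cE1754)) (BT.node 1755 (BT.leaf cE1755) (BT.leaf cE1756))) (BT.node 1758 (BT.node 1757 (BT.leaf cE1757) (BT.leaf cE1758)) (BT.node 1759 (BT.leaf cE1759) (BT.leaf cE1760)))) (BT.node 1764 (BT.node 1762 (BT.node 1761 (BT.leaf cE1761) (BT.leaf cE1762)) (BT.node 1763 (BT.leaf cE1763) (BT.leaf cE1764))) (BT.node 1766 (BT.node 1765 (BT.leaf cE1765) (BT.leaf cE1766)) (BT.node 1767 (BT.leaf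 cE1767) (BT.leaf cE1768)))))))) (BT.node 1836 (BT.node 1802 (BT.node 1785 (BT.node 1777 (BT.node 1773 (BT.node 1771 (BT.node 1770 (BT.node 1769 (BT.leaf cE1769) (BT.leaf cE1770)) (BT.leaf cE1771)) (BT.node 1772 (BT.leaf cE1772) (BT.leaf cE1773))) (BT.node 1775 (BT.node 1774 (BT.leaf cE1774) (BT.leaf cE1775)) (BT.node 1776 (BT.leaf cE1776) (BT.leaf cE1777)))) (BT.node 1781 (BT.node 1779 (BT.node 1778 (BT.leaf cE1778) (BT.leaf cE1779)) (BT.node 1780 (BT.leaf cE1780) (BT.leaf cE1781))) (BT.node 1783 (BT.node 1782 (BT.leaf cE1782) (BT.leaf cE1783)) (BT.node 1784 (BT.leaf cE1784) (BT.leaf cE1785))))) (BT.node 1794 (BT.node 1790 (BT.node 1788 (BT.node 1787 (BT.node 1786 (BT.leaf cE1786) (BT.leaf cE1787)) (BT.leaf cE1788)) (BT.node 1789 (BT.leaf cE1789) (BT.leaf cE1790))) (BT.node 1792 (BT.node 1791 (BT.leaf cE1791) (BT.leaf cE1792)) (BT.node 1793 (BT.leaf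 cE1793) (BT.leaf cE1794)))) (BT.node 1798 (BT.node 1796 (BT.node 1795 (BT.leaf cE1795) (BT.leaf cE1796)) (BT.node 1797 (BT.leaf cE1797) (BT.leaf cE1798))) (BT.node 1800 (BT.node 1799 (BT.leaf cE1799) (BT.leaf cE1800)) (BT.node 1801 (BT.leaf cE1801) (BT.leaf cE1802)))))) (BT.node 1819 (BT.node 1811 (BT.node 1807 (BT.node 1805 (BT.node 1804 (BT.node 1803 (BT.leaf cE1803) (BT.leaf cE1804)) (BT.leaf cE1805)) (BT.node 1806 (BT.leaf cE1806) (BT.leaf cE1807))) (BT.node 1809 (BT.node 1808 (BT.leaf cE1808) (BT.leaf cE1809)) (BT.node 1810 (BT.leaf cE1810) (BT.leaf cE1811)))) (BT.node 1815 (BT.node 1813 (BT.node 1812 (BT.leaf cE1812) (BT.leaf cE1813)) (BT.node 1814 (BT.leaf cE1814) (BT.leaf cE1815))) (BT.node 1817 (BT.node 1816 (BT.leaf cE1816) (BT.leaf cE1817)) (BT.node 1818 (BT.leaf cE1818) (BT.leaf cE1819))))) (BT.node 1828 (BT.node 1824 (BT.node 1822 (BT.node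 1821 (BT.node 1820 (BT.leaf cE1820) (BT.leaf cE1821)) (BT.leaf cE1822)) (BT.node 1823 (BT.leaf cE1823) (BT.leaf cE1824))) (BT.node 1826 (BT.node 1825 (BT.leaf cE1825) (BT.leaf cE1826)) (BT.node 1827 (BT.leaf cE1827) (BT.leaf cE1828)))) (BT.node 1832 (BT.node 1830 (BT.node 1829 (BT.leaf cE1829) (BT.leaf cE1830)) (BT.node 1831 (BT.leaf cE1831) (BT.leaf cE1832))) (BT.node 1834 (BT.node 1833 (BT.leaf cE1833) (BT.leaf cE1834)) (BT.node 1835 (BT.leaf cE1835) (BT.leaf cE1836))))))) (BT.node 1870 (BT.node 1853 (BT.node 1845 (BT.node 1841 (BT.node 1839 (BT.node 1838 (BT.node 1837 (BT.leaf cE1837) (BT.leaf cE1838)) (BT.leaf cE1839)) (BT.node 1840 (BT.leaf cE1840) (BT.leaf cE1841))) (BT.node 1843 (BT.node 1842 (BT.leaf cE1842) (BT.leaf cE1843)) (BT.node 1844 (BT.leaf cE1844) (BT.leaf cE1845)))) (BT.node 1849 (BT.node 1847 (BT.node 1846 (BT.leaf cE1846) (BT.leaf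 cE1847)) (BT.node 1848 (BT.leaf cE1848) (BT.leaf cE1849))) (BT.node 1851 (BT.node 1850 (BT.leaf cE1850) (BT.leaf cE1851)) (BT.node 1852 (BT.leaf cE1852) (BT.leaf cE1853))))) (BT.node 1862 (BT.node 1858 (BT.node 1856 (BT.node 1855 (BT.node 1854 (BT.leaf cE1854) (BT.leaf cE1855)) (BT.leaf cE1856)) (BT.node 1857 (BT.leaf cE1857) (BT.leaf cE1858))) (BT.node 1860 (BT.node 1859 (BT.leaf cE1859) (BT.leaf cE1860)) (BT.node 1861 (BT.leaf cE1861) (BT.leaf cE1862)))) (BT.node 1866 (BT.node 1864 (BT.node 1863 (BT.leaf cE1863) (BT.leaf cE1864)) (BT.node 1865 (BT.leaf cE1865) (BT.leaf cE1866))) (BT.node 1868 (BT.node 1867 (BT.leaf cE1867) (BT.leaf cE1868)) (BT.node 1869 (BT.leaf cE1869) (BT.leaf cE1870)))))) (BT.node 1887 (BT.node 1879 (BT.node 1875 (BT.node 1873 (BT.node 1872 (BT.node 1871 (BT.leaf cE1871) (BT.leaf cE1872)) (BT.leaf cE1873)) (BT.node 1874 (BT.leaf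 cE1874) (BT.leaf cE1875))) (BT.node 1877 (BT.node 1876 (BT.leaf cE1876) (BT.leaf cE1877)) (BT.node 1878 (BT.leaf cE1878) (BT.leaf cE1879)))) (BT.node 1883 (BT.node 1881 (BT.node 1880 (BT.leaf cE1880) (BT.leaf cE1881)) (BT.node 1882 (BT.leaf cE1882) (BT.leaf cE1883))) (BT.node 1885 (BT.node 1884 (BT.leaf cE1884) (BT.leaf cE1885)) (BT.node 1886 (BT.leaf cE1886) (BT.leaf cE1887))))) (BT.node 1896 (BT.node 1892 (BT.node 1890 (BT.node 1889 (BT.node 1888 (BT.leaf cE1888) (BT.leaf cE1889)) (BT.leaf cE1890)) (BT.node 1891 (BT.leaf cE1891) (BT.leaf cE1892))) (BT.node 1894 (BT.node 1893 (BT.leaf cE1893) (BT.leaf cE1894)) (BT.node 1895 (BT.leaf cE1895) (BT.leaf cE1896)))) (BT.node 1900 (BT.node 1898 (BT.node 1897 (BT.leaf cE1897) (BT.leaf cE1898)) (BT.node 1899 (BT.leaf cE1899) (BT.leaf cE1900))) (BT.node 1902 (BT.node 1901 (BT.leaf cE1901) (BT.leaf cE1902)) (BT.node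 1903 (BT.leaf cE1903) (BT.leaf cE1904))))))))) (BT.node 2040 (BT.node 1972 (BT.node 1938 (BT.node 1921 (BT.node 1913 (BT.node 1909 (BT.node 1907 (BT.node 1906 (BT.node 1905 (BT.leaf cE1905) (BT.leaf cE1906)) (BT.leaf cE1907)) (BT.node 1908 (BT.leaf cE1908) (BT.leaf cE1909))) (BT.node 1911 (BT.node 1910 (BT.leaf cE1910) (BT.leaf cE1911)) (BT.node 1912 (BT.leaf cE1912) (BT.leaf cE1913)))) (BT.node 1917 (BT.node 1915 (BT.node 1914 (BT.leaf cE1914) (BT.leaf cE1915)) (BT.node 1916 (BT.leaf cE1916) (BT.leaf cE1917))) (BT.node 1919 (BT.node 1918 (BT.leaf cE1918) (BT.leaf cE1919)) (BT.node 1920 (BT.leaf cE1920) (BT.leaf cE1921))))) (BT.node 1930 (BT.node 1926 (BT.node 1924 (BT.node 1923 (BT.node 1922 (BT.leaf cE1922) (BT.leaf cE1923)) (BT.leaf cE1924)) (BT.node 1925 (BT.leaf cE1925) (BT.leaf cE1926))) (BT.node 1928 (BT.node 1927 (BT.leaf cE1927) (BT.leaf cE1928))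 (BT.node 1929 (BT.leaf cE1929) (BT.leaf cE1930)))) (BT.node 1934 (BT.node 1932 (BT.node 1931 (BT.leaf cE1931) (BT.leaf cE1932)) (BT.node 1933 (BT.leaf cE1933) (BT.leaf cE1934))) (BT.node 1936 (BT.node 1935 (BT.leaf cE1935) (BT.leaf cE1936)) (BT.node 1937 (BT.leaf cE1937) (BT.leaf cE1938)))))) (BT.node 1955 (BT.node 1947 (BT.node 1943 (BT.node 1941 (BT.node 1940 (BT.node 1939 (BT.leaf cE1939) (BT.leaf cE1940)) (BT.leaf cE1941)) (BT.node 1942 (BT.leaf cE1942) (BT.leaf cE1943))) (BT.node 1945 (BT.node 1944 (BT.leaf cE1944) (BT.leaf cE1945)) (BT.node 1946 (BT.leaf cE1946) (BT.leaf cE1947)))) (BT.node 1951 (BT.node 1949 (BT.node 1948 (BT.leaf cE1948) (BT.leaf cE1949)) (BT.node 1950 (BT.leaf cE1950) (BT.leaf cE1951))) (BT.node 1953 (BT.node 1952 (BT.leaf cE1952) (BT.leaf cE1953)) (BT.node 1954 (BT.leaf cE1954) (BT.leaf cE1955))))) (BT.node 1964 (BT.node 1960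 (BT.node 1958 (BT.node 1957 (BT.node 1956 (BT.leaf cE1956) (BT.leaf cE1957)) (BT.leaf cE1958)) (BT.node 1959 (BT.leaf cE1959) (BT.leaf cE1960))) (BT.node 1962 (BT.node 1961 (BT.leaf cE1961) (BT.leaf cE1962)) (BT.node 1963 (BT.leaf cE1963) (BT.leaf cE1964)))) (BT.node 1968 (BT.node 1966 (BT.node 1965 (BT.leaf cE1965) (BT.leaf cE1966)) (BT.node 1967 (BT.leaf cE1967) (BT.leaf cE1968))) (BT.node 1970 (BT.node 1969 (BT.leaf cE1969) (BT.leaf cE1970)) (BT.node 1971 (BT.leaf cE1971) (BT.leaf cE1972))))))) (BT.node 2006 (BT.node 1989 (BT.node 1981 (BT.node 1977 (BT.node 1975 (BT.node 1974 (BT.node 1973 (BT.leaf cE1973) (BT.leaf cE1974)) (BT.leaf cE1975)) (BT.node 1976 (BT.leaf cE1976) (BT.leaf cE1977))) (BT.node 1979 (BT.node 1978 (BT.leaf cE1978) (BT.leaf cE1979)) (BT.node 1980 (BT.leaf cE1980) (BT.leaf cE1981)))) (BT.node 1985 (BT.node 1983 (BT.node 1982 (BT.leaf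 cE1982) (BT.leaf cE1983)) (BT.node 1984 (BT.leaf cE1984) (BT.leaf cE1985))) (BT.node 1987 (BT.node 1986 (BT.leaf cE1986) (BT.leaf cE1987)) (BT.node 1988 (BT.leaf cE1988) (BT.leaf cE1989))))) (BT.node 1998 (BT.node 1994 (BT.node 1992 (BT.node 1991 (BT.node 1990 (BT.leaf cE1990) (BT.leaf cE1991)) (BT.leaf cE1992)) (BT.node 1993 (BT.leaf cE1993) (BT.leaf cE1994))) (BT.node 1996 (BT.node 1995 (BT.leaf cE1995) (BT.leaf cE1996)) (BT.node 1997 (BT.leaf cE1997) (BT.leaf cE1998)))) (BT.node 2002 (BT.node 2000 (BT.node 1999 (BT.leaf cE1999) (BT.leaf cE2000)) (BT.node 2001 (BT.leaf cE2001) (BT.leaf cE2002))) (BT.node 2004 (BT.node 2003 (BT.leaf cE2003) (BT.leaf cE2004)) (BT.node 2005 (BT.leaf cE2005) (BT.leaf cE2006)))))) (BT.node 2023 (BT.node 2015 (BT.node 2011 (BT.node 2009 (BT.node 2008 (BT.node 2007 (BT.leaf cE2007) (BT.leaf cE2008)) (BT.leaf cE2009)) (BT.node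 2010 (BT.leaf cE2010) (BT.leaf cE2011))) (BT.node 2013 (BT.node 2012 (BT.leaf cE2012) (BT.leaf cE2013)) (BT.node 2014 (BT.leaf cE2014) (BT.leaf cE2015)))) (BT.node 2019 (BT.node 2017 (BT.node 2016 (BT.leaf cE2016) (BT.leaf cE2017)) (BT.node 2018 (BT.leaf cE2018) (BT.leaf cE2019))) (BT.node 2021 (BT.node 2020 (BT.leaf cE2020) (BT.leaf cE2021)) (BT.node 2022 (BT.leaf cE2022) (BT.leaf cE2023))))) (BT.node 2032 (BT.node 2028 (BT.node 2026 (BT.node 2025 (BT.node 2024 (BT.leaf cE2024) (BT.leaf cE2025)) (BT.leaf cE2026)) (BT.node 2027 (BT.leaf cE2027) (BT.leaf cE2028))) (BT.node 2030 (BT.node 2029 (BT.leaf cE2029) (BT.leaf cE2030)) (BT.node 2031 (BT.leaf cE2031) (BT.leaf cE2032)))) (BT.node 2036 (BT.node 2034 (BT.node 2033 (BT.leaf cE2033) (BT.leaf cE2034)) (BT.node 2035 (BT.leaf cE2035) (BT.leaf cE2036))) (BT.node 2038 (BT.node 2037 (BT.leaf cE2037) (BT.leaf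 cE2038)) (BT.node 2039 (BT.leaf cE2039) (BT.leaf cE2040)))))))) (BT.node 2108 (BT.node 2074 (BT.node 2057 (BT.node 2049 (BT.node 2045 (BT.node 2043 (BT.node 2042 (BT.node 2041 (BT.leaf cE2041) (BT.leaf cE2042)) (BT.leaf cE2043)) (BT.node 2044 (BT.leaf cE2044) (BT.leaf cE2045))) (BT.node 2047 (BT.node 2046 (BT.leaf cE2046) (BT.leaf cE2047)) (BT.node 2048 (BT.leaf cE2048) (BT.leaf cE2049)))) (BT.node 2053 (BT.node 2051 (BT.node 2050 (BT.leaf cE2050) (BT.leaf cE2051)) (BT.node 2052 (BT.leaf cE2052) (BT.leaf cE2053))) (BT.node 2055 (BT.node 2054 (BT.leaf cE2054) (BT.leaf cE2055)) (BT.node 2056 (BT.leaf cE2056) (BT.leaf cE2057))))) (BT.node 2066 (BT.node 2062 (BT.node 2060 (BT.node 2059 (BT.node 2058 (BT.leaf cE2058) (BT.leaf cE2059)) (BT.leaf cE2060)) (BT.node 2061 (BT.leaf cE2061) (BT.leaf cE2062))) (BT.node 2064 (BT.node 2063 (BT.leaf cE2063) (BT.leaf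 cE2064)) (BT.node 2065 (BT.leaf cE2065) (BT.leaf cE2066)))) (BT.node 2070 (BT.node 2068 (BT.node 2067 (BT.leaf cE2067) (BT.leaf cE2068)) (BT.node 2069 (BT.leaf cE2069) (BT.leaf cE2070))) (BT.node 2072 (BT.node 2071 (BT.leaf cE2071) (BT.leaf cE2072)) (BT.node 2073 (BT.leaf cE2073) (BT.leaf cE2074)))))) (BT.node 2091 (BT.node 2083 (BT.node 2079 (BT.node 2077 (BT.node 2076 (BT.node 2075 (BT.leaf cE2075) (BT.leaf cE2076)) (BT.leaf cE2077)) (BT.node 2078 (BT.leaf cE2078) (BT.leaf cE2079))) (BT.node 2081 (BT.node 2080 (BT.leaf cE2080) (BT.leaf cE2081)) (BT.node 2082 (BT.leaf cE2082) (BT.leaf cE2083)))) (BT.node 2087 (BT.node 2085 (BT.node 2084 (BT.leaf cE2084) (BT.leaf cE2085)) (BT.node 2086 (BT.leaf cE2086) (BT.leaf cE2087))) (BT.node 2089 (BT.node 2088 (BT.leaf cE2088) (BT.leaf cE2089)) (BT.node 2090 (BT.leaf cE2090) (BT.leaf cE2091))))) (BT.node 2100 (BT.node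 2096 (BT.node 2094 (BT.node 2093 (BT.node 2092 (BT.leaf cE2092) (BT.leaf cE2093)) (BT.leaf cE2094)) (BT.node 2095 (BT.leaf cE2095) (BT.leaf cE2096))) (BT.node 2098 (BT.node 2097 (BT.leaf cE2097) (BT.leaf cE2098)) (BT.node 2099 (BT.leaf cE2099) (BT.leaf cE2100)))) (BT.node 2104 (BT.node 2102 (BT.node 2101 (BT.leaf cE2101) (BT.leaf cE2102)) (BT.node 2103 (BT.leaf cE2103) (BT.leaf cE2104))) (BT.node 2106 (BT.node 2105 (BT.leaf cE2105) (BT.leaf cE2106)) (BT.node 2107 (BT.leaf cE2107) (BT.leaf cE2108))))))) (BT.node 2142 (BT.node 2125 (BT.node 2117 (BT.node 2113 (BT.node 2111 (BT.node 2110 (BT.node 2109 (BT.leaf cE2109) (BT.leaf cE2110)) (BT.leaf cE2111)) (BT.node 2112 (BT.leaf cE2112) (BT.leaf cE2113))) (BT.node 2115 (BT.node 2114 (BT.leaf cE2114) (BT.leaf cE2115)) (BT.node 2116 (BT.leaf cE2116) (BT.leaf cE2117)))) (BT.node 2121 (BT.node 2119 (BT.node 2118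 (BT.leaf cE2118) (BT.leaf cE2119)) (BT.node 2120 (BT.leaf cE2120) (BT.leaf cE2121))) (BT.node 2123 (BT.node 2122 (BT.leaf cE2122) (BT.leaf cE2123)) (BT.node 2124 (BT.leaf cE2124) (BT.leaf cE2125))))) (BT.node 2134 (BT.node 2130 (BT.node 2128 (BT.node 2127 (BT.node 2126 (BT.leaf cE2126) (BT.leaf cE2127)) (BT.leaf cE2128)) (BT.node 2129 (BT.leaf cE2129) (BT.leaf cE2130))) (BT.node 2132 (BT.node 2131 (BT.leaf cE2131) (BT.leaf cE2132)) (BT.node 2133 (BT.leaf cE2133) (BT.leaf cE2134)))) (BT.node 2138 (BT.node 2136 (BT.node 2135 (BT.leaf cE2135) (BT.leaf cE2136)) (BT.node 2137 (BT.leaf cE2137) (BT.leaf cE2138))) (BT.node 2140 (BT.node 2139 (BT.leaf cE2139) (BT.leaf cE2140)) (BT.node 2141 (BT.leaf cE2141) (BT.leaf cE2142)))))) (BT.node 2159 (BT.node 2151 (BT.node 2147 (BT.node 2145 (BT.node 2144 (BT.node 2143 (BT.leaf cE2143) (BT.leaf cE2144)) (BT.leaf cE2145))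 (BT.node 2146 (BT.leaf cE2146) (BT.leaf cE2147))) (BT.node 2149 (BT.node 2148 (BT.leaf cE2148) (BT.leaf cE2149)) (BT.node 2150 (BT.leaf cE2150) (BT.leaf cE2151)))) (BT.node 2155 (BT.node 2153 (BT.node 2152 (BT.leaf cE2152) (BT.leaf cE2153)) (BT.node 2154 (BT.leaf cE2154) (BT.leaf cE2155))) (BT.node 2157 (BT.node 2156 (BT.leaf cE2156) (BT.leaf cE2157)) (BT.node 2158 (BT.leaf cE2158) (BT.leaf cE2159))))) (BT.node 2168 (BT.node 2164 (BT.node 2162 (BT.node 2161 (BT.node 2160 (BT.leaf cE2160) (BT.leaf cE2161)) (BT.leaf cE2162)) (BT.node 2163 (BT.leaf cE2163) (BT.leaf cE2164))) (BT.node 2166 (BT.node 2165 (BT.leaf cE2165) (BT.leaf cE2166)) (BT.node 2167 (BT.leaf cE2167) (BT.leaf cE2168)))) (BT.node 2172 (BT.node 2170 (BT.node 2169 (BT.leaf cE2169) (BT.leaf cE2170)) (BT.node 2171 (BT.leaf cE2171) (BT.leaf cE2172))) (BT.node 2174 (BT.node 2173 (BT.leaf cE2173)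 (BT.leaf cE2174)) (BT.node 2175 (BT.leaf cE2175) (BT.leaf cE2176))))))))))))
/-- justification chunks -/
def colJT : BT ℕ := (BT.node 1088 (BT.node 544 (BT.node 272 (BT.node 136 (BT.node 68 (BT.node 34 (BT.node 17 (BT.node 8 (BT.node 4 (BT.node 2 (BT.node 1 (BT.node 0 (BT.leaf cJ0) (BT.leaf cJ1)) (BT.leaf cJ2)) (BT.node 3 (BT.leaf cJ3) (BT.leaf cJ4))) (BT.node 6 (BT.node 5 (BT.leaf cJ5) (BT.leaf cJ6)) (BT.node 7 (BT.leaf cJ7) (BT.leaf cJ8)))) (BT.node 13 (BT.node 11 (BT.node 10 (BT.node 9 (BT.leaf cJ9) (BT.leaf cJ10)) (BT.leaf cJ11)) (BT.node 12 (BT.leaf cJ12) (BT.leaf cJ13))) (BT.node 15 (BT.node 14 (BT.leaf cJ14) (BT.leaf cJ15)) (BT.node 16 (BT.leaf cJ16) (BT.leaf cJ17))))) (BT.node 26 (BT.node 22 (BT.node 20 (BT.node 19 (BT.node 18 (BT.leaf cJ18) (BT.leaf cJ19)) (BT.leaf cJ20)) (BT.node 21 (BT.leaf cJ21) (BT.leaf cJ22))) (BT.node 24 (BT.node 23 (BT.leaf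 cJ23) (BT.leaf cJ24)) (BT.node 25 (BT.leaf cJ25) (BT.leaf cJ26)))) (BT.node 30 (BT.node 28 (BT.node 27 (BT.leaf cJ27) (BT.leaf cJ28)) (BT.node 29 (BT.leaf cJ29) (BT.leaf cJ30))) (BT.node 32 (BT.node 31 (BT.leaf cJ31) (BT.leaf cJ32)) (BT.node 33 (BT.leaf cJ33) (BT.leaf cJ34)))))) (BT.node 51 (BT.node 43 (BT.node 39 (BT.node 37 (BT.node 36 (BT.node 35 (BT.leaf cJ35) (BT.leaf cJ36)) (BT.leaf cJ37)) (BT.node 38 (BT.leaf cJ38) (BT.leaf cJ39))) (BT.node 41 (BT.node 40 (BT.leaf cJ40) (BT.leaf cJ41)) (BT.node 42 (BT.leaf cJ42) (BT.leaf cJ43)))) (BT.node 47 (BT.node 45 (BT.node 44 (BT.leaf cJ44) (BT.leaf cJ45)) (BT.node 46 (BT.leaf cJ46) (BT.leaf cJ47))) (BT.node 49 (BT.node 48 (BT.leaf cJ48) (BT.leaf cJ49)) (BT.node 50 (BT.leaf cJ50) (BT.leaf cJ51))))) (BT.node 60 (BT.node 56 (BT.node 54 (BT.node 53 (BT.node 52 (BT.leaf cJ52) (BT.leaf cJ53)) (BT.leaf cJ54))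 (BT.node 55 (BT.leaf cJ55) (BT.leaf cJ56))) (BT.node 58 (BT.node 57 (BT.leaf cJ57) (BT.leaf cJ58)) (BT.node 59 (BT.leaf cJ59) (BT.leaf cJ60)))) (BT.node 64 (BT.node 62 (BT.node 61 (BT.leaf cJ61) (BT.leaf cJ62)) (BT.node 63 (BT.leaf cJ63) (BT.leaf cJ64))) (BT.node 66 (BT.node 65 (BT.leaf cJ65) (BT.leaf cJ66)) (BT.node 67 (BT.leaf cJ67) (BT.leaf cJ68))))))) (BT.node 102 (BT.node 85 (BT.node 77 (BT.node 73 (BT.node 71 (BT.node 70 (BT.node 69 (BT.leaf cJ69) (BT.leaf cJ70)) (BT.leaf cJ71)) (BT.node 72 (BT.leaf cJ72) (BT.leaf cJ73))) (BT.node 75 (BT.node 74 (BT.leaf cJ74) (BT.leaf cJ75)) (BT.node 76 (BT.leaf cJ76) (BT.leaf cJ77)))) (BT.node 81 (BT.node 79 (BT.node 78 (BT.leaf cJ78) (BT.leaf cJ79)) (BT.node 80 (BT.leaf cJ80) (BT.leaf cJ81))) (BT.node 83 (BT.node 82 (BT.leaf cJ82) (BT.leaf cJ83)) (BT.node 84 (BT.leaf cJ84) (BT.leaf cJ85))))) (BT.node 94 (BT.node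 90 (BT.node 88 (BT.node 87 (BT.node 86 (BT.leaf cJ86) (BT.leaf cJ87)) (BT.leaf cJ88)) (BT.node 89 (BT.leaf cJ89) (BT.leaf cJ90))) (BT.node 92 (BT.node 91 (BT.leaf cJ91) (BT.leaf cJ92)) (BT.node 93 (BT.leaf cJ93) (BT.leaf cJ94)))) (BT.node 98 (BT.node 96 (BT.node 95 (BT.leaf cJ95) (BT.leaf cJ96)) (BT.node 97 (BT.leaf cJ97) (BT.leaf cJ98))) (BT.node 100 (BT.node 99 (BT.leaf cJ99) (BT.leaf cJ100)) (BT.node 101 (BT.leaf cJ101) (BT.leaf cJ102)))))) (BT.node 119 (BT.node 111 (BT.node 107 (BT.node 105 (BT.node 104 (BT.node 103 (BT.leaf cJ103) (BT.leaf cJ104)) (BT.leaf cJ105)) (BT.node 106 (BT.leaf cJ106) (BT.leaf cJ107))) (BT.node 109 (BT.node 108 (BT.leaf cJ108) (BT.leaf cJ109)) (BT.node 110 (BT.leaf cJ110) (BT.leaf cJ111)))) (BT.node 115 (BT.node 113 (BT.node 112 (BT.leaf cJ112) (BT.leaf cJ113)) (BT.node 114 (BT.leaf cJ114) (BT.leaf cJ115))) (BT.node 117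 (BT.node 116 (BT.leaf cJ116) (BT.leaf cJ117)) (BT.node 118 (BT.leaf cJ118) (BT.leaf cJ119))))) (BT.node 128 (BT.node 124 (BT.node 122 (BT.node 121 (BT.node 120 (BT.leaf cJ120) (BT.leaf cJ121)) (BT.leaf cJ122)) (BT.node 123 (BT.leaf cJ123) (BT.leaf cJ124))) (BT.node 126 (BT.node 125 (BT.leaf cJ125) (BT.leaf cJ126)) (BT.node 127 (BT.leaf cJ127) (BT.leaf cJ128)))) (BT.node 132 (BT.node 130 (BT.node 129 (BT.leaf cJ129) (BT.leaf cJ130)) (BT.node 131 (BT.leaf cJ131) (BT.leaf cJ132))) (BT.node 134 (BT.node 133 (BT.leaf cJ133) (BT.leaf cJ134)) (BT.node 135 (BT.leaf cJ135) (BT.leaf cJ136)))))))) (BT.node 204 (BT.node 170 (BT.node 153 (BT.node 145 (BT.node 141 (BT.node 139 (BT.node 138 (BT.node 137 (BT.leaf cJ137) (BT.leaf cJ138)) (BT.leaf cJ139)) (BT.node 140 (BT.leaf cJ140) (BT.leaf cJ141))) (BT.node 143 (BT.node 142 (BT.leaf cJ142) (BT.leaf cJ143)) (BT.node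 144 (BT.leaf cJ144) (BT.leaf cJ145)))) (BT.node 149 (BT.node 147 (BT.node 146 (BT.leaf cJ146) (BT.leaf cJ147)) (BT.node 148 (BT.leaf cJ148) (BT.leaf cJ149))) (BT.node 151 (BT.node 150 (BT.leaf cJ150) (BT.leaf cJ151)) (BT.node 152 (BT.leaf cJ152) (BT.leaf cJ153))))) (BT.node 162 (BT.node 158 (BT.node 156 (BT.node 155 (BT.node 154 (BT.leaf cJ154) (BT.leaf cJ155)) (BT.leaf cJ156)) (BT.node 157 (BT.leaf cJ157) (BT.leaf cJ158))) (BT.node 160 (BT.node 159 (BT.leaf cJ159) (BT.leaf cJ160)) (BT.node 161 (BT.leaf cJ161) (BT.leaf cJ162)))) (BT.node 166 (BT.node 164 (BT.node 163 (BT.leaf cJ163) (BT.leaf cJ164)) (BT.node 165 (BT.leaf cJ165) (BT.leaf cJ166))) (BT.node 168 (BT.node 167 (BT.leaf cJ167) (BT.leaf cJ168)) (BT.node 169 (BT.leaf cJ169) (BT.leaf cJ170)))))) (BT.node 187 (BT.node 179 (BT.node 175 (BT.node 173 (BT.node 172 (BT.node 171 (BT.leaf cJ171) (BT.leaf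 cJ172)) (BT.leaf cJ173)) (BT.node 174 (BT.leaf cJ174) (BT.leaf cJ175))) (BT.node 177 (BT.node 176 (BT.leaf cJ176) (BT.leaf cJ177)) (BT.node 178 (BT.leaf cJ178) (BT.leaf cJ179)))) (BT.node 183 (BT.node 181 (BT.node 180 (BT.leaf cJ180) (BT.leaf cJ181)) (BT.node 182 (BT.leaf cJ182) (BT.leaf cJ183))) (BT.node 185 (BT.node 184 (BT.leaf cJ184) (BT.leaf cJ185)) (BT.node 186 (BT.leaf cJ186) (BT.leaf cJ187))))) (BT.node 196 (BT.node 192 (BT.node 190 (BT.node 189 (BT.node 188 (BT.leaf cJ188) (BT.leaf cJ189)) (BT.leaf cJ190)) (BT.node 191 (BT.leaf cJ191) (BT.leaf cJ192))) (BT.node 194 (BT.node 193 (BT.leaf cJ193) (BT.leaf cJ194)) (BT.node 195 (BT.leaf cJ195) (BT.leaf cJ196)))) (BT.node 200 (BT.node 198 (BT.node 197 (BT.leaf cJ197) (BT.leaf cJ198)) (BT.node 199 (BT.leaf cJ199) (BT.leaf cJ200))) (BT.node 202 (BT.node 201 (BT.leaf cJ201) (BT.leaf cJ202)) (BT.node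 203 (BT.leaf cJ203) (BT.leaf cJ204))))))) (BT.node 238 (BT.node 221 (BT.node 213 (BT.node 209 (BT.node 207 (BT.node 206 (BT.node 205 (BT.leaf cJ205) (BT.leaf cJ206)) (BT.leaf cJ207)) (BT.node 208 (BT.leaf cJ208) (BT.leaf cJ209))) (BT.node 211 (BT.node 210 (BT.leaf cJ210) (BT.leaf cJ211)) (BT.node 212 (BT.leaf cJ212) (BT.leaf cJ213)))) (BT.node 217 (BT.node 215 (BT.node 214 (BT.leaf cJ214) (BT.leaf cJ215)) (BT.node 216 (BT.leaf cJ216) (BT.leaf cJ217))) (BT.node 219 (BT.node 218 (BT.leaf cJ218) (BT.leaf cJ219)) (BT.node 220 (BT.leaf cJ220) (BT.leaf cJ221))))) (BT.node 230 (BT.node 226 (BT.node 224 (BT.node 223 (BT.node 222 (BT.leaf cJ222) (BT.leaf cJ223)) (BT.leaf cJ224)) (BT.node 225 (BT.leaf cJ225) (BT.leaf cJ226))) (BT.node 228 (BT.node 227 (BT.leaf cJ227) (BT.leaf cJ228)) (BT.node 229 (BT.leaf cJ229) (BT.leaf cJ230)))) (BT.node 234 (BT.node 232 (BT.node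 231 (BT.leaf cJ231) (BT.leaf cJ232)) (BT.node 233 (BT.leaf cJ233) (BT.leaf cJ234))) (BT.node 236 (BT.node 235 (BT.leaf cJ235) (BT.leaf cJ236)) (BT.node 237 (BT.leaf cJ237) (BT.leaf cJ238)))))) (BT.node 255 (BT.node 247 (BT.node 243 (BT.node 241 (BT.node 240 (BT.node 239 (BT.leaf cJ239) (BT.leaf cJ240)) (BT.leaf cJ241)) (BT.node 242 (BT.leaf cJ242) (BT.leaf cJ243))) (BT.node 245 (BT.node 244 (BT.leaf cJ244) (BT.leaf cJ245)) (BT.node 246 (BT.leaf cJ246) (BT.leaf cJ247)))) (BT.node 251 (BT.node 249 (BT.node 248 (BT.leaf cJ248) (BT.leaf cJ249)) (BT.node 250 (BT.leaf cJ250) (BT.leaf cJ251))) (BT.node 253 (BT.node 252 (BT.leaf cJ252) (BT.leaf cJ253)) (BT.node 254 (BT.leaf cJ254) (BT.leaf cJ255))))) (BT.node 264 (BT.node 260 (BT.node 258 (BT.node 257 (BT.node 256 (BT.leaf cJ256) (BT.leaf cJ257)) (BT.leaf cJ258)) (BT.node 259 (BT.leaf cJ259) (BT.leaf cJ260)))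 (BT.node 262 (BT.node 261 (BT.leaf cJ261) (BT.leaf cJ262)) (BT.node 263 (BT.leaf cJ263) (BT.leaf cJ264)))) (BT.node 268 (BT.node 266 (BT.node 265 (BT.leaf cJ265) (BT.leaf cJ266)) (BT.node 267 (BT.leaf cJ267) (BT.leaf cJ268))) (BT.node 270 (BT.node 269 (BT.leaf cJ269) (BT.leaf cJ270)) (BT.node 271 (BT.leaf cJ271) (BT.leaf cJ272))))))))) (BT.node 408 (BT.node 340 (BT.node 306 (BT.node 289 (BT.node 281 (BT.node 277 (BT.node 275 (BT.node 274 (BT.node 273 (BT.leaf cJ273) (BT.leaf cJ274)) (BT.leaf cJ275)) (BT.node 276 (BT.leaf cJ276) (BT.leaf cJ277))) (BT.node 279 (BT.node 278 (BT.leaf cJ278) (BT.leaf cJ279)) (BT.node 280 (BT.leaf cJ280) (BT.leaf cJ281)))) (BT.node 285 (BT.node 283 (BT.node 282 (BT.leaf cJ282) (BT.leaf cJ283)) (BT.node 284 (BT.leaf cJ284) (BT.leaf cJ285))) (BT.node 287 (BT.node 286 (BT.leaf cJ286) (BT.leaf cJ287)) (BT.node 288 (BT.leaf cJ288)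 (BT.leaf cJ289))))) (BT.node 298 (BT.node 294 (BT.node 292 (BT.node 291 (BT.node 290 (BT.leaf cJ290) (BT.leaf cJ291)) (BT.leaf cJ292)) (BT.node 293 (BT.leaf cJ293) (BT.leaf cJ294))) (BT.node 296 (BT.node 295 (BT.leaf cJ295) (BT.leaf cJ296)) (BT.node 297 (BT.leaf cJ297) (BT.leaf cJ298)))) (BT.node 302 (BT.node 300 (BT.node 299 (BT.leaf cJ299) (BT.leaf cJ300)) (BT.node 301 (BT.leaf cJ301) (BT.leaf cJ302))) (BT.node 304 (BT.node 303 (BT.leaf cJ303) (BT.leaf cJ304)) (BT.node 305 (BT.leaf cJ305) (BT.leaf cJ306)))))) (BT.node 323 (BT.node 315 (BT.node 311 (BT.node 309 (BT.node 308 (BT.node 307 (BT.leaf cJ307) (BT.leaf cJ308)) (BT.leaf cJ309)) (BT.node 310 (BT.leaf cJ310) (BT.leaf cJ311))) (BT.node 313 (BT.node 312 (BT.leaf cJ312) (BT.leaf cJ313)) (BT.node 314 (BT.leaf cJ314) (BT.leaf cJ315)))) (BT.node 319 (BT.node 317 (BT.node 316 (BT.leaf cJ316) (BT.leaf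 cJ317)) (BT.node 318 (BT.leaf cJ318) (BT.leaf cJ319))) (BT.node 321 (BT.node 320 (BT.leaf cJ320) (BT.leaf cJ321)) (BT.node 322 (BT.leaf cJ322) (BT.leaf cJ323))))) (BT.node 332 (BT.node 328 (BT.node 326 (BT.node 325 (BT.node 324 (BT.leaf cJ324) (BT.leaf cJ325)) (BT.leaf cJ326)) (BT.node 327 (BT.leaf cJ327) (BT.leaf cJ328))) (BT.node 330 (BT.node 329 (BT.leaf cJ329) (BT.leaf cJ330)) (BT.node 331 (BT.leaf cJ331) (BT.leaf cJ332)))) (BT.node 336 (BT.node 334 (BT.node 333 (BT.leaf cJ333) (BT.leaf cJ334)) (BT.node 335 (BT.leaf cJ335) (BT.leaf cJ336))) (BT.node 338 (BT.node 337 (BT.leaf cJ337) (BT.leaf cJ338)) (BT.node 339 (BT.leaf cJ339) (BT.leaf cJ340))))))) (BT.node 374 (BT.node 357 (BT.node 349 (BT.node 345 (BT.node 343 (BT.node 342 (BT.node 341 (BT.leaf cJ341) (BT.leaf cJ342)) (BT.leaf cJ343)) (BT.node 344 (BT.leaf cJ344) (BT.leaf cJ345))) (BT.node 347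 (BT.node 346 (BT.leaf cJ346) (BT.leaf cJ347)) (BT.node 348 (BT.leaf cJ348) (BT.leaf cJ349)))) (BT.node 353 (BT.node 351 (BT.node 350 (BT.leaf cJ350) (BT.leaf cJ351)) (BT.node 352 (BT.leaf cJ352) (BT.leaf cJ353))) (BT.node 355 (BT.node 354 (BT.leaf cJ354) (BT.leaf cJ355)) (BT.node 356 (BT.leaf cJ356) (BT.leaf cJ357))))) (BT.node 366 (BT.node 362 (BT.node 360 (BT.node 359 (BT.node 358 (BT.leaf cJ358) (BT.leaf cJ359)) (BT.leaf cJ360)) (BT.node 361 (BT.leaf cJ361) (BT.leaf cJ362))) (BT.node 364 (BT.node 363 (BT.leaf cJ363) (BT.leaf cJ364)) (BT.node 365 (BT.leaf cJ365) (BT.leaf cJ366)))) (BT.node 370 (BT.node 368 (BT.node 367 (BT.leaf cJ367) (BT.leaf cJ368)) (BT.node 369 (BT.leaf cJ369) (BT.leaf cJ370))) (BT.node 372 (BT.node 371 (BT.leaf cJ371) (BT.leaf cJ372)) (BT.node 373 (BT.leaf cJ373) (BT.leaf cJ374)))))) (BT.node 391 (BT.node 383 (BT.node 379 (BT.node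 377 (BT.node 376 (BT.node 375 (BT.leaf cJ375) (BT.leaf cJ376)) (BT.leaf cJ377)) (BT.node 378 (BT.leaf cJ378) (BT.leaf cJ379))) (BT.node 381 (BT.node 380 (BT.leaf cJ380) (BT.leaf cJ381)) (BT.node 382 (BT.leaf cJ382) (BT.leaf cJ383)))) (BT.node 387 (BT.node 385 (BT.node 384 (BT.leaf cJ384) (BT.leaf cJ385)) (BT.node 386 (BT.leaf cJ386) (BT.leaf cJ387))) (BT.node 389 (BT.node 388 (BT.leaf cJ388) (BT.leaf cJ389)) (BT.node 390 (BT.leaf cJ390) (BT.leaf cJ391))))) (BT.node 400 (BT.node 396 (BT.node 394 (BT.node 393 (BT.node 392 (BT.leaf cJ392) (BT.leaf cJ393)) (BT.leaf cJ394)) (BT.node 395 (BT.leaf cJ395) (BT.leaf cJ396))) (BT.node 398 (BT.node 397 (BT.leaf cJ397) (BT.leaf cJ398)) (BT.node 399 (BT.leaf cJ399) (BT.leaf cJ400)))) (BT.node 404 (BT.node 402 (BT.node 401 (BT.leaf cJ401) (BT.leaf cJ402)) (BT.node 403 (BT.leaf cJ403) (BT.leaf cJ404))) (BT.node 406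 (BT.node 405 (BT.leaf cJ405) (BT.leaf cJ406)) (BT.node 407 (BT.leaf cJ407) (BT.leaf cJ408)))))))) (BT.node 476 (BT.node 442 (BT.node 425 (BT.node 417 (BT.node 413 (BT.node 411 (BT.node 410 (BT.node 409 (BT.leaf cJ409) (BT.leaf cJ410)) (BT.leaf cJ411)) (BT.node 412 (BT.leaf cJ412) (BT.leaf cJ413))) (BT.node 415 (BT.node 414 (BT.leaf cJ414) (BT.leaf cJ415)) (BT.node 416 (BT.leaf cJ416) (BT.leaf cJ417)))) (BT.node 421 (BT.node 419 (BT.node 418 (BT.leaf cJ418) (BT.leaf cJ419)) (BT.node 420 (BT.leaf cJ420) (BT.leaf cJ421))) (BT.node 423 (BT.node 422 (BT.leaf cJ422) (BT.leaf cJ423)) (BT.node 424 (BT.leaf cJ424) (BT.leaf cJ425))))) (BT.node 434 (BT.node 430 (BT.node 428 (BT.node 427 (BT.node 426 (BT.leaf cJ426) (BT.leaf cJ427)) (BT.leaf cJ428)) (BT.node 429 (BT.leaf cJ429) (BT.leaf cJ430))) (BT.node 432 (BT.node 431 (BT.leaf cJ431) (BT.leaf cJ432)) (BT.node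 433 (BT.leaf cJ433) (BT.leaf cJ434)))) (BT.node 438 (BT.node 436 (BT.node 435 (BT.leaf cJ435) (BT.leaf cJ436)) (BT.node 437 (BT.leaf cJ437) (BT.leaf cJ438))) (BT.node 440 (BT.node 439 (BT.leaf cJ439) (BT.leaf cJ440)) (BT.node 441 (BT.leaf cJ441) (BT.leaf cJ442)))))) (BT.node 459 (BT.node 451 (BT.node 447 (BT.node 445 (BT.node 444 (BT.node 443 (BT.leaf cJ443) (BT.leaf cJ444)) (BT.leaf cJ445)) (BT.node 446 (BT.leaf cJ446) (BT.leaf cJ447))) (BT.node 449 (BT.node 448 (BT.leaf cJ448) (BT.leaf cJ449)) (BT.node 450 (BT.leaf cJ450) (BT.leaf cJ451)))) (BT.node 455 (BT.node 453 (BT.node 452 (BT.leaf cJ452) (BT.leaf cJ453)) (BT.node 454 (BT.leaf cJ454) (BT.leaf cJ455))) (BT.node 457 (BT.node 456 (BT.leaf cJ456) (BT.leaf cJ457)) (BT.node 458 (BT.leaf cJ458) (BT.leaf cJ459))))) (BT.node 468 (BT.node 464 (BT.node 462 (BT.node 461 (BT.node 460 (BT.leaf cJ460) (BT.leaf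 cJ461)) (BT.leaf cJ462)) (BT.node 463 (BT.leaf cJ463) (BT.leaf cJ464))) (BT.node 466 (BT.node 465 (BT.leaf cJ465) (BT.leaf cJ466)) (BT.node 467 (BT.leaf cJ467) (BT.leaf cJ468)))) (BT.node 472 (BT.node 470 (BT.node 469 (BT.leaf cJ469) (BT.leaf cJ470)) (BT.node 471 (BT.leaf cJ471) (BT.leaf cJ472))) (BT.node 474 (BT.node 473 (BT.leaf cJ473) (BT.leaf cJ474)) (BT.node 475 (BT.leaf cJ475) (BT.leaf cJ476))))))) (BT.node 510 (BT.node 493 (BT.node 485 (BT.node 481 (BT.node 479 (BT.node 478 (BT.node 477 (BT.leaf cJ477) (BT.leaf cJ478)) (BT.leaf cJ479)) (BT.node 480 (BT.leaf cJ480) (BT.leaf cJ481))) (BT.node 483 (BT.node 482 (BT.leaf cJ482) (BT.leaf cJ483)) (BT.node 484 (BT.leaf cJ484) (BT.leaf cJ485)))) (BT.node 489 (BT.node 487 (BT.node 486 (BT.leaf cJ486) (BT.leaf cJ487)) (BT.node 488 (BT.leaf cJ488) (BT.leaf cJ489))) (BT.node 491 (BT.node 490 (BT.leaf cJ490)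 (BT.leaf cJ491)) (BT.node 492 (BT.leaf cJ492) (BT.leaf cJ493))))) (BT.node 502 (BT.node 498 (BT.node 496 (BT.node 495 (BT.node 494 (BT.leaf cJ494) (BT.leaf cJ495)) (BT.leaf cJ496)) (BT.node 497 (BT.leaf cJ497) (BT.leaf cJ498))) (BT.node 500 (BT.node 499 (BT.leaf cJ499) (BT.leaf cJ500)) (BT.node 501 (BT.leaf cJ501) (BT.leaf cJ502)))) (BT.node 506 (BT.node 504 (BT.node 503 (BT.leaf cJ503) (BT.leaf cJ504)) (BT.node 505 (BT.leaf cJ505) (BT.leaf cJ506))) (BT.node 508 (BT.node 507 (BT.leaf cJ507) (BT.leaf cJ508)) (BT.node 509 (BT.leaf cJ509) (BT.leaf cJ510)))))) (BT.node 527 (BT.node 519 (BT.node 515 (BT.node 513 (BT.node 512 (BT.node 511 (BT.leaf cJ511) (BT.leaf cJ512)) (BT.leaf cJ513)) (BT.node 514 (BT.leaf cJ514) (BT.leaf cJ515))) (BT.node 517 (BT.node 516 (BT.leaf cJ516) (BT.leaf cJ517)) (BT.node 518 (BT.leaf cJ518) (BT.leaf cJ519)))) (BT.node 523 (BT.node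 521 (BT.node 520 (BT.leaf cJ520) (BT.leaf cJ521)) (BT.node 522 (BT.leaf cJ522) (BT.leaf cJ523))) (BT.node 525 (BT.node 524 (BT.leaf cJ524) (BT.leaf cJ525)) (BT.node 526 (BT.leaf cJ526) (BT.leaf cJ527))))) (BT.node 536 (BT.node 532 (BT.node 530 (BT.node 529 (BT.node 528 (BT.leaf cJ528) (BT.leaf cJ529)) (BT.leaf cJ530)) (BT.node 531 (BT.leaf cJ531) (BT.leaf cJ532))) (BT.node 534 (BT.node 533 (BT.leaf cJ533) (BT.leaf cJ534)) (BT.node 535 (BT.leaf cJ535) (BT.leaf cJ536)))) (BT.node 540 (BT.node 538 (BT.node 537 (BT.leaf cJ537) (BT.leaf cJ538)) (BT.node 539 (BT.leaf cJ539) (BT.leaf cJ540))) (BT.node 542 (BT.node 541 (BT.leaf cJ541) (BT.leaf cJ542)) (BT.node 543 (BT.leaf cJ543) (BT.leaf cJ544)))))))))) (BT.node 816 (BT.node 680 (BT.node 612 (BT.node 578 (BT.node 561 (BT.node 553 (BT.node 549 (BT.node 547 (BT.node 546 (BT.node 545 (BT.leaf cJ545) (BT.leaf cJ546))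 (BT.leaf cJ547)) (BT.node 548 (BT.leaf cJ548) (BT.leaf cJ549))) (BT.node 551 (BT.node 550 (BT.leaf cJ550) (BT.leaf cJ551)) (BT.node 552 (BT.leaf cJ552) (BT.leaf cJ553)))) (BT.node 557 (BT.node 555 (BT.node 554 (BT.leaf cJ554) (BT.leaf cJ555)) (BT.node 556 (BT.leaf cJ556) (BT.leaf cJ557))) (BT.node 559 (BT.node 558 (BT.leaf cJ558) (BT.leaf cJ559)) (BT.node 560 (BT.leaf cJ560) (BT.leaf cJ561))))) (BT.node 570 (BT.node 566 (BT.node 564 (BT.node 563 (BT.node 562 (BT.leaf cJ562) (BT.leaf cJ563)) (BT.leaf cJ564)) (BT.node 565 (BT.leaf cJ565) (BT.leaf cJ566))) (BT.node 568 (BT.node 567 (BT.leaf cJ567) (BT.leaf cJ568)) (BT.node 569 (BT.leaf cJ569) (BT.leaf cJ570)))) (BT.node 574 (BT.node 572 (BT.node 571 (BT.leaf cJ571) (BT.leaf cJ572)) (BT.node 573 (BT.leaf cJ573) (BT.leaf cJ574))) (BT.node 576 (BT.node 575 (BT.leaf cJ575) (BT.leaf cJ576)) (BT.node 577 (BT.leaf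 cJ577) (BT.leaf cJ578)))))) (BT.node 595 (BT.node 587 (BT.node 583 (BT.node 581 (BT.node 580 (BT.node 579 (BT.leaf cJ579) (BT.leaf cJ580)) (BT.leaf cJ581)) (BT.node 582 (BT.leaf cJ582) (BT.leaf cJ583))) (BT.node 585 (BT.node 584 (BT.leaf cJ584) (BT.leaf cJ585)) (BT.node 586 (BT.leaf cJ586) (BT.leaf cJ587)))) (BT.node 591 (BT.node 589 (BT.node 588 (BT.leaf cJ588) (BT.leaf cJ589)) (BT.node 590 (BT.leaf cJ590) (BT.leaf cJ591))) (BT.node 593 (BT.node 592 (BT.leaf cJ592) (BT.leaf cJ593)) (BT.node 594 (BT.leaf cJ594) (BT.leaf cJ595))))) (BT.node 604 (BT.node 600 (BT.node 598 (BT.node 597 (BT.node 596 (BT.leaf cJ596) (BT.leaf cJ597)) (BT.leaf cJ598)) (BT.node 599 (BT.leaf cJ599) (BT.leaf cJ600))) (BT.node 602 (BT.node 601 (BT.leaf cJ601) (BT.leaf cJ602)) (BT.node 603 (BT.leaf cJ603) (BT.leaf cJ604)))) (BT.node 608 (BT.node 606 (BT.node 605 (BT.leaf cJ605) (BT.leaf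 cJ606)) (BT.node 607 (BT.leaf cJ607) (BT.leaf cJ608))) (BT.node 610 (BT.node 609 (BT.leaf cJ609) (BT.leaf cJ610)) (BT.node 611 (BT.leaf cJ611) (BT.leaf cJ612))))))) (BT.node 646 (BT.node 629 (BT.node 621 (BT.node 617 (BT.node 615 (BT.node 614 (BT.node 613 (BT.leaf cJ613) (BT.leaf cJ614)) (BT.leaf cJ615)) (BT.node 616 (BT.leaf cJ616) (BT.leaf cJ617))) (BT.node 619 (BT.node 618 (BT.leaf cJ618) (BT.leaf cJ619)) (BT.node 620 (BT.leaf cJ620) (BT.leaf cJ621)))) (BT.node 625 (BT.node 623 (BT.node 622 (BT.leaf cJ622) (BT.leaf cJ623)) (BT.node 624 (BT.leaf cJ624) (BT.leaf cJ625))) (BT.node 627 (BT.node 626 (BT.leaf cJ626) (BT.leaf cJ627)) (BT.node 628 (BT.leaf cJ628) (BT.leaf cJ629))))) (BT.node 638 (BT.node 634 (BT.node 632 (BT.node 631 (BT.node 630 (BT.leaf cJ630) (BT.leaf cJ631)) (BT.leaf cJ632)) (BT.node 633 (BT.leaf cJ633) (BT.leaf cJ634))) (BT.node 636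 (BT.node 635 (BT.leaf cJ635) (BT.leaf cJ636)) (BT.node 637 (BT.leaf cJ637) (BT.leaf cJ638)))) (BT.node 642 (BT.node 640 (BT.node 639 (BT.leaf cJ639) (BT.leaf cJ640)) (BT.node 641 (BT.leaf cJ641) (BT.leaf cJ642))) (BT.node 644 (BT.node 643 (BT.leaf cJ643) (BT.leaf cJ644)) (BT.node 645 (BT.leaf cJ645) (BT.leaf cJ646)))))) (BT.node 663 (BT.node 655 (BT.node 651 (BT.node 649 (BT.node 648 (BT.node 647 (BT.leaf cJ647) (BT.leaf cJ648)) (BT.leaf cJ649)) (BT.node 650 (BT.leaf cJ650) (BT.leaf cJ651))) (BT.node 653 (BT.node 652 (BT.leaf cJ652) (BT.leaf cJ653)) (BT.node 654 (BT.leaf cJ654) (BT.leaf cJ655)))) (BT.node 659 (BT.node 657 (BT.node 656 (BT.leaf cJ656) (BT.leaf cJ657)) (BT.node 658 (BT.leaf cJ658) (BT.leaf cJ659))) (BT.node 661 (BT.node 660 (BT.leaf cJ660) (BT.leaf cJ661)) (BT.node 662 (BT.leaf cJ662) (BT.leaf cJ663))))) (BT.node 672 (BT.node 668 (BT.node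 666 (BT.node 665 (BT.node 664 (BT.leaf cJ664) (BT.leaf cJ665)) (BT.leaf cJ666)) (BT.node 667 (BT.leaf cJ667) (BT.leaf cJ668))) (BT.node 670 (BT.node 669 (BT.leaf cJ669) (BT.leaf cJ670)) (BT.node 671 (BT.leaf cJ671) (BT.leaf cJ672)))) (BT.node 676 (BT.node 674 (BT.node 673 (BT.leaf cJ673) (BT.leaf cJ674)) (BT.node 675 (BT.leaf cJ675) (BT.leaf cJ676))) (BT.node 678 (BT.node 677 (BT.leaf cJ677) (BT.leaf cJ678)) (BT.node 679 (BT.leaf cJ679) (BT.leaf cJ680)))))))) (BT.node 748 (BT.node 714 (BT.node 697 (BT.node 689 (BT.node 685 (BT.node 683 (BT.node 682 (BT.node 681 (BT.leaf cJ681) (BT.leaf cJ682)) (BT.leaf cJ683)) (BT.node 684 (BT.leaf cJ684) (BT.leaf cJ685))) (BT.node 687 (BT.node 686 (BT.leaf cJ686) (BT.leaf cJ687)) (BT.node 688 (BT.leaf cJ688) (BT.leaf cJ689)))) (BT.node 693 (BT.node 691 (BT.node 690 (BT.leaf cJ690) (BT.leaf cJ691)) (BT.node 692 (BT.leaf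 cJ692) (BT.leaf cJ693))) (BT.node 695 (BT.node 694 (BT.leaf cJ694) (BT.leaf cJ695)) (BT.node 696 (BT.leaf cJ696) (BT.leaf cJ697))))) (BT.node 706 (BT.node 702 (BT.node 700 (BT.node 699 (BT.node 698 (BT.leaf cJ698) (BT.leaf cJ699)) (BT.leaf cJ700)) (BT.node 701 (BT.leaf cJ701) (BT.leaf cJ702))) (BT.node 704 (BT.node 703 (BT.leaf cJ703) (BT.leaf cJ704)) (BT.node 705 (BT.leaf cJ705) (BT.leaf cJ706)))) (BT.node 710 (BT.node 708 (BT.node 707 (BT.leaf cJ707) (BT.leaf cJ708)) (BT.node 709 (BT.leaf cJ709) (BT.leaf cJ710))) (BT.node 712 (BT.node 711 (BT.leaf cJ711) (BT.leaf cJ712)) (BT.node 713 (BT.leaf cJ713) (BT.leaf cJ714)))))) (BT.node 731 (BT.node 723 (BT.node 719 (BT.node 717 (BT.node 716 (BT.node 715 (BT.leaf cJ715) (BT.leaf cJ716)) (BT.leaf cJ717)) (BT.node 718 (BT.leaf cJ718) (BT.leaf cJ719))) (BT.node 721 (BT.node 720 (BT.leaf cJ720) (BT.leaf cJ721))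 (BT.node 722 (BT.leaf cJ722) (BT.leaf cJ723)))) (BT.node 727 (BT.node 725 (BT.node 724 (BT.leaf cJ724) (BT.leaf cJ725)) (BT.node 726 (BT.leaf cJ726) (BT.leaf cJ727))) (BT.node 729 (BT.node 728 (BT.leaf cJ728) (BT.leaf cJ729)) (BT.node 730 (BT.leaf cJ730) (BT.leaf cJ731))))) (BT.node 740 (BT.node 736 (BT.node 734 (BT.node 733 (BT.node 732 (BT.leaf cJ732) (BT.leaf cJ733)) (BT.leaf cJ734)) (BT.node 735 (BT.leaf cJ735) (BT.leaf cJ736))) (BT.node 738 (BT.node 737 (BT.leaf cJ737) (BT.leaf cJ738)) (BT.node 739 (BT.leaf cJ739) (BT.leaf cJ740)))) (BT.node 744 (BT.node 742 (BT.node 741 (BT.leaf cJ741) (BT.leaf cJ742)) (BT.node 743 (BT.leaf cJ743) (BT.leaf cJ744))) (BT.node 746 (BT.node 745 (BT.leaf cJ745) (BT.leaf cJ746)) (BT.node 747 (BT.leaf cJ747) (BT.leaf cJ748))))))) (BT.node 782 (BT.node 765 (BT.node 757 (BT.node 753 (BT.node 751 (BT.node 750 (BT.node 749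 (BT.leaf cJ749) (BT.leaf cJ750)) (BT.leaf cJ751)) (BT.node 752 (BT.leaf cJ752) (BT.leaf cJ753))) (BT.node 755 (BT.node 754 (BT.leaf cJ754) (BT.leaf cJ755)) (BT.node 756 (BT.leaf cJ756) (BT.leaf cJ757)))) (BT.node 761 (BT.node 759 (BT.node 758 (BT.leaf cJ758) (BT.leaf cJ759)) (BT.node 760 (BT.leaf cJ760) (BT.leaf cJ761))) (BT.node 763 (BT.node 762 (BT.leaf cJ762) (BT.leaf cJ763)) (BT.node 764 (BT.leaf cJ764) (BT.leaf cJ765))))) (BT.node 774 (BT.node 770 (BT.node 768 (BT.node 767 (BT.node 766 (BT.leaf cJ766) (BT.leaf cJ767)) (BT.leaf cJ768)) (BT.node 769 (BT.leaf cJ769) (BT.leaf cJ770))) (BT.node 772 (BT.node 771 (BT.leaf cJ771) (BT.leaf cJ772)) (BT.node 773 (BT.leaf cJ773) (BT.leaf cJ774)))) (BT.node 778 (BT.node 776 (BT.node 775 (BT.leaf cJ775) (BT.leaf cJ776)) (BT.node 777 (BT.leaf cJ777) (BT.leaf cJ778))) (BT.node 780 (BT.node 779 (BT.leaf cJ779) (BT.leaf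 cJ780)) (BT.node 781 (BT.leaf cJ781) (BT.leaf cJ782)))))) (BT.node 799 (BT.node 791 (BT.node 787 (BT.node 785 (BT.node 784 (BT.node 783 (BT.leaf cJ783) (BT.leaf cJ784)) (BT.leaf cJ785)) (BT.node 786 (BT.leaf cJ786) (BT.leaf cJ787))) (BT.node 789 (BT.node 788 (BT.leaf cJ788) (BT.leaf cJ789)) (BT.node 790 (BT.leaf cJ790) (BT.leaf cJ791)))) (BT.node 795 (BT.node 793 (BT.node 792 (BT.leaf cJ792) (BT.leaf cJ793)) (BT.node 794 (BT.leaf cJ794) (BT.leaf cJ795))) (BT.node 797 (BT.node 796 (BT.leaf cJ796) (BT.leaf cJ797)) (BT.node 798 (BT.leaf cJ798) (BT.leaf cJ799))))) (BT.node 808 (BT.node 804 (BT.node 802 (BT.node 801 (BT.node 800 (BT.leaf cJ800) (BT.leaf cJ801)) (BT.leaf cJ802)) (BT.node 803 (BT.leaf cJ803) (BT.leaf cJ804))) (BT.node 806 (BT.node 805 (BT.leaf cJ805) (BT.leaf cJ806)) (BT.node 807 (BT.leaf cJ807) (BT.leaf cJ808)))) (BT.node 812 (BT.node 810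 (BT.node 809 (BT.leaf cJ809) (BT.leaf cJ810)) (BT.node 811 (BT.leaf cJ811) (BT.leaf cJ812))) (BT.node 814 (BT.node 813 (BT.leaf cJ813) (BT.leaf cJ814)) (BT.node 815 (BT.leaf cJ815) (BT.leaf cJ816))))))))) (BT.node 952 (BT.node 884 (BT.node 850 (BT.node 833 (BT.node 825 (BT.node 821 (BT.node 819 (BT.node 818 (BT.node 817 (BT.leaf cJ817) (BT.leaf cJ818)) (BT.leaf cJ819)) (BT.node 820 (BT.leaf cJ820) (BT.leaf cJ821))) (BT.node 823 (BT.node 822 (BT.leaf cJ822) (BT.leaf cJ823)) (BT.node 824 (BT.leaf cJ824) (BT.leaf cJ825)))) (BT.node 829 (BT.node 827 (BT.node 826 (BT.leaf cJ826) (BT.leaf cJ827)) (BT.node 828 (BT.leaf cJ828) (BT.leaf cJ829))) (BT.node 831 (BT.node 830 (BT.leaf cJ830) (BT.leaf cJ831)) (BT.node 832 (BT.leaf cJ832) (BT.leaf cJ833))))) (BT.node 842 (BT.node 838 (BT.node 836 (BT.node 835 (BT.node 834 (BT.leaf cJ834) (BT.leaf cJ835)) (BT.leaf cJ836))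 (BT.node 837 (BT.leaf cJ837) (BT.leaf cJ838))) (BT.node 840 (BT.node 839 (BT.leaf cJ839) (BT.leaf cJ840)) (BT.node 841 (BT.leaf cJ841) (BT.leaf cJ842)))) (BT.node 846 (BT.node 844 (BT.node 843 (BT.leaf cJ843) (BT.leaf cJ844)) (BT.node 845 (BT.leaf cJ845) (BT.leaf cJ846))) (BT.node 848 (BT.node 847 (BT.leaf cJ847) (BT.leaf cJ848)) (BT.node 849 (BT.leaf cJ849) (BT.leaf cJ850)))))) (BT.node 867 (BT.node 859 (BT.node 855 (BT.node 853 (BT.node 852 (BT.node 851 (BT.leaf cJ851) (BT.leaf cJ852)) (BT.leaf cJ853)) (BT.node 854 (BT.leaf cJ854) (BT.leaf cJ855))) (BT.node 857 (BT.node 856 (BT.leaf cJ856) (BT.leaf cJ857)) (BT.node 858 (BT.leaf cJ858) (BT.leaf cJ859)))) (BT.node 863 (BT.node 861 (BT.node 860 (BT.leaf cJ860) (BT.leaf cJ861)) (BT.node 862 (BT.leaf cJ862) (BT.leaf cJ863))) (BT.node 865 (BT.node 864 (BT.leaf cJ864) (BT.leaf cJ865)) (BT.node 866 (BT.leaf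 cJ866) (BT.leaf cJ867))))) (BT.node 876 (BT.node 872 (BT.node 870 (BT.node 869 (BT.node 868 (BT.leaf cJ868) (BT.leaf cJ869)) (BT.leaf cJ870)) (BT.node 871 (BT.leaf cJ871) (BT.leaf cJ872))) (BT.node 874 (BT.node 873 (BT.leaf cJ873) (BT.leaf cJ874)) (BT.node 875 (BT.leaf cJ875) (BT.leaf cJ876)))) (BT.node 880 (BT.node 878 (BT.node 877 (BT.leaf cJ877) (BT.leaf cJ878)) (BT.node 879 (BT.leaf cJ879) (BT.leaf cJ880))) (BT.node 882 (BT.node 881 (BT.leaf cJ881) (BT.leaf cJ882)) (BT.node 883 (BT.leaf cJ883) (BT.leaf cJ884))))))) (BT.node 918 (BT.node 901 (BT.node 893 (BT.node 889 (BT.node 887 (BT.node 886 (BT.node 885 (BT.leaf cJ885) (BT.leaf cJ886)) (BT.leaf cJ887)) (BT.node 888 (BT.leaf cJ888) (BT.leaf cJ889))) (BT.node 891 (BT.node 890 (BT.leaf cJ890) (BT.leaf cJ891)) (BT.node 892 (BT.leaf cJ892) (BT.leaf cJ893)))) (BT.node 897 (BT.node 895 (BT.node 894 (BT.leaf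 cJ894) (BT.leaf cJ895)) (BT.node 896 (BT.leaf cJ896) (BT.leaf cJ897))) (BT.node 899 (BT.node 898 (BT.leaf cJ898) (BT.leaf cJ899)) (BT.node 900 (BT.leaf cJ900) (BT.leaf cJ901))))) (BT.node 910 (BT.node 906 (BT.node 904 (BT.node 903 (BT.node 902 (BT.leaf cJ902) (BT.leaf cJ903)) (BT.leaf cJ904)) (BT.node 905 (BT.leaf cJ905) (BT.leaf cJ906))) (BT.node 908 (BT.node 907 (BT.leaf cJ907) (BT.leaf cJ908)) (BT.node 909 (BT.leaf cJ909) (BT.leaf cJ910)))) (BT.node 914 (BT.node 912 (BT.node 911 (BT.leaf cJ911) (BT.leaf cJ912)) (BT.node 913 (BT.leaf cJ913) (BT.leaf cJ914))) (BT.node 916 (BT.node 915 (BT.leaf cJ915) (BT.leaf cJ916)) (BT.node 917 (BT.leaf cJ917) (BT.leaf cJ918)))))) (BT.node 935 (BT.node 927 (BT.node 923 (BT.node 921 (BT.node 920 (BT.node 919 (BT.leaf cJ919) (BT.leaf cJ920)) (BT.leaf cJ921)) (BT.node 922 (BT.leaf cJ922) (BT.leaf cJ923))) (BT.node 925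 (BT.node 924 (BT.leaf cJ924) (BT.leaf cJ925)) (BT.node 926 (BT.leaf cJ926) (BT.leaf cJ927)))) (BT.node 931 (BT.node 929 (BT.node 928 (BT.leaf cJ928) (BT.leaf cJ929)) (BT.node 930 (BT.leaf cJ930) (BT.leaf cJ931))) (BT.node 933 (BT.node 932 (BT.leaf cJ932) (BT.leaf cJ933)) (BT.node 934 (BT.leaf cJ934) (BT.leaf cJ935))))) (BT.node 944 (BT.node 940 (BT.node 938 (BT.node 937 (BT.node 936 (BT.leaf cJ936) (BT.leaf cJ937)) (BT.leaf cJ938)) (BT.node 939 (BT.leaf cJ939) (BT.leaf cJ940))) (BT.node 942 (BT.node 941 (BT.leaf cJ941) (BT.leaf cJ942)) (BT.node 943 (BT.leaf cJ943) (BT.leaf cJ944)))) (BT.node 948 (BT.node 946 (BT.node 945 (BT.leaf cJ945) (BT.leaf cJ946)) (BT.node 947 (BT.leaf cJ947) (BT.leaf cJ948))) (BT.node 950 (BT.node 949 (BT.leaf cJ949) (BT.leaf cJ950)) (BT.node 951 (BT.leaf cJ951) (BT.leaf cJ952)))))))) (BT.node 1020 (BT.node 986 (BT.node 969 (BT.node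 961 (BT.node 957 (BT.node 955 (BT.node 954 (BT.node 953 (BT.leaf cJ953) (BT.leaf cJ954)) (BT.leaf cJ955)) (BT.node 956 (BT.leaf cJ956) (BT.leaf cJ957))) (BT.node 959 (BT.node 958 (BT.leaf cJ958) (BT.leaf cJ959)) (BT.node 960 (BT.leaf cJ960) (BT.leaf cJ961)))) (BT.node 965 (BT.node 963 (BT.node 962 (BT.leaf cJ962) (BT.leaf cJ963)) (BT.node 964 (BT.leaf cJ964) (BT.leaf cJ965))) (BT.node 967 (BT.node 966 (BT.leaf cJ966) (BT.leaf cJ967)) (BT.node 968 (BT.leaf cJ968) (BT.leaf cJ969))))) (BT.node 978 (BT.node 974 (BT.node 972 (BT.node 971 (BT.node 970 (BT.leaf cJ970) (BT.leaf cJ971)) (BT.leaf cJ972)) (BT.node 973 (BT.leaf cJ973) (BT.leaf cJ974))) (BT.node 976 (BT.node 975 (BT.leaf cJ975) (BT.leaf cJ976)) (BT.node 977 (BT.leaf cJ977) (BT.leaf cJ978)))) (BT.node 982 (BT.node 980 (BT.node 979 (BT.leaf cJ979) (BT.leaf cJ980)) (BT.node 981 (BT.leaf cJ981) (BT.leaf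 cJ982))) (BT.node 984 (BT.node 983 (BT.leaf cJ983) (BT.leaf cJ984)) (BT.node 985 (BT.leaf cJ985) (BT.leaf cJ986)))))) (BT.node 1003 (BT.node 995 (BT.node 991 (BT.node 989 (BT.node 988 (BT.node 987 (BT.leaf cJ987) (BT.leaf cJ988)) (BT.leaf cJ989)) (BT.node 990 (BT.leaf cJ990) (BT.leaf cJ991))) (BT.node 993 (BT.node 992 (BT.leaf cJ992) (BT.leaf cJ993)) (BT.node 994 (BT.leaf cJ994) (BT.leaf cJ995)))) (BT.node 999 (BT.node 997 (BT.node 996 (BT.leaf cJ996) (BT.leaf cJ997)) (BT.node 998 (BT.leaf cJ998) (BT.leaf cJ999))) (BT.node 1001 (BT.node 1000 (BT.leaf cJ1000) (BT.leaf cJ1001)) (BT.node 1002 (BT.leaf cJ1002) (BT.leaf cJ1003))))) (BT.node 1012 (BT.node 1008 (BT.node 1006 (BT.node 1005 (BT.node 1004 (BT.leaf cJ1004) (BT.leaf cJ1005)) (BT.leaf cJ1006)) (BT.node 1007 (BT.leaf cJ1007) (BT.leaf cJ1008))) (BT.node 1010 (BT.node 1009 (BT.leaf cJ1009) (BT.leaf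 cJ1010)) (BT.node 1011 (BT.leaf cJ1011) (BT.leaf cJ1012)))) (BT.node 1016 (BT.node 1014 (BT.node 1013 (BT.leaf cJ1013) (BT.leaf cJ1014)) (BT.node 1015 (BT.leaf cJ1015) (BT.leaf cJ1016))) (BT.node 1018 (BT.node 1017 (BT.leaf cJ1017) (BT.leaf cJ1018)) (BT.node 1019 (BT.leaf cJ1019) (BT.leaf cJ1020))))))) (BT.node 1054 (BT.node 1037 (BT.node 1029 (BT.node 1025 (BT.node 1023 (BT.node 1022 (BT.node 1021 (BT.leaf cJ1021) (BT.leaf cJ1022)) (BT.leaf cJ1023)) (BT.node 1024 (BT.leaf cJ1024) (BT.leaf cJ1025))) (BT.node 1027 (BT.node 1026 (BT.leaf cJ1026) (BT.leaf cJ1027)) (BT.node 1028 (BT.leaf cJ1028) (BT.leaf cJ1029)))) (BT.node 1033 (BT.node 1031 (BT.node 1030 (BT.leaf cJ1030) (BT.leaf cJ1031)) (BT.node 1032 (BT.leaf cJ1032) (BT.leaf cJ1033))) (BT.node 1035 (BT.node 1034 (BT.leaf cJ1034) (BT.leaf cJ1035)) (BT.node 1036 (BT.leaf cJ1036) (BT.leaf cJ1037))))) (BT.node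 1046 (BT.node 1042 (BT.node 1040 (BT.node 1039 (BT.node 1038 (BT.leaf cJ1038) (BT.leaf cJ1039)) (BT.leaf cJ1040)) (BT.node 1041 (BT.leaf cJ1041) (BT.leaf cJ1042))) (BT.node 1044 (BT.node 1043 (BT.leaf cJ1043) (BT.leaf cJ1044)) (BT.node 1045 (BT.leaf cJ1045) (BT.leaf cJ1046)))) (BT.node 1050 (BT.node 1048 (BT.node 1047 (BT.leaf cJ1047) (BT.leaf cJ1048)) (BT.node 1049 (BT.leaf cJ1049) (BT.leaf cJ1050))) (BT.node 1052 (BT.node 1051 (BT.leaf cJ1051) (BT.leaf cJ1052)) (BT.node 1053 (BT.leaf cJ1053) (BT.leaf cJ1054)))))) (BT.node 1071 (BT.node 1063 (BT.node 1059 (BT.node 1057 (BT.node 1056 (BT.node 1055 (BT.leaf cJ1055) (BT.leaf cJ1056)) (BT.leaf cJ1057)) (BT.node 1058 (BT.leaf cJ1058) (BT.leaf cJ1059))) (BT.node 1061 (BT.node 1060 (BT.leaf cJ1060) (BT.leaf cJ1061)) (BT.node 1062 (BT.leaf cJ1062) (BT.leaf cJ1063)))) (BT.node 1067 (BT.node 1065 (BT.node 1064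 (BT.leaf cJ1064) (BT.leaf cJ1065)) (BT.node 1066 (BT.leaf cJ1066) (BT.leaf cJ1067))) (BT.node 1069 (BT.node 1068 (BT.leaf cJ1068) (BT.leaf cJ1069)) (BT.node 1070 (BT.leaf cJ1070) (BT.leaf cJ1071))))) (BT.node 1080 (BT.node 1076 (BT.node 1074 (BT.node 1073 (BT.node 1072 (BT.leaf cJ1072) (BT.leaf cJ1073)) (BT.leaf cJ1074)) (BT.node 1075 (BT.leaf cJ1075) (BT.leaf cJ1076))) (BT.node 1078 (BT.node 1077 (BT.leaf cJ1077) (BT.leaf cJ1078)) (BT.node 1079 (BT.leaf cJ1079) (BT.leaf cJ1080)))) (BT.node 1084 (BT.node 1082 (BT.node 1081 (BT.leaf cJ1081) (BT.leaf cJ1082)) (BT.node 1083 (BT.leaf cJ1083) (BT.leaf cJ1084))) (BT.node 1086 (BT.node 1085 (BT.leaf cJ1085) (BT.leaf cJ1086)) (BT.node 1087 (BT.leaf cJ1087) (BT.leaf cJ1088))))))))))) (BT.node 1632 (BT.node 1360 (BT.node 1224 (BT.node 1156 (BT.node 1122 (BT.node 1105 (BT.node 1097 (BT.node 1093 (BT.node 1091 (BT.node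 1090 (BT.node 1089 (BT.leaf cJ1089) (BT.leaf cJ1090)) (BT.leaf cJ1091)) (BT.node 1092 (BT.leaf cJ1092) (BT.leaf cJ1093))) (BT.node 1095 (BT.node 1094 (BT.leaf cJ1094) (BT.leaf cJ1095)) (BT.node 1096 (BT.leaf cJ1096) (BT.leaf cJ1097)))) (BT.node 1101 (BT.node 1099 (BT.node 1098 (BT.leaf cJ1098) (BT.leaf cJ1099)) (BT.node 1100 (BT.leaf cJ1100) (BT.leaf cJ1101))) (BT.node 1103 (BT.node 1102 (BT.leaf cJ1102) (BT.leaf cJ1103)) (BT.node 1104 (BT.leaf cJ1104) (BT.leaf cJ1105))))) (BT.node 1114 (BT.node 1110 (BT.node 1108 (BT.node 1107 (BT.node 1106 (BT.leaf cJ1106) (BT.leaf cJ1107)) (BT.leaf cJ1108)) (BT.node 1109 (BT.leaf cJ1109) (BT.leaf cJ1110))) (BT.node 1112 (BT.node 1111 (BT.leaf cJ1111) (BT.leaf cJ1112)) (BT.node 1113 (BT.leaf cJ1113) (BT.leaf cJ1114)))) (BT.node 1118 (BT.node 1116 (BT.node 1115 (BT.leaf cJ1115) (BT.leaf cJ1116)) (BT.node 1117 (BT.leaf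 cJ1117) (BT.leaf cJ1118))) (BT.node 1120 (BT.node 1119 (BT.leaf cJ1119) (BT.leaf cJ1120)) (BT.node 1121 (BT.leaf cJ1121) (BT.leaf cJ1122)))))) (BT.node 1139 (BT.node 1131 (BT.node 1127 (BT.node 1125 (BT.node 1124 (BT.node 1123 (BT.leaf cJ1123) (BT.leaf cJ1124)) (BT.leaf cJ1125)) (BT.node 1126 (BT.leaf cJ1126) (BT.leaf cJ1127))) (BT.node 1129 (BT.node 1128 (BT.leaf cJ1128) (BT.leaf cJ1129)) (BT.node 1130 (BT.leaf cJ1130) (BT.leaf cJ1131)))) (BT.node 1135 (BT.node 1133 (BT.node 1132 (BT.leaf cJ1132) (BT.leaf cJ1133)) (BT.node 1134 (BT.leaf cJ1134) (BT.leaf cJ1135))) (BT.node 1137 (BT.node 1136 (BT.leaf cJ1136) (BT.leaf cJ1137)) (BT.node 1138 (BT.leaf cJ1138) (BT.leaf cJ1139))))) (BT.node 1148 (BT.node 1144 (BT.node 1142 (BT.node 1141 (BT.node 1140 (BT.leaf cJ1140) (BT.leaf cJ1141)) (BT.leaf cJ1142)) (BT.node 1143 (BT.leaf cJ1143) (BT.leaf cJ1144))) (BT.node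 1146 (BT.node 1145 (BT.leaf cJ1145) (BT.leaf cJ1146)) (BT.node 1147 (BT.leaf cJ1147) (BT.leaf cJ1148)))) (BT.node 1152 (BT.node 1150 (BT.node 1149 (BT.leaf cJ1149) (BT.leaf cJ1150)) (BT.node 1151 (BT.leaf cJ1151) (BT.leaf cJ1152))) (BT.node 1154 (BT.node 1153 (BT.leaf cJ1153) (BT.leaf cJ1154)) (BT.node 1155 (BT.leaf cJ1155) (BT.leaf cJ1156))))))) (BT.node 1190 (BT.node 1173 (BT.node 1165 (BT.node 1161 (BT.node 1159 (BT.node 1158 (BT.node 1157 (BT.leaf cJ1157) (BT.leaf cJ1158)) (BT.leaf cJ1159)) (BT.node 1160 (BT.leaf cJ1160) (BT.leaf cJ1161))) (BT.node 1163 (BT.node 1162 (BT.leaf cJ1162) (BT.leaf cJ1163)) (BT.node 1164 (BT.leaf cJ1164) (BT.leaf cJ1165)))) (BT.node 1169 (BT.node 1167 (BT.node 1166 (BT.leaf cJ1166) (BT.leaf cJ1167)) (BT.node 1168 (BT.leaf cJ1168) (BT.leaf cJ1169))) (BT.node 1171 (BT.node 1170 (BT.leaf cJ1170) (BT.leaf cJ1171)) (BT.node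 1172 (BT.leaf cJ1172) (BT.leaf cJ1173))))) (BT.node 1182 (BT.node 1178 (BT.node 1176 (BT.node 1175 (BT.node 1174 (BT.leaf cJ1174) (BT.leaf cJ1175)) (BT.leaf cJ1176)) (BT.node 1177 (BT.leaf cJ1177) (BT.leaf cJ1178))) (BT.node 1180 (BT.node 1179 (BT.leaf cJ1179) (BT.leaf cJ1180)) (BT.node 1181 (BT.leaf cJ1181) (BT.leaf cJ1182)))) (BT.node 1186 (BT.node 1184 (BT.node 1183 (BT.leaf cJ1183) (BT.leaf cJ1184)) (BT.node 1185 (BT.leaf cJ1185) (BT.leaf cJ1186))) (BT.node 1188 (BT.node 1187 (BT.leaf cJ1187) (BT.leaf cJ1188)) (BT.node 1189 (BT.leaf cJ1189) (BT.leaf cJ1190)))))) (BT.node 1207 (BT.node 1199 (BT.node 1195 (BT.node 1193 (BT.node 1192 (BT.node 1191 (BT.leaf cJ1191) (BT.leaf cJ1192)) (BT.leaf cJ1193)) (BT.node 1194 (BT.leaf cJ1194) (BT.leaf cJ1195))) (BT.node 1197 (BT.node 1196 (BT.leaf cJ1196) (BT.leaf cJ1197)) (BT.node 1198 (BT.leaf cJ1198) (BT.leaf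 cJ1199)))) (BT.node 1203 (BT.node 1201 (BT.node 1200 (BT.leaf cJ1200) (BT.leaf cJ1201)) (BT.node 1202 (BT.leaf cJ1202) (BT.leaf cJ1203))) (BT.node 1205 (BT.node 1204 (BT.leaf cJ1204) (BT.leaf cJ1205)) (BT.node 1206 (BT.leaf cJ1206) (BT.leaf cJ1207))))) (BT.node 1216 (BT.node 1212 (BT.node 1210 (BT.node 1209 (BT.node 1208 (BT.leaf cJ1208) (BT.leaf cJ1209)) (BT.leaf cJ1210)) (BT.node 1211 (BT.leaf cJ1211) (BT.leaf cJ1212))) (BT.node 1214 (BT.node 1213 (BT.leaf cJ1213) (BT.leaf cJ1214)) (BT.node 1215 (BT.leaf cJ1215) (BT.leaf cJ1216)))) (BT.node 1220 (BT.node 1218 (BT.node 1217 (BT.leaf cJ1217) (BT.leaf cJ1218)) (BT.node 1219 (BT.leaf cJ1219) (BT.leaf cJ1220))) (BT.node 1222 (BT.node 1221 (BT.leaf cJ1221) (BT.leaf cJ1222)) (BT.node 1223 (BT.leaf cJ1223) (BT.leaf cJ1224)))))))) (BT.node 1292 (BT.node 1258 (BT.node 1241 (BT.node 1233 (BT.node 1229 (BT.node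 1227 (BT.node 1226 (BT.node 1225 (BT.leaf cJ1225) (BT.leaf cJ1226)) (BT.leaf cJ1227)) (BT.node 1228 (BT.leaf cJ1228) (BT.leaf cJ1229))) (BT.node 1231 (BT.node 1230 (BT.leaf cJ1230) (BT.leaf cJ1231)) (BT.node 1232 (BT.leaf cJ1232) (BT.leaf cJ1233)))) (BT.node 1237 (BT.node 1235 (BT.node 1234 (BT.leaf cJ1234) (BT.leaf cJ1235)) (BT.node 1236 (BT.leaf cJ1236) (BT.leaf cJ1237))) (BT.node 1239 (BT.node 1238 (BT.leaf cJ1238) (BT.leaf cJ1239)) (BT.node 1240 (BT.leaf cJ1240) (BT.leaf cJ1241))))) (BT.node 1250 (BT.node 1246 (BT.node 1244 (BT.node 1243 (BT.node 1242 (BT.leaf cJ1242) (BT.leaf cJ1243)) (BT.leaf cJ1244)) (BT.node 1245 (BT.leaf cJ1245) (BT.leaf cJ1246))) (BT.node 1248 (BT.node 1247 (BT.leaf cJ1247) (BT.leaf cJ1248)) (BT.node 1249 (BT.leaf cJ1249) (BT.leaf cJ1250)))) (BT.node 1254 (BT.node 1252 (BT.node 1251 (BT.leaf cJ1251) (BT.leaf cJ1252)) (BT.node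 1253 (BT.leaf cJ1253) (BT.leaf cJ1254))) (BT.node 1256 (BT.node 1255 (BT.leaf cJ1255) (BT.leaf cJ1256)) (BT.node 1257 (BT.leaf cJ1257) (BT.leaf cJ1258)))))) (BT.node 1275 (BT.node 1267 (BT.node 1263 (BT.node 1261 (BT.node 1260 (BT.node 1259 (BT.leaf cJ1259) (BT.leaf cJ1260)) (BT.leaf cJ1261)) (BT.node 1262 (BT.leaf cJ1262) (BT.leaf cJ1263))) (BT.node 1265 (BT.node 1264 (BT.leaf cJ1264) (BT.leaf cJ1265)) (BT.node 1266 (BT.leaf cJ1266) (BT.leaf cJ1267)))) (BT.node 1271 (BT.node 1269 (BT.node 1268 (BT.leaf cJ1268) (BT.leaf cJ1269)) (BT.node 1270 (BT.leaf cJ1270) (BT.leaf cJ1271))) (BT.node 1273 (BT.node 1272 (BT.leaf cJ1272) (BT.leaf cJ1273)) (BT.node 1274 (BT.leaf cJ1274) (BT.leaf cJ1275))))) (BT.node 1284 (BT.node 1280 (BT.node 1278 (BT.node 1277 (BT.node 1276 (BT.leaf cJ1276) (BT.leaf cJ1277)) (BT.leaf cJ1278)) (BT.node 1279 (BT.leaf cJ1279) (BT.leaf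 cJ1280))) (BT.node 1282 (BT.node 1281 (BT.leaf cJ1281) (BT.leaf cJ1282)) (BT.node 1283 (BT.leaf cJ1283) (BT.leaf cJ1284)))) (BT.node 1288 (BT.node 1286 (BT.node 1285 (BT.leaf cJ1285) (BT.leaf cJ1286)) (BT.node 1287 (BT.leaf cJ1287) (BT.leaf cJ1288))) (BT.node 1290 (BT.node 1289 (BT.leaf cJ1289) (BT.leaf cJ1290)) (BT.node 1291 (BT.leaf cJ1291) (BT.leaf cJ1292))))))) (BT.node 1326 (BT.node 1309 (BT.node 1301 (BT.node 1297 (BT.node 1295 (BT.node 1294 (BT.node 1293 (BT.leaf cJ1293) (BT.leaf cJ1294)) (BT.leaf cJ1295)) (BT.node 1296 (BT.leaf cJ1296) (BT.leaf cJ1297))) (BT.node 1299 (BT.node 1298 (BT.leaf cJ1298) (BT.leaf cJ1299)) (BT.node 1300 (BT.leaf cJ1300) (BT.leaf cJ1301)))) (BT.node 1305 (BT.node 1303 (BT.node 1302 (BT.leaf cJ1302) (BT.leaf cJ1303)) (BT.node 1304 (BT.leaf cJ1304) (BT.leaf cJ1305))) (BT.node 1307 (BT.node 1306 (BT.leaf cJ1306) (BT.leaf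 cJ1307)) (BT.node 1308 (BT.leaf cJ1308) (BT.leaf cJ1309))))) (BT.node 1318 (BT.node 1314 (BT.node 1312 (BT.node 1311 (BT.node 1310 (BT.leaf cJ1310) (BT.leaf cJ1311)) (BT.leaf cJ1312)) (BT.node 1313 (BT.leaf cJ1313) (BT.leaf cJ1314))) (BT.node 1316 (BT.node 1315 (BT.leaf cJ1315) (BT.leaf cJ1316)) (BT.node 1317 (BT.leaf cJ1317) (BT.leaf cJ1318)))) (BT.node 1322 (BT.node 1320 (BT.node 1319 (BT.leaf cJ1319) (BT.leaf cJ1320)) (BT.node 1321 (BT.leaf cJ1321) (BT.leaf cJ1322))) (BT.node 1324 (BT.node 1323 (BT.leaf cJ1323) (BT.leaf cJ1324)) (BT.node 1325 (BT.leaf cJ1325) (BT.leaf cJ1326)))))) (BT.node 1343 (BT.node 1335 (BT.node 1331 (BT.node 1329 (BT.node 1328 (BT.node 1327 (BT.leaf cJ1327) (BT.leaf cJ1328)) (BT.leaf cJ1329)) (BT.node 1330 (BT.leaf cJ1330) (BT.leaf cJ1331))) (BT.node 1333 (BT.node 1332 (BT.leaf cJ1332) (BT.leaf cJ1333)) (BT.node 1334 (BT.leaf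 cJ1334) (BT.leaf cJ1335)))) (BT.node 1339 (BT.node 1337 (BT.node 1336 (BT.leaf cJ1336) (BT.leaf cJ1337)) (BT.node 1338 (BT.leaf cJ1338) (BT.leaf cJ1339))) (BT.node 1341 (BT.node 1340 (BT.leaf cJ1340) (BT.leaf cJ1341)) (BT.node 1342 (BT.leaf cJ1342) (BT.leaf cJ1343))))) (BT.node 1352 (BT.node 1348 (BT.node 1346 (BT.node 1345 (BT.node 1344 (BT.leaf cJ1344) (BT.leaf cJ1345)) (BT.leaf cJ1346)) (BT.node 1347 (BT.leaf cJ1347) (BT.leaf cJ1348))) (BT.node 1350 (BT.node 1349 (BT.leaf cJ1349) (BT.leaf cJ1350)) (BT.node 1351 (BT.leaf cJ1351) (BT.leaf cJ1352)))) (BT.node 1356 (BT.node 1354 (BT.node 1353 (BT.leaf cJ1353) (BT.leaf cJ1354)) (BT.node 1355 (BT.leaf cJ1355) (BT.leaf cJ1356))) (BT.node 1358 (BT.node 1357 (BT.leaf cJ1357) (BT.leaf cJ1358)) (BT.node 1359 (BT.leaf cJ1359) (BT.leaf cJ1360))))))))) (BT.node 1496 (BT.node 1428 (BT.node 1394 (BT.node 1377 (BT.node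 1369 (BT.node 1365 (BT.node 1363 (BT.node 1362 (BT.node 1361 (BT.leaf cJ1361) (BT.leaf cJ1362)) (BT.leaf cJ1363)) (BT.node 1364 (BT.leaf cJ1364) (BT.leaf cJ1365))) (BT.node 1367 (BT.node 1366 (BT.leaf cJ1366) (BT.leaf cJ1367)) (BT.node 1368 (BT.leaf cJ1368) (BT.leaf cJ1369)))) (BT.node 1373 (BT.node 1371 (BT.node 1370 (BT.leaf cJ1370) (BT.leaf cJ1371)) (BT.node 1372 (BT.leaf cJ1372) (BT.leaf cJ1373))) (BT.node 1375 (BT.node 1374 (BT.leaf cJ1374) (BT.leaf cJ1375)) (BT.node 1376 (BT.leaf cJ1376) (BT.leaf cJ1377))))) (BT.node 1386 (BT.node 1382 (BT.node 1380 (BT.node 1379 (BT.node 1378 (BT.leaf cJ1378) (BT.leaf cJ1379)) (BT.leaf cJ1380)) (BT.node 1381 (BT.leaf cJ1381) (BT.leaf cJ1382))) (BT.node 1384 (BT.node 1383 (BT.leaf cJ1383) (BT.leaf cJ1384)) (BT.node 1385 (BT.leaf cJ1385) (BT.leaf cJ1386)))) (BT.node 1390 (BT.node 1388 (BT.node 1387 (BT.leaf cJ1387)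 (BT.leaf cJ1388)) (BT.node 1389 (BT.leaf cJ1389) (BT.leaf cJ1390))) (BT.node 1392 (BT.node 1391 (BT.leaf cJ1391) (BT.leaf cJ1392)) (BT.node 1393 (BT.leaf cJ1393) (BT.leaf cJ1394)))))) (BT.node 1411 (BT.node 1403 (BT.node 1399 (BT.node 1397 (BT.node 1396 (BT.node 1395 (BT.leaf cJ1395) (BT.leaf cJ1396)) (BT.leaf cJ1397)) (BT.node 1398 (BT.leaf cJ1398) (BT.leaf cJ1399))) (BT.node 1401 (BT.node 1400 (BT.leaf cJ1400) (BT.leaf cJ1401)) (BT.node 1402 (BT.leaf cJ1402) (BT.leaf cJ1403)))) (BT.node 1407 (BT.node 1405 (BT.node 1404 (BT.leaf cJ1404) (BT.leaf cJ1405)) (BT.node 1406 (BT.leaf cJ1406) (BT.leaf cJ1407))) (BT.node 1409 (BT.node 1408 (BT.leaf cJ1408) (BT.leaf cJ1409)) (BT.node 1410 (BT.leaf cJ1410) (BT.leaf cJ1411))))) (BT.node 1420 (BT.node 1416 (BT.node 1414 (BT.node 1413 (BT.node 1412 (BT.leaf cJ1412) (BT.leaf cJ1413)) (BT.leaf cJ1414)) (BT.node 1415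 (BT.leaf cJ1415) (BT.leaf cJ1416))) (BT.node 1418 (BT.node 1417 (BT.leaf cJ1417) (BT.leaf cJ1418)) (BT.node 1419 (BT.leaf cJ1419) (BT.leaf cJ1420)))) (BT.node 1424 (BT.node 1422 (BT.node 1421 (BT.leaf cJ1421) (BT.leaf cJ1422)) (BT.node 1423 (BT.leaf cJ1423) (BT.leaf cJ1424))) (BT.node 1426 (BT.node 1425 (BT.leaf cJ1425) (BT.leaf cJ1426)) (BT.node 1427 (BT.leaf cJ1427) (BT.leaf cJ1428))))))) (BT.node 1462 (BT.node 1445 (BT.node 1437 (BT.node 1433 (BT.node 1431 (BT.node 1430 (BT.node 1429 (BT.leaf cJ1429) (BT.leaf cJ1430)) (BT.leaf cJ1431)) (BT.node 1432 (BT.leaf cJ1432) (BT.leaf cJ1433))) (BT.node 1435 (BT.node 1434 (BT.leaf cJ1434) (BT.leaf cJ1435)) (BT.node 1436 (BT.leaf cJ1436) (BT.leaf cJ1437)))) (BT.node 1441 (BT.node 1439 (BT.node 1438 (BT.leaf cJ1438) (BT.leaf cJ1439)) (BT.node 1440 (BT.leaf cJ1440) (BT.leaf cJ1441))) (BT.node 1443 (BT.node 1442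 (BT.leaf cJ1442) (BT.leaf cJ1443)) (BT.node 1444 (BT.leaf cJ1444) (BT.leaf cJ1445))))) (BT.node 1454 (BT.node 1450 (BT.node 1448 (BT.node 1447 (BT.node 1446 (BT.leaf cJ1446) (BT.leaf cJ1447)) (BT.leaf cJ1448)) (BT.node 1449 (BT.leaf cJ1449) (BT.leaf cJ1450))) (BT.node 1452 (BT.node 1451 (BT.leaf cJ1451) (BT.leaf cJ1452)) (BT.node 1453 (BT.leaf cJ1453) (BT.leaf cJ1454)))) (BT.node 1458 (BT.node 1456 (BT.node 1455 (BT.leaf cJ1455) (BT.leaf cJ1456)) (BT.node 1457 (BT.leaf cJ1457) (BT.leaf cJ1458))) (BT.node 1460 (BT.node 1459 (BT.leaf cJ1459) (BT.leaf cJ1460)) (BT.node 1461 (BT.leaf cJ1461) (BT.leaf cJ1462)))))) (BT.node 1479 (BT.node 1471 (BT.node 1467 (BT.node 1465 (BT.node 1464 (BT.node 1463 (BT.leaf cJ1463) (BT.leaf cJ1464)) (BT.leaf cJ1465)) (BT.node 1466 (BT.leaf cJ1466) (BT.leaf cJ1467))) (BT.node 1469 (BT.node 1468 (BT.leaf cJ1468) (BT.leaf cJ1469))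 (BT.node 1470 (BT.leaf cJ1470) (BT.leaf cJ1471)))) (BT.node 1475 (BT.node 1473 (BT.node 1472 (BT.leaf cJ1472) (BT.leaf cJ1473)) (BT.node 1474 (BT.leaf cJ1474) (BT.leaf cJ1475))) (BT.node 1477 (BT.node 1476 (BT.leaf cJ1476) (BT.leaf cJ1477)) (BT.node 1478 (BT.leaf cJ1478) (BT.leaf cJ1479))))) (BT.node 1488 (BT.node 1484 (BT.node 1482 (BT.node 1481 (BT.node 1480 (BT.leaf cJ1480) (BT.leaf cJ1481)) (BT.leaf cJ1482)) (BT.node 1483 (BT.leaf cJ1483) (BT.leaf cJ1484))) (BT.node 1486 (BT.node 1485 (BT.leaf cJ1485) (BT.leaf cJ1486)) (BT.node 1487 (BT.leaf cJ1487) (BT.leaf cJ1488)))) (BT.node 1492 (BT.node 1490 (BT.node 1489 (BT.leaf cJ1489) (BT.leaf cJ1490)) (BT.node 1491 (BT.leaf cJ1491) (BT.leaf cJ1492))) (BT.node 1494 (BT.node 1493 (BT.leaf cJ1493) (BT.leaf cJ1494)) (BT.node 1495 (BT.leaf cJ1495) (BT.leaf cJ1496)))))))) (BT.node 1564 (BT.node 1530 (BT.node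 1513 (BT.node 1505 (BT.node 1501 (BT.node 1499 (BT.node 1498 (BT.node 1497 (BT.leaf cJ1497) (BT.leaf cJ1498)) (BT.leaf cJ1499)) (BT.node 1500 (BT.leaf cJ1500) (BT.leaf cJ1501))) (BT.node 1503 (BT.node 1502 (BT.leaf cJ1502) (BT.leaf cJ1503)) (BT.node 1504 (BT.leaf cJ1504) (BT.leaf cJ1505)))) (BT.node 1509 (BT.node 1507 (BT.node 1506 (BT.leaf cJ1506) (BT.leaf cJ1507)) (BT.node 1508 (BT.leaf cJ1508) (BT.leaf cJ1509))) (BT.node 1511 (BT.node 1510 (BT.leaf cJ1510) (BT.leaf cJ1511)) (BT.node 1512 (BT.leaf cJ1512) (BT.leaf cJ1513))))) (BT.node 1522 (BT.node 1518 (BT.node 1516 (BT.node 1515 (BT.node 1514 (BT.leaf cJ1514) (BT.leaf cJ1515)) (BT.leaf cJ1516)) (BT.node 1517 (BT.leaf cJ1517) (BT.leaf cJ1518))) (BT.node 1520 (BT.node 1519 (BT.leaf cJ1519) (BT.leaf cJ1520)) (BT.node 1521 (BT.leaf cJ1521) (BT.leaf cJ1522)))) (BT.node 1526 (BT.node 1524 (BT.node 1523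 (BT.leaf cJ1523) (BT.leaf cJ1524)) (BT.node 1525 (BT.leaf cJ1525) (BT.leaf cJ1526))) (BT.node 1528 (BT.node 1527 (BT.leaf cJ1527) (BT.leaf cJ1528)) (BT.node 1529 (BT.leaf cJ1529) (BT.leaf cJ1530)))))) (BT.node 1547 (BT.node 1539 (BT.node 1535 (BT.node 1533 (BT.node 1532 (BT.node 1531 (BT.leaf cJ1531) (BT.leaf cJ1532)) (BT.leaf cJ1533)) (BT.node 1534 (BT.leaf cJ1534) (BT.leaf cJ1535))) (BT.node 1537 (BT.node 1536 (BT.leaf cJ1536) (BT.leaf cJ1537)) (BT.node 1538 (BT.leaf cJ1538) (BT.leaf cJ1539)))) (BT.node 1543 (BT.node 1541 (BT.node 1540 (BT.leaf cJ1540) (BT.leaf cJ1541)) (BT.node 1542 (BT.leaf cJ1542) (BT.leaf cJ1543))) (BT.node 1545 (BT.node 1544 (BT.leaf cJ1544) (BT.leaf cJ1545)) (BT.node 1546 (BT.leaf cJ1546) (BT.leaf cJ1547))))) (BT.node 1556 (BT.node 1552 (BT.node 1550 (BT.node 1549 (BT.node 1548 (BT.leaf cJ1548) (BT.leaf cJ1549)) (BT.leaf cJ1550))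 (BT.node 1551 (BT.leaf cJ1551) (BT.leaf cJ1552))) (BT.node 1554 (BT.node 1553 (BT.leaf cJ1553) (BT.leaf cJ1554)) (BT.node 1555 (BT.leaf cJ1555) (BT.leaf cJ1556)))) (BT.node 1560 (BT.node 1558 (BT.node 1557 (BT.leaf cJ1557) (BT.leaf cJ1558)) (BT.node 1559 (BT.leaf cJ1559) (BT.leaf cJ1560))) (BT.node 1562 (BT.node 1561 (BT.leaf cJ1561) (BT.leaf cJ1562)) (BT.node 1563 (BT.leaf cJ1563) (BT.leaf cJ1564))))))) (BT.node 1598 (BT.node 1581 (BT.node 1573 (BT.node 1569 (BT.node 1567 (BT.node 1566 (BT.node 1565 (BT.leaf cJ1565) (BT.leaf cJ1566)) (BT.leaf cJ1567)) (BT.node 1568 (BT.leaf cJ1568) (BT.leaf cJ1569))) (BT.node 1571 (BT.node 1570 (BT.leaf cJ1570) (BT.leaf cJ1571)) (BT.node 1572 (BT.leaf cJ1572) (BT.leaf cJ1573)))) (BT.node 1577 (BT.node 1575 (BT.node 1574 (BT.leaf cJ1574) (BT.leaf cJ1575)) (BT.node 1576 (BT.leaf cJ1576) (BT.leaf cJ1577))) (BT.node 1579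 (BT.node 1578 (BT.leaf cJ1578) (BT.leaf cJ1579)) (BT.node 1580 (BT.leaf cJ1580) (BT.leaf cJ1581))))) (BT.node 1590 (BT.node 1586 (BT.node 1584 (BT.node 1583 (BT.node 1582 (BT.leaf cJ1582) (BT.leaf cJ1583)) (BT.leaf cJ1584)) (BT.node 1585 (BT.leaf cJ1585) (BT.leaf cJ1586))) (BT.node 1588 (BT.node 1587 (BT.leaf cJ1587) (BT.leaf cJ1588)) (BT.node 1589 (BT.leaf cJ1589) (BT.leaf cJ1590)))) (BT.node 1594 (BT.node 1592 (BT.node 1591 (BT.leaf cJ1591) (BT.leaf cJ1592)) (BT.node 1593 (BT.leaf cJ1593) (BT.leaf cJ1594))) (BT.node 1596 (BT.node 1595 (BT.leaf cJ1595) (BT.leaf cJ1596)) (BT.node 1597 (BT.leaf cJ1597) (BT.leaf cJ1598)))))) (BT.node 1615 (BT.node 1607 (BT.node 1603 (BT.node 1601 (BT.node 1600 (BT.node 1599 (BT.leaf cJ1599) (BT.leaf cJ1600)) (BT.leaf cJ1601)) (BT.node 1602 (BT.leaf cJ1602) (BT.leaf cJ1603))) (BT.node 1605 (BT.node 1604 (BT.leaf cJ1604)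 (BT.leaf cJ1605)) (BT.node 1606 (BT.leaf cJ1606) (BT.leaf cJ1607)))) (BT.node 1611 (BT.node 1609 (BT.node 1608 (BT.leaf cJ1608) (BT.leaf cJ1609)) (BT.node 1610 (BT.leaf cJ1610) (BT.leaf cJ1611))) (BT.node 1613 (BT.node 1612 (BT.leaf cJ1612) (BT.leaf cJ1613)) (BT.node 1614 (BT.leaf cJ1614) (BT.leaf cJ1615))))) (BT.node 1624 (BT.node 1620 (BT.node 1618 (BT.node 1617 (BT.node 1616 (BT.leaf cJ1616) (BT.leaf cJ1617)) (BT.leaf cJ1618)) (BT.node 1619 (BT.leaf cJ1619) (BT.leaf cJ1620))) (BT.node 1622 (BT.node 1621 (BT.leaf cJ1621) (BT.leaf cJ1622)) (BT.node 1623 (BT.leaf cJ1623) (BT.leaf cJ1624)))) (BT.node 1628 (BT.node 1626 (BT.node 1625 (BT.leaf cJ1625) (BT.leaf cJ1626)) (BT.node 1627 (BT.leaf cJ1627) (BT.leaf cJ1628))) (BT.node 1630 (BT.node 1629 (BT.leaf cJ1629) (BT.leaf cJ1630)) (BT.node 1631 (BT.leaf cJ1631) (BT.leaf cJ1632)))))))))) (BT.node 1904 (BT.node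 1768 (BT.node 1700 (BT.node 1666 (BT.node 1649 (BT.node 1641 (BT.node 1637 (BT.node 1635 (BT.node 1634 (BT.node 1633 (BT.leaf cJ1633) (BT.leaf cJ1634)) (BT.leaf cJ1635)) (BT.node 1636 (BT.leaf cJ1636) (BT.leaf cJ1637))) (BT.node 1639 (BT.node 1638 (BT.leaf cJ1638) (BT.leaf cJ1639)) (BT.node 1640 (BT.leaf cJ1640) (BT.leaf cJ1641)))) (BT.node 1645 (BT.node 1643 (BT.node 1642 (BT.leaf cJ1642) (BT.leaf cJ1643)) (BT.node 1644 (BT.leaf cJ1644) (BT.leaf cJ1645))) (BT.node 1647 (BT.node 1646 (BT.leaf cJ1646) (BT.leaf cJ1647)) (BT.node 1648 (BT.leaf cJ1648) (BT.leaf cJ1649))))) (BT.node 1658 (BT.node 1654 (BT.node 1652 (BT.node 1651 (BT.node 1650 (BT.leaf cJ1650) (BT.leaf cJ1651)) (BT.leaf cJ1652)) (BT.node 1653 (BT.leaf cJ1653) (BT.leaf cJ1654))) (BT.node 1656 (BT.node 1655 (BT.leaf cJ1655) (BT.leaf cJ1656)) (BT.node 1657 (BT.leaf cJ1657) (BT.leaf cJ1658))))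 (BT.node 1662 (BT.node 1660 (BT.node 1659 (BT.leaf cJ1659) (BT.leaf cJ1660)) (BT.node 1661 (BT.leaf cJ1661) (BT.leaf cJ1662))) (BT.node 1664 (BT.node 1663 (BT.leaf cJ1663) (BT.leaf cJ1664)) (BT.node 1665 (BT.leaf cJ1665) (BT.leaf cJ1666)))))) (BT.node 1683 (BT.node 1675 (BT.node 1671 (BT.node 1669 (BT.node 1668 (BT.node 1667 (BT.leaf cJ1667) (BT.leaf cJ1668)) (BT.leaf cJ1669)) (BT.node 1670 (BT.leaf cJ1670) (BT.leaf cJ1671))) (BT.node 1673 (BT.node 1672 (BT.leaf cJ1672) (BT.leaf cJ1673)) (BT.node 1674 (BT.leaf cJ1674) (BT.leaf cJ1675)))) (BT.node 1679 (BT.node 1677 (BT.node 1676 (BT.leaf cJ1676) (BT.leaf cJ1677)) (BT.node 1678 (BT.leaf cJ1678) (BT.leaf cJ1679))) (BT.node 1681 (BT.node 1680 (BT.leaf cJ1680) (BT.leaf cJ1681)) (BT.node 1682 (BT.leaf cJ1682) (BT.leaf cJ1683))))) (BT.node 1692 (BT.node 1688 (BT.node 1686 (BT.node 1685 (BT.node 1684 (BT.leaf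 cJ1684) (BT.leaf cJ1685)) (BT.leaf cJ1686)) (BT.node 1687 (BT.leaf cJ1687) (BT.leaf cJ1688))) (BT.node 1690 (BT.node 1689 (BT.leaf cJ1689) (BT.leaf cJ1690)) (BT.node 1691 (BT.leaf cJ1691) (BT.leaf cJ1692)))) (BT.node 1696 (BT.node 1694 (BT.node 1693 (BT.leaf cJ1693) (BT.leaf cJ1694)) (BT.node 1695 (BT.leaf cJ1695) (BT.leaf cJ1696))) (BT.node 1698 (BT.node 1697 (BT.leaf cJ1697) (BT.leaf cJ1698)) (BT.node 1699 (BT.leaf cJ1699) (BT.leaf cJ1700))))))) (BT.node 1734 (BT.node 1717 (BT.node 1709 (BT.node 1705 (BT.node 1703 (BT.node 1702 (BT.node 1701 (BT.leaf cJ1701) (BT.leaf cJ1702)) (BT.leaf cJ1703)) (BT.node 1704 (BT.leaf cJ1704) (BT.leaf cJ1705))) (BT.node 1707 (BT.node 1706 (BT.leaf cJ1706) (BT.leaf cJ1707)) (BT.node 1708 (BT.leaf cJ1708) (BT.leaf cJ1709)))) (BT.node 1713 (BT.node 1711 (BT.node 1710 (BT.leaf cJ1710) (BT.leaf cJ1711)) (BT.node 1712 (BT.leaf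 cJ1712) (BT.leaf cJ1713))) (BT.node 1715 (BT.node 1714 (BT.leaf cJ1714) (BT.leaf cJ1715)) (BT.node 1716 (BT.leaf cJ1716) (BT.leaf cJ1717))))) (BT.node 1726 (BT.node 1722 (BT.node 1720 (BT.node 1719 (BT.node 1718 (BT.leaf cJ1718) (BT.leaf cJ1719)) (BT.leaf cJ1720)) (BT.node 1721 (BT.leaf cJ1721) (BT.leaf cJ1722))) (BT.node 1724 (BT.node 1723 (BT.leaf cJ1723) (BT.leaf cJ1724)) (BT.node 1725 (BT.leaf cJ1725) (BT.leaf cJ1726)))) (BT.node 1730 (BT.node 1728 (BT.node 1727 (BT.leaf cJ1727) (BT.leaf cJ1728)) (BT.node 1729 (BT.leaf cJ1729) (BT.leaf cJ1730))) (BT.node 1732 (BT.node 1731 (BT.leaf cJ1731) (BT.leaf cJ1732)) (BT.node 1733 (BT.leaf cJ1733) (BT.leaf cJ1734)))))) (BT.node 1751 (BT.node 1743 (BT.node 1739 (BT.node 1737 (BT.node 1736 (BT.node 1735 (BT.leaf cJ1735) (BT.leaf cJ1736)) (BT.leaf cJ1737)) (BT.node 1738 (BT.leaf cJ1738) (BT.leaf cJ1739))) (BT.node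 1741 (BT.node 1740 (BT.leaf cJ1740) (BT.leaf cJ1741)) (BT.node 1742 (BT.leaf cJ1742) (BT.leaf cJ1743)))) (BT.node 1747 (BT.node 1745 (BT.node 1744 (BT.leaf cJ1744) (BT.leaf cJ1745)) (BT.node 1746 (BT.leaf cJ1746) (BT.leaf cJ1747))) (BT.node 1749 (BT.node 1748 (BT.leaf cJ1748) (BT.leaf cJ1749)) (BT.node 1750 (BT.leaf cJ1750) (BT.leaf cJ1751))))) (BT.node 1760 (BT.node 1756 (BT.node 1754 (BT.node 1753 (BT.node 1752 (BT.leaf cJ1752) (BT.leaf cJ1753)) (BT.leaf cJ1754)) (BT.node 1755 (BT.leaf cJ1755) (BT.leaf cJ1756))) (BT.node 1758 (BT.node 1757 (BT.leaf cJ1757) (BT.leaf cJ1758)) (BT.node 1759 (BT.leaf cJ1759) (BT.leaf cJ1760)))) (BT.node 1764 (BT.node 1762 (BT.node 1761 (BT.leaf cJ1761) (BT.leaf cJ1762)) (BT.node 1763 (BT.leaf cJ1763) (BT.leaf cJ1764))) (BT.node 1766 (BT.node 1765 (BT.leaf cJ1765) (BT.leaf cJ1766)) (BT.node 1767 (BT.leaf cJ1767) (BT.leaf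 cJ1768)))))))) (BT.node 1836 (BT.node 1802 (BT.node 1785 (BT.node 1777 (BT.node 1773 (BT.node 1771 (BT.node 1770 (BT.node 1769 (BT.leaf cJ1769) (BT.leaf cJ1770)) (BT.leaf cJ1771)) (BT.node 1772 (BT.leaf cJ1772) (BT.leaf cJ1773))) (BT.node 1775 (BT.node 1774 (BT.leaf cJ1774) (BT.leaf cJ1775)) (BT.node 1776 (BT.leaf cJ1776) (BT.leaf cJ1777)))) (BT.node 1781 (BT.node 1779 (BT.node 1778 (BT.leaf cJ1778) (BT.leaf cJ1779)) (BT.node 1780 (BT.leaf cJ1780) (BT.leaf cJ1781))) (BT.node 1783 (BT.node 1782 (BT.leaf cJ1782) (BT.leaf cJ1783)) (BT.node 1784 (BT.leaf cJ1784) (BT.leaf cJ1785))))) (BT.node 1794 (BT.node 1790 (BT.node 1788 (BT.node 1787 (BT.node 1786 (BT.leaf cJ1786) (BT.leaf cJ1787)) (BT.leaf cJ1788)) (BT.node 1789 (BT.leaf cJ1789) (BT.leaf cJ1790))) (BT.node 1792 (BT.node 1791 (BT.leaf cJ1791) (BT.leaf cJ1792)) (BT.node 1793 (BT.leaf cJ1793) (BT.leaf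 cJ1794)))) (BT.node 1798 (BT.node 1796 (BT.node 1795 (BT.leaf cJ1795) (BT.leaf cJ1796)) (BT.node 1797 (BT.leaf cJ1797) (BT.leaf cJ1798))) (BT.node 1800 (BT.node 1799 (BT.leaf cJ1799) (BT.leaf cJ1800)) (BT.node 1801 (BT.leaf cJ1801) (BT.leaf cJ1802)))))) (BT.node 1819 (BT.node 1811 (BT.node 1807 (BT.node 1805 (BT.node 1804 (BT.node 1803 (BT.leaf cJ1803) (BT.leaf cJ1804)) (BT.leaf cJ1805)) (BT.node 1806 (BT.leaf cJ1806) (BT.leaf cJ1807))) (BT.node 1809 (BT.node 1808 (BT.leaf cJ1808) (BT.leaf cJ1809)) (BT.node 1810 (BT.leaf cJ1810) (BT.leaf cJ1811)))) (BT.node 1815 (BT.node 1813 (BT.node 1812 (BT.leaf cJ1812) (BT.leaf cJ1813)) (BT.node 1814 (BT.leaf cJ1814) (BT.leaf cJ1815))) (BT.node 1817 (BT.node 1816 (BT.leaf cJ1816) (BT.leaf cJ1817)) (BT.node 1818 (BT.leaf cJ1818) (BT.leaf cJ1819))))) (BT.node 1828 (BT.node 1824 (BT.node 1822 (BT.node 1821 (BT.node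 1820 (BT.leaf cJ1820) (BT.leaf cJ1821)) (BT.leaf cJ1822)) (BT.node 1823 (BT.leaf cJ1823) (BT.leaf cJ1824))) (BT.node 1826 (BT.node 1825 (BT.leaf cJ1825) (BT.leaf cJ1826)) (BT.node 1827 (BT.leaf cJ1827) (BT.leaf cJ1828)))) (BT.node 1832 (BT.node 1830 (BT.node 1829 (BT.leaf cJ1829) (BT.leaf cJ1830)) (BT.node 1831 (BT.leaf cJ1831) (BT.leaf cJ1832))) (BT.node 1834 (BT.node 1833 (BT.leaf cJ1833) (BT.leaf cJ1834)) (BT.node 1835 (BT.leaf cJ1835) (BT.leaf cJ1836))))))) (BT.node 1870 (BT.node 1853 (BT.node 1845 (BT.node 1841 (BT.node 1839 (BT.node 1838 (BT.node 1837 (BT.leaf cJ1837) (BT.leaf cJ1838)) (BT.leaf cJ1839)) (BT.node 1840 (BT.leaf cJ1840) (BT.leaf cJ1841))) (BT.node 1843 (BT.node 1842 (BT.leaf cJ1842) (BT.leaf cJ1843)) (BT.node 1844 (BT.leaf cJ1844) (BT.leaf cJ1845)))) (BT.node 1849 (BT.node 1847 (BT.node 1846 (BT.leaf cJ1846) (BT.leaf cJ1847)) (BT.node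 1848 (BT.leaf cJ1848) (BT.leaf cJ1849))) (BT.node 1851 (BT.node 1850 (BT.leaf cJ1850) (BT.leaf cJ1851)) (BT.node 1852 (BT.leaf cJ1852) (BT.leaf cJ1853))))) (BT.node 1862 (BT.node 1858 (BT.node 1856 (BT.node 1855 (BT.node 1854 (BT.leaf cJ1854) (BT.leaf cJ1855)) (BT.leaf cJ1856)) (BT.node 1857 (BT.leaf cJ1857) (BT.leaf cJ1858))) (BT.node 1860 (BT.node 1859 (BT.leaf cJ1859) (BT.leaf cJ1860)) (BT.node 1861 (BT.leaf cJ1861) (BT.leaf cJ1862)))) (BT.node 1866 (BT.node 1864 (BT.node 1863 (BT.leaf cJ1863) (BT.leaf cJ1864)) (BT.node 1865 (BT.leaf cJ1865) (BT.leaf cJ1866))) (BT.node 1868 (BT.node 1867 (BT.leaf cJ1867) (BT.leaf cJ1868)) (BT.node 1869 (BT.leaf cJ1869) (BT.leaf cJ1870)))))) (BT.node 1887 (BT.node 1879 (BT.node 1875 (BT.node 1873 (BT.node 1872 (BT.node 1871 (BT.leaf cJ1871) (BT.leaf cJ1872)) (BT.leaf cJ1873)) (BT.node 1874 (BT.leaf cJ1874) (BT.leaf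 cJ1875))) (BT.node 1877 (BT.node 1876 (BT.leaf cJ1876) (BT.leaf cJ1877)) (BT.node 1878 (BT.leaf cJ1878) (BT.leaf cJ1879)))) (BT.node 1883 (BT.node 1881 (BT.node 1880 (BT.leaf cJ1880) (BT.leaf cJ1881)) (BT.node 1882 (BT.leaf cJ1882) (BT.leaf cJ1883))) (BT.node 1885 (BT.node 1884 (BT.leaf cJ1884) (BT.leaf cJ1885)) (BT.node 1886 (BT.leaf cJ1886) (BT.leaf cJ1887))))) (BT.node 1896 (BT.node 1892 (BT.node 1890 (BT.node 1889 (BT.node 1888 (BT.leaf cJ1888) (BT.leaf cJ1889)) (BT.leaf cJ1890)) (BT.node 1891 (BT.leaf cJ1891) (BT.leaf cJ1892))) (BT.node 1894 (BT.node 1893 (BT.leaf cJ1893) (BT.leaf cJ1894)) (BT.node 1895 (BT.leaf cJ1895) (BT.leaf cJ1896)))) (BT.node 1900 (BT.node 1898 (BT.node 1897 (BT.leaf cJ1897) (BT.leaf cJ1898)) (BT.node 1899 (BT.leaf cJ1899) (BT.leaf cJ1900))) (BT.node 1902 (BT.node 1901 (BT.leaf cJ1901) (BT.leaf cJ1902)) (BT.node 1903 (BT.leaf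 cJ1903) (BT.leaf cJ1904))))))))) (BT.node 2040 (BT.node 1972 (BT.node 1938 (BT.node 1921 (BT.node 1913 (BT.node 1909 (BT.node 1907 (BT.node 1906 (BT.node 1905 (BT.leaf cJ1905) (BT.leaf cJ1906)) (BT.leaf cJ1907)) (BT.node 1908 (BT.leaf cJ1908) (BT.leaf cJ1909))) (BT.node 1911 (BT.node 1910 (BT.leaf cJ1910) (BT.leaf cJ1911)) (BT.node 1912 (BT.leaf cJ1912) (BT.leaf cJ1913)))) (BT.node 1917 (BT.node 1915 (BT.node 1914 (BT.leaf cJ1914) (BT.leaf cJ1915)) (BT.node 1916 (BT.leaf cJ1916) (BT.leaf cJ1917))) (BT.node 1919 (BT.node 1918 (BT.leaf cJ1918) (BT.leaf cJ1919)) (BT.node 1920 (BT.leaf cJ1920) (BT.leaf cJ1921))))) (BT.node 1930 (BT.node 1926 (BT.node 1924 (BT.node 1923 (BT.node 1922 (BT.leaf cJ1922) (BT.leaf cJ1923)) (BT.leaf cJ1924)) (BT.node 1925 (BT.leaf cJ1925) (BT.leaf cJ1926))) (BT.node 1928 (BT.node 1927 (BT.leaf cJ1927) (BT.leaf cJ1928)) (BT.node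 1929 (BT.leaf cJ1929) (BT.leaf cJ1930)))) (BT.node 1934 (BT.node 1932 (BT.node 1931 (BT.leaf cJ1931) (BT.leaf cJ1932)) (BT.node 1933 (BT.leaf cJ1933) (BT.leaf cJ1934))) (BT.node 1936 (BT.node 1935 (BT.leaf cJ1935) (BT.leaf cJ1936)) (BT.node 1937 (BT.leaf cJ1937) (BT.leaf cJ1938)))))) (BT.node 1955 (BT.node 1947 (BT.node 1943 (BT.node 1941 (BT.node 1940 (BT.node 1939 (BT.leaf cJ1939) (BT.leaf cJ1940)) (BT.leaf cJ1941)) (BT.node 1942 (BT.leaf cJ1942) (BT.leaf cJ1943))) (BT.node 1945 (BT.node 1944 (BT.leaf cJ1944) (BT.leaf cJ1945)) (BT.node 1946 (BT.leaf cJ1946) (BT.leaf cJ1947)))) (BT.node 1951 (BT.node 1949 (BT.node 1948 (BT.leaf cJ1948) (BT.leaf cJ1949)) (BT.node 1950 (BT.leaf cJ1950) (BT.leaf cJ1951))) (BT.node 1953 (BT.node 1952 (BT.leaf cJ1952) (BT.leaf cJ1953)) (BT.node 1954 (BT.leaf cJ1954) (BT.leaf cJ1955))))) (BT.node 1964 (BT.node 1960 (BT.node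 1958 (BT.node 1957 (BT.node 1956 (BT.leaf cJ1956) (BT.leaf cJ1957)) (BT.leaf cJ1958)) (BT.node 1959 (BT.leaf cJ1959) (BT.leaf cJ1960))) (BT.node 1962 (BT.node 1961 (BT.leaf cJ1961) (BT.leaf cJ1962)) (BT.node 1963 (BT.leaf cJ1963) (BT.leaf cJ1964)))) (BT.node 1968 (BT.node 1966 (BT.node 1965 (BT.leaf cJ1965) (BT.leaf cJ1966)) (BT.node 1967 (BT.leaf cJ1967) (BT.leaf cJ1968))) (BT.node 1970 (BT.node 1969 (BT.leaf cJ1969) (BT.leaf cJ1970)) (BT.node 1971 (BT.leaf cJ1971) (BT.leaf cJ1972))))))) (BT.node 2006 (BT.node 1989 (BT.node 1981 (BT.node 1977 (BT.node 1975 (BT.node 1974 (BT.node 1973 (BT.leaf cJ1973) (BT.leaf cJ1974)) (BT.leaf cJ1975)) (BT.node 1976 (BT.leaf cJ1976) (BT.leaf cJ1977))) (BT.node 1979 (BT.node 1978 (BT.leaf cJ1978) (BT.leaf cJ1979)) (BT.node 1980 (BT.leaf cJ1980) (BT.leaf cJ1981)))) (BT.node 1985 (BT.node 1983 (BT.node 1982 (BT.leaf cJ1982)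 (BT.leaf cJ1983)) (BT.node 1984 (BT.leaf cJ1984) (BT.leaf cJ1985))) (BT.node 1987 (BT.node 1986 (BT.leaf cJ1986) (BT.leaf cJ1987)) (BT.node 1988 (BT.leaf cJ1988) (BT.leaf cJ1989))))) (BT.node 1998 (BT.node 1994 (BT.node 1992 (BT.node 1991 (BT.node 1990 (BT.leaf cJ1990) (BT.leaf cJ1991)) (BT.leaf cJ1992)) (BT.node 1993 (BT.leaf cJ1993) (BT.leaf cJ1994))) (BT.node 1996 (BT.node 1995 (BT.leaf cJ1995) (BT.leaf cJ1996)) (BT.node 1997 (BT.leaf cJ1997) (BT.leaf cJ1998)))) (BT.node 2002 (BT.node 2000 (BT.node 1999 (BT.leaf cJ1999) (BT.leaf cJ2000)) (BT.node 2001 (BT.leaf cJ2001) (BT.leaf cJ2002))) (BT.node 2004 (BT.node 2003 (BT.leaf cJ2003) (BT.leaf cJ2004)) (BT.node 2005 (BT.leaf cJ2005) (BT.leaf cJ2006)))))) (BT.node 2023 (BT.node 2015 (BT.node 2011 (BT.node 2009 (BT.node 2008 (BT.node 2007 (BT.leaf cJ2007) (BT.leaf cJ2008)) (BT.leaf cJ2009)) (BT.node 2010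 (BT.leaf cJ2010) (BT.leaf cJ2011))) (BT.node 2013 (BT.node 2012 (BT.leaf cJ2012) (BT.leaf cJ2013)) (BT.node 2014 (BT.leaf cJ2014) (BT.leaf cJ2015)))) (BT.node 2019 (BT.node 2017 (BT.node 2016 (BT.leaf cJ2016) (BT.leaf cJ2017)) (BT.node 2018 (BT.leaf cJ2018) (BT.leaf cJ2019))) (BT.node 2021 (BT.node 2020 (BT.leaf cJ2020) (BT.leaf cJ2021)) (BT.node 2022 (BT.leaf cJ2022) (BT.leaf cJ2023))))) (BT.node 2032 (BT.node 2028 (BT.node 2026 (BT.node 2025 (BT.node 2024 (BT.leaf cJ2024) (BT.leaf cJ2025)) (BT.leaf cJ2026)) (BT.node 2027 (BT.leaf cJ2027) (BT.leaf cJ2028))) (BT.node 2030 (BT.node 2029 (BT.leaf cJ2029) (BT.leaf cJ2030)) (BT.node 2031 (BT.leaf cJ2031) (BT.leaf cJ2032)))) (BT.node 2036 (BT.node 2034 (BT.node 2033 (BT.leaf cJ2033) (BT.leaf cJ2034)) (BT.node 2035 (BT.leaf cJ2035) (BT.leaf cJ2036))) (BT.node 2038 (BT.node 2037 (BT.leaf cJ2037) (BT.leaf cJ2038))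 (BT.node 2039 (BT.leaf cJ2039) (BT.leaf cJ2040)))))))) (BT.node 2108 (BT.node 2074 (BT.node 2057 (BT.node 2049 (BT.node 2045 (BT.node 2043 (BT.node 2042 (BT.node 2041 (BT.leaf cJ2041) (BT.leaf cJ2042)) (BT.leaf cJ2043)) (BT.node 2044 (BT.leaf cJ2044) (BT.leaf cJ2045))) (BT.node 2047 (BT.node 2046 (BT.leaf cJ2046) (BT.leaf cJ2047)) (BT.node 2048 (BT.leaf cJ2048) (BT.leaf cJ2049)))) (BT.node 2053 (BT.node 2051 (BT.node 2050 (BT.leaf cJ2050) (BT.leaf cJ2051)) (BT.node 2052 (BT.leaf cJ2052) (BT.leaf cJ2053))) (BT.node 2055 (BT.node 2054 (BT.leaf cJ2054) (BT.leaf cJ2055)) (BT.node 2056 (BT.leaf cJ2056) (BT.leaf cJ2057))))) (BT.node 2066 (BT.node 2062 (BT.node 2060 (BT.node 2059 (BT.node 2058 (BT.leaf cJ2058) (BT.leaf cJ2059)) (BT.leaf cJ2060)) (BT.node 2061 (BT.leaf cJ2061) (BT.leaf cJ2062))) (BT.node 2064 (BT.node 2063 (BT.leaf cJ2063) (BT.leaf cJ2064))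 (BT.node 2065 (BT.leaf cJ2065) (BT.leaf cJ2066)))) (BT.node 2070 (BT.node 2068 (BT.node 2067 (BT.leaf cJ2067) (BT.leaf cJ2068)) (BT.node 2069 (BT.leaf cJ2069) (BT.leaf cJ2070))) (BT.node 2072 (BT.node 2071 (BT.leaf cJ2071) (BT.leaf cJ2072)) (BT.node 2073 (BT.leaf cJ2073) (BT.leaf cJ2074)))))) (BT.node 2091 (BT.node 2083 (BT.node 2079 (BT.node 2077 (BT.node 2076 (BT.node 2075 (BT.leaf cJ2075) (BT.leaf cJ2076)) (BT.leaf cJ2077)) (BT.node 2078 (BT.leaf cJ2078) (BT.leaf cJ2079))) (BT.node 2081 (BT.node 2080 (BT.leaf cJ2080) (BT.leaf cJ2081)) (BT.node 2082 (BT.leaf cJ2082) (BT.leaf cJ2083)))) (BT.node 2087 (BT.node 2085 (BT.node 2084 (BT.leaf cJ2084) (BT.leaf cJ2085)) (BT.node 2086 (BT.leaf cJ2086) (BT.leaf cJ2087))) (BT.node 2089 (BT.node 2088 (BT.leaf cJ2088) (BT.leaf cJ2089)) (BT.node 2090 (BT.leaf cJ2090) (BT.leaf cJ2091))))) (BT.node 2100 (BT.node 2096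 (BT.node 2094 (BT.node 2093 (BT.node 2092 (BT.leaf cJ2092) (BT.leaf cJ2093)) (BT.leaf cJ2094)) (BT.node 2095 (BT.leaf cJ2095) (BT.leaf cJ2096))) (BT.node 2098 (BT.node 2097 (BT.leaf cJ2097) (BT.leaf cJ2098)) (BT.node 2099 (BT.leaf cJ2099) (BT.leaf cJ2100)))) (BT.node 2104 (BT.node 2102 (BT.node 2101 (BT.leaf cJ2101) (BT.leaf cJ2102)) (BT.node 2103 (BT.leaf cJ2103) (BT.leaf cJ2104))) (BT.node 2106 (BT.node 2105 (BT.leaf cJ2105) (BT.leaf cJ2106)) (BT.node 2107 (BT.leaf cJ2107) (BT.leaf cJ2108))))))) (BT.node 2142 (BT.node 2125 (BT.node 2117 (BT.node 2113 (BT.node 2111 (BT.node 2110 (BT.node 2109 (BT.leaf cJ2109) (BT.leaf cJ2110)) (BT.leaf cJ2111)) (BT.node 2112 (BT.leaf cJ2112) (BT.leaf cJ2113))) (BT.node 2115 (BT.node 2114 (BT.leaf cJ2114) (BT.leaf cJ2115)) (BT.node 2116 (BT.leaf cJ2116) (BT.leaf cJ2117)))) (BT.node 2121 (BT.node 2119 (BT.node 2118 (BT.leaf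 cJ2118) (BT.leaf cJ2119)) (BT.node 2120 (BT.leaf cJ2120) (BT.leaf cJ2121))) (BT.node 2123 (BT.node 2122 (BT.leaf cJ2122) (BT.leaf cJ2123)) (BT.node 2124 (BT.leaf cJ2124) (BT.leaf cJ2125))))) (BT.node 2134 (BT.node 2130 (BT.node 2128 (BT.node 2127 (BT.node 2126 (BT.leaf cJ2126) (BT.leaf cJ2127)) (BT.leaf cJ2128)) (BT.node 2129 (BT.leaf cJ2129) (BT.leaf cJ2130))) (BT.node 2132 (BT.node 2131 (BT.leaf cJ2131) (BT.leaf cJ2132)) (BT.node 2133 (BT.leaf cJ2133) (BT.leaf cJ2134)))) (BT.node 2138 (BT.node 2136 (BT.node 2135 (BT.leaf cJ2135) (BT.leaf cJ2136)) (BT.node 2137 (BT.leaf cJ2137) (BT.leaf cJ2138))) (BT.node 2140 (BT.node 2139 (BT.leaf cJ2139) (BT.leaf cJ2140)) (BT.node 2141 (BT.leaf cJ2141) (BT.leaf cJ2142)))))) (BT.node 2159 (BT.node 2151 (BT.node 2147 (BT.node 2145 (BT.node 2144 (BT.node 2143 (BT.leaf cJ2143) (BT.leaf cJ2144)) (BT.leaf cJ2145)) (BT.node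 2146 (BT.leaf cJ2146) (BT.leaf cJ2147))) (BT.node 2149 (BT.node 2148 (BT.leaf cJ2148) (BT.leaf cJ2149)) (BT.node 2150 (BT.leaf cJ2150) (BT.leaf cJ2151)))) (BT.node 2155 (BT.node 2153 (BT.node 2152 (BT.leaf cJ2152) (BT.leaf cJ2153)) (BT.node 2154 (BT.leaf cJ2154) (BT.leaf cJ2155))) (BT.node 2157 (BT.node 2156 (BT.leaf cJ2156) (BT.leaf cJ2157)) (BT.node 2158 (BT.leaf cJ2158) (BT.leaf cJ2159))))) (BT.node 2168 (BT.node 2164 (BT.node 2162 (BT.node 2161 (BT.node 2160 (BT.leaf cJ2160) (BT.leaf cJ2161)) (BT.leaf cJ2162)) (BT.node 2163 (BT.leaf cJ2163) (BT.leaf cJ2164))) (BT.node 2166 (BT.node 2165 (BT.leaf cJ2165) (BT.leaf cJ2166)) (BT.node 2167 (BT.leaf cJ2167) (BT.leaf cJ2168)))) (BT.node 2172 (BT.node 2170 (BT.node 2169 (BT.leaf cJ2169) (BT.leaf cJ2170)) (BT.node 2171 (BT.leaf cJ2171) (BT.leaf cJ2172))) (BT.node 2174 (BT.node 2173 (BT.leaf cJ2173) (BT.leaf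 cJ2174)) (BT.node 2175 (BT.leaf cJ2175) (BT.leaf cJ2176))))))))))))
/-- parent chunks -/
def parCT : BT ℕ := (BT.node 155 (BT.node 77 (BT.node 38 (BT.node 19 (BT.node 9 (BT.node 4 (BT.node 2 (BT.node 1 (BT.node 0 (BT.leaf cP0) (BT.leaf cP1)) (BT.leaf cP2)) (BT.node 3 (BT.leaf cP3) (BT.leaf cP4))) (BT.node 7 (BT.node 6 (BT.node 5 (BT.leaf cP5) (BT.leaf cP6)) (BT.leaf cP7)) (BT.node 8 (BT.leaf cP8) (BT.leaf cP9)))) (BT.node 14 (BT.node 12 (BT.node 11 (BT.node 10 (BT.leaf cP10) (BT.leaf cP11)) (BT.leaf cP12)) (BT.node 13 (BT.leaf cP13) (BT.leaf cP14))) (BT.node 17 (BT.node 16 (BT.node 15 (BT.leaf cP15) (BT.leaf cP16)) (BT.leaf cP17)) (BT.node 18 (BT.leaf cP18) (BT.leaf cP19))))) (BT.node 29 (BT.node 24 (BT.node 22 (BT.node 21 (BT.node 20 (BT.leaf cP20) (BT.leaf cP21)) (BT.leaf cP22)) (BT.node 23 (BT.leaf cP23) (BT.leaf cP24))) (BT.node 27 (BT.node 26 (BT.node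 25 (BT.leaf cP25) (BT.leaf cP26)) (BT.leaf cP27)) (BT.node 28 (BT.leaf cP28) (BT.leaf cP29)))) (BT.node 34 (BT.node 32 (BT.node 31 (BT.node 30 (BT.leaf cP30) (BT.leaf cP31)) (BT.leaf cP32)) (BT.node 33 (BT.leaf cP33) (BT.leaf cP34))) (BT.node 36 (BT.node 35 (BT.leaf cP35) (BT.leaf cP36)) (BT.node 37 (BT.leaf cP37) (BT.leaf cP38)))))) (BT.node 58 (BT.node 48 (BT.node 43 (BT.node 41 (BT.node 40 (BT.node 39 (BT.leaf cP39) (BT.leaf cP40)) (BT.leaf cP41)) (BT.node 42 (BT.leaf cP42) (BT.leaf cP43))) (BT.node 46 (BT.node 45 (BT.node 44 (BT.leaf cP44) (BT.leaf cP45)) (BT.leaf cP46)) (BT.node 47 (BT.leaf cP47) (BT.leaf cP48)))) (BT.node 53 (BT.node 51 (BT.node 50 (BT.node 49 (BT.leaf cP49) (BT.leaf cP50)) (BT.leaf cP51)) (BT.node 52 (BT.leaf cP52) (BT.leaf cP53))) (BT.node 56 (BT.node 55 (BT.node 54 (BT.leaf cP54) (BT.leaf cP55)) (BT.leaf cP56)) (BT.node 57 (BT.leaf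 cP57) (BT.leaf cP58))))) (BT.node 68 (BT.node 63 (BT.node 61 (BT.node 60 (BT.node 59 (BT.leaf cP59) (BT.leaf cP60)) (BT.leaf cP61)) (BT.node 62 (BT.leaf cP62) (BT.leaf cP63))) (BT.node 66 (BT.node 65 (BT.node 64 (BT.leaf cP64) (BT.leaf cP65)) (BT.leaf cP66)) (BT.node 67 (BT.leaf cP67) (BT.leaf cP68)))) (BT.node 73 (BT.node 71 (BT.node 70 (BT.node 69 (BT.leaf cP69) (BT.leaf cP70)) (BT.leaf cP71)) (BT.node 72 (BT.leaf cP72) (BT.leaf cP73))) (BT.node 75 (BT.node 74 (BT.leaf cP74) (BT.leaf cP75)) (BT.node 76 (BT.leaf cP76) (BT.leaf cP77))))))) (BT.node 116 (BT.node 97 (BT.node 87 (BT.node 82 (BT.node 80 (BT.node 79 (BT.node 78 (BT.leaf cP78) (BT.leaf cP79)) (BT.leaf cP80)) (BT.node 81 (BT.leaf cP81) (BT.leaf cP82))) (BT.node 85 (BT.node 84 (BT.node 83 (BT.leaf cP83) (BT.leaf cP84)) (BT.leaf cP85)) (BT.node 86 (BT.leaf cP86) (BT.leaf cP87)))) (BT.node 92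 (BT.node 90 (BT.node 89 (BT.node 88 (BT.leaf cP88) (BT.leaf cP89)) (BT.leaf cP90)) (BT.node 91 (BT.leaf cP91) (BT.leaf cP92))) (BT.node 95 (BT.node 94 (BT.node 93 (BT.leaf cP93) (BT.leaf cP94)) (BT.leaf cP95)) (BT.node 96 (BT.leaf cP96) (BT.leaf cP97))))) (BT.node 107 (BT.node 102 (BT.node 100 (BT.node 99 (BT.node 98 (BT.leaf cP98) (BT.leaf cP99)) (BT.leaf cP100)) (BT.node 101 (BT.leaf cP101) (BT.leaf cP102))) (BT.node 105 (BT.node 104 (BT.node 103 (BT.leaf cP103) (BT.leaf cP104)) (BT.leaf cP105)) (BT.node 106 (BT.leaf cP106) (BT.leaf cP107)))) (BT.node 112 (BT.node 110 (BT.node 109 (BT.node 108 (BT.leaf cP108) (BT.leaf cP109)) (BT.leaf cP110)) (BT.node 111 (BT.leaf cP111) (BT.leaf cP112))) (BT.node 114 (BT.node 113 (BT.leaf cP113) (BT.leaf cP114)) (BT.node 115 (BT.leaf cP115) (BT.leaf cP116)))))) (BT.node 136 (BT.node 126 (BT.node 121 (BT.node 119 (BT.node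 118 (BT.node 117 (BT.leaf cP117) (BT.leaf cP118)) (BT.leaf cP119)) (BT.node 120 (BT.leaf cP120) (BT.leaf cP121))) (BT.node 124 (BT.node 123 (BT.node 122 (BT.leaf cP122) (BT.leaf cP123)) (BT.leaf cP124)) (BT.node 125 (BT.leaf cP125) (BT.leaf cP126)))) (BT.node 131 (BT.node 129 (BT.node 128 (BT.node 127 (BT.leaf cP127) (BT.leaf cP128)) (BT.leaf cP129)) (BT.node 130 (BT.leaf cP130) (BT.leaf cP131))) (BT.node 134 (BT.node 133 (BT.node 132 (BT.leaf cP132) (BT.leaf cP133)) (BT.leaf cP134)) (BT.node 135 (BT.leaf cP135) (BT.leaf cP136))))) (BT.node 146 (BT.node 141 (BT.node 139 (BT.node 138 (BT.node 137 (BT.leaf cP137) (BT.leaf cP138)) (BT.leaf cP139)) (BT.node 140 (BT.leaf cP140) (BT.leaf cP141))) (BT.node 144 (BT.node 143 (BT.node 142 (BT.leaf cP142) (BT.leaf cP143)) (BT.leaf cP144)) (BT.node 145 (BT.leaf cP145) (BT.leaf cP146)))) (BT.node 151 (BT.node 149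 (BT.node 148 (BT.node 147 (BT.leaf cP147) (BT.leaf cP148)) (BT.leaf cP149)) (BT.node 150 (BT.leaf cP150) (BT.leaf cP151))) (BT.node 153 (BT.node 152 (BT.leaf cP152) (BT.leaf cP153)) (BT.node 154 (BT.leaf cP154) (BT.leaf cP155)))))))) (BT.node 233 (BT.node 194 (BT.node 175 (BT.node 165 (BT.node 160 (BT.node 158 (BT.node 157 (BT.node 156 (BT.leaf cP156) (BT.leaf cP157)) (BT.leaf cP158)) (BT.node 159 (BT.leaf cP159) (BT.leaf cP160))) (BT.node 163 (BT.node 162 (BT.node 161 (BT.leaf cP161) (BT.leaf cP162)) (BT.leaf cP163)) (BT.node 164 (BT.leaf cP164) (BT.leaf cP165)))) (BT.node 170 (BT.node 168 (BT.node 167 (BT.node 166 (BT.leaf cP166) (BT.leaf cP167)) (BT.leaf cP168)) (BT.node 169 (BT.leaf cP169) (BT.leaf cP170))) (BT.node 173 (BT.node 172 (BT.node 171 (BT.leaf cP171) (BT.leaf cP172)) (BT.leaf cP173)) (BT.node 174 (BT.leaf cP174) (BT.leaf cP175))))) (BT.node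 185 (BT.node 180 (BT.node 178 (BT.node 177 (BT.node 176 (BT.leaf cP176) (BT.leaf cP177)) (BT.leaf cP178)) (BT.node 179 (BT.leaf cP179) (BT.leaf cP180))) (BT.node 183 (BT.node 182 (BT.node 181 (BT.leaf cP181) (BT.leaf cP182)) (BT.leaf cP183)) (BT.node 184 (BT.leaf cP184) (BT.leaf cP185)))) (BT.node 190 (BT.node 188 (BT.node 187 (BT.node 186 (BT.leaf cP186) (BT.leaf cP187)) (BT.leaf cP188)) (BT.node 189 (BT.leaf cP189) (BT.leaf cP190))) (BT.node 192 (BT.node 191 (BT.leaf cP191) (BT.leaf cP192)) (BT.node 193 (BT.leaf cP193) (BT.leaf cP194)))))) (BT.node 214 (BT.node 204 (BT.node 199 (BT.node 197 (BT.node 196 (BT.node 195 (BT.leaf cP195) (BT.leaf cP196)) (BT.leaf cP197)) (BT.node 198 (BT.leaf cP198) (BT.leaf cP199))) (BT.node 202 (BT.node 201 (BT.node 200 (BT.leaf cP200) (BT.leaf cP201)) (BT.leaf cP202)) (BT.node 203 (BT.leaf cP203) (BT.leaf cP204)))) (BT.node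 209 (BT.node 207 (BT.node 206 (BT.node 205 (BT.leaf cP205) (BT.leaf cP206)) (BT.leaf cP207)) (BT.node 208 (BT.leaf cP208) (BT.leaf cP209))) (BT.node 212 (BT.node 211 (BT.node 210 (BT.leaf cP210) (BT.leaf cP211)) (BT.leaf cP212)) (BT.node 213 (BT.leaf cP213) (BT.leaf cP214))))) (BT.node 224 (BT.node 219 (BT.node 217 (BT.node 216 (BT.node 215 (BT.leaf cP215) (BT.leaf cP216)) (BT.leaf cP217)) (BT.node 218 (BT.leaf cP218) (BT.leaf cP219))) (BT.node 222 (BT.node 221 (BT.node 220 (BT.leaf cP220) (BT.leaf cP221)) (BT.leaf cP222)) (BT.node 223 (BT.leaf cP223) (BT.leaf cP224)))) (BT.node 229 (BT.node 227 (BT.node 226 (BT.node 225 (BT.leaf cP225) (BT.leaf cP226)) (BT.leaf cP227)) (BT.node 228 (BT.leaf cP228) (BT.leaf cP229))) (BT.node 231 (BT.node 230 (BT.leaf cP230) (BT.leaf cP231)) (BT.node 232 (BT.leaf cP232) (BT.leaf cP233))))))) (BT.node 272 (BT.node 253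 (BT.node 243 (BT.node 238 (BT.node 236 (BT.node 235 (BT.node 234 (BT.leaf cP234) (BT.leaf cP235)) (BT.leaf cP236)) (BT.node 237 (BT.leaf cP237) (BT.leaf cP238))) (BT.node 241 (BT.node 240 (BT.node 239 (BT.leaf cP239) (BT.leaf cP240)) (BT.leaf cP241)) (BT.node 242 (BT.leaf cP242) (BT.leaf cP243)))) (BT.node 248 (BT.node 246 (BT.node 245 (BT.node 244 (BT.leaf cP244) (BT.leaf cP245)) (BT.leaf cP246)) (BT.node 247 (BT.leaf cP247) (BT.leaf cP248))) (BT.node 251 (BT.node 250 (BT.node 249 (BT.leaf cP249) (BT.leaf cP250)) (BT.leaf cP251)) (BT.node 252 (BT.leaf cP252) (BT.leaf cP253))))) (BT.node 263 (BT.node 258 (BT.node 256 (BT.node 255 (BT.node 254 (BT.leaf cP254) (BT.leaf cP255)) (BT.leaf cP256)) (BT.node 257 (BT.leaf cP257) (BT.leaf cP258))) (BT.node 261 (BT.node 260 (BT.node 259 (BT.leaf cP259) (BT.leaf cP260)) (BT.leaf cP261)) (BT.node 262 (BT.leaf cP262)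 (BT.leaf cP263)))) (BT.node 268 (BT.node 266 (BT.node 265 (BT.node 264 (BT.leaf cP264) (BT.leaf cP265)) (BT.leaf cP266)) (BT.node 267 (BT.leaf cP267) (BT.leaf cP268))) (BT.node 270 (BT.node 269 (BT.leaf cP269) (BT.leaf cP270)) (BT.node 271 (BT.leaf cP271) (BT.leaf cP272)))))) (BT.node 291 (BT.node 282 (BT.node 277 (BT.node 275 (BT.node 274 (BT.node 273 (BT.leaf cP273) (BT.leaf cP274)) (BT.leaf cP275)) (BT.node 276 (BT.leaf cP276) (BT.leaf cP277))) (BT.node 280 (BT.node 279 (BT.node 278 (BT.leaf cP278) (BT.leaf cP279)) (BT.leaf cP280)) (BT.node 281 (BT.leaf cP281) (BT.leaf cP282)))) (BT.node 287 (BT.node 285 (BT.node 284 (BT.node 283 (BT.leaf cP283) (BT.leaf cP284)) (BT.leaf cP285)) (BT.node 286 (BT.leaf cP286) (BT.leaf cP287))) (BT.node 289 (BT.node 288 (BT.leaf cP288) (BT.leaf cP289)) (BT.node 290 (BT.leaf cP290) (BT.leaf cP291))))) (BT.node 301 (BT.node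 296 (BT.node 294 (BT.node 293 (BT.node 292 (BT.leaf cP292) (BT.leaf cP293)) (BT.leaf cP294)) (BT.node 295 (BT.leaf cP295) (BT.leaf cP296))) (BT.node 299 (BT.node 298 (BT.node 297 (BT.leaf cP297) (BT.leaf cP298)) (BT.leaf cP299)) (BT.node 300 (BT.leaf cP300) (BT.leaf cP301)))) (BT.node 306 (BT.node 304 (BT.node 303 (BT.node 302 (BT.leaf cP302) (BT.leaf cP303)) (BT.leaf cP304)) (BT.node 305 (BT.leaf cP305) (BT.leaf cP306))) (BT.node 308 (BT.node 307 (BT.leaf cP307) (BT.leaf cP308)) (BT.node 309 (BT.leaf cP309) (BT.leaf cP310)))))))))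
/-- the certificate -/
def data : Data where
  k := 6
  N := 158782
  W := 37
  MW := 137438953472
  B := 262144
  CH := 512
  NCH := 311
  colE := colET
  JW := 64
  MJ := 18446744073709551616
  A := 1048576
  colJ := colJT
  PW := 28
  MP := 268435456
  parC := parCT
  inv := (BT.node 3 (BT.node 1 (BT.node 0 (BT.leaf 1) (BT.leaf 0)) (BT.node 2 (BT.leaf 3) (BT.leaf 2))) (BT.node 5 (BT.node 4 (BT.leaf 5) (BT.leaf 4)) (BT.leaf 6)))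
  rel := relT
  sub := subT
  fuel := 64

end Cfsg.Agent.Lib.Helper3.Cover.ES6Data
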