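import Cfsg.Agent.Lib.Helper3.Cover.ES6Data
set_option autoImplicit false
set_option maxRecDepth 100000
set_option maxHeartbeats 0

namespace Cfsg.Agent.Lib.Helper3.Cover.ES6U10
open Cfsg.Agent.Lib.Helper28.TC2Upper Cfsg.Agent.Lib.Helper3.Cover.ES6Data

theorem chk50 : data.checkRange 60502 1457 = true := by decide +kernel
theorem chk51 : data.checkRange 61959 1391 = true := by decide +kernel
theorem chk52 : data.checkRange 63350 1472 = true := by decide +kernel
theorem chk53 : data.checkRange 64822 1427 = true := by decide +kernel
theorem chk54 : data.checkRange 66249 1418 = true := by decide +kernel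

end Cfsg.Agent.Lib.Helper3.Cover.ES6U10
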