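import Cfsg.Agent.Lib.Helper3.Cover.ES6Data
set_option autoImplicit false
set_option maxRecDepth 100000
set_option maxHeartbeats 0

namespace Cfsg.Agent.Lib.Helper3.Cover.ES6U13
open Cfsg.Agent.Lib.Helper28.TC2Upper Cfsg.Agent.Lib.Helper3.Cover.ES6Data

theorem chk65 : data.checkRange 81879 1454 = true := by decide +kernel
theorem chk66 : data.checkRange 83333 1485 = true := by decide +kernel
theorem chk67 : data.checkRange 84818 1475 = true := by decide +kernel
theorem chk68 : data.checkRange 86293 1482 = true := by decide +kernel
theorem chk69 : data.checkRange 87775 1544 = true := by decide +kernel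

end Cfsg.Agent.Lib.Helper3.Cover.ES6U13
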