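import Cfsg.Agent.Lib.Helper3.Cover.ES6Data
set_option autoImplicit false
set_option maxRecDepth 100000
set_option maxHeartbeats 0

namespace Cfsg.Agent.Lib.Helper3.Cover.ES6U14
open Cfsg.Agent.Lib.Helper28.TC2Upper Cfsg.Agent.Lib.Helper3.Cover.ES6Data

theorem chk70 : data.checkRange 89319 1632 = true := by decide +kernel
theorem chk71 : data.checkRange 90951 1571 = true := by decide +kernel
theorem chk72 : data.checkRange 92522 1494 = true := by decide +kernel
theorem chk73 : data.checkRange 94016 1587 = true := by decide +kernel
theorem chk74 : data.checkRange 95603 1580 = true := by decide +kernel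

end Cfsg.Agent.Lib.Helper3.Cover.ES6U14
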