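import Cfsg.Agent.Lib.Helper3.Cover.ES6Data
set_option autoImplicit false
set_option maxRecDepth 100000
set_option maxHeartbeats 0

namespace Cfsg.Agent.Lib.Helper3.Cover.ES6U15
open Cfsg.Agent.Lib.Helper28.TC2Upper Cfsg.Agent.Lib.Helper3.Cover.ES6Data

theorem chk75 : data.checkRange 97183 1530 = true := by decide +kernel
theorem chk76 : data.checkRange 98713 1588 = true := by decide +kernel
theorem chk77 : data.checkRange 100301 1522 = true := by decide +kernel
theorem chk78 : data.checkRange 101823 1558 = true := by decide +kernel
theorem chk79 : data.checkRange 103381 1642 = true := by decide +kernel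

end Cfsg.Agent.Lib.Helper3.Cover.ES6U15
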