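import Cfsg.Agent.Lib.Helper3.Cover.ES6Data
set_option autoImplicit false
set_option maxRecDepth 100000
set_option maxHeartbeats 0

namespace Cfsg.Agent.Lib.Helper3.Cover.ES6U16
open Cfsg.Agent.Lib.Helper28.TC2Upper Cfsg.Agent.Lib.Helper3.Cover.ES6Data

theorem chk80 : data.checkRange 105023 1546 = true := by decide +kernel
theorem chk81 : data.checkRange 106569 1578 = true := by decide +kernel
theorem chk82 : data.checkRange 108147 1457 = true := by decide +kernel
theorem chk83 : data.checkRange 109604 1535 = true := by decide +kernel
theorem chk84 : data.checkRange 111139 1534 = true := by decide +kernel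

end Cfsg.Agent.Lib.Helper3.Cover.ES6U16
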