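import Cfsg.Agent.Lib.Helper3.Cover.ES6Data
set_option autoImplicit false
set_option maxRecDepth 100000
set_option maxHeartbeats 0

namespace Cfsg.Agent.Lib.Helper3.Cover.ES6U18
open Cfsg.Agent.Lib.Helper28.TC2Upper Cfsg.Agent.Lib.Helper3.Cover.ES6Data

theorem chk90 : data.checkRange 120426 1685 = true := by decide +kernel
theorem chk91 : data.checkRange 122111 1585 = true := by decide +kernel
theorem chk92 : data.checkRange 123696 1695 = true := by decide +kernel
theorem chk93 : data.checkRange 125391 1686 = true := by decide +kernel
theorem chk94 : data.checkRange 127077 1663 = true := by decide +kernel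

end Cfsg.Agent.Lib.Helper3.Cover.ES6U18
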