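import Cfsg.Agent.Lib.Helper3.Cover.ES6Data
set_option autoImplicit false
set_option maxRecDepth 100000
set_option maxHeartbeats 0

namespace Cfsg.Agent.Lib.Helper3.Cover.ES6U21
open Cfsg.Agent.Lib.Helper28.TC2Upper Cfsg.Agent.Lib.Helper3.Cover.ES6Data

theorem chk105 : data.checkRange 145615 1690 = true := by decide +kernel
theorem chk106 : data.checkRange 147305 1759 = true := by decide +kernel
theorem chk107 : data.checkRange 149064 1795 = true := by decide +kernel
theorem chk108 : data.checkRange 150859 1843 = true := by decide +kernel
theorem chk109 : data.checkRange 152702 1865 = true := by decide +kernel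

end Cfsg.Agent.Lib.Helper3.Cover.ES6U21
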