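import Cfsg.Agent.Lib.Helper3.Cover.ES6Data
set_option autoImplicit false
set_option maxRecDepth 100000
set_option maxHeartbeats 0

namespace Cfsg.Agent.Lib.Helper3.Cover.ES6U22
open Cfsg.Agent.Lib.Helper28.TC2Upper Cfsg.Agent.Lib.Helper3.Cover.ES6Data

theorem chk110 : data.checkRange 154567 1831 = true := by decide +kernel
theorem chk111 : data.checkRange 156398 1846 = true := by decide +kernel
theorem chk112 : data.checkRange 158244 538 = true := by decide +kernel

end Cfsg.Agent.Lib.Helper3.Cover.ES6U22
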