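import Cfsg.Agent.Lib.Helper28.TC2GlueOrb
import Cfsg.Agent.Lib.Helper28.TC2Range
import Cfsg.Agent.Lib.Helper3.Cover.ES6Link
import Cfsg.Agent.Lib.Helper3.Cover.ES6M
import Cfsg.Agent.Lib.Helper3.Cover.ES6M0
import Cfsg.Agent.Lib.Helper3.Cover.ES6M1
import Cfsg.Agent.Lib.Helper3.Cover.ES6M2
import Cfsg.Agent.Lib.Helper3.Cover.ES6M3
import Cfsg.Agent.Lib.Helper3.Cover.ES6M4
import Cfsg.Agent.Lib.Helper3.Cover.ES6M5
import Cfsg.Agent.Lib.Helper3.Cover.ES6M6
import Cfsg.Agent.Lib.Helper3.Cover.ES6M7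
import Cfsg.Agent.Lib.Helper3.Cover.ES6M8
import Cfsg.Agent.Lib.Helper3.Cover.ES6M9
import Cfsg.Agent.Lib.Helper3.Cover.ES6M10
import Cfsg.Agent.Lib.Helper3.Cover.ES6M11
import Cfsg.Agent.Lib.Helper3.Cover.ES6U0
import Cfsg.Agent.Lib.Helper3.Cover.ES6U1
import Cfsg.Agent.Lib.Helper3.Cover.ES6U2
import Cfsg.Agent.Lib.Helper3.Cover.ES6U3
import Cfsg.Agent.Lib.Helper3.Cover.ES6U4
import Cfsg.Agent.Lib.Helper3.Cover.ES6U5
import Cfsg.Agent.Lib.Helper3.Cover.ES6U6
import Cfsg.Agent.Lib.Helper3.Cover.ES6U7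
import Cfsg.Agent.Lib.Helper3.Cover.ES6U8
import Cfsg.Agent.Lib.Helper3.Cover.ES6U9
import Cfsg.Agent.Lib.Helper3.Cover.ES6U10
import Cfsg.Agent.Lib.Helper3.Cover.ES6U11
import Cfsg.Agent.Lib.Helper3.Cover.ES6U12
import Cfsg.Agent.Lib.Helper3.Cover.ES6U13
import Cfsg.Agent.Lib.Helper3.Cover.ES6U14
import Cfsg.Agent.Lib.Helper3.Cover.ES6U15
import Cfsg.Agent.Lib.Helper3.Cover.ES6U16
import Cfsg.Agent.Lib.Helper3.Cover.ES6U17
import Cfsg.Agent.Lib.Helper3.Cover.ES6U18
import Cfsg.Agent.Lib.Helper3.Cover.ES6U19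
import Cfsg.Agent.Lib.Helper3.Cover.ES6U20
import Cfsg.Agent.Lib.Helper3.Cover.ES6U21
import Cfsg.Agent.Lib.Helper3.Cover.ES6U22
import Cfsg.Agent.Lib.Helper3.Cover.ES6L0

set_option autoImplicit false
set_option maxRecDepth 100000
open Cfsg

namespace Cfsg.Agent.Lib.Helper3.Cover.ES6Main
open Cfsg.Agent.Lib.Helper28.TC2Upper Cfsg.Agent.Lib.Helper28.TC2Lower Cfsg.Agent.Lib.Helper28.TC2Glue Cfsg.Agent.Lib.Helper28.TC2GlueOrb Cfsg.Agent.Lib.Helper28.TC2Orbit Cfsg.Agent.Lib.Helper28.TC2Range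
open Cfsg.Agent.Lib.Helper3.Cover.ES6Data Cfsg.Agent.Lib.Helper3.Cover.ES6Table Cfsg.Agent.Lib.Helper3.Cover.ES6Link Cfsg.Agent.Lib.Helper3.Cover.ES6M

theorem hchk : ∀ v, v < data.N → data.checkNode v = true := by
  intro v hv
  have hv' : v < 158782 := hv
  rcases Nat.lt_or_ge v 842 with h0 | h0
  · exact (data.checkRange_iff 0 842).mp Cfsg.Agent.Lib.Helper3.Cover.ES6U0.chk0 v (by omega) (by omega)
  rcases Nat.lt_or_ge v 1681 with h1 | h1
  · exact (data.checkRange_iff 842 839).mp Cfsg.Agent.Lib.Helper3.Cover.ES6U0.chk1 v (by omega) (by omega)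
  rcases Nat.lt_or_ge v 2564 with h2 | h2
  · exact (data.checkRange_iff 1681 883).mp Cfsg.Agent.Lib.Helper3.Cover.ES6U0.chk2 v (by omega) (by omega)
  rcases Nat.lt_or_ge v 3506 with h3 | h3
  · exact (data.checkRange_iff 2564 942).mp Cfsg.Agent.Lib.Helper3.Cover.ES6U0.chk3 v (by omega) (by omega)
  rcases Nat.lt_or_ge v 4438 with h4 | h4
  · exact (data.checkRange_iff 3506 932).mp Cfsg.Agent.Lib.Helper3.Cover.ES6U0.chk4 v (by omega) (by omega)
  rcases Nat.lt_or_ge v 5418 with h5 | h5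
  · exact (data.checkRange_iff 4438 980).mp Cfsg.Agent.Lib.Helper3.Cover.ES6U1.chk5 v (by omega) (by omega)
  rcases Nat.lt_or_ge v 6404 with h6 | h6
  · exact (data.checkRange_iff 5418 986).mp Cfsg.Agent.Lib.Helper3.Cover.ES6U1.chk6 v (by omega) (by omega)
  rcases Nat.lt_or_ge v 7472 with h7 | h7
  · exact (data.checkRange_iff 6404 1068).mp Cfsg.Agent.Lib.Helper3.Cover.ES6U1.chk7 v (by omega) (by omega)
  rcases Nat.lt_or_ge v 8504 with h8 | h8
  · exact (data.checkRange_iff 7472 1032).mp Cfsg.Agent.Lib.Helper3.Cover.ES6U1.chk8 v (by omega) (by omega)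
  rcases Nat.lt_or_ge v 9503 with h9 | h9
  · exact (data.checkRange_iff 8504 999).mp Cfsg.Agent.Lib.Helper3.Cover.ES6U1.chk9 v (by omega) (by omega)
  rcases Nat.lt_or_ge v 10528 with h10 | h10
  · exact (data.checkRange_iff 9503 1025).mp Cfsg.Agent.Lib.Helper3.Cover.ES6U2.chk10 v (by omega) (by omega)
  rcases Nat.lt_or_ge v 11597 with h11 | h11
  · exact (data.checkRange_iff 10528 1069).mp Cfsg.Agent.Lib.Helper3.Cover.ES6U2.chk11 v (by omega) (by omega)
  rcases Nat.lt_or_ge v 12802 with h12 | h12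
  · exact (data.checkRange_iff 11597 1205).mp Cfsg.Agent.Lib.Helper3.Cover.ES6U2.chk12 v (by omega) (by omega)
  rcases Nat.lt_or_ge v 13967 with h13 | h13
  · exact (data.checkRange_iff 12802 1165).mp Cfsg.Agent.Lib.Helper3.Cover.ES6U2.chk13 v (by omega) (by omega)
  rcases Nat.lt_or_ge v 15094 with h14 | h14
  · exact (data.checkRange_iff 13967 1127).mp Cfsg.Agent.Lib.Helper3.Cover.ES6U2.chk14 v (by omega) (by omega)
  rcases Nat.lt_or_ge v 16273 with h15 | h15
  · exact (data.checkRange_iff 15094 1179).mp Cfsg.Agent.Lib.Helper3.Cover.ES6U3.chk15 v (by omega) (by omega)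
  rcases Nat.lt_or_ge v 17395 with h16 | h16
  · exact (data.checkRange_iff 16273 1122).mp Cfsg.Agent.Lib.Helper3.Cover.ES6U3.chk16 v (by omega) (by omega)
  rcases Nat.lt_or_ge v 18686 with h17 | h17
  · exact (data.checkRange_iff 17395 1291).mp Cfsg.Agent.Lib.Helper3.Cover.ES6U3.chk17 v (by omega) (by omega)
  rcases Nat.lt_or_ge v 19889 with h18 | h18
  · exact (data.checkRange_iff 18686 1203).mp Cfsg.Agent.Lib.Helper3.Cover.ES6U3.chk18 v (by omega) (by omega)
  rcases Nat.lt_or_ge v 20964 with h19 | h19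
  · exact (data.checkRange_iff 19889 1075).mp Cfsg.Agent.Lib.Helper3.Cover.ES6U3.chk19 v (by omega) (by omega)
  rcases Nat.lt_or_ge v 22088 with h20 | h20
  · exact (data.checkRange_iff 20964 1124).mp Cfsg.Agent.Lib.Helper3.Cover.ES6U4.chk20 v (by omega) (by omega)
  rcases Nat.lt_or_ge v 23241 with h21 | h21
  · exact (data.checkRange_iff 22088 1153).mp Cfsg.Agent.Lib.Helper3.Cover.ES6U4.chk21 v (by omega) (by omega)
  rcases Nat.lt_or_ge v 24408 with h22 | h22
  · exact (data.checkRange_iff 23241 1167).mp Cfsg.Agent.Lib.Helper3.Cover.ES6U4.chk22 v (by omega) (by omega)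
  rcases Nat.lt_or_ge v 25607 with h23 | h23
  · exact (data.checkRange_iff 24408 1199).mp Cfsg.Agent.Lib.Helper3.Cover.ES6U4.chk23 v (by omega) (by omega)
  rcases Nat.lt_or_ge v 26880 with h24 | h24
  · exact (data.checkRange_iff 25607 1273).mp Cfsg.Agent.Lib.Helper3.Cover.ES6U4.chk24 v (by omega) (by omega)
  rcases Nat.lt_or_ge v 28233 with h25 | h25
  · exact (data.checkRange_iff 26880 1353).mp Cfsg.Agent.Lib.Helper3.Cover.ES6U5.chk25 v (by omega) (by omega)
  rcases Nat.lt_or_ge v 29584 with h26 | h26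
  · exact (data.checkRange_iff 28233 1351).mp Cfsg.Agent.Lib.Helper3.Cover.ES6U5.chk26 v (by omega) (by omega)
  rcases Nat.lt_or_ge v 30896 with h27 | h27
  · exact (data.checkRange_iff 29584 1312).mp Cfsg.Agent.Lib.Helper3.Cover.ES6U5.chk27 v (by omega) (by omega)
  rcases Nat.lt_or_ge v 32227 with h28 | h28
  · exact (data.checkRange_iff 30896 1331).mp Cfsg.Agent.Lib.Helper3.Cover.ES6U5.chk28 v (by omega) (by omega)
  rcases Nat.lt_or_ge v 33528 with h29 | h29
  · exact (data.checkRange_iff 32227 1301).mp Cfsg.Agent.Lib.Helper3.Cover.ES6U5.chk29 v (by omega) (by omega)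
  rcases Nat.lt_or_ge v 34796 with h30 | h30
  · exact (data.checkRange_iff 33528 1268).mp Cfsg.Agent.Lib.Helper3.Cover.ES6U6.chk30 v (by omega) (by omega)
  rcases Nat.lt_or_ge v 36104 with h31 | h31
  · exact (data.checkRange_iff 34796 1308).mp Cfsg.Agent.Lib.Helper3.Cover.ES6U6.chk31 v (by omega) (by omega)
  rcases Nat.lt_or_ge v 37341 with h32 | h32
  · exact (data.checkRange_iff 36104 1237).mp Cfsg.Agent.Lib.Helper3.Cover.ES6U6.chk32 v (by omega) (by omega)
  rcases Nat.lt_or_ge v 38695 with h33 | h33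
  · exact (data.checkRange_iff 37341 1354).mp Cfsg.Agent.Lib.Helper3.Cover.ES6U6.chk33 v (by omega) (by omega)
  rcases Nat.lt_or_ge v 40170 with h34 | h34
  · exact (data.checkRange_iff 38695 1475).mp Cfsg.Agent.Lib.Helper3.Cover.ES6U6.chk34 v (by omega) (by omega)
  rcases Nat.lt_or_ge v 41503 with h35 | h35
  · exact (data.checkRange_iff 40170 1333).mp Cfsg.Agent.Lib.Helper3.Cover.ES6U7.chk35 v (by omega) (by omega)
  rcases Nat.lt_or_ge v 42728 with h36 | h36
  · exact (data.checkRange_iff 41503 1225).mp Cfsg.Agent.Lib.Helper3.Cover.ES6U7.chk36 v (by omega) (by omega)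
  rcases Nat.lt_or_ge v 43985 with h37 | h37
  · exact (data.checkRange_iff 42728 1257).mp Cfsg.Agent.Lib.Helper3.Cover.ES6U7.chk37 v (by omega) (by omega)
  rcases Nat.lt_or_ge v 45256 with h38 | h38
  · exact (data.checkRange_iff 43985 1271).mp Cfsg.Agent.Lib.Helper3.Cover.ES6U7.chk38 v (by omega) (by omega)
  rcases Nat.lt_or_ge v 46513 with h39 | h39
  · exact (data.checkRange_iff 45256 1257).mp Cfsg.Agent.Lib.Helper3.Cover.ES6U7.chk39 v (by omega) (by omega)
  rcases Nat.lt_or_ge v 47773 with h40 | h40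
  · exact (data.checkRange_iff 46513 1260).mp Cfsg.Agent.Lib.Helper3.Cover.ES6U8.chk40 v (by omega) (by omega)
  rcases Nat.lt_or_ge v 49109 with h41 | h41
  · exact (data.checkRange_iff 47773 1336).mp Cfsg.Agent.Lib.Helper3.Cover.ES6U8.chk41 v (by omega) (by omega)
  rcases Nat.lt_or_ge v 50441 with h42 | h42
  · exact (data.checkRange_iff 49109 1332).mp Cfsg.Agent.Lib.Helper3.Cover.ES6U8.chk42 v (by omega) (by omega)
  rcases Nat.lt_or_ge v 51768 with h43 | h43
  · exact (data.checkRange_iff 50441 1327).mp Cfsg.Agent.Lib.Helper3.Cover.ES6U8.chk43 v (by omega) (by omega)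
  rcases Nat.lt_or_ge v 53203 with h44 | h44
  · exact (data.checkRange_iff 51768 1435).mp Cfsg.Agent.Lib.Helper3.Cover.ES6U8.chk44 v (by omega) (by omega)
  rcases Nat.lt_or_ge v 54626 with h45 | h45
  · exact (data.checkRange_iff 53203 1423).mp Cfsg.Agent.Lib.Helper3.Cover.ES6U9.chk45 v (by omega) (by omega)
  rcases Nat.lt_or_ge v 56150 with h46 | h46
  · exact (data.checkRange_iff 54626 1524).mp Cfsg.Agent.Lib.Helper3.Cover.ES6U9.chk46 v (by omega) (by omega)
  rcases Nat.lt_or_ge v 57604 with h47 | h47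
  · exact (data.checkRange_iff 56150 1454).mp Cfsg.Agent.Lib.Helper3.Cover.ES6U9.chk47 v (by omega) (by omega)
  rcases Nat.lt_or_ge v 59007 with h48 | h48
  · exact (data.checkRange_iff 57604 1403).mp Cfsg.Agent.Lib.Helper3.Cover.ES6U9.chk48 v (by omega) (by omega)
  rcases Nat.lt_or_ge v 60502 with h49 | h49
  · exact (data.checkRange_iff 59007 1495).mp Cfsg.Agent.Lib.Helper3.Cover.ES6U9.chk49 v (by omega) (by omega)
  rcases Nat.lt_or_ge v 61959 with h50 | h50
  · exact (data.checkRange_iff 60502 1457).mp Cfsg.Agent.Lib.Helper3.Cover.ES6U10.chk50 v (by omega) (by omega)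
  rcases Nat.lt_or_ge v 63350 with h51 | h51
  · exact (data.checkRange_iff 61959 1391).mp Cfsg.Agent.Lib.Helper3.Cover.ES6U10.chk51 v (by omega) (by omega)
  rcases Nat.lt_or_ge v 64822 with h52 | h52
  · exact (data.checkRange_iff 63350 1472).mp Cfsg.Agent.Lib.Helper3.Cover.ES6U10.chk52 v (by omega) (by omega)
  rcases Nat.lt_or_ge v 66249 with h53 | h53
  · exact (data.checkRange_iff 64822 1427).mp Cfsg.Agent.Lib.Helper3.Cover.ES6U10.chk53 v (by omega) (by omega)
  rcases Nat.lt_or_ge v 67667 with h54 | h54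
  · exact (data.checkRange_iff 66249 1418).mp Cfsg.Agent.Lib.Helper3.Cover.ES6U10.chk54 v (by omega) (by omega)
  rcases Nat.lt_or_ge v 69192 with h55 | h55
  · exact (data.checkRange_iff 67667 1525).mp Cfsg.Agent.Lib.Helper3.Cover.ES6U11.chk55 v (by omega) (by omega)
  rcases Nat.lt_or_ge v 70796 with h56 | h56
  · exact (data.checkRange_iff 69192 1604).mp Cfsg.Agent.Lib.Helper3.Cover.ES6U11.chk56 v (by omega) (by omega)
  rcases Nat.lt_or_ge v 72172 with h57 | h57
  · exact (data.checkRange_iff 70796 1376).mp Cfsg.Agent.Lib.Helper3.Cover.ES6U11.chk57 v (by omega) (by omega)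
  rcases Nat.lt_or_ge v 73601 with h58 | h58
  · exact (data.checkRange_iff 72172 1429).mp Cfsg.Agent.Lib.Helper3.Cover.ES6U11.chk58 v (by omega) (by omega)
  rcases Nat.lt_or_ge v 74881 with h59 | h59
  · exact (data.checkRange_iff 73601 1280).mp Cfsg.Agent.Lib.Helper3.Cover.ES6U11.chk59 v (by omega) (by omega)
  rcases Nat.lt_or_ge v 76302 with h60 | h60
  · exact (data.checkRange_iff 74881 1421).mp Cfsg.Agent.Lib.Helper3.Cover.ES6U12.chk60 v (by omega) (by omega)
  rcases Nat.lt_or_ge v 77717 with h61 | h61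
  · exact (data.checkRange_iff 76302 1415).mp Cfsg.Agent.Lib.Helper3.Cover.ES6U12.chk61 v (by omega) (by omega)
  rcases Nat.lt_or_ge v 79015 with h62 | h62
  · exact (data.checkRange_iff 77717 1298).mp Cfsg.Agent.Lib.Helper3.Cover.ES6U12.chk62 v (by omega) (by omega)
  rcases Nat.lt_or_ge v 80441 with h63 | h63
  · exact (data.checkRange_iff 79015 1426).mp Cfsg.Agent.Lib.Helper3.Cover.ES6U12.chk63 v (by omega) (by omega)
  rcases Nat.lt_or_ge v 81879 with h64 | h64
  · exact (data.checkRange_iff 80441 1438).mp Cfsg.Agent.Lib.Helper3.Cover.ES6U12.chk64 v (by omega) (by omega)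
  rcases Nat.lt_or_ge v 83333 with h65 | h65
  · exact (data.checkRange_iff 81879 1454).mp Cfsg.Agent.Lib.Helper3.Cover.ES6U13.chk65 v (by omega) (by omega)
  rcases Nat.lt_or_ge v 84818 with h66 | h66
  · exact (data.checkRange_iff 83333 1485).mp Cfsg.Agent.Lib.Helper3.Cover.ES6U13.chk66 v (by omega) (by omega)
  rcases Nat.lt_or_ge v 86293 with h67 | h67
  · exact (data.checkRange_iff 84818 1475).mp Cfsg.Agent.Lib.Helper3.Cover.ES6U13.chk67 v (by omega) (by omega)
  rcases Nat.lt_or_ge v 87775 with h68 | h68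
  · exact (data.checkRange_iff 86293 1482).mp Cfsg.Agent.Lib.Helper3.Cover.ES6U13.chk68 v (by omega) (by omega)
  rcases Nat.lt_or_ge v 89319 with h69 | h69
  · exact (data.checkRange_iff 87775 1544).mp Cfsg.Agent.Lib.Helper3.Cover.ES6U13.chk69 v (by omega) (by omega)
  rcases Nat.lt_or_ge v 90951 with h70 | h70
  · exact (data.checkRange_iff 89319 1632).mp Cfsg.Agent.Lib.Helper3.Cover.ES6U14.chk70 v (by omega) (by omega)
  rcases Nat.lt_or_ge v 92522 with h71 | h71
  · exact (data.checkRange_iff 90951 1571).mp Cfsg.Agent.Lib.Helper3.Cover.ES6U14.chk71 v (by omega) (by omega)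
  rcases Nat.lt_or_ge v 94016 with h72 | h72
  · exact (data.checkRange_iff 92522 1494).mp Cfsg.Agent.Lib.Helper3.Cover.ES6U14.chk72 v (by omega) (by omega)
  rcases Nat.lt_or_ge v 95603 with h73 | h73
  · exact (data.checkRange_iff 94016 1587).mp Cfsg.Agent.Lib.Helper3.Cover.ES6U14.chk73 v (by omega) (by omega)
  rcases Nat.lt_or_ge v 97183 with h74 | h74
  · exact (data.checkRange_iff 95603 1580).mp Cfsg.Agent.Lib.Helper3.Cover.ES6U14.chk74 v (by omega) (by omega)
  rcases Nat.lt_or_ge v 98713 with h75 | h75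
  · exact (data.checkRange_iff 97183 1530).mp Cfsg.Agent.Lib.Helper3.Cover.ES6U15.chk75 v (by omega) (by omega)
  rcases Nat.lt_or_ge v 100301 with h76 | h76
  · exact (data.checkRange_iff 98713 1588).mp Cfsg.Agent.Lib.Helper3.Cover.ES6U15.chk76 v (by omega) (by omega)
  rcases Nat.lt_or_ge v 101823 with h77 | h77
  · exact (data.checkRange_iff 100301 1522).mp Cfsg.Agent.Lib.Helper3.Cover.ES6U15.chk77 v (by omega) (by omega)
  rcases Nat.lt_or_ge v 103381 with h78 | h78
  · exact (data.checkRange_iff 101823 1558).mp Cfsg.Agent.Lib.Helper3.Cover.ES6U15.chk78 v (by omega) (by omega)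
  rcases Nat.lt_or_ge v 105023 with h79 | h79
  · exact (data.checkRange_iff 103381 1642).mp Cfsg.Agent.Lib.Helper3.Cover.ES6U15.chk79 v (by omega) (by omega)
  rcases Nat.lt_or_ge v 106569 with h80 | h80
  · exact (data.checkRange_iff 105023 1546).mp Cfsg.Agent.Lib.Helper3.Cover.ES6U16.chk80 v (by omega) (by omega)
  rcases Nat.lt_or_ge v 108147 with h81 | h81
  · exact (data.checkRange_iff 106569 1578).mp Cfsg.Agent.Lib.Helper3.Cover.ES6U16.chk81 v (by omega) (by omega)
  rcases Nat.lt_or_ge v 109604 with h82 | h82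
  · exact (data.checkRange_iff 108147 1457).mp Cfsg.Agent.Lib.Helper3.Cover.ES6U16.chk82 v (by omega) (by omega)
  rcases Nat.lt_or_ge v 111139 with h83 | h83
  · exact (data.checkRange_iff 109604 1535).mp Cfsg.Agent.Lib.Helper3.Cover.ES6U16.chk83 v (by omega) (by omega)
  rcases Nat.lt_or_ge v 112673 with h84 | h84
  · exact (data.checkRange_iff 111139 1534).mp Cfsg.Agent.Lib.Helper3.Cover.ES6U16.chk84 v (by omega) (by omega)
  rcases Nat.lt_or_ge v 114244 with h85 | h85
  · exact (data.checkRange_iff 112673 1571).mp Cfsg.Agent.Lib.Helper3.Cover.ES6U17.chk85 v (by omega) (by omega)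
  rcases Nat.lt_or_ge v 115646 with h86 | h86
  · exact (data.checkRange_iff 114244 1402).mp Cfsg.Agent.Lib.Helper3.Cover.ES6U17.chk86 v (by omega) (by omega)
  rcases Nat.lt_or_ge v 117234 with h87 | h87
  · exact (data.checkRange_iff 115646 1588).mp Cfsg.Agent.Lib.Helper3.Cover.ES6U17.chk87 v (by omega) (by omega)
  rcases Nat.lt_or_ge v 118813 with h88 | h88
  · exact (data.checkRange_iff 117234 1579).mp Cfsg.Agent.Lib.Helper3.Cover.ES6U17.chk88 v (by omega) (by omega)
  rcases Nat.lt_or_ge v 120426 with h89 | h89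
  · exact (data.checkRange_iff 118813 1613).mp Cfsg.Agent.Lib.Helper3.Cover.ES6U17.chk89 v (by omega) (by omega)
  rcases Nat.lt_or_ge v 122111 with h90 | h90
  · exact (data.checkRange_iff 120426 1685).mp Cfsg.Agent.Lib.Helper3.Cover.ES6U18.chk90 v (by omega) (by omega)
  rcases Nat.lt_or_ge v 123696 with h91 | h91
  · exact (data.checkRange_iff 122111 1585).mp Cfsg.Agent.Lib.Helper3.Cover.ES6U18.chk91 v (by omega) (by omega)
  rcases Nat.lt_or_ge v 125391 with h92 | h92
  · exact (data.checkRange_iff 123696 1695).mp Cfsg.Agent.Lib.Helper3.Cover.ES6U18.chk92 v (by omega) (by omega)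
  rcases Nat.lt_or_ge v 127077 with h93 | h93
  · exact (data.checkRange_iff 125391 1686).mp Cfsg.Agent.Lib.Helper3.Cover.ES6U18.chk93 v (by omega) (by omega)
  rcases Nat.lt_or_ge v 128740 with h94 | h94
  · exact (data.checkRange_iff 127077 1663).mp Cfsg.Agent.Lib.Helper3.Cover.ES6U18.chk94 v (by omega) (by omega)
  rcases Nat.lt_or_ge v 130435 with h95 | h95
  · exact (data.checkRange_iff 128740 1695).mp Cfsg.Agent.Lib.Helper3.Cover.ES6U19.chk95 v (by omega) (by omega)
  rcases Nat.lt_or_ge v 132093 with h96 | h96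
  · exact (data.checkRange_iff 130435 1658).mp Cfsg.Agent.Lib.Helper3.Cover.ES6U19.chk96 v (by omega) (by omega)
  rcases Nat.lt_or_ge v 133792 with h97 | h97
  · exact (data.checkRange_iff 132093 1699).mp Cfsg.Agent.Lib.Helper3.Cover.ES6U19.chk97 v (by omega) (by omega)
  rcases Nat.lt_or_ge v 135527 with h98 | h98
  · exact (data.checkRange_iff 133792 1735).mp Cfsg.Agent.Lib.Helper3.Cover.ES6U19.chk98 v (by omega) (by omega)
  rcases Nat.lt_or_ge v 137248 with h99 | h99
  · exact (data.checkRange_iff 135527 1721).mp Cfsg.Agent.Lib.Helper3.Cover.ES6U19.chk99 v (by omega) (by omega)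
  rcases Nat.lt_or_ge v 138930 with h100 | h100
  · exact (data.checkRange_iff 137248 1682).mp Cfsg.Agent.Lib.Helper3.Cover.ES6U20.chk100 v (by omega) (by omega)
  rcases Nat.lt_or_ge v 140542 with h101 | h101
  · exact (data.checkRange_iff 138930 1612).mp Cfsg.Agent.Lib.Helper3.Cover.ES6U20.chk101 v (by omega) (by omega)
  rcases Nat.lt_or_ge v 142256 with h102 | h102
  · exact (data.checkRange_iff 140542 1714).mp Cfsg.Agent.Lib.Helper3.Cover.ES6U20.chk102 v (by omega) (by omega)
  rcases Nat.lt_or_ge v 143976 with h103 | h103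
  · exact (data.checkRange_iff 142256 1720).mp Cfsg.Agent.Lib.Helper3.Cover.ES6U20.chk103 v (by omega) (by omega)
  rcases Nat.lt_or_ge v 145615 with h104 | h104
  · exact (data.checkRange_iff 143976 1639).mp Cfsg.Agent.Lib.Helper3.Cover.ES6U20.chk104 v (by omega) (by omega)
  rcases Nat.lt_or_ge v 147305 with h105 | h105
  · exact (data.checkRange_iff 145615 1690).mp Cfsg.Agent.Lib.Helper3.Cover.ES6U21.chk105 v (by omega) (by omega)
  rcases Nat.lt_or_ge v 149064 with h106 | h106
  · exact (data.checkRange_iff 147305 1759).mp Cfsg.Agent.Lib.Helper3.Cover.ES6U21.chk106 v (by omega) (by omega)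
  rcases Nat.lt_or_ge v 150859 with h107 | h107
  · exact (data.checkRange_iff 149064 1795).mp Cfsg.Agent.Lib.Helper3.Cover.ES6U21.chk107 v (by omega) (by omega)
  rcases Nat.lt_or_ge v 152702 with h108 | h108
  · exact (data.checkRange_iff 150859 1843).mp Cfsg.Agent.Lib.Helper3.Cover.ES6U21.chk108 v (by omega) (by omega)
  rcases Nat.lt_or_ge v 154567 with h109 | h109
  · exact (data.checkRange_iff 152702 1865).mp Cfsg.Agent.Lib.Helper3.Cover.ES6U21.chk109 v (by omega) (by omega)
  rcases Nat.lt_or_ge v 156398 with h110 | h110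
  · exact (data.checkRange_iff 154567 1831).mp Cfsg.Agent.Lib.Helper3.Cover.ES6U22.chk110 v (by omega) (by omega)
  rcases Nat.lt_or_ge v 158244 with h111 | h111
  · exact (data.checkRange_iff 156398 1846).mp Cfsg.Agent.Lib.Helper3.Cover.ES6U22.chk111 v (by omega) (by omega)
  exact (data.checkRange_iff 158244 538).mp Cfsg.Agent.Lib.Helper3.Cover.ES6U22.chk112 v (by omega) (by omega)

theorem hrows : ∀ v, v < data.N → Data.rowOK data v = true := by
  intro v hv
  have hv' : v < 158782 := hv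
  rcases Nat.lt_or_ge v 6000 with h0 | h0
  · exact (Data.finalRange_iff data 0 6000).mp Cfsg.Agent.Lib.Helper3.Cover.ES6M0.fin0 v (by omega) (by omega)
  rcases Nat.lt_or_ge v 12000 with h1 | h1
  · exact (Data.finalRange_iff data 6000 6000).mp Cfsg.Agent.Lib.Helper3.Cover.ES6M0.fin1 v (by omega) (by omega)
  rcases Nat.lt_or_ge v 18000 with h2 | h2
  · exact (Data.finalRange_iff data 12000 6000).mp Cfsg.Agent.Lib.Helper3.Cover.ES6M0.fin2 v (by omega) (by omega)
  rcases Nat.lt_or_ge v 24000 with h3 | h3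
  · exact (Data.finalRange_iff data 18000 6000).mp Cfsg.Agent.Lib.Helper3.Cover.ES6M0.fin3 v (by omega) (by omega)
  rcases Nat.lt_or_ge v 30000 with h4 | h4
  · exact (Data.finalRange_iff data 24000 6000).mp Cfsg.Agent.Lib.Helper3.Cover.ES6M0.fin4 v (by omega) (by omega)
  rcases Nat.lt_or_ge v 36000 with h5 | h5
  · exact (Data.finalRange_iff data 30000 6000).mp Cfsg.Agent.Lib.Helper3.Cover.ES6M1.fin5 v (by omega) (by omega)
  rcases Nat.lt_or_ge v 42000 with h6 | h6
  · exact (Data.finalRange_iff data 36000 6000).mp Cfsg.Agent.Lib.Helper3.Cover.ES6M1.fin6 v (by omega) (by omega)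
  rcases Nat.lt_or_ge v 48000 with h7 | h7
  · exact (Data.finalRange_iff data 42000 6000).mp Cfsg.Agent.Lib.Helper3.Cover.ES6M1.fin7 v (by omega) (by omega)
  rcases Nat.lt_or_ge v 54000 with h8 | h8
  · exact (Data.finalRange_iff data 48000 6000).mp Cfsg.Agent.Lib.Helper3.Cover.ES6M1.fin8 v (by omega) (by omega)
  rcases Nat.lt_or_ge v 60000 with h9 | h9
  · exact (Data.finalRange_iff data 54000 6000).mp Cfsg.Agent.Lib.Helper3.Cover.ES6M1.fin9 v (by omega) (by omega)
  rcases Nat.lt_or_ge v 66000 with h10 | h10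
  · exact (Data.finalRange_iff data 60000 6000).mp Cfsg.Agent.Lib.Helper3.Cover.ES6M2.fin10 v (by omega) (by omega)
  rcases Nat.lt_or_ge v 72000 with h11 | h11
  · exact (Data.finalRange_iff data 66000 6000).mp Cfsg.Agent.Lib.Helper3.Cover.ES6M2.fin11 v (by omega) (by omega)
  rcases Nat.lt_or_ge v 78000 with h12 | h12
  · exact (Data.finalRange_iff data 72000 6000).mp Cfsg.Agent.Lib.Helper3.Cover.ES6M2.fin12 v (by omega) (by omega)
  rcases Nat.lt_or_ge v 84000 with h13 | h13
  · exact (Data.finalRange_iff data 78000 6000).mp Cfsg.Agent.Lib.Helper3.Cover.ES6M2.fin13 v (by omega) (by omega)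
  rcases Nat.lt_or_ge v 90000 with h14 | h14
  · exact (Data.finalRange_iff data 84000 6000).mp Cfsg.Agent.Lib.Helper3.Cover.ES6M2.fin14 v (by omega) (by omega)
  rcases Nat.lt_or_ge v 96000 with h15 | h15
  · exact (Data.finalRange_iff data 90000 6000).mp Cfsg.Agent.Lib.Helper3.Cover.ES6M3.fin15 v (by omega) (by omega)
  rcases Nat.lt_or_ge v 102000 with h16 | h16
  · exact (Data.finalRange_iff data 96000 6000).mp Cfsg.Agent.Lib.Helper3.Cover.ES6M3.fin16 v (by omega) (by omega)
  rcases Nat.lt_or_ge v 108000 with h17 | h17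
  · exact (Data.finalRange_iff data 102000 6000).mp Cfsg.Agent.Lib.Helper3.Cover.ES6M3.fin17 v (by omega) (by omega)
  rcases Nat.lt_or_ge v 114000 with h18 | h18
  · exact (Data.finalRange_iff data 108000 6000).mp Cfsg.Agent.Lib.Helper3.Cover.ES6M3.fin18 v (by omega) (by omega)
  rcases Nat.lt_or_ge v 120000 with h19 | h19
  · exact (Data.finalRange_iff data 114000 6000).mp Cfsg.Agent.Lib.Helper3.Cover.ES6M3.fin19 v (by omega) (by omega)
  rcases Nat.lt_or_ge v 126000 with h20 | h20
  · exact (Data.finalRange_iff data 120000 6000).mp Cfsg.Agent.Lib.Helper3.Cover.ES6M4.fin20 v (by omega) (by omega)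
  rcases Nat.lt_or_ge v 132000 with h21 | h21
  · exact (Data.finalRange_iff data 126000 6000).mp Cfsg.Agent.Lib.Helper3.Cover.ES6M4.fin21 v (by omega) (by omega)
  rcases Nat.lt_or_ge v 138000 with h22 | h22
  · exact (Data.finalRange_iff data 132000 6000).mp Cfsg.Agent.Lib.Helper3.Cover.ES6M4.fin22 v (by omega) (by omega)
  rcases Nat.lt_or_ge v 144000 with h23 | h23
  · exact (Data.finalRange_iff data 138000 6000).mp Cfsg.Agent.Lib.Helper3.Cover.ES6M4.fin23 v (by omega) (by omega)
  rcases Nat.lt_or_ge v 150000 with h24 | h24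
  · exact (Data.finalRange_iff data 144000 6000).mp Cfsg.Agent.Lib.Helper3.Cover.ES6M4.fin24 v (by omega) (by omega)
  rcases Nat.lt_or_ge v 156000 with h25 | h25
  · exact (Data.finalRange_iff data 150000 6000).mp Cfsg.Agent.Lib.Helper3.Cover.ES6M5.fin25 v (by omega) (by omega)
  exact (Data.finalRange_iff data 156000 2782).mp Cfsg.Agent.Lib.Helper3.Cover.ES6M5.fin26 v (by omega) (by omega)

theorem hfin : data.finalOK = true := Data.finalOK_of_rows data hlive0 (by decide) hrows

theorem pc0 : Data.countFrom data 0 6000 = 446 := Cfsg.Agent.Lib.Helper3.Cover.ES6M5.cnt0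
theorem pc1 : Data.countFrom data 0 12000 = 462 := Data.countFrom_step data pc0 Cfsg.Agent.Lib.Helper3.Cover.ES6M5.cnt1 (by norm_num) (by norm_num)
theorem pc2 : Data.countFrom data 0 18000 = 474 := Data.countFrom_step data pc1 Cfsg.Agent.Lib.Helper3.Cover.ES6M5.cnt2 (by norm_num) (by norm_num)
theorem pc3 : Data.countFrom data 0 24000 = 474 := Data.countFrom_step data pc2 Cfsg.Agent.Lib.Helper3.Cover.ES6M6.cnt3 (by norm_num) (by norm_num)
theorem pc4 : Data.countFrom data 0 30000 = 478 := Data.countFrom_step data pc3 Cfsg.Agent.Lib.Helper3.Cover.ES6M6.cnt4 (by norm_num) (by norm_num)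
theorem pc5 : Data.countFrom data 0 36000 = 480 := Data.countFrom_step data pc4 Cfsg.Agent.Lib.Helper3.Cover.ES6M6.cnt5 (by norm_num) (by norm_num)
theorem pc6 : Data.countFrom data 0 42000 = 480 := Data.countFrom_step data pc5 Cfsg.Agent.Lib.Helper3.Cover.ES6M6.cnt6 (by norm_num) (by norm_num)
theorem pc7 : Data.countFrom data 0 48000 = 480 := Data.countFrom_step data pc6 Cfsg.Agent.Lib.Helper3.Cover.ES6M6.cnt7 (by norm_num) (by norm_num)
theorem pc8 : Data.countFrom data 0 54000 = 480 := Data.countFrom_step data pc7 Cfsg.Agent.Lib.Helper3.Cover.ES6M7.cnt8 (by norm_num) (by norm_num)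
theorem pc9 : Data.countFrom data 0 60000 = 480 := Data.countFrom_step data pc8 Cfsg.Agent.Lib.Helper3.Cover.ES6M7.cnt9 (by norm_num) (by norm_num)
theorem pc10 : Data.countFrom data 0 66000 = 480 := Data.countFrom_step data pc9 Cfsg.Agent.Lib.Helper3.Cover.ES6M7.cnt10 (by norm_num) (by norm_num)
theorem pc11 : Data.countFrom data 0 72000 = 480 := Data.countFrom_step data pc10 Cfsg.Agent.Lib.Helper3.Cover.ES6M7.cnt11 (by norm_num) (by norm_num)
theorem pc12 : Data.countFrom data 0 78000 = 480 := Data.countFrom_step data pc11 Cfsg.Agent.Lib.Helper3.Cover.ES6M7.cnt12 (by norm_num) (by norm_num)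
theorem pc13 : Data.countFrom data 0 84000 = 480 := Data.countFrom_step data pc12 Cfsg.Agent.Lib.Helper3.Cover.ES6M8.cnt13 (by norm_num) (by norm_num)
theorem pc14 : Data.countFrom data 0 90000 = 480 := Data.countFrom_step data pc13 Cfsg.Agent.Lib.Helper3.Cover.ES6M8.cnt14 (by norm_num) (by norm_num)
theorem pc15 : Data.countFrom data 0 96000 = 480 := Data.countFrom_step data pc14 Cfsg.Agent.Lib.Helper3.Cover.ES6M8.cnt15 (by norm_num) (by norm_num)
theorem pc16 : Data.countFrom data 0 102000 = 480 := Data.countFrom_step data pc15 Cfsg.Agent.Lib.Helper3.Cover.ES6M8.cnt16 (by norm_num) (by norm_num)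
theorem pc17 : Data.countFrom data 0 108000 = 480 := Data.countFrom_step data pc16 Cfsg.Agent.Lib.Helper3.Cover.ES6M8.cnt17 (by norm_num) (by norm_num)
theorem pc18 : Data.countFrom data 0 114000 = 480 := Data.countFrom_step data pc17 Cfsg.Agent.Lib.Helper3.Cover.ES6M9.cnt18 (by norm_num) (by norm_num)
theorem pc19 : Data.countFrom data 0 120000 = 480 := Data.countFrom_step data pc18 Cfsg.Agent.Lib.Helper3.Cover.ES6M9.cnt19 (by norm_num) (by norm_num)
theorem pc20 : Data.countFrom data 0 126000 = 480 := Data.countFrom_step data pc19 Cfsg.Agent.Lib.Helper3.Cover.ES6M9.cnt20 (by norm_num) (by norm_num)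
theorem pc21 : Data.countFrom data 0 132000 = 480 := Data.countFrom_step data pc20 Cfsg.Agent.Lib.Helper3.Cover.ES6M9.cnt21 (by norm_num) (by norm_num)
theorem pc22 : Data.countFrom data 0 138000 = 480 := Data.countFrom_step data pc21 Cfsg.Agent.Lib.Helper3.Cover.ES6M9.cnt22 (by norm_num) (by norm_num)
theorem pc23 : Data.countFrom data 0 144000 = 480 := Data.countFrom_step data pc22 Cfsg.Agent.Lib.Helper3.Cover.ES6M10.cnt23 (by norm_num) (by norm_num)
theorem pc24 : Data.countFrom data 0 150000 = 480 := Data.countFrom_step data pc23 Cfsg.Agent.Lib.Helper3.Cover.ES6M10.cnt24 (by norm_num) (by norm_num)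
theorem pc25 : Data.countFrom data 0 156000 = 480 := Data.countFrom_step data pc24 Cfsg.Agent.Lib.Helper3.Cover.ES6M10.cnt25 (by norm_num) (by norm_num)
theorem pc26 : Data.countFrom data 0 158782 = 480 := Data.countFrom_step data pc25 Cfsg.Agent.Lib.Helper3.Cover.ES6M10.cnt26 (by norm_num) (by norm_num)

theorem hcount : data.countLive = table.n := by
  rw [Data.countLive_eq]
  exact pc26

theorem hpermAll : ∀ p, p < table.n → Table.permRow table p = true := by
  intro p hv
  have hv' : p < 480 := hv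
  exact (Table.permRange_iff table 0 480).mp Cfsg.Agent.Lib.Helper3.Cover.ES6M10.prm0 p (by omega) (by omega)

theorem hT : table.OK := Table.ok_of_rows table hinvOK hpermAll

theorem htreeAll : ∀ i, i < Nat.pred table.n → Table.treeRow table i = true := by
  intro p hv
  have hv' : p < 479 := hv
  exact (Table.treeRange_iff table 0 479).mp Cfsg.Agent.Lib.Helper3.Cover.ES6M11.tre0 p (by omega) (by omega)

theorem htree : table.treeOK = true := Table.treeOK_of_rows table htreeAll

theorem hchkT : ∀ P ∈ chkPaths, ∀ p, p < table.n → table.walkT P p = p := by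
  intro P hm p hv
  have hv' : p < 480 := hv
  exact (Table.relOK_iff chkPaths 0 480).mp Cfsg.Agent.Lib.Helper3.Cover.ES6L0.rel0 p (by omega) (by omega) _ hm

theorem hrelT : ∀ L ∈ relWords, ∀ p, p < table.n → table.walkT (pathOf lw L) p = p :=
  fun L hL => Table.fix_of_covered hT chkPaths hchkT _ (hcov _ (hrelmem L hL)).1 (hcov _ (hrelmem L hL)).2

theorem hsubT : ∀ L ∈ subWords, table.walkT (pathOf lw L) 0 = 0 :=
  fun L hL => (Table.subOK_iff subPaths).mp hsub0 _ (hsubmem L hL)

theorem hn : 0 < table.n := by decide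

theorem main : ((Subgroup.closure S).map (PresentedGroup.mk rels)).index = table.n ∧
    ∃ φ : PresentedGroup rels →* Equiv.Perm (Fin table.n),
      (∀ x, φ (PresentedGroup.of x) = Table.sigma hT (lw (x, true))) ∧
      ∃ f : PresentedGroup rels ⧸ (Subgroup.closure S).map (PresentedGroup.mk rels) → Fin table.n,
        Function.Bijective f ∧ (∀ g q, f (g • q) = φ g (f q)) ∧ f (QuotientGroup.mk 1) = ⟨0, hn⟩ :=
  index_eq link hchk hfin hcount hT hn hrelT hsubT htree

end Cfsg.Agent.Lib.Helper3.Cover.ES6Main
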