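import Cfsg.Agent.Lib.Helper28.TC2Upper
import Cfsg.Agent.Lib.Helper3.Cover.EU3DataC0
import Cfsg.Agent.Lib.Helper3.Cover.EU3DataC1
import Cfsg.Agent.Lib.Helper3.Cover.EU3DataC2
import Cfsg.Agent.Lib.Helper3.Cover.EU3DataC3
import Cfsg.Agent.Lib.Helper3.Cover.EU3DataC4
import Cfsg.Agent.Lib.Helper3.Cover.EU3DataC5
set_option autoImplicit false
set_option maxRecDepth 100000

namespace Cfsg.Agent.Lib.Helper3.Cover.EU3Data
open Cfsg.Agent.Lib.Helper28.TC2Upper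

/-- relators -/
def relT : BT (ℕ × List ℕ × List ℕ) := (BT.node 5 (BT.node 2 (BT.node 1 (BT.node 0 (BT.leaf (6, [1, 1, 1, 0, 0, 0], [1, 1, 1, 0, 0, 0])) (BT.leaf (6, [3, 1, 1, 2, 0, 0], [1, 1, 3, 0, 0, 2]))) (BT.leaf (14, [1, 3, 3, 3, 3, 3, 3, 0, 2, 2, 2, 2, 2, 2], [3, 3, 3, 3, 3, 3, 1, 2, 2, 2, 2, 2, 2, 0]))) (BT.node 4 (BT.node 3 (BT.leaf (14, [3, 3, 3, 3, 3, 3, 3, 2, 2, 2, 2, 2, 2, 2], [3, 3, 3, 3, 3, 3, 3, 2, 2, 2, 2, 2, 2, 2])) (BT.leaf (30, [1, 1, 3, 1, 3, 1, 3, 1, 3, 1, 3, 1, 3, 1, 3, 0, 2, 0, 2, 0, 2, 0, 2, 0, 2, 0, 2, 0, 2, 0], [1, 3, 1, 3, 1, 3, 1, 3, 1, 3, 1, 3, 1, 3, 1, 2, 0, 2, 0, 2, 0, 2, 0, 2, 0, 2, 0, 2, 0, 0]))) (BT.leaf (30, [3, 1, 3, 1, 3, 1, 3, 1, 3, 1, 3, 1, 3, 1, 3, 2, 2, 0, 2, 0, 2, 0, 2, 0, 2, 0, 2, 0, 2, 0], [1, 3, 1, 3, 1, 3, 1, 3, 1, 3, 1, 3, 1, 3, 3, 2, 0, 2, 0, 2, 0, 2, 0, 2, 0, 2, 0, 2, 0, 2])))) (BT.node 8 (BT.node 7 (BT.node 6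 (BT.leaf (38, [1, 2, 2, 1, 2, 2, 1, 2, 2, 1, 3, 3, 1, 3, 3, 1, 3, 3, 1, 0, 0, 2, 2, 0, 2, 2, 0, 2, 2, 0, 3, 3, 0, 3, 3, 0, 3, 3], [2, 2, 1, 2, 2, 1, 2, 2, 1, 3, 3, 1, 3, 3, 1, 3, 3, 1, 1, 0, 2, 2, 0, 2, 2, 0, 2, 2, 0, 3, 3, 0, 3, 3, 0, 3, 3, 0])) (BT.leaf (38, [3, 2, 2, 1, 2, 2, 1, 2, 2, 1, 3, 3, 1, 3, 3, 1, 3, 3, 1, 2, 0, 2, 2, 0, 2, 2, 0, 2, 2, 0, 3, 3, 0, 3, 3, 0, 3, 3], [2, 2, 1, 2, 2, 1, 2, 2, 1, 3, 3, 1, 3, 3, 1, 3, 3, 1, 3, 0, 2, 2, 0, 2, 2, 0, 2, 2, 0, 3, 3, 0, 3, 3, 0, 3, 3, 2]))) (BT.leaf (44, [1, 2, 2, 1, 3, 1, 2, 2, 1, 3, 1, 2, 2, 1, 3, 1, 2, 1, 2, 1, 3, 1, 0, 0, 2, 0, 3, 0, 3, 0, 2, 0, 3, 3, 0, 2, 0, 3, 3, 0, 2, 0, 3, 3], [2, 2, 1, 3, 1, 2, 2, 1, 3, 1, 2, 2, 1, 3, 1, 2, 1, 2, 1, 3, 1, 1, 0, 2, 0, 3, 0, 3, 0, 2, 0, 3, 3, 0, 2, 0, 3, 3, 0, 2, 0, 3, 3, 0]))) (BT.node 10 (BT.node 9 (BT.leaf (44, [3, 2, 2, 1, 3, 1, 2, 2, 1, 3, 1, 2, 2, 1, 3, 1, 2, 1, 2,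 1, 3, 1, 2, 0, 2, 0, 3, 0, 3, 0, 2, 0, 3, 3, 0, 2, 0, 3, 3, 0, 2, 0, 3, 3], [2, 2, 1, 3, 1, 2, 2, 1, 3, 1, 2, 2, 1, 3, 1, 2, 1, 2, 1, 3, 1, 3, 0, 2, 0, 3, 0, 3, 0, 2, 0, 3, 3, 0, 2, 0, 3, 3, 0, 2, 0, 3, 3, 2])) (BT.leaf (85, [0, 2, 0, 3, 0, 3, 0, 2, 0, 3, 3, 0, 2, 0, 3, 3, 0, 2, 0, 3, 3, 0, 2, 2, 0, 2, 2, 0, 2, 2, 0, 3, 3, 0, 3, 3, 0, 3, 3, 1, 3, 1, 3, 1, 3, 1, 3, 1, 3, 1, 3, 1, 3, 1, 3, 1, 3, 1, 3, 1, 3, 1, 3, 1, 3, 1, 3, 2, 2, 2, 2, 2, 2, 2, 2, 2, 2, 2, 2, 2, 2, 2, 2, 2, 2], [3, 3, 3, 3, 3, 3, 3, 3, 3, 3, 3, 3, 3, 3, 3, 3, 3, 3, 2, 0, 2, 0, 2, 0, 2, 0, 2, 0, 2, 0, 2, 0, 2, 0, 2, 0, 2, 0, 2, 0, 2, 0, 2, 0, 2, 0, 2, 2, 1, 2, 2, 1, 2, 2, 1, 3, 3, 1, 3, 3, 1, 3, 3, 1, 2, 2, 1, 3, 1, 2, 2, 1, 3, 1, 2, 2, 1, 3, 1, 2, 1, 2, 1, 3, 1]))) (BT.leaf (49, [0, 2, 0, 3, 0, 3, 0, 2, 0, 3, 3, 0, 2, 0, 3, 3, 0, 2, 0, 3, 3, 1, 3, 1, 3, 1, 3, 1, 3, 1, 3, 1, 3, 1, 3, 2, 2, 2, 2,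 2, 2, 2, 2, 2, 2, 2, 2, 1, 1], [0, 0, 3, 3, 3, 3, 3, 3, 3, 3, 3, 3, 3, 3, 2, 0, 2, 0, 2, 0, 2, 0, 2, 0, 2, 0, 2, 0, 2, 2, 1, 3, 1, 2, 2, 1, 3, 1, 2, 2, 1, 3, 1, 2, 1, 2, 1, 3, 1])))))
/-- subgroup generators -/
def subT : BT (ℕ × List ℕ × List ℕ) := (BT.leaf (0, [], []))
/-- fact chunks -/
def colET : BT ℕ := (BT.node 1032 (BT.node 516 (BT.node 258 (BT.node 129 (BT.node 64 (BT.node 32 (BT.node 16 (BT.node 8 (BT.node 4 (BT.node 2 (BT.node 1 (BT.node 0 (BT.leaf cE0) (BT.leaf cE1)) (BT.leaf cE2)) (BT.node 3 (BT.leaf cE3) (BT.leaf cE4))) (BT.node 6 (BT.node 5 (BT.leaf cE5) (BT.leaf cE6)) (BT.node 7 (BT.leaf cE7) (BT.leaf cE8)))) (BT.node 12 (BT.node 10 (BT.node 9 (BT.leaf cE9) (BT.leaf cE10)) (BT.node 11 (BT.leaf cE11) (BT.leaf cE12))) (BT.node 14 (BT.node 13 (BT.leaf cE13) (BT.leaf cE14)) (BT.node 15 (BT.leaf cE15) (BT.leaf cE16))))) (BT.node 24 (BT.node 20 (BT.node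 18 (BT.node 17 (BT.leaf cE17) (BT.leaf cE18)) (BT.node 19 (BT.leaf cE19) (BT.leaf cE20))) (BT.node 22 (BT.node 21 (BT.leaf cE21) (BT.leaf cE22)) (BT.node 23 (BT.leaf cE23) (BT.leaf cE24)))) (BT.node 28 (BT.node 26 (BT.node 25 (BT.leaf cE25) (BT.leaf cE26)) (BT.node 27 (BT.leaf cE27) (BT.leaf cE28))) (BT.node 30 (BT.node 29 (BT.leaf cE29) (BT.leaf cE30)) (BT.node 31 (BT.leaf cE31) (BT.leaf cE32)))))) (BT.node 48 (BT.node 40 (BT.node 36 (BT.node 34 (BT.node 33 (BT.leaf cE33) (BT.leaf cE34)) (BT.node 35 (BT.leaf cE35) (BT.leaf cE36))) (BT.node 38 (BT.node 37 (BT.leaf cE37) (BT.leaf cE38)) (BT.node 39 (BT.leaf cE39) (BT.leaf cE40)))) (BT.node 44 (BT.node 42 (BT.node 41 (BT.leaf cE41) (BT.leaf cE42)) (BT.node 43 (BT.leaf cE43) (BT.leaf cE44))) (BT.node 46 (BT.node 45 (BT.leaf cE45) (BT.leaf cE46)) (BT.node 47 (BT.leaf cE47) (BT.leaf cE48))))) (BT.node 56 (BT.node 52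 (BT.node 50 (BT.node 49 (BT.leaf cE49) (BT.leaf cE50)) (BT.node 51 (BT.leaf cE51) (BT.leaf cE52))) (BT.node 54 (BT.node 53 (BT.leaf cE53) (BT.leaf cE54)) (BT.node 55 (BT.leaf cE55) (BT.leaf cE56)))) (BT.node 60 (BT.node 58 (BT.node 57 (BT.leaf cE57) (BT.leaf cE58)) (BT.node 59 (BT.leaf cE59) (BT.leaf cE60))) (BT.node 62 (BT.node 61 (BT.leaf cE61) (BT.leaf cE62)) (BT.node 63 (BT.leaf cE63) (BT.leaf cE64))))))) (BT.node 97 (BT.node 81 (BT.node 73 (BT.node 69 (BT.node 67 (BT.node 66 (BT.node 65 (BT.leaf cE65) (BT.leaf cE66)) (BT.leaf cE67)) (BT.node 68 (BT.leaf cE68) (BT.leaf cE69))) (BT.node 71 (BT.node 70 (BT.leaf cE70) (BT.leaf cE71)) (BT.node 72 (BT.leaf cE72) (BT.leaf cE73)))) (BT.node 77 (BT.node 75 (BT.node 74 (BT.leaf cE74) (BT.leaf cE75)) (BT.node 76 (BT.leaf cE76) (BT.leaf cE77))) (BT.node 79 (BT.node 78 (BT.leaf cE78) (BT.leaf cE79)) (BT.node 80 (BT.leaf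 cE80) (BT.leaf cE81))))) (BT.node 89 (BT.node 85 (BT.node 83 (BT.node 82 (BT.leaf cE82) (BT.leaf cE83)) (BT.node 84 (BT.leaf cE84) (BT.leaf cE85))) (BT.node 87 (BT.node 86 (BT.leaf cE86) (BT.leaf cE87)) (BT.node 88 (BT.leaf cE88) (BT.leaf cE89)))) (BT.node 93 (BT.node 91 (BT.node 90 (BT.leaf cE90) (BT.leaf cE91)) (BT.node 92 (BT.leaf cE92) (BT.leaf cE93))) (BT.node 95 (BT.node 94 (BT.leaf cE94) (BT.leaf cE95)) (BT.node 96 (BT.leaf cE96) (BT.leaf cE97)))))) (BT.node 113 (BT.node 105 (BT.node 101 (BT.node 99 (BT.node 98 (BT.leaf cE98) (BT.leaf cE99)) (BT.node 100 (BT.leaf cE100) (BT.leaf cE101))) (BT.node 103 (BT.node 102 (BT.leaf cE102) (BT.leaf cE103)) (BT.node 104 (BT.leaf cE104) (BT.leaf cE105)))) (BT.node 109 (BT.node 107 (BT.node 106 (BT.leaf cE106) (BT.leaf cE107)) (BT.node 108 (BT.leaf cE108) (BT.leaf cE109))) (BT.node 111 (BT.node 110 (BT.leaf cE110) (BT.leaf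 cE111)) (BT.node 112 (BT.leaf cE112) (BT.leaf cE113))))) (BT.node 121 (BT.node 117 (BT.node 115 (BT.node 114 (BT.leaf cE114) (BT.leaf cE115)) (BT.node 116 (BT.leaf cE116) (BT.leaf cE117))) (BT.node 119 (BT.node 118 (BT.leaf cE118) (BT.leaf cE119)) (BT.node 120 (BT.leaf cE120) (BT.leaf cE121)))) (BT.node 125 (BT.node 123 (BT.node 122 (BT.leaf cE122) (BT.leaf cE123)) (BT.node 124 (BT.leaf cE124) (BT.leaf cE125))) (BT.node 127 (BT.node 126 (BT.leaf cE126) (BT.leaf cE127)) (BT.node 128 (BT.leaf cE128) (BT.leaf cE129)))))))) (BT.node 194 (BT.node 162 (BT.node 146 (BT.node 138 (BT.node 134 (BT.node 132 (BT.node 131 (BT.node 130 (BT.leaf cE130) (BT.leaf cE131)) (BT.leaf cE132)) (BT.node 133 (BT.leaf cE133) (BT.leaf cE134))) (BT.node 136 (BT.node 135 (BT.leaf cE135) (BT.leaf cE136)) (BT.node 137 (BT.leaf cE137) (BT.leaf cE138)))) (BT.node 142 (BT.node 140 (BT.node 139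 (BT.leaf cE139) (BT.leaf cE140)) (BT.node 141 (BT.leaf cE141) (BT.leaf cE142))) (BT.node 144 (BT.node 143 (BT.leaf cE143) (BT.leaf cE144)) (BT.node 145 (BT.leaf cE145) (BT.leaf cE146))))) (BT.node 154 (BT.node 150 (BT.node 148 (BT.node 147 (BT.leaf cE147) (BT.leaf cE148)) (BT.node 149 (BT.leaf cE149) (BT.leaf cE150))) (BT.node 152 (BT.node 151 (BT.leaf cE151) (BT.leaf cE152)) (BT.node 153 (BT.leaf cE153) (BT.leaf cE154)))) (BT.node 158 (BT.node 156 (BT.node 155 (BT.leaf cE155) (BT.leaf cE156)) (BT.node 157 (BT.leaf cE157) (BT.leaf cE158))) (BT.node 160 (BT.node 159 (BT.leaf cE159) (BT.leaf cE160)) (BT.node 161 (BT.leaf cE161) (BT.leaf cE162)))))) (BT.node 178 (BT.node 170 (BT.node 166 (BT.node 164 (BT.node 163 (BT.leaf cE163) (BT.leaf cE164)) (BT.node 165 (BT.leaf cE165) (BT.leaf cE166))) (BT.node 168 (BT.node 167 (BT.leaf cE167) (BT.leaf cE168)) (BT.node 169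 (BT.leaf cE169) (BT.leaf cE170)))) (BT.node 174 (BT.node 172 (BT.node 171 (BT.leaf cE171) (BT.leaf cE172)) (BT.node 173 (BT.leaf cE173) (BT.leaf cE174))) (BT.node 176 (BT.node 175 (BT.leaf cE175) (BT.leaf cE176)) (BT.node 177 (BT.leaf cE177) (BT.leaf cE178))))) (BT.node 186 (BT.node 182 (BT.node 180 (BT.node 179 (BT.leaf cE179) (BT.leaf cE180)) (BT.node 181 (BT.leaf cE181) (BT.leaf cE182))) (BT.node 184 (BT.node 183 (BT.leaf cE183) (BT.leaf cE184)) (BT.node 185 (BT.leaf cE185) (BT.leaf cE186)))) (BT.node 190 (BT.node 188 (BT.node 187 (BT.leaf cE187) (BT.leaf cE188)) (BT.node 189 (BT.leaf cE189) (BT.leaf cE190))) (BT.node 192 (BT.node 191 (BT.leaf cE191) (BT.leaf cE192)) (BT.node 193 (BT.leaf cE193) (BT.leaf cE194))))))) (BT.node 226 (BT.node 210 (BT.node 202 (BT.node 198 (BT.node 196 (BT.node 195 (BT.leaf cE195) (BT.leaf cE196)) (BT.node 197 (BT.leaf cE197) (BT.leaf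 cE198))) (BT.node 200 (BT.node 199 (BT.leaf cE199) (BT.leaf cE200)) (BT.node 201 (BT.leaf cE201) (BT.leaf cE202)))) (BT.node 206 (BT.node 204 (BT.node 203 (BT.leaf cE203) (BT.leaf cE204)) (BT.node 205 (BT.leaf cE205) (BT.leaf cE206))) (BT.node 208 (BT.node 207 (BT.leaf cE207) (BT.leaf cE208)) (BT.node 209 (BT.leaf cE209) (BT.leaf cE210))))) (BT.node 218 (BT.node 214 (BT.node 212 (BT.node 211 (BT.leaf cE211) (BT.leaf cE212)) (BT.node 213 (BT.leaf cE213) (BT.leaf cE214))) (BT.node 216 (BT.node 215 (BT.leaf cE215) (BT.leaf cE216)) (BT.node 217 (BT.leaf cE217) (BT.leaf cE218)))) (BT.node 222 (BT.node 220 (BT.node 219 (BT.leaf cE219) (BT.leaf cE220)) (BT.node 221 (BT.leaf cE221) (BT.leaf cE222))) (BT.node 224 (BT.node 223 (BT.leaf cE223) (BT.leaf cE224)) (BT.node 225 (BT.leaf cE225) (BT.leaf cE226)))))) (BT.node 242 (BT.node 234 (BT.node 230 (BT.node 228 (BT.node 227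 (BT.leaf cE227) (BT.leaf cE228)) (BT.node 229 (BT.leaf cE229) (BT.leaf cE230))) (BT.node 232 (BT.node 231 (BT.leaf cE231) (BT.leaf cE232)) (BT.node 233 (BT.leaf cE233) (BT.leaf cE234)))) (BT.node 238 (BT.node 236 (BT.node 235 (BT.leaf cE235) (BT.leaf cE236)) (BT.node 237 (BT.leaf cE237) (BT.leaf cE238))) (BT.node 240 (BT.node 239 (BT.leaf cE239) (BT.leaf cE240)) (BT.node 241 (BT.leaf cE241) (BT.leaf cE242))))) (BT.node 250 (BT.node 246 (BT.node 244 (BT.node 243 (BT.leaf cE243) (BT.leaf cE244)) (BT.node 245 (BT.leaf cE245) (BT.leaf cE246))) (BT.node 248 (BT.node 247 (BT.leaf cE247) (BT.leaf cE248)) (BT.node 249 (BT.leaf cE249) (BT.leaf cE250)))) (BT.node 254 (BT.node 252 (BT.node 251 (BT.leaf cE251) (BT.leaf cE252)) (BT.node 253 (BT.leaf cE253) (BT.leaf cE254))) (BT.node 256 (BT.node 255 (BT.leaf cE255) (BT.leaf cE256)) (BT.node 257 (BT.leaf cE257) (BT.leaf cE258)))))))))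 (BT.node 387 (BT.node 323 (BT.node 291 (BT.node 275 (BT.node 267 (BT.node 263 (BT.node 261 (BT.node 260 (BT.node 259 (BT.leaf cE259) (BT.leaf cE260)) (BT.leaf cE261)) (BT.node 262 (BT.leaf cE262) (BT.leaf cE263))) (BT.node 265 (BT.node 264 (BT.leaf cE264) (BT.leaf cE265)) (BT.node 266 (BT.leaf cE266) (BT.leaf cE267)))) (BT.node 271 (BT.node 269 (BT.node 268 (BT.leaf cE268) (BT.leaf cE269)) (BT.node 270 (BT.leaf cE270) (BT.leaf cE271))) (BT.node 273 (BT.node 272 (BT.leaf cE272) (BT.leaf cE273)) (BT.node 274 (BT.leaf cE274) (BT.leaf cE275))))) (BT.node 283 (BT.node 279 (BT.node 277 (BT.node 276 (BT.leaf cE276) (BT.leaf cE277)) (BT.node 278 (BT.leaf cE278) (BT.leaf cE279))) (BT.node 281 (BT.node 280 (BT.leaf cE280) (BT.leaf cE281)) (BT.node 282 (BT.leaf cE282) (BT.leaf cE283)))) (BT.node 287 (BT.node 285 (BT.node 284 (BT.leaf cE284) (BT.leaf cE285)) (BT.node 286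 (BT.leaf cE286) (BT.leaf cE287))) (BT.node 289 (BT.node 288 (BT.leaf cE288) (BT.leaf cE289)) (BT.node 290 (BT.leaf cE290) (BT.leaf cE291)))))) (BT.node 307 (BT.node 299 (BT.node 295 (BT.node 293 (BT.node 292 (BT.leaf cE292) (BT.leaf cE293)) (BT.node 294 (BT.leaf cE294) (BT.leaf cE295))) (BT.node 297 (BT.node 296 (BT.leaf cE296) (BT.leaf cE297)) (BT.node 298 (BT.leaf cE298) (BT.leaf cE299)))) (BT.node 303 (BT.node 301 (BT.node 300 (BT.leaf cE300) (BT.leaf cE301)) (BT.node 302 (BT.leaf cE302) (BT.leaf cE303))) (BT.node 305 (BT.node 304 (BT.leaf cE304) (BT.leaf cE305)) (BT.node 306 (BT.leaf cE306) (BT.leaf cE307))))) (BT.node 315 (BT.node 311 (BT.node 309 (BT.node 308 (BT.leaf cE308) (BT.leaf cE309)) (BT.node 310 (BT.leaf cE310) (BT.leaf cE311))) (BT.node 313 (BT.node 312 (BT.leaf cE312) (BT.leaf cE313)) (BT.node 314 (BT.leaf cE314) (BT.leaf cE315)))) (BT.node 319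 (BT.node 317 (BT.node 316 (BT.leaf cE316) (BT.leaf cE317)) (BT.node 318 (BT.leaf cE318) (BT.leaf cE319))) (BT.node 321 (BT.node 320 (BT.leaf cE320) (BT.leaf cE321)) (BT.node 322 (BT.leaf cE322) (BT.leaf cE323))))))) (BT.node 355 (BT.node 339 (BT.node 331 (BT.node 327 (BT.node 325 (BT.node 324 (BT.leaf cE324) (BT.leaf cE325)) (BT.node 326 (BT.leaf cE326) (BT.leaf cE327))) (BT.node 329 (BT.node 328 (BT.leaf cE328) (BT.leaf cE329)) (BT.node 330 (BT.leaf cE330) (BT.leaf cE331)))) (BT.node 335 (BT.node 333 (BT.node 332 (BT.leaf cE332) (BT.leaf cE333)) (BT.node 334 (BT.leaf cE334) (BT.leaf cE335))) (BT.node 337 (BT.node 336 (BT.leaf cE336) (BT.leaf cE337)) (BT.node 338 (BT.leaf cE338) (BT.leaf cE339))))) (BT.node 347 (BT.node 343 (BT.node 341 (BT.node 340 (BT.leaf cE340) (BT.leaf cE341)) (BT.node 342 (BT.leaf cE342) (BT.leaf cE343))) (BT.node 345 (BT.node 344 (BT.leaf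 cE344) (BT.leaf cE345)) (BT.node 346 (BT.leaf cE346) (BT.leaf cE347)))) (BT.node 351 (BT.node 349 (BT.node 348 (BT.leaf cE348) (BT.leaf cE349)) (BT.node 350 (BT.leaf cE350) (BT.leaf cE351))) (BT.node 353 (BT.node 352 (BT.leaf cE352) (BT.leaf cE353)) (BT.node 354 (BT.leaf cE354) (BT.leaf cE355)))))) (BT.node 371 (BT.node 363 (BT.node 359 (BT.node 357 (BT.node 356 (BT.leaf cE356) (BT.leaf cE357)) (BT.node 358 (BT.leaf cE358) (BT.leaf cE359))) (BT.node 361 (BT.node 360 (BT.leaf cE360) (BT.leaf cE361)) (BT.node 362 (BT.leaf cE362) (BT.leaf cE363)))) (BT.node 367 (BT.node 365 (BT.node 364 (BT.leaf cE364) (BT.leaf cE365)) (BT.node 366 (BT.leaf cE366) (BT.leaf cE367))) (BT.node 369 (BT.node 368 (BT.leaf cE368) (BT.leaf cE369)) (BT.node 370 (BT.leaf cE370) (BT.leaf cE371))))) (BT.node 379 (BT.node 375 (BT.node 373 (BT.node 372 (BT.leaf cE372) (BT.leaf cE373)) (BT.node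 374 (BT.leaf cE374) (BT.leaf cE375))) (BT.node 377 (BT.node 376 (BT.leaf cE376) (BT.leaf cE377)) (BT.node 378 (BT.leaf cE378) (BT.leaf cE379)))) (BT.node 383 (BT.node 381 (BT.node 380 (BT.leaf cE380) (BT.leaf cE381)) (BT.node 382 (BT.leaf cE382) (BT.leaf cE383))) (BT.node 385 (BT.node 384 (BT.leaf cE384) (BT.leaf cE385)) (BT.node 386 (BT.leaf cE386) (BT.leaf cE387)))))))) (BT.node 452 (BT.node 420 (BT.node 404 (BT.node 396 (BT.node 392 (BT.node 390 (BT.node 389 (BT.node 388 (BT.leaf cE388) (BT.leaf cE389)) (BT.leaf cE390)) (BT.node 391 (BT.leaf cE391) (BT.leaf cE392))) (BT.node 394 (BT.node 393 (BT.leaf cE393) (BT.leaf cE394)) (BT.node 395 (BT.leaf cE395) (BT.leaf cE396)))) (BT.node 400 (BT.node 398 (BT.node 397 (BT.leaf cE397) (BT.leaf cE398)) (BT.node 399 (BT.leaf cE399) (BT.leaf cE400))) (BT.node 402 (BT.node 401 (BT.leaf cE401) (BT.leaf cE402)) (BT.node 403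 (BT.leaf cE403) (BT.leaf cE404))))) (BT.node 412 (BT.node 408 (BT.node 406 (BT.node 405 (BT.leaf cE405) (BT.leaf cE406)) (BT.node 407 (BT.leaf cE407) (BT.leaf cE408))) (BT.node 410 (BT.node 409 (BT.leaf cE409) (BT.leaf cE410)) (BT.node 411 (BT.leaf cE411) (BT.leaf cE412)))) (BT.node 416 (BT.node 414 (BT.node 413 (BT.leaf cE413) (BT.leaf cE414)) (BT.node 415 (BT.leaf cE415) (BT.leaf cE416))) (BT.node 418 (BT.node 417 (BT.leaf cE417) (BT.leaf cE418)) (BT.node 419 (BT.leaf cE419) (BT.leaf cE420)))))) (BT.node 436 (BT.node 428 (BT.node 424 (BT.node 422 (BT.node 421 (BT.leaf cE421) (BT.leaf cE422)) (BT.node 423 (BT.leaf cE423) (BT.leaf cE424))) (BT.node 426 (BT.node 425 (BT.leaf cE425) (BT.leaf cE426)) (BT.node 427 (BT.leaf cE427) (BT.leaf cE428)))) (BT.node 432 (BT.node 430 (BT.node 429 (BT.leaf cE429) (BT.leaf cE430)) (BT.node 431 (BT.leaf cE431) (BT.leaf cE432)))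 (BT.node 434 (BT.node 433 (BT.leaf cE433) (BT.leaf cE434)) (BT.node 435 (BT.leaf cE435) (BT.leaf cE436))))) (BT.node 444 (BT.node 440 (BT.node 438 (BT.node 437 (BT.leaf cE437) (BT.leaf cE438)) (BT.node 439 (BT.leaf cE439) (BT.leaf cE440))) (BT.node 442 (BT.node 441 (BT.leaf cE441) (BT.leaf cE442)) (BT.node 443 (BT.leaf cE443) (BT.leaf cE444)))) (BT.node 448 (BT.node 446 (BT.node 445 (BT.leaf cE445) (BT.leaf cE446)) (BT.node 447 (BT.leaf cE447) (BT.leaf cE448))) (BT.node 450 (BT.node 449 (BT.leaf cE449) (BT.leaf cE450)) (BT.node 451 (BT.leaf cE451) (BT.leaf cE452))))))) (BT.node 484 (BT.node 468 (BT.node 460 (BT.node 456 (BT.node 454 (BT.node 453 (BT.leaf cE453) (BT.leaf cE454)) (BT.node 455 (BT.leaf cE455) (BT.leaf cE456))) (BT.node 458 (BT.node 457 (BT.leaf cE457) (BT.leaf cE458)) (BT.node 459 (BT.leaf cE459) (BT.leaf cE460)))) (BT.node 464 (BT.node 462 (BT.node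 461 (BT.leaf cE461) (BT.leaf cE462)) (BT.node 463 (BT.leaf cE463) (BT.leaf cE464))) (BT.node 466 (BT.node 465 (BT.leaf cE465) (BT.leaf cE466)) (BT.node 467 (BT.leaf cE467) (BT.leaf cE468))))) (BT.node 476 (BT.node 472 (BT.node 470 (BT.node 469 (BT.leaf cE469) (BT.leaf cE470)) (BT.node 471 (BT.leaf cE471) (BT.leaf cE472))) (BT.node 474 (BT.node 473 (BT.leaf cE473) (BT.leaf cE474)) (BT.node 475 (BT.leaf cE475) (BT.leaf cE476)))) (BT.node 480 (BT.node 478 (BT.node 477 (BT.leaf cE477) (BT.leaf cE478)) (BT.node 479 (BT.leaf cE479) (BT.leaf cE480))) (BT.node 482 (BT.node 481 (BT.leaf cE481) (BT.leaf cE482)) (BT.node 483 (BT.leaf cE483) (BT.leaf cE484)))))) (BT.node 500 (BT.node 492 (BT.node 488 (BT.node 486 (BT.node 485 (BT.leaf cE485) (BT.leaf cE486)) (BT.node 487 (BT.leaf cE487) (BT.leaf cE488))) (BT.node 490 (BT.node 489 (BT.leaf cE489) (BT.leaf cE490)) (BT.node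 491 (BT.leaf cE491) (BT.leaf cE492)))) (BT.node 496 (BT.node 494 (BT.node 493 (BT.leaf cE493) (BT.leaf cE494)) (BT.node 495 (BT.leaf cE495) (BT.leaf cE496))) (BT.node 498 (BT.node 497 (BT.leaf cE497) (BT.leaf cE498)) (BT.node 499 (BT.leaf cE499) (BT.leaf cE500))))) (BT.node 508 (BT.node 504 (BT.node 502 (BT.node 501 (BT.leaf cE501) (BT.leaf cE502)) (BT.node 503 (BT.leaf cE503) (BT.leaf cE504))) (BT.node 506 (BT.node 505 (BT.leaf cE505) (BT.leaf cE506)) (BT.node 507 (BT.leaf cE507) (BT.leaf cE508)))) (BT.node 512 (BT.node 510 (BT.node 509 (BT.leaf cE509) (BT.leaf cE510)) (BT.node 511 (BT.leaf cE511) (BT.leaf cE512))) (BT.node 514 (BT.node 513 (BT.leaf cE513) (BT.leaf cE514)) (BT.node 515 (BT.leaf cE515) (BT.leaf cE516)))))))))) (BT.node 774 (BT.node 645 (BT.node 581 (BT.node 549 (BT.node 533 (BT.node 525 (BT.node 521 (BT.node 519 (BT.node 518 (BT.node 517 (BT.leaf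 cE517) (BT.leaf cE518)) (BT.leaf cE519)) (BT.node 520 (BT.leaf cE520) (BT.leaf cE521))) (BT.node 523 (BT.node 522 (BT.leaf cE522) (BT.leaf cE523)) (BT.node 524 (BT.leaf cE524) (BT.leaf cE525)))) (BT.node 529 (BT.node 527 (BT.node 526 (BT.leaf cE526) (BT.leaf cE527)) (BT.node 528 (BT.leaf cE528) (BT.leaf cE529))) (BT.node 531 (BT.node 530 (BT.leaf cE530) (BT.leaf cE531)) (BT.node 532 (BT.leaf cE532) (BT.leaf cE533))))) (BT.node 541 (BT.node 537 (BT.node 535 (BT.node 534 (BT.leaf cE534) (BT.leaf cE535)) (BT.node 536 (BT.leaf cE536) (BT.leaf cE537))) (BT.node 539 (BT.node 538 (BT.leaf cE538) (BT.leaf cE539)) (BT.node 540 (BT.leaf cE540) (BT.leaf cE541)))) (BT.node 545 (BT.node 543 (BT.node 542 (BT.leaf cE542) (BT.leaf cE543)) (BT.node 544 (BT.leaf cE544) (BT.leaf cE545))) (BT.node 547 (BT.node 546 (BT.leaf cE546) (BT.leaf cE547)) (BT.node 548 (BT.leaf cE548) (BT.leaf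 cE549)))))) (BT.node 565 (BT.node 557 (BT.node 553 (BT.node 551 (BT.node 550 (BT.leaf cE550) (BT.leaf cE551)) (BT.node 552 (BT.leaf cE552) (BT.leaf cE553))) (BT.node 555 (BT.node 554 (BT.leaf cE554) (BT.leaf cE555)) (BT.node 556 (BT.leaf cE556) (BT.leaf cE557)))) (BT.node 561 (BT.node 559 (BT.node 558 (BT.leaf cE558) (BT.leaf cE559)) (BT.node 560 (BT.leaf cE560) (BT.leaf cE561))) (BT.node 563 (BT.node 562 (BT.leaf cE562) (BT.leaf cE563)) (BT.node 564 (BT.leaf cE564) (BT.leaf cE565))))) (BT.node 573 (BT.node 569 (BT.node 567 (BT.node 566 (BT.leaf cE566) (BT.leaf cE567)) (BT.node 568 (BT.leaf cE568) (BT.leaf cE569))) (BT.node 571 (BT.node 570 (BT.leaf cE570) (BT.leaf cE571)) (BT.node 572 (BT.leaf cE572) (BT.leaf cE573)))) (BT.node 577 (BT.node 575 (BT.node 574 (BT.leaf cE574) (BT.leaf cE575)) (BT.node 576 (BT.leaf cE576) (BT.leaf cE577))) (BT.node 579 (BT.node 578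 (BT.leaf cE578) (BT.leaf cE579)) (BT.node 580 (BT.leaf cE580) (BT.leaf cE581))))))) (BT.node 613 (BT.node 597 (BT.node 589 (BT.node 585 (BT.node 583 (BT.node 582 (BT.leaf cE582) (BT.leaf cE583)) (BT.node 584 (BT.leaf cE584) (BT.leaf cE585))) (BT.node 587 (BT.node 586 (BT.leaf cE586) (BT.leaf cE587)) (BT.node 588 (BT.leaf cE588) (BT.leaf cE589)))) (BT.node 593 (BT.node 591 (BT.node 590 (BT.leaf cE590) (BT.leaf cE591)) (BT.node 592 (BT.leaf cE592) (BT.leaf cE593))) (BT.node 595 (BT.node 594 (BT.leaf cE594) (BT.leaf cE595)) (BT.node 596 (BT.leaf cE596) (BT.leaf cE597))))) (BT.node 605 (BT.node 601 (BT.node 599 (BT.node 598 (BT.leaf cE598) (BT.leaf cE599)) (BT.node 600 (BT.leaf cE600) (BT.leaf cE601))) (BT.node 603 (BT.node 602 (BT.leaf cE602) (BT.leaf cE603)) (BT.node 604 (BT.leaf cE604) (BT.leaf cE605)))) (BT.node 609 (BT.node 607 (BT.node 606 (BT.leaf cE606) (BT.leaf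 cE607)) (BT.node 608 (BT.leaf cE608) (BT.leaf cE609))) (BT.node 611 (BT.node 610 (BT.leaf cE610) (BT.leaf cE611)) (BT.node 612 (BT.leaf cE612) (BT.leaf cE613)))))) (BT.node 629 (BT.node 621 (BT.node 617 (BT.node 615 (BT.node 614 (BT.leaf cE614) (BT.leaf cE615)) (BT.node 616 (BT.leaf cE616) (BT.leaf cE617))) (BT.node 619 (BT.node 618 (BT.leaf cE618) (BT.leaf cE619)) (BT.node 620 (BT.leaf cE620) (BT.leaf cE621)))) (BT.node 625 (BT.node 623 (BT.node 622 (BT.leaf cE622) (BT.leaf cE623)) (BT.node 624 (BT.leaf cE624) (BT.leaf cE625))) (BT.node 627 (BT.node 626 (BT.leaf cE626) (BT.leaf cE627)) (BT.node 628 (BT.leaf cE628) (BT.leaf cE629))))) (BT.node 637 (BT.node 633 (BT.node 631 (BT.node 630 (BT.leaf cE630) (BT.leaf cE631)) (BT.node 632 (BT.leaf cE632) (BT.leaf cE633))) (BT.node 635 (BT.node 634 (BT.leaf cE634) (BT.leaf cE635)) (BT.node 636 (BT.leaf cE636) (BT.leaf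 cE637)))) (BT.node 641 (BT.node 639 (BT.node 638 (BT.leaf cE638) (BT.leaf cE639)) (BT.node 640 (BT.leaf cE640) (BT.leaf cE641))) (BT.node 643 (BT.node 642 (BT.leaf cE642) (BT.leaf cE643)) (BT.node 644 (BT.leaf cE644) (BT.leaf cE645)))))))) (BT.node 710 (BT.node 678 (BT.node 662 (BT.node 654 (BT.node 650 (BT.node 648 (BT.node 647 (BT.node 646 (BT.leaf cE646) (BT.leaf cE647)) (BT.leaf cE648)) (BT.node 649 (BT.leaf cE649) (BT.leaf cE650))) (BT.node 652 (BT.node 651 (BT.leaf cE651) (BT.leaf cE652)) (BT.node 653 (BT.leaf cE653) (BT.leaf cE654)))) (BT.node 658 (BT.node 656 (BT.node 655 (BT.leaf cE655) (BT.leaf cE656)) (BT.node 657 (BT.leaf cE657) (BT.leaf cE658))) (BT.node 660 (BT.node 659 (BT.leaf cE659) (BT.leaf cE660)) (BT.node 661 (BT.leaf cE661) (BT.leaf cE662))))) (BT.node 670 (BT.node 666 (BT.node 664 (BT.node 663 (BT.leaf cE663) (BT.leaf cE664)) (BT.node 665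 (BT.leaf cE665) (BT.leaf cE666))) (BT.node 668 (BT.node 667 (BT.leaf cE667) (BT.leaf cE668)) (BT.node 669 (BT.leaf cE669) (BT.leaf cE670)))) (BT.node 674 (BT.node 672 (BT.node 671 (BT.leaf cE671) (BT.leaf cE672)) (BT.node 673 (BT.leaf cE673) (BT.leaf cE674))) (BT.node 676 (BT.node 675 (BT.leaf cE675) (BT.leaf cE676)) (BT.node 677 (BT.leaf cE677) (BT.leaf cE678)))))) (BT.node 694 (BT.node 686 (BT.node 682 (BT.node 680 (BT.node 679 (BT.leaf cE679) (BT.leaf cE680)) (BT.node 681 (BT.leaf cE681) (BT.leaf cE682))) (BT.node 684 (BT.node 683 (BT.leaf cE683) (BT.leaf cE684)) (BT.node 685 (BT.leaf cE685) (BT.leaf cE686)))) (BT.node 690 (BT.node 688 (BT.node 687 (BT.leaf cE687) (BT.leaf cE688)) (BT.node 689 (BT.leaf cE689) (BT.leaf cE690))) (BT.node 692 (BT.node 691 (BT.leaf cE691) (BT.leaf cE692)) (BT.node 693 (BT.leaf cE693) (BT.leaf cE694))))) (BT.node 702 (BT.node 698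 (BT.node 696 (BT.node 695 (BT.leaf cE695) (BT.leaf cE696)) (BT.node 697 (BT.leaf cE697) (BT.leaf cE698))) (BT.node 700 (BT.node 699 (BT.leaf cE699) (BT.leaf cE700)) (BT.node 701 (BT.leaf cE701) (BT.leaf cE702)))) (BT.node 706 (BT.node 704 (BT.node 703 (BT.leaf cE703) (BT.leaf cE704)) (BT.node 705 (BT.leaf cE705) (BT.leaf cE706))) (BT.node 708 (BT.node 707 (BT.leaf cE707) (BT.leaf cE708)) (BT.node 709 (BT.leaf cE709) (BT.leaf cE710))))))) (BT.node 742 (BT.node 726 (BT.node 718 (BT.node 714 (BT.node 712 (BT.node 711 (BT.leaf cE711) (BT.leaf cE712)) (BT.node 713 (BT.leaf cE713) (BT.leaf cE714))) (BT.node 716 (BT.node 715 (BT.leaf cE715) (BT.leaf cE716)) (BT.node 717 (BT.leaf cE717) (BT.leaf cE718)))) (BT.node 722 (BT.node 720 (BT.node 719 (BT.leaf cE719) (BT.leaf cE720)) (BT.node 721 (BT.leaf cE721) (BT.leaf cE722))) (BT.node 724 (BT.node 723 (BT.leaf cE723) (BT.leaf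 cE724)) (BT.node 725 (BT.leaf cE725) (BT.leaf cE726))))) (BT.node 734 (BT.node 730 (BT.node 728 (BT.node 727 (BT.leaf cE727) (BT.leaf cE728)) (BT.node 729 (BT.leaf cE729) (BT.leaf cE730))) (BT.node 732 (BT.node 731 (BT.leaf cE731) (BT.leaf cE732)) (BT.node 733 (BT.leaf cE733) (BT.leaf cE734)))) (BT.node 738 (BT.node 736 (BT.node 735 (BT.leaf cE735) (BT.leaf cE736)) (BT.node 737 (BT.leaf cE737) (BT.leaf cE738))) (BT.node 740 (BT.node 739 (BT.leaf cE739) (BT.leaf cE740)) (BT.node 741 (BT.leaf cE741) (BT.leaf cE742)))))) (BT.node 758 (BT.node 750 (BT.node 746 (BT.node 744 (BT.node 743 (BT.leaf cE743) (BT.leaf cE744)) (BT.node 745 (BT.leaf cE745) (BT.leaf cE746))) (BT.node 748 (BT.node 747 (BT.leaf cE747) (BT.leaf cE748)) (BT.node 749 (BT.leaf cE749) (BT.leaf cE750)))) (BT.node 754 (BT.node 752 (BT.node 751 (BT.leaf cE751) (BT.leaf cE752)) (BT.node 753 (BT.leaf cE753)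 (BT.leaf cE754))) (BT.node 756 (BT.node 755 (BT.leaf cE755) (BT.leaf cE756)) (BT.node 757 (BT.leaf cE757) (BT.leaf cE758))))) (BT.node 766 (BT.node 762 (BT.node 760 (BT.node 759 (BT.leaf cE759) (BT.leaf cE760)) (BT.node 761 (BT.leaf cE761) (BT.leaf cE762))) (BT.node 764 (BT.node 763 (BT.leaf cE763) (BT.leaf cE764)) (BT.node 765 (BT.leaf cE765) (BT.leaf cE766)))) (BT.node 770 (BT.node 768 (BT.node 767 (BT.leaf cE767) (BT.leaf cE768)) (BT.node 769 (BT.leaf cE769) (BT.leaf cE770))) (BT.node 772 (BT.node 771 (BT.leaf cE771) (BT.leaf cE772)) (BT.node 773 (BT.leaf cE773) (BT.leaf cE774))))))))) (BT.node 903 (BT.node 839 (BT.node 807 (BT.node 791 (BT.node 783 (BT.node 779 (BT.node 777 (BT.node 776 (BT.node 775 (BT.leaf cE775) (BT.leaf cE776)) (BT.leaf cE777)) (BT.node 778 (BT.leaf cE778) (BT.leaf cE779))) (BT.node 781 (BT.node 780 (BT.leaf cE780) (BT.leaf cE781)) (BT.node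 782 (BT.leaf cE782) (BT.leaf cE783)))) (BT.node 787 (BT.node 785 (BT.node 784 (BT.leaf cE784) (BT.leaf cE785)) (BT.node 786 (BT.leaf cE786) (BT.leaf cE787))) (BT.node 789 (BT.node 788 (BT.leaf cE788) (BT.leaf cE789)) (BT.node 790 (BT.leaf cE790) (BT.leaf cE791))))) (BT.node 799 (BT.node 795 (BT.node 793 (BT.node 792 (BT.leaf cE792) (BT.leaf cE793)) (BT.node 794 (BT.leaf cE794) (BT.leaf cE795))) (BT.node 797 (BT.node 796 (BT.leaf cE796) (BT.leaf cE797)) (BT.node 798 (BT.leaf cE798) (BT.leaf cE799)))) (BT.node 803 (BT.node 801 (BT.node 800 (BT.leaf cE800) (BT.leaf cE801)) (BT.node 802 (BT.leaf cE802) (BT.leaf cE803))) (BT.node 805 (BT.node 804 (BT.leaf cE804) (BT.leaf cE805)) (BT.node 806 (BT.leaf cE806) (BT.leaf cE807)))))) (BT.node 823 (BT.node 815 (BT.node 811 (BT.node 809 (BT.node 808 (BT.leaf cE808) (BT.leaf cE809)) (BT.node 810 (BT.leaf cE810) (BT.leaf cE811)))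 (BT.node 813 (BT.node 812 (BT.leaf cE812) (BT.leaf cE813)) (BT.node 814 (BT.leaf cE814) (BT.leaf cE815)))) (BT.node 819 (BT.node 817 (BT.node 816 (BT.leaf cE816) (BT.leaf cE817)) (BT.node 818 (BT.leaf cE818) (BT.leaf cE819))) (BT.node 821 (BT.node 820 (BT.leaf cE820) (BT.leaf cE821)) (BT.node 822 (BT.leaf cE822) (BT.leaf cE823))))) (BT.node 831 (BT.node 827 (BT.node 825 (BT.node 824 (BT.leaf cE824) (BT.leaf cE825)) (BT.node 826 (BT.leaf cE826) (BT.leaf cE827))) (BT.node 829 (BT.node 828 (BT.leaf cE828) (BT.leaf cE829)) (BT.node 830 (BT.leaf cE830) (BT.leaf cE831)))) (BT.node 835 (BT.node 833 (BT.node 832 (BT.leaf cE832) (BT.leaf cE833)) (BT.node 834 (BT.leaf cE834) (BT.leaf cE835))) (BT.node 837 (BT.node 836 (BT.leaf cE836) (BT.leaf cE837)) (BT.node 838 (BT.leaf cE838) (BT.leaf cE839))))))) (BT.node 871 (BT.node 855 (BT.node 847 (BT.node 843 (BT.node 841 (BT.node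 840 (BT.leaf cE840) (BT.leaf cE841)) (BT.node 842 (BT.leaf cE842) (BT.leaf cE843))) (BT.node 845 (BT.node 844 (BT.leaf cE844) (BT.leaf cE845)) (BT.node 846 (BT.leaf cE846) (BT.leaf cE847)))) (BT.node 851 (BT.node 849 (BT.node 848 (BT.leaf cE848) (BT.leaf cE849)) (BT.node 850 (BT.leaf cE850) (BT.leaf cE851))) (BT.node 853 (BT.node 852 (BT.leaf cE852) (BT.leaf cE853)) (BT.node 854 (BT.leaf cE854) (BT.leaf cE855))))) (BT.node 863 (BT.node 859 (BT.node 857 (BT.node 856 (BT.leaf cE856) (BT.leaf cE857)) (BT.node 858 (BT.leaf cE858) (BT.leaf cE859))) (BT.node 861 (BT.node 860 (BT.leaf cE860) (BT.leaf cE861)) (BT.node 862 (BT.leaf cE862) (BT.leaf cE863)))) (BT.node 867 (BT.node 865 (BT.node 864 (BT.leaf cE864) (BT.leaf cE865)) (BT.node 866 (BT.leaf cE866) (BT.leaf cE867))) (BT.node 869 (BT.node 868 (BT.leaf cE868) (BT.leaf cE869)) (BT.node 870 (BT.leaf cE870) (BT.leaf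 cE871)))))) (BT.node 887 (BT.node 879 (BT.node 875 (BT.node 873 (BT.node 872 (BT.leaf cE872) (BT.leaf cE873)) (BT.node 874 (BT.leaf cE874) (BT.leaf cE875))) (BT.node 877 (BT.node 876 (BT.leaf cE876) (BT.leaf cE877)) (BT.node 878 (BT.leaf cE878) (BT.leaf cE879)))) (BT.node 883 (BT.node 881 (BT.node 880 (BT.leaf cE880) (BT.leaf cE881)) (BT.node 882 (BT.leaf cE882) (BT.leaf cE883))) (BT.node 885 (BT.node 884 (BT.leaf cE884) (BT.leaf cE885)) (BT.node 886 (BT.leaf cE886) (BT.leaf cE887))))) (BT.node 895 (BT.node 891 (BT.node 889 (BT.node 888 (BT.leaf cE888) (BT.leaf cE889)) (BT.node 890 (BT.leaf cE890) (BT.leaf cE891))) (BT.node 893 (BT.node 892 (BT.leaf cE892) (BT.leaf cE893)) (BT.node 894 (BT.leaf cE894) (BT.leaf cE895)))) (BT.node 899 (BT.node 897 (BT.node 896 (BT.leaf cE896) (BT.leaf cE897)) (BT.node 898 (BT.leaf cE898) (BT.leaf cE899))) (BT.node 901 (BT.node 900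 (BT.leaf cE900) (BT.leaf cE901)) (BT.node 902 (BT.leaf cE902) (BT.leaf cE903)))))))) (BT.node 968 (BT.node 936 (BT.node 920 (BT.node 912 (BT.node 908 (BT.node 906 (BT.node 905 (BT.node 904 (BT.leaf cE904) (BT.leaf cE905)) (BT.leaf cE906)) (BT.node 907 (BT.leaf cE907) (BT.leaf cE908))) (BT.node 910 (BT.node 909 (BT.leaf cE909) (BT.leaf cE910)) (BT.node 911 (BT.leaf cE911) (BT.leaf cE912)))) (BT.node 916 (BT.node 914 (BT.node 913 (BT.leaf cE913) (BT.leaf cE914)) (BT.node 915 (BT.leaf cE915) (BT.leaf cE916))) (BT.node 918 (BT.node 917 (BT.leaf cE917) (BT.leaf cE918)) (BT.node 919 (BT.leaf cE919) (BT.leaf cE920))))) (BT.node 928 (BT.node 924 (BT.node 922 (BT.node 921 (BT.leaf cE921) (BT.leaf cE922)) (BT.node 923 (BT.leaf cE923) (BT.leaf cE924))) (BT.node 926 (BT.node 925 (BT.leaf cE925) (BT.leaf cE926)) (BT.node 927 (BT.leaf cE927) (BT.leaf cE928)))) (BT.node 932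 (BT.node 930 (BT.node 929 (BT.leaf cE929) (BT.leaf cE930)) (BT.node 931 (BT.leaf cE931) (BT.leaf cE932))) (BT.node 934 (BT.node 933 (BT.leaf cE933) (BT.leaf cE934)) (BT.node 935 (BT.leaf cE935) (BT.leaf cE936)))))) (BT.node 952 (BT.node 944 (BT.node 940 (BT.node 938 (BT.node 937 (BT.leaf cE937) (BT.leaf cE938)) (BT.node 939 (BT.leaf cE939) (BT.leaf cE940))) (BT.node 942 (BT.node 941 (BT.leaf cE941) (BT.leaf cE942)) (BT.node 943 (BT.leaf cE943) (BT.leaf cE944)))) (BT.node 948 (BT.node 946 (BT.node 945 (BT.leaf cE945) (BT.leaf cE946)) (BT.node 947 (BT.leaf cE947) (BT.leaf cE948))) (BT.node 950 (BT.node 949 (BT.leaf cE949) (BT.leaf cE950)) (BT.node 951 (BT.leaf cE951) (BT.leaf cE952))))) (BT.node 960 (BT.node 956 (BT.node 954 (BT.node 953 (BT.leaf cE953) (BT.leaf cE954)) (BT.node 955 (BT.leaf cE955) (BT.leaf cE956))) (BT.node 958 (BT.node 957 (BT.leaf cE957) (BT.leaf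 cE958)) (BT.node 959 (BT.leaf cE959) (BT.leaf cE960)))) (BT.node 964 (BT.node 962 (BT.node 961 (BT.leaf cE961) (BT.leaf cE962)) (BT.node 963 (BT.leaf cE963) (BT.leaf cE964))) (BT.node 966 (BT.node 965 (BT.leaf cE965) (BT.leaf cE966)) (BT.node 967 (BT.leaf cE967) (BT.leaf cE968))))))) (BT.node 1000 (BT.node 984 (BT.node 976 (BT.node 972 (BT.node 970 (BT.node 969 (BT.leaf cE969) (BT.leaf cE970)) (BT.node 971 (BT.leaf cE971) (BT.leaf cE972))) (BT.node 974 (BT.node 973 (BT.leaf cE973) (BT.leaf cE974)) (BT.node 975 (BT.leaf cE975) (BT.leaf cE976)))) (BT.node 980 (BT.node 978 (BT.node 977 (BT.leaf cE977) (BT.leaf cE978)) (BT.node 979 (BT.leaf cE979) (BT.leaf cE980))) (BT.node 982 (BT.node 981 (BT.leaf cE981) (BT.leaf cE982)) (BT.node 983 (BT.leaf cE983) (BT.leaf cE984))))) (BT.node 992 (BT.node 988 (BT.node 986 (BT.node 985 (BT.leaf cE985) (BT.leaf cE986)) (BT.node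 987 (BT.leaf cE987) (BT.leaf cE988))) (BT.node 990 (BT.node 989 (BT.leaf cE989) (BT.leaf cE990)) (BT.node 991 (BT.leaf cE991) (BT.leaf cE992)))) (BT.node 996 (BT.node 994 (BT.node 993 (BT.leaf cE993) (BT.leaf cE994)) (BT.node 995 (BT.leaf cE995) (BT.leaf cE996))) (BT.node 998 (BT.node 997 (BT.leaf cE997) (BT.leaf cE998)) (BT.node 999 (BT.leaf cE999) (BT.leaf cE1000)))))) (BT.node 1016 (BT.node 1008 (BT.node 1004 (BT.node 1002 (BT.node 1001 (BT.leaf cE1001) (BT.leaf cE1002)) (BT.node 1003 (BT.leaf cE1003) (BT.leaf cE1004))) (BT.node 1006 (BT.node 1005 (BT.leaf cE1005) (BT.leaf cE1006)) (BT.node 1007 (BT.leaf cE1007) (BT.leaf cE1008)))) (BT.node 1012 (BT.node 1010 (BT.node 1009 (BT.leaf cE1009) (BT.leaf cE1010)) (BT.node 1011 (BT.leaf cE1011) (BT.leaf cE1012))) (BT.node 1014 (BT.node 1013 (BT.leaf cE1013) (BT.leaf cE1014)) (BT.node 1015 (BT.leaf cE1015) (BT.leaf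 cE1016))))) (BT.node 1024 (BT.node 1020 (BT.node 1018 (BT.node 1017 (BT.leaf cE1017) (BT.leaf cE1018)) (BT.node 1019 (BT.leaf cE1019) (BT.leaf cE1020))) (BT.node 1022 (BT.node 1021 (BT.leaf cE1021) (BT.leaf cE1022)) (BT.node 1023 (BT.leaf cE1023) (BT.leaf cE1024)))) (BT.node 1028 (BT.node 1026 (BT.node 1025 (BT.leaf cE1025) (BT.leaf cE1026)) (BT.node 1027 (BT.leaf cE1027) (BT.leaf cE1028))) (BT.node 1030 (BT.node 1029 (BT.leaf cE1029) (BT.leaf cE1030)) (BT.node 1031 (BT.leaf cE1031) (BT.leaf cE1032))))))))))) (BT.node 1548 (BT.node 1290 (BT.node 1161 (BT.node 1097 (BT.node 1065 (BT.node 1049 (BT.node 1041 (BT.node 1037 (BT.node 1035 (BT.node 1034 (BT.node 1033 (BT.leaf cE1033) (BT.leaf cE1034)) (BT.leaf cE1035)) (BT.node 1036 (BT.leaf cE1036) (BT.leaf cE1037))) (BT.node 1039 (BT.node 1038 (BT.leaf cE1038) (BT.leaf cE1039)) (BT.node 1040 (BT.leaf cE1040) (BT.leaf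 cE1041)))) (BT.node 1045 (BT.node 1043 (BT.node 1042 (BT.leaf cE1042) (BT.leaf cE1043)) (BT.node 1044 (BT.leaf cE1044) (BT.leaf cE1045))) (BT.node 1047 (BT.node 1046 (BT.leaf cE1046) (BT.leaf cE1047)) (BT.node 1048 (BT.leaf cE1048) (BT.leaf cE1049))))) (BT.node 1057 (BT.node 1053 (BT.node 1051 (BT.node 1050 (BT.leaf cE1050) (BT.leaf cE1051)) (BT.node 1052 (BT.leaf cE1052) (BT.leaf cE1053))) (BT.node 1055 (BT.node 1054 (BT.leaf cE1054) (BT.leaf cE1055)) (BT.node 1056 (BT.leaf cE1056) (BT.leaf cE1057)))) (BT.node 1061 (BT.node 1059 (BT.node 1058 (BT.leaf cE1058) (BT.leaf cE1059)) (BT.node 1060 (BT.leaf cE1060) (BT.leaf cE1061))) (BT.node 1063 (BT.node 1062 (BT.leaf cE1062) (BT.leaf cE1063)) (BT.node 1064 (BT.leaf cE1064) (BT.leaf cE1065)))))) (BT.node 1081 (BT.node 1073 (BT.node 1069 (BT.node 1067 (BT.node 1066 (BT.leaf cE1066) (BT.leaf cE1067)) (BT.node 1068 (BT.leaf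 cE1068) (BT.leaf cE1069))) (BT.node 1071 (BT.node 1070 (BT.leaf cE1070) (BT.leaf cE1071)) (BT.node 1072 (BT.leaf cE1072) (BT.leaf cE1073)))) (BT.node 1077 (BT.node 1075 (BT.node 1074 (BT.leaf cE1074) (BT.leaf cE1075)) (BT.node 1076 (BT.leaf cE1076) (BT.leaf cE1077))) (BT.node 1079 (BT.node 1078 (BT.leaf cE1078) (BT.leaf cE1079)) (BT.node 1080 (BT.leaf cE1080) (BT.leaf cE1081))))) (BT.node 1089 (BT.node 1085 (BT.node 1083 (BT.node 1082 (BT.leaf cE1082) (BT.leaf cE1083)) (BT.node 1084 (BT.leaf cE1084) (BT.leaf cE1085))) (BT.node 1087 (BT.node 1086 (BT.leaf cE1086) (BT.leaf cE1087)) (BT.node 1088 (BT.leaf cE1088) (BT.leaf cE1089)))) (BT.node 1093 (BT.node 1091 (BT.node 1090 (BT.leaf cE1090) (BT.leaf cE1091)) (BT.node 1092 (BT.leaf cE1092) (BT.leaf cE1093))) (BT.node 1095 (BT.node 1094 (BT.leaf cE1094) (BT.leaf cE1095)) (BT.node 1096 (BT.leaf cE1096) (BT.leaf cE1097)))))))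 (BT.node 1129 (BT.node 1113 (BT.node 1105 (BT.node 1101 (BT.node 1099 (BT.node 1098 (BT.leaf cE1098) (BT.leaf cE1099)) (BT.node 1100 (BT.leaf cE1100) (BT.leaf cE1101))) (BT.node 1103 (BT.node 1102 (BT.leaf cE1102) (BT.leaf cE1103)) (BT.node 1104 (BT.leaf cE1104) (BT.leaf cE1105)))) (BT.node 1109 (BT.node 1107 (BT.node 1106 (BT.leaf cE1106) (BT.leaf cE1107)) (BT.node 1108 (BT.leaf cE1108) (BT.leaf cE1109))) (BT.node 1111 (BT.node 1110 (BT.leaf cE1110) (BT.leaf cE1111)) (BT.node 1112 (BT.leaf cE1112) (BT.leaf cE1113))))) (BT.node 1121 (BT.node 1117 (BT.node 1115 (BT.node 1114 (BT.leaf cE1114) (BT.leaf cE1115)) (BT.node 1116 (BT.leaf cE1116) (BT.leaf cE1117))) (BT.node 1119 (BT.node 1118 (BT.leaf cE1118) (BT.leaf cE1119)) (BT.node 1120 (BT.leaf cE1120) (BT.leaf cE1121)))) (BT.node 1125 (BT.node 1123 (BT.node 1122 (BT.leaf cE1122) (BT.leaf cE1123)) (BT.node 1124 (BT.leaf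 cE1124) (BT.leaf cE1125))) (BT.node 1127 (BT.node 1126 (BT.leaf cE1126) (BT.leaf cE1127)) (BT.node 1128 (BT.leaf cE1128) (BT.leaf cE1129)))))) (BT.node 1145 (BT.node 1137 (BT.node 1133 (BT.node 1131 (BT.node 1130 (BT.leaf cE1130) (BT.leaf cE1131)) (BT.node 1132 (BT.leaf cE1132) (BT.leaf cE1133))) (BT.node 1135 (BT.node 1134 (BT.leaf cE1134) (BT.leaf cE1135)) (BT.node 1136 (BT.leaf cE1136) (BT.leaf cE1137)))) (BT.node 1141 (BT.node 1139 (BT.node 1138 (BT.leaf cE1138) (BT.leaf cE1139)) (BT.node 1140 (BT.leaf cE1140) (BT.leaf cE1141))) (BT.node 1143 (BT.node 1142 (BT.leaf cE1142) (BT.leaf cE1143)) (BT.node 1144 (BT.leaf cE1144) (BT.leaf cE1145))))) (BT.node 1153 (BT.node 1149 (BT.node 1147 (BT.node 1146 (BT.leaf cE1146) (BT.leaf cE1147)) (BT.node 1148 (BT.leaf cE1148) (BT.leaf cE1149))) (BT.node 1151 (BT.node 1150 (BT.leaf cE1150) (BT.leaf cE1151)) (BT.node 1152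 (BT.leaf cE1152) (BT.leaf cE1153)))) (BT.node 1157 (BT.node 1155 (BT.node 1154 (BT.leaf cE1154) (BT.leaf cE1155)) (BT.node 1156 (BT.leaf cE1156) (BT.leaf cE1157))) (BT.node 1159 (BT.node 1158 (BT.leaf cE1158) (BT.leaf cE1159)) (BT.node 1160 (BT.leaf cE1160) (BT.leaf cE1161)))))))) (BT.node 1226 (BT.node 1194 (BT.node 1178 (BT.node 1170 (BT.node 1166 (BT.node 1164 (BT.node 1163 (BT.node 1162 (BT.leaf cE1162) (BT.leaf cE1163)) (BT.leaf cE1164)) (BT.node 1165 (BT.leaf cE1165) (BT.leaf cE1166))) (BT.node 1168 (BT.node 1167 (BT.leaf cE1167) (BT.leaf cE1168)) (BT.node 1169 (BT.leaf cE1169) (BT.leaf cE1170)))) (BT.node 1174 (BT.node 1172 (BT.node 1171 (BT.leaf cE1171) (BT.leaf cE1172)) (BT.node 1173 (BT.leaf cE1173) (BT.leaf cE1174))) (BT.node 1176 (BT.node 1175 (BT.leaf cE1175) (BT.leaf cE1176)) (BT.node 1177 (BT.leaf cE1177) (BT.leaf cE1178))))) (BT.node 1186 (BT.node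 1182 (BT.node 1180 (BT.node 1179 (BT.leaf cE1179) (BT.leaf cE1180)) (BT.node 1181 (BT.leaf cE1181) (BT.leaf cE1182))) (BT.node 1184 (BT.node 1183 (BT.leaf cE1183) (BT.leaf cE1184)) (BT.node 1185 (BT.leaf cE1185) (BT.leaf cE1186)))) (BT.node 1190 (BT.node 1188 (BT.node 1187 (BT.leaf cE1187) (BT.leaf cE1188)) (BT.node 1189 (BT.leaf cE1189) (BT.leaf cE1190))) (BT.node 1192 (BT.node 1191 (BT.leaf cE1191) (BT.leaf cE1192)) (BT.node 1193 (BT.leaf cE1193) (BT.leaf cE1194)))))) (BT.node 1210 (BT.node 1202 (BT.node 1198 (BT.node 1196 (BT.node 1195 (BT.leaf cE1195) (BT.leaf cE1196)) (BT.node 1197 (BT.leaf cE1197) (BT.leaf cE1198))) (BT.node 1200 (BT.node 1199 (BT.leaf cE1199) (BT.leaf cE1200)) (BT.node 1201 (BT.leaf cE1201) (BT.leaf cE1202)))) (BT.node 1206 (BT.node 1204 (BT.node 1203 (BT.leaf cE1203) (BT.leaf cE1204)) (BT.node 1205 (BT.leaf cE1205) (BT.leaf cE1206))) (BT.node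 1208 (BT.node 1207 (BT.leaf cE1207) (BT.leaf cE1208)) (BT.node 1209 (BT.leaf cE1209) (BT.leaf cE1210))))) (BT.node 1218 (BT.node 1214 (BT.node 1212 (BT.node 1211 (BT.leaf cE1211) (BT.leaf cE1212)) (BT.node 1213 (BT.leaf cE1213) (BT.leaf cE1214))) (BT.node 1216 (BT.node 1215 (BT.leaf cE1215) (BT.leaf cE1216)) (BT.node 1217 (BT.leaf cE1217) (BT.leaf cE1218)))) (BT.node 1222 (BT.node 1220 (BT.node 1219 (BT.leaf cE1219) (BT.leaf cE1220)) (BT.node 1221 (BT.leaf cE1221) (BT.leaf cE1222))) (BT.node 1224 (BT.node 1223 (BT.leaf cE1223) (BT.leaf cE1224)) (BT.node 1225 (BT.leaf cE1225) (BT.leaf cE1226))))))) (BT.node 1258 (BT.node 1242 (BT.node 1234 (BT.node 1230 (BT.node 1228 (BT.node 1227 (BT.leaf cE1227) (BT.leaf cE1228)) (BT.node 1229 (BT.leaf cE1229) (BT.leaf cE1230))) (BT.node 1232 (BT.node 1231 (BT.leaf cE1231) (BT.leaf cE1232)) (BT.node 1233 (BT.leaf cE1233) (BT.leaf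 cE1234)))) (BT.node 1238 (BT.node 1236 (BT.node 1235 (BT.leaf cE1235) (BT.leaf cE1236)) (BT.node 1237 (BT.leaf cE1237) (BT.leaf cE1238))) (BT.node 1240 (BT.node 1239 (BT.leaf cE1239) (BT.leaf cE1240)) (BT.node 1241 (BT.leaf cE1241) (BT.leaf cE1242))))) (BT.node 1250 (BT.node 1246 (BT.node 1244 (BT.node 1243 (BT.leaf cE1243) (BT.leaf cE1244)) (BT.node 1245 (BT.leaf cE1245) (BT.leaf cE1246))) (BT.node 1248 (BT.node 1247 (BT.leaf cE1247) (BT.leaf cE1248)) (BT.node 1249 (BT.leaf cE1249) (BT.leaf cE1250)))) (BT.node 1254 (BT.node 1252 (BT.node 1251 (BT.leaf cE1251) (BT.leaf cE1252)) (BT.node 1253 (BT.leaf cE1253) (BT.leaf cE1254))) (BT.node 1256 (BT.node 1255 (BT.leaf cE1255) (BT.leaf cE1256)) (BT.node 1257 (BT.leaf cE1257) (BT.leaf cE1258)))))) (BT.node 1274 (BT.node 1266 (BT.node 1262 (BT.node 1260 (BT.node 1259 (BT.leaf cE1259) (BT.leaf cE1260)) (BT.node 1261 (BT.leaf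 cE1261) (BT.leaf cE1262))) (BT.node 1264 (BT.node 1263 (BT.leaf cE1263) (BT.leaf cE1264)) (BT.node 1265 (BT.leaf cE1265) (BT.leaf cE1266)))) (BT.node 1270 (BT.node 1268 (BT.node 1267 (BT.leaf cE1267) (BT.leaf cE1268)) (BT.node 1269 (BT.leaf cE1269) (BT.leaf cE1270))) (BT.node 1272 (BT.node 1271 (BT.leaf cE1271) (BT.leaf cE1272)) (BT.node 1273 (BT.leaf cE1273) (BT.leaf cE1274))))) (BT.node 1282 (BT.node 1278 (BT.node 1276 (BT.node 1275 (BT.leaf cE1275) (BT.leaf cE1276)) (BT.node 1277 (BT.leaf cE1277) (BT.leaf cE1278))) (BT.node 1280 (BT.node 1279 (BT.leaf cE1279) (BT.leaf cE1280)) (BT.node 1281 (BT.leaf cE1281) (BT.leaf cE1282)))) (BT.node 1286 (BT.node 1284 (BT.node 1283 (BT.leaf cE1283) (BT.leaf cE1284)) (BT.node 1285 (BT.leaf cE1285) (BT.leaf cE1286))) (BT.node 1288 (BT.node 1287 (BT.leaf cE1287) (BT.leaf cE1288)) (BT.node 1289 (BT.leaf cE1289) (BT.leaf cE1290)))))))))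 (BT.node 1419 (BT.node 1355 (BT.node 1323 (BT.node 1307 (BT.node 1299 (BT.node 1295 (BT.node 1293 (BT.node 1292 (BT.node 1291 (BT.leaf cE1291) (BT.leaf cE1292)) (BT.leaf cE1293)) (BT.node 1294 (BT.leaf cE1294) (BT.leaf cE1295))) (BT.node 1297 (BT.node 1296 (BT.leaf cE1296) (BT.leaf cE1297)) (BT.node 1298 (BT.leaf cE1298) (BT.leaf cE1299)))) (BT.node 1303 (BT.node 1301 (BT.node 1300 (BT.leaf cE1300) (BT.leaf cE1301)) (BT.node 1302 (BT.leaf cE1302) (BT.leaf cE1303))) (BT.node 1305 (BT.node 1304 (BT.leaf cE1304) (BT.leaf cE1305)) (BT.node 1306 (BT.leaf cE1306) (BT.leaf cE1307))))) (BT.node 1315 (BT.node 1311 (BT.node 1309 (BT.node 1308 (BT.leaf cE1308) (BT.leaf cE1309)) (BT.node 1310 (BT.leaf cE1310) (BT.leaf cE1311))) (BT.node 1313 (BT.node 1312 (BT.leaf cE1312) (BT.leaf cE1313)) (BT.node 1314 (BT.leaf cE1314) (BT.leaf cE1315)))) (BT.node 1319 (BT.node 1317 (BT.node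 1316 (BT.leaf cE1316) (BT.leaf cE1317)) (BT.node 1318 (BT.leaf cE1318) (BT.leaf cE1319))) (BT.node 1321 (BT.node 1320 (BT.leaf cE1320) (BT.leaf cE1321)) (BT.node 1322 (BT.leaf cE1322) (BT.leaf cE1323)))))) (BT.node 1339 (BT.node 1331 (BT.node 1327 (BT.node 1325 (BT.node 1324 (BT.leaf cE1324) (BT.leaf cE1325)) (BT.node 1326 (BT.leaf cE1326) (BT.leaf cE1327))) (BT.node 1329 (BT.node 1328 (BT.leaf cE1328) (BT.leaf cE1329)) (BT.node 1330 (BT.leaf cE1330) (BT.leaf cE1331)))) (BT.node 1335 (BT.node 1333 (BT.node 1332 (BT.leaf cE1332) (BT.leaf cE1333)) (BT.node 1334 (BT.leaf cE1334) (BT.leaf cE1335))) (BT.node 1337 (BT.node 1336 (BT.leaf cE1336) (BT.leaf cE1337)) (BT.node 1338 (BT.leaf cE1338) (BT.leaf cE1339))))) (BT.node 1347 (BT.node 1343 (BT.node 1341 (BT.node 1340 (BT.leaf cE1340) (BT.leaf cE1341)) (BT.node 1342 (BT.leaf cE1342) (BT.leaf cE1343))) (BT.node 1345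 (BT.node 1344 (BT.leaf cE1344) (BT.leaf cE1345)) (BT.node 1346 (BT.leaf cE1346) (BT.leaf cE1347)))) (BT.node 1351 (BT.node 1349 (BT.node 1348 (BT.leaf cE1348) (BT.leaf cE1349)) (BT.node 1350 (BT.leaf cE1350) (BT.leaf cE1351))) (BT.node 1353 (BT.node 1352 (BT.leaf cE1352) (BT.leaf cE1353)) (BT.node 1354 (BT.leaf cE1354) (BT.leaf cE1355))))))) (BT.node 1387 (BT.node 1371 (BT.node 1363 (BT.node 1359 (BT.node 1357 (BT.node 1356 (BT.leaf cE1356) (BT.leaf cE1357)) (BT.node 1358 (BT.leaf cE1358) (BT.leaf cE1359))) (BT.node 1361 (BT.node 1360 (BT.leaf cE1360) (BT.leaf cE1361)) (BT.node 1362 (BT.leaf cE1362) (BT.leaf cE1363)))) (BT.node 1367 (BT.node 1365 (BT.node 1364 (BT.leaf cE1364) (BT.leaf cE1365)) (BT.node 1366 (BT.leaf cE1366) (BT.leaf cE1367))) (BT.node 1369 (BT.node 1368 (BT.leaf cE1368) (BT.leaf cE1369)) (BT.node 1370 (BT.leaf cE1370) (BT.leaf cE1371))))) (BT.node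 1379 (BT.node 1375 (BT.node 1373 (BT.node 1372 (BT.leaf cE1372) (BT.leaf cE1373)) (BT.node 1374 (BT.leaf cE1374) (BT.leaf cE1375))) (BT.node 1377 (BT.node 1376 (BT.leaf cE1376) (BT.leaf cE1377)) (BT.node 1378 (BT.leaf cE1378) (BT.leaf cE1379)))) (BT.node 1383 (BT.node 1381 (BT.node 1380 (BT.leaf cE1380) (BT.leaf cE1381)) (BT.node 1382 (BT.leaf cE1382) (BT.leaf cE1383))) (BT.node 1385 (BT.node 1384 (BT.leaf cE1384) (BT.leaf cE1385)) (BT.node 1386 (BT.leaf cE1386) (BT.leaf cE1387)))))) (BT.node 1403 (BT.node 1395 (BT.node 1391 (BT.node 1389 (BT.node 1388 (BT.leaf cE1388) (BT.leaf cE1389)) (BT.node 1390 (BT.leaf cE1390) (BT.leaf cE1391))) (BT.node 1393 (BT.node 1392 (BT.leaf cE1392) (BT.leaf cE1393)) (BT.node 1394 (BT.leaf cE1394) (BT.leaf cE1395)))) (BT.node 1399 (BT.node 1397 (BT.node 1396 (BT.leaf cE1396) (BT.leaf cE1397)) (BT.node 1398 (BT.leaf cE1398) (BT.leaf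 cE1399))) (BT.node 1401 (BT.node 1400 (BT.leaf cE1400) (BT.leaf cE1401)) (BT.node 1402 (BT.leaf cE1402) (BT.leaf cE1403))))) (BT.node 1411 (BT.node 1407 (BT.node 1405 (BT.node 1404 (BT.leaf cE1404) (BT.leaf cE1405)) (BT.node 1406 (BT.leaf cE1406) (BT.leaf cE1407))) (BT.node 1409 (BT.node 1408 (BT.leaf cE1408) (BT.leaf cE1409)) (BT.node 1410 (BT.leaf cE1410) (BT.leaf cE1411)))) (BT.node 1415 (BT.node 1413 (BT.node 1412 (BT.leaf cE1412) (BT.leaf cE1413)) (BT.node 1414 (BT.leaf cE1414) (BT.leaf cE1415))) (BT.node 1417 (BT.node 1416 (BT.leaf cE1416) (BT.leaf cE1417)) (BT.node 1418 (BT.leaf cE1418) (BT.leaf cE1419)))))))) (BT.node 1484 (BT.node 1452 (BT.node 1436 (BT.node 1428 (BT.node 1424 (BT.node 1422 (BT.node 1421 (BT.node 1420 (BT.leaf cE1420) (BT.leaf cE1421)) (BT.leaf cE1422)) (BT.node 1423 (BT.leaf cE1423) (BT.leaf cE1424))) (BT.node 1426 (BT.node 1425 (BT.leaf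 cE1425) (BT.leaf cE1426)) (BT.node 1427 (BT.leaf cE1427) (BT.leaf cE1428)))) (BT.node 1432 (BT.node 1430 (BT.node 1429 (BT.leaf cE1429) (BT.leaf cE1430)) (BT.node 1431 (BT.leaf cE1431) (BT.leaf cE1432))) (BT.node 1434 (BT.node 1433 (BT.leaf cE1433) (BT.leaf cE1434)) (BT.node 1435 (BT.leaf cE1435) (BT.leaf cE1436))))) (BT.node 1444 (BT.node 1440 (BT.node 1438 (BT.node 1437 (BT.leaf cE1437) (BT.leaf cE1438)) (BT.node 1439 (BT.leaf cE1439) (BT.leaf cE1440))) (BT.node 1442 (BT.node 1441 (BT.leaf cE1441) (BT.leaf cE1442)) (BT.node 1443 (BT.leaf cE1443) (BT.leaf cE1444)))) (BT.node 1448 (BT.node 1446 (BT.node 1445 (BT.leaf cE1445) (BT.leaf cE1446)) (BT.node 1447 (BT.leaf cE1447) (BT.leaf cE1448))) (BT.node 1450 (BT.node 1449 (BT.leaf cE1449) (BT.leaf cE1450)) (BT.node 1451 (BT.leaf cE1451) (BT.leaf cE1452)))))) (BT.node 1468 (BT.node 1460 (BT.node 1456 (BT.node 1454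 (BT.node 1453 (BT.leaf cE1453) (BT.leaf cE1454)) (BT.node 1455 (BT.leaf cE1455) (BT.leaf cE1456))) (BT.node 1458 (BT.node 1457 (BT.leaf cE1457) (BT.leaf cE1458)) (BT.node 1459 (BT.leaf cE1459) (BT.leaf cE1460)))) (BT.node 1464 (BT.node 1462 (BT.node 1461 (BT.leaf cE1461) (BT.leaf cE1462)) (BT.node 1463 (BT.leaf cE1463) (BT.leaf cE1464))) (BT.node 1466 (BT.node 1465 (BT.leaf cE1465) (BT.leaf cE1466)) (BT.node 1467 (BT.leaf cE1467) (BT.leaf cE1468))))) (BT.node 1476 (BT.node 1472 (BT.node 1470 (BT.node 1469 (BT.leaf cE1469) (BT.leaf cE1470)) (BT.node 1471 (BT.leaf cE1471) (BT.leaf cE1472))) (BT.node 1474 (BT.node 1473 (BT.leaf cE1473) (BT.leaf cE1474)) (BT.node 1475 (BT.leaf cE1475) (BT.leaf cE1476)))) (BT.node 1480 (BT.node 1478 (BT.node 1477 (BT.leaf cE1477) (BT.leaf cE1478)) (BT.node 1479 (BT.leaf cE1479) (BT.leaf cE1480))) (BT.node 1482 (BT.node 1481 (BT.leaf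 cE1481) (BT.leaf cE1482)) (BT.node 1483 (BT.leaf cE1483) (BT.leaf cE1484))))))) (BT.node 1516 (BT.node 1500 (BT.node 1492 (BT.node 1488 (BT.node 1486 (BT.node 1485 (BT.leaf cE1485) (BT.leaf cE1486)) (BT.node 1487 (BT.leaf cE1487) (BT.leaf cE1488))) (BT.node 1490 (BT.node 1489 (BT.leaf cE1489) (BT.leaf cE1490)) (BT.node 1491 (BT.leaf cE1491) (BT.leaf cE1492)))) (BT.node 1496 (BT.node 1494 (BT.node 1493 (BT.leaf cE1493) (BT.leaf cE1494)) (BT.node 1495 (BT.leaf cE1495) (BT.leaf cE1496))) (BT.node 1498 (BT.node 1497 (BT.leaf cE1497) (BT.leaf cE1498)) (BT.node 1499 (BT.leaf cE1499) (BT.leaf cE1500))))) (BT.node 1508 (BT.node 1504 (BT.node 1502 (BT.node 1501 (BT.leaf cE1501) (BT.leaf cE1502)) (BT.node 1503 (BT.leaf cE1503) (BT.leaf cE1504))) (BT.node 1506 (BT.node 1505 (BT.leaf cE1505) (BT.leaf cE1506)) (BT.node 1507 (BT.leaf cE1507) (BT.leaf cE1508)))) (BT.node 1512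 (BT.node 1510 (BT.node 1509 (BT.leaf cE1509) (BT.leaf cE1510)) (BT.node 1511 (BT.leaf cE1511) (BT.leaf cE1512))) (BT.node 1514 (BT.node 1513 (BT.leaf cE1513) (BT.leaf cE1514)) (BT.node 1515 (BT.leaf cE1515) (BT.leaf cE1516)))))) (BT.node 1532 (BT.node 1524 (BT.node 1520 (BT.node 1518 (BT.node 1517 (BT.leaf cE1517) (BT.leaf cE1518)) (BT.node 1519 (BT.leaf cE1519) (BT.leaf cE1520))) (BT.node 1522 (BT.node 1521 (BT.leaf cE1521) (BT.leaf cE1522)) (BT.node 1523 (BT.leaf cE1523) (BT.leaf cE1524)))) (BT.node 1528 (BT.node 1526 (BT.node 1525 (BT.leaf cE1525) (BT.leaf cE1526)) (BT.node 1527 (BT.leaf cE1527) (BT.leaf cE1528))) (BT.node 1530 (BT.node 1529 (BT.leaf cE1529) (BT.leaf cE1530)) (BT.node 1531 (BT.leaf cE1531) (BT.leaf cE1532))))) (BT.node 1540 (BT.node 1536 (BT.node 1534 (BT.node 1533 (BT.leaf cE1533) (BT.leaf cE1534)) (BT.node 1535 (BT.leaf cE1535) (BT.leaf cE1536)))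 (BT.node 1538 (BT.node 1537 (BT.leaf cE1537) (BT.leaf cE1538)) (BT.node 1539 (BT.leaf cE1539) (BT.leaf cE1540)))) (BT.node 1544 (BT.node 1542 (BT.node 1541 (BT.leaf cE1541) (BT.leaf cE1542)) (BT.node 1543 (BT.leaf cE1543) (BT.leaf cE1544))) (BT.node 1546 (BT.node 1545 (BT.leaf cE1545) (BT.leaf cE1546)) (BT.node 1547 (BT.leaf cE1547) (BT.leaf cE1548)))))))))) (BT.node 1806 (BT.node 1677 (BT.node 1613 (BT.node 1581 (BT.node 1565 (BT.node 1557 (BT.node 1553 (BT.node 1551 (BT.node 1550 (BT.node 1549 (BT.leaf cE1549) (BT.leaf cE1550)) (BT.leaf cE1551)) (BT.node 1552 (BT.leaf cE1552) (BT.leaf cE1553))) (BT.node 1555 (BT.node 1554 (BT.leaf cE1554) (BT.leaf cE1555)) (BT.node 1556 (BT.leaf cE1556) (BT.leaf cE1557)))) (BT.node 1561 (BT.node 1559 (BT.node 1558 (BT.leaf cE1558) (BT.leaf cE1559)) (BT.node 1560 (BT.leaf cE1560) (BT.leaf cE1561))) (BT.node 1563 (BT.node 1562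 (BT.leaf cE1562) (BT.leaf cE1563)) (BT.node 1564 (BT.leaf cE1564) (BT.leaf cE1565))))) (BT.node 1573 (BT.node 1569 (BT.node 1567 (BT.node 1566 (BT.leaf cE1566) (BT.leaf cE1567)) (BT.node 1568 (BT.leaf cE1568) (BT.leaf cE1569))) (BT.node 1571 (BT.node 1570 (BT.leaf cE1570) (BT.leaf cE1571)) (BT.node 1572 (BT.leaf cE1572) (BT.leaf cE1573)))) (BT.node 1577 (BT.node 1575 (BT.node 1574 (BT.leaf cE1574) (BT.leaf cE1575)) (BT.node 1576 (BT.leaf cE1576) (BT.leaf cE1577))) (BT.node 1579 (BT.node 1578 (BT.leaf cE1578) (BT.leaf cE1579)) (BT.node 1580 (BT.leaf cE1580) (BT.leaf cE1581)))))) (BT.node 1597 (BT.node 1589 (BT.node 1585 (BT.node 1583 (BT.node 1582 (BT.leaf cE1582) (BT.leaf cE1583)) (BT.node 1584 (BT.leaf cE1584) (BT.leaf cE1585))) (BT.node 1587 (BT.node 1586 (BT.leaf cE1586) (BT.leaf cE1587)) (BT.node 1588 (BT.leaf cE1588) (BT.leaf cE1589)))) (BT.node 1593 (BT.node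 1591 (BT.node 1590 (BT.leaf cE1590) (BT.leaf cE1591)) (BT.node 1592 (BT.leaf cE1592) (BT.leaf cE1593))) (BT.node 1595 (BT.node 1594 (BT.leaf cE1594) (BT.leaf cE1595)) (BT.node 1596 (BT.leaf cE1596) (BT.leaf cE1597))))) (BT.node 1605 (BT.node 1601 (BT.node 1599 (BT.node 1598 (BT.leaf cE1598) (BT.leaf cE1599)) (BT.node 1600 (BT.leaf cE1600) (BT.leaf cE1601))) (BT.node 1603 (BT.node 1602 (BT.leaf cE1602) (BT.leaf cE1603)) (BT.node 1604 (BT.leaf cE1604) (BT.leaf cE1605)))) (BT.node 1609 (BT.node 1607 (BT.node 1606 (BT.leaf cE1606) (BT.leaf cE1607)) (BT.node 1608 (BT.leaf cE1608) (BT.leaf cE1609))) (BT.node 1611 (BT.node 1610 (BT.leaf cE1610) (BT.leaf cE1611)) (BT.node 1612 (BT.leaf cE1612) (BT.leaf cE1613))))))) (BT.node 1645 (BT.node 1629 (BT.node 1621 (BT.node 1617 (BT.node 1615 (BT.node 1614 (BT.leaf cE1614) (BT.leaf cE1615)) (BT.node 1616 (BT.leaf cE1616) (BT.leaf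 cE1617))) (BT.node 1619 (BT.node 1618 (BT.leaf cE1618) (BT.leaf cE1619)) (BT.node 1620 (BT.leaf cE1620) (BT.leaf cE1621)))) (BT.node 1625 (BT.node 1623 (BT.node 1622 (BT.leaf cE1622) (BT.leaf cE1623)) (BT.node 1624 (BT.leaf cE1624) (BT.leaf cE1625))) (BT.node 1627 (BT.node 1626 (BT.leaf cE1626) (BT.leaf cE1627)) (BT.node 1628 (BT.leaf cE1628) (BT.leaf cE1629))))) (BT.node 1637 (BT.node 1633 (BT.node 1631 (BT.node 1630 (BT.leaf cE1630) (BT.leaf cE1631)) (BT.node 1632 (BT.leaf cE1632) (BT.leaf cE1633))) (BT.node 1635 (BT.node 1634 (BT.leaf cE1634) (BT.leaf cE1635)) (BT.node 1636 (BT.leaf cE1636) (BT.leaf cE1637)))) (BT.node 1641 (BT.node 1639 (BT.node 1638 (BT.leaf cE1638) (BT.leaf cE1639)) (BT.node 1640 (BT.leaf cE1640) (BT.leaf cE1641))) (BT.node 1643 (BT.node 1642 (BT.leaf cE1642) (BT.leaf cE1643)) (BT.node 1644 (BT.leaf cE1644) (BT.leaf cE1645)))))) (BT.node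 1661 (BT.node 1653 (BT.node 1649 (BT.node 1647 (BT.node 1646 (BT.leaf cE1646) (BT.leaf cE1647)) (BT.node 1648 (BT.leaf cE1648) (BT.leaf cE1649))) (BT.node 1651 (BT.node 1650 (BT.leaf cE1650) (BT.leaf cE1651)) (BT.node 1652 (BT.leaf cE1652) (BT.leaf cE1653)))) (BT.node 1657 (BT.node 1655 (BT.node 1654 (BT.leaf cE1654) (BT.leaf cE1655)) (BT.node 1656 (BT.leaf cE1656) (BT.leaf cE1657))) (BT.node 1659 (BT.node 1658 (BT.leaf cE1658) (BT.leaf cE1659)) (BT.node 1660 (BT.leaf cE1660) (BT.leaf cE1661))))) (BT.node 1669 (BT.node 1665 (BT.node 1663 (BT.node 1662 (BT.leaf cE1662) (BT.leaf cE1663)) (BT.node 1664 (BT.leaf cE1664) (BT.leaf cE1665))) (BT.node 1667 (BT.node 1666 (BT.leaf cE1666) (BT.leaf cE1667)) (BT.node 1668 (BT.leaf cE1668) (BT.leaf cE1669)))) (BT.node 1673 (BT.node 1671 (BT.node 1670 (BT.leaf cE1670) (BT.leaf cE1671)) (BT.node 1672 (BT.leaf cE1672) (BT.leaf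 cE1673))) (BT.node 1675 (BT.node 1674 (BT.leaf cE1674) (BT.leaf cE1675)) (BT.node 1676 (BT.leaf cE1676) (BT.leaf cE1677)))))))) (BT.node 1742 (BT.node 1710 (BT.node 1694 (BT.node 1686 (BT.node 1682 (BT.node 1680 (BT.node 1679 (BT.node 1678 (BT.leaf cE1678) (BT.leaf cE1679)) (BT.leaf cE1680)) (BT.node 1681 (BT.leaf cE1681) (BT.leaf cE1682))) (BT.node 1684 (BT.node 1683 (BT.leaf cE1683) (BT.leaf cE1684)) (BT.node 1685 (BT.leaf cE1685) (BT.leaf cE1686)))) (BT.node 1690 (BT.node 1688 (BT.node 1687 (BT.leaf cE1687) (BT.leaf cE1688)) (BT.node 1689 (BT.leaf cE1689) (BT.leaf cE1690))) (BT.node 1692 (BT.node 1691 (BT.leaf cE1691) (BT.leaf cE1692)) (BT.node 1693 (BT.leaf cE1693) (BT.leaf cE1694))))) (BT.node 1702 (BT.node 1698 (BT.node 1696 (BT.node 1695 (BT.leaf cE1695) (BT.leaf cE1696)) (BT.node 1697 (BT.leaf cE1697) (BT.leaf cE1698))) (BT.node 1700 (BT.node 1699 (BT.leaf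 cE1699) (BT.leaf cE1700)) (BT.node 1701 (BT.leaf cE1701) (BT.leaf cE1702)))) (BT.node 1706 (BT.node 1704 (BT.node 1703 (BT.leaf cE1703) (BT.leaf cE1704)) (BT.node 1705 (BT.leaf cE1705) (BT.leaf cE1706))) (BT.node 1708 (BT.node 1707 (BT.leaf cE1707) (BT.leaf cE1708)) (BT.node 1709 (BT.leaf cE1709) (BT.leaf cE1710)))))) (BT.node 1726 (BT.node 1718 (BT.node 1714 (BT.node 1712 (BT.node 1711 (BT.leaf cE1711) (BT.leaf cE1712)) (BT.node 1713 (BT.leaf cE1713) (BT.leaf cE1714))) (BT.node 1716 (BT.node 1715 (BT.leaf cE1715) (BT.leaf cE1716)) (BT.node 1717 (BT.leaf cE1717) (BT.leaf cE1718)))) (BT.node 1722 (BT.node 1720 (BT.node 1719 (BT.leaf cE1719) (BT.leaf cE1720)) (BT.node 1721 (BT.leaf cE1721) (BT.leaf cE1722))) (BT.node 1724 (BT.node 1723 (BT.leaf cE1723) (BT.leaf cE1724)) (BT.node 1725 (BT.leaf cE1725) (BT.leaf cE1726))))) (BT.node 1734 (BT.node 1730 (BT.node 1728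 (BT.node 1727 (BT.leaf cE1727) (BT.leaf cE1728)) (BT.node 1729 (BT.leaf cE1729) (BT.leaf cE1730))) (BT.node 1732 (BT.node 1731 (BT.leaf cE1731) (BT.leaf cE1732)) (BT.node 1733 (BT.leaf cE1733) (BT.leaf cE1734)))) (BT.node 1738 (BT.node 1736 (BT.node 1735 (BT.leaf cE1735) (BT.leaf cE1736)) (BT.node 1737 (BT.leaf cE1737) (BT.leaf cE1738))) (BT.node 1740 (BT.node 1739 (BT.leaf cE1739) (BT.leaf cE1740)) (BT.node 1741 (BT.leaf cE1741) (BT.leaf cE1742))))))) (BT.node 1774 (BT.node 1758 (BT.node 1750 (BT.node 1746 (BT.node 1744 (BT.node 1743 (BT.leaf cE1743) (BT.leaf cE1744)) (BT.node 1745 (BT.leaf cE1745) (BT.leaf cE1746))) (BT.node 1748 (BT.node 1747 (BT.leaf cE1747) (BT.leaf cE1748)) (BT.node 1749 (BT.leaf cE1749) (BT.leaf cE1750)))) (BT.node 1754 (BT.node 1752 (BT.node 1751 (BT.leaf cE1751) (BT.leaf cE1752)) (BT.node 1753 (BT.leaf cE1753) (BT.leaf cE1754))) (BT.node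 1756 (BT.node 1755 (BT.leaf cE1755) (BT.leaf cE1756)) (BT.node 1757 (BT.leaf cE1757) (BT.leaf cE1758))))) (BT.node 1766 (BT.node 1762 (BT.node 1760 (BT.node 1759 (BT.leaf cE1759) (BT.leaf cE1760)) (BT.node 1761 (BT.leaf cE1761) (BT.leaf cE1762))) (BT.node 1764 (BT.node 1763 (BT.leaf cE1763) (BT.leaf cE1764)) (BT.node 1765 (BT.leaf cE1765) (BT.leaf cE1766)))) (BT.node 1770 (BT.node 1768 (BT.node 1767 (BT.leaf cE1767) (BT.leaf cE1768)) (BT.node 1769 (BT.leaf cE1769) (BT.leaf cE1770))) (BT.node 1772 (BT.node 1771 (BT.leaf cE1771) (BT.leaf cE1772)) (BT.node 1773 (BT.leaf cE1773) (BT.leaf cE1774)))))) (BT.node 1790 (BT.node 1782 (BT.node 1778 (BT.node 1776 (BT.node 1775 (BT.leaf cE1775) (BT.leaf cE1776)) (BT.node 1777 (BT.leaf cE1777) (BT.leaf cE1778))) (BT.node 1780 (BT.node 1779 (BT.leaf cE1779) (BT.leaf cE1780)) (BT.node 1781 (BT.leaf cE1781) (BT.leaf cE1782))))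 (BT.node 1786 (BT.node 1784 (BT.node 1783 (BT.leaf cE1783) (BT.leaf cE1784)) (BT.node 1785 (BT.leaf cE1785) (BT.leaf cE1786))) (BT.node 1788 (BT.node 1787 (BT.leaf cE1787) (BT.leaf cE1788)) (BT.node 1789 (BT.leaf cE1789) (BT.leaf cE1790))))) (BT.node 1798 (BT.node 1794 (BT.node 1792 (BT.node 1791 (BT.leaf cE1791) (BT.leaf cE1792)) (BT.node 1793 (BT.leaf cE1793) (BT.leaf cE1794))) (BT.node 1796 (BT.node 1795 (BT.leaf cE1795) (BT.leaf cE1796)) (BT.node 1797 (BT.leaf cE1797) (BT.leaf cE1798)))) (BT.node 1802 (BT.node 1800 (BT.node 1799 (BT.leaf cE1799) (BT.leaf cE1800)) (BT.node 1801 (BT.leaf cE1801) (BT.leaf cE1802))) (BT.node 1804 (BT.node 1803 (BT.leaf cE1803) (BT.leaf cE1804)) (BT.node 1805 (BT.leaf cE1805) (BT.leaf cE1806))))))))) (BT.node 1935 (BT.node 1871 (BT.node 1839 (BT.node 1823 (BT.node 1815 (BT.node 1811 (BT.node 1809 (BT.node 1808 (BT.node 1807 (BT.leaf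 cE1807) (BT.leaf cE1808)) (BT.leaf cE1809)) (BT.node 1810 (BT.leaf cE1810) (BT.leaf cE1811))) (BT.node 1813 (BT.node 1812 (BT.leaf cE1812) (BT.leaf cE1813)) (BT.node 1814 (BT.leaf cE1814) (BT.leaf cE1815)))) (BT.node 1819 (BT.node 1817 (BT.node 1816 (BT.leaf cE1816) (BT.leaf cE1817)) (BT.node 1818 (BT.leaf cE1818) (BT.leaf cE1819))) (BT.node 1821 (BT.node 1820 (BT.leaf cE1820) (BT.leaf cE1821)) (BT.node 1822 (BT.leaf cE1822) (BT.leaf cE1823))))) (BT.node 1831 (BT.node 1827 (BT.node 1825 (BT.node 1824 (BT.leaf cE1824) (BT.leaf cE1825)) (BT.node 1826 (BT.leaf cE1826) (BT.leaf cE1827))) (BT.node 1829 (BT.node 1828 (BT.leaf cE1828) (BT.leaf cE1829)) (BT.node 1830 (BT.leaf cE1830) (BT.leaf cE1831)))) (BT.node 1835 (BT.node 1833 (BT.node 1832 (BT.leaf cE1832) (BT.leaf cE1833)) (BT.node 1834 (BT.leaf cE1834) (BT.leaf cE1835))) (BT.node 1837 (BT.node 1836 (BT.leaf cE1836)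 (BT.leaf cE1837)) (BT.node 1838 (BT.leaf cE1838) (BT.leaf cE1839)))))) (BT.node 1855 (BT.node 1847 (BT.node 1843 (BT.node 1841 (BT.node 1840 (BT.leaf cE1840) (BT.leaf cE1841)) (BT.node 1842 (BT.leaf cE1842) (BT.leaf cE1843))) (BT.node 1845 (BT.node 1844 (BT.leaf cE1844) (BT.leaf cE1845)) (BT.node 1846 (BT.leaf cE1846) (BT.leaf cE1847)))) (BT.node 1851 (BT.node 1849 (BT.node 1848 (BT.leaf cE1848) (BT.leaf cE1849)) (BT.node 1850 (BT.leaf cE1850) (BT.leaf cE1851))) (BT.node 1853 (BT.node 1852 (BT.leaf cE1852) (BT.leaf cE1853)) (BT.node 1854 (BT.leaf cE1854) (BT.leaf cE1855))))) (BT.node 1863 (BT.node 1859 (BT.node 1857 (BT.node 1856 (BT.leaf cE1856) (BT.leaf cE1857)) (BT.node 1858 (BT.leaf cE1858) (BT.leaf cE1859))) (BT.node 1861 (BT.node 1860 (BT.leaf cE1860) (BT.leaf cE1861)) (BT.node 1862 (BT.leaf cE1862) (BT.leaf cE1863)))) (BT.node 1867 (BT.node 1865 (BT.node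 1864 (BT.leaf cE1864) (BT.leaf cE1865)) (BT.node 1866 (BT.leaf cE1866) (BT.leaf cE1867))) (BT.node 1869 (BT.node 1868 (BT.leaf cE1868) (BT.leaf cE1869)) (BT.node 1870 (BT.leaf cE1870) (BT.leaf cE1871))))))) (BT.node 1903 (BT.node 1887 (BT.node 1879 (BT.node 1875 (BT.node 1873 (BT.node 1872 (BT.leaf cE1872) (BT.leaf cE1873)) (BT.node 1874 (BT.leaf cE1874) (BT.leaf cE1875))) (BT.node 1877 (BT.node 1876 (BT.leaf cE1876) (BT.leaf cE1877)) (BT.node 1878 (BT.leaf cE1878) (BT.leaf cE1879)))) (BT.node 1883 (BT.node 1881 (BT.node 1880 (BT.leaf cE1880) (BT.leaf cE1881)) (BT.node 1882 (BT.leaf cE1882) (BT.leaf cE1883))) (BT.node 1885 (BT.node 1884 (BT.leaf cE1884) (BT.leaf cE1885)) (BT.node 1886 (BT.leaf cE1886) (BT.leaf cE1887))))) (BT.node 1895 (BT.node 1891 (BT.node 1889 (BT.node 1888 (BT.leaf cE1888) (BT.leaf cE1889)) (BT.node 1890 (BT.leaf cE1890) (BT.leaf cE1891)))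 (BT.node 1893 (BT.node 1892 (BT.leaf cE1892) (BT.leaf cE1893)) (BT.node 1894 (BT.leaf cE1894) (BT.leaf cE1895)))) (BT.node 1899 (BT.node 1897 (BT.node 1896 (BT.leaf cE1896) (BT.leaf cE1897)) (BT.node 1898 (BT.leaf cE1898) (BT.leaf cE1899))) (BT.node 1901 (BT.node 1900 (BT.leaf cE1900) (BT.leaf cE1901)) (BT.node 1902 (BT.leaf cE1902) (BT.leaf cE1903)))))) (BT.node 1919 (BT.node 1911 (BT.node 1907 (BT.node 1905 (BT.node 1904 (BT.leaf cE1904) (BT.leaf cE1905)) (BT.node 1906 (BT.leaf cE1906) (BT.leaf cE1907))) (BT.node 1909 (BT.node 1908 (BT.leaf cE1908) (BT.leaf cE1909)) (BT.node 1910 (BT.leaf cE1910) (BT.leaf cE1911)))) (BT.node 1915 (BT.node 1913 (BT.node 1912 (BT.leaf cE1912) (BT.leaf cE1913)) (BT.node 1914 (BT.leaf cE1914) (BT.leaf cE1915))) (BT.node 1917 (BT.node 1916 (BT.leaf cE1916) (BT.leaf cE1917)) (BT.node 1918 (BT.leaf cE1918) (BT.leaf cE1919))))) (BT.node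 1927 (BT.node 1923 (BT.node 1921 (BT.node 1920 (BT.leaf cE1920) (BT.leaf cE1921)) (BT.node 1922 (BT.leaf cE1922) (BT.leaf cE1923))) (BT.node 1925 (BT.node 1924 (BT.leaf cE1924) (BT.leaf cE1925)) (BT.node 1926 (BT.leaf cE1926) (BT.leaf cE1927)))) (BT.node 1931 (BT.node 1929 (BT.node 1928 (BT.leaf cE1928) (BT.leaf cE1929)) (BT.node 1930 (BT.leaf cE1930) (BT.leaf cE1931))) (BT.node 1933 (BT.node 1932 (BT.leaf cE1932) (BT.leaf cE1933)) (BT.node 1934 (BT.leaf cE1934) (BT.leaf cE1935)))))))) (BT.node 2000 (BT.node 1968 (BT.node 1952 (BT.node 1944 (BT.node 1940 (BT.node 1938 (BT.node 1937 (BT.node 1936 (BT.leaf cE1936) (BT.leaf cE1937)) (BT.leaf cE1938)) (BT.node 1939 (BT.leaf cE1939) (BT.leaf cE1940))) (BT.node 1942 (BT.node 1941 (BT.leaf cE1941) (BT.leaf cE1942)) (BT.node 1943 (BT.leaf cE1943) (BT.leaf cE1944)))) (BT.node 1948 (BT.node 1946 (BT.node 1945 (BT.leaf cE1945)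 (BT.leaf cE1946)) (BT.node 1947 (BT.leaf cE1947) (BT.leaf cE1948))) (BT.node 1950 (BT.node 1949 (BT.leaf cE1949) (BT.leaf cE1950)) (BT.node 1951 (BT.leaf cE1951) (BT.leaf cE1952))))) (BT.node 1960 (BT.node 1956 (BT.node 1954 (BT.node 1953 (BT.leaf cE1953) (BT.leaf cE1954)) (BT.node 1955 (BT.leaf cE1955) (BT.leaf cE1956))) (BT.node 1958 (BT.node 1957 (BT.leaf cE1957) (BT.leaf cE1958)) (BT.node 1959 (BT.leaf cE1959) (BT.leaf cE1960)))) (BT.node 1964 (BT.node 1962 (BT.node 1961 (BT.leaf cE1961) (BT.leaf cE1962)) (BT.node 1963 (BT.leaf cE1963) (BT.leaf cE1964))) (BT.node 1966 (BT.node 1965 (BT.leaf cE1965) (BT.leaf cE1966)) (BT.node 1967 (BT.leaf cE1967) (BT.leaf cE1968)))))) (BT.node 1984 (BT.node 1976 (BT.node 1972 (BT.node 1970 (BT.node 1969 (BT.leaf cE1969) (BT.leaf cE1970)) (BT.node 1971 (BT.leaf cE1971) (BT.leaf cE1972))) (BT.node 1974 (BT.node 1973 (BT.leaf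 cE1973) (BT.leaf cE1974)) (BT.node 1975 (BT.leaf cE1975) (BT.leaf cE1976)))) (BT.node 1980 (BT.node 1978 (BT.node 1977 (BT.leaf cE1977) (BT.leaf cE1978)) (BT.node 1979 (BT.leaf cE1979) (BT.leaf cE1980))) (BT.node 1982 (BT.node 1981 (BT.leaf cE1981) (BT.leaf cE1982)) (BT.node 1983 (BT.leaf cE1983) (BT.leaf cE1984))))) (BT.node 1992 (BT.node 1988 (BT.node 1986 (BT.node 1985 (BT.leaf cE1985) (BT.leaf cE1986)) (BT.node 1987 (BT.leaf cE1987) (BT.leaf cE1988))) (BT.node 1990 (BT.node 1989 (BT.leaf cE1989) (BT.leaf cE1990)) (BT.node 1991 (BT.leaf cE1991) (BT.leaf cE1992)))) (BT.node 1996 (BT.node 1994 (BT.node 1993 (BT.leaf cE1993) (BT.leaf cE1994)) (BT.node 1995 (BT.leaf cE1995) (BT.leaf cE1996))) (BT.node 1998 (BT.node 1997 (BT.leaf cE1997) (BT.leaf cE1998)) (BT.node 1999 (BT.leaf cE1999) (BT.leaf cE2000))))))) (BT.node 2032 (BT.node 2016 (BT.node 2008 (BT.node 2004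 (BT.node 2002 (BT.node 2001 (BT.leaf cE2001) (BT.leaf cE2002)) (BT.node 2003 (BT.leaf cE2003) (BT.leaf cE2004))) (BT.node 2006 (BT.node 2005 (BT.leaf cE2005) (BT.leaf cE2006)) (BT.node 2007 (BT.leaf cE2007) (BT.leaf cE2008)))) (BT.node 2012 (BT.node 2010 (BT.node 2009 (BT.leaf cE2009) (BT.leaf cE2010)) (BT.node 2011 (BT.leaf cE2011) (BT.leaf cE2012))) (BT.node 2014 (BT.node 2013 (BT.leaf cE2013) (BT.leaf cE2014)) (BT.node 2015 (BT.leaf cE2015) (BT.leaf cE2016))))) (BT.node 2024 (BT.node 2020 (BT.node 2018 (BT.node 2017 (BT.leaf cE2017) (BT.leaf cE2018)) (BT.node 2019 (BT.leaf cE2019) (BT.leaf cE2020))) (BT.node 2022 (BT.node 2021 (BT.leaf cE2021) (BT.leaf cE2022)) (BT.node 2023 (BT.leaf cE2023) (BT.leaf cE2024)))) (BT.node 2028 (BT.node 2026 (BT.node 2025 (BT.leaf cE2025) (BT.leaf cE2026)) (BT.node 2027 (BT.leaf cE2027) (BT.leaf cE2028))) (BT.node 2030 (BT.node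 2029 (BT.leaf cE2029) (BT.leaf cE2030)) (BT.node 2031 (BT.leaf cE2031) (BT.leaf cE2032)))))) (BT.node 2048 (BT.node 2040 (BT.node 2036 (BT.node 2034 (BT.node 2033 (BT.leaf cE2033) (BT.leaf cE2034)) (BT.node 2035 (BT.leaf cE2035) (BT.leaf cE2036))) (BT.node 2038 (BT.node 2037 (BT.leaf cE2037) (BT.leaf cE2038)) (BT.node 2039 (BT.leaf cE2039) (BT.leaf cE2040)))) (BT.node 2044 (BT.node 2042 (BT.node 2041 (BT.leaf cE2041) (BT.leaf cE2042)) (BT.node 2043 (BT.leaf cE2043) (BT.leaf cE2044))) (BT.node 2046 (BT.node 2045 (BT.leaf cE2045) (BT.leaf cE2046)) (BT.node 2047 (BT.leaf cE2047) (BT.leaf cE2048))))) (BT.node 2056 (BT.node 2052 (BT.node 2050 (BT.node 2049 (BT.leaf cE2049) (BT.leaf cE2050)) (BT.node 2051 (BT.leaf cE2051) (BT.leaf cE2052))) (BT.node 2054 (BT.node 2053 (BT.leaf cE2053) (BT.leaf cE2054)) (BT.node 2055 (BT.leaf cE2055) (BT.leaf cE2056)))) (BT.node 2060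 (BT.node 2058 (BT.node 2057 (BT.leaf cE2057) (BT.leaf cE2058)) (BT.node 2059 (BT.leaf cE2059) (BT.leaf cE2060))) (BT.node 2062 (BT.node 2061 (BT.leaf cE2061) (BT.leaf cE2062)) (BT.node 2063 (BT.leaf cE2063) (BT.leaf cE2064))))))))))))
/-- justification chunks -/
def colJT : BT ℕ := (BT.node 1032 (BT.node 516 (BT.node 258 (BT.node 129 (BT.node 64 (BT.node 32 (BT.node 16 (BT.node 8 (BT.node 4 (BT.node 2 (BT.node 1 (BT.node 0 (BT.leaf cJ0) (BT.leaf cJ1)) (BT.leaf cJ2)) (BT.node 3 (BT.leaf cJ3) (BT.leaf cJ4))) (BT.node 6 (BT.node 5 (BT.leaf cJ5) (BT.leaf cJ6)) (BT.node 7 (BT.leaf cJ7) (BT.leaf cJ8)))) (BT.node 12 (BT.node 10 (BT.node 9 (BT.leaf cJ9) (BT.leaf cJ10)) (BT.node 11 (BT.leaf cJ11) (BT.leaf cJ12))) (BT.node 14 (BT.node 13 (BT.leaf cJ13) (BT.leaf cJ14)) (BT.node 15 (BT.leaf cJ15) (BT.leaf cJ16))))) (BT.node 24 (BT.node 20 (BT.node 18 (BT.node 17 (BT.leaf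 cJ17) (BT.leaf cJ18)) (BT.node 19 (BT.leaf cJ19) (BT.leaf cJ20))) (BT.node 22 (BT.node 21 (BT.leaf cJ21) (BT.leaf cJ22)) (BT.node 23 (BT.leaf cJ23) (BT.leaf cJ24)))) (BT.node 28 (BT.node 26 (BT.node 25 (BT.leaf cJ25) (BT.leaf cJ26)) (BT.node 27 (BT.leaf cJ27) (BT.leaf cJ28))) (BT.node 30 (BT.node 29 (BT.leaf cJ29) (BT.leaf cJ30)) (BT.node 31 (BT.leaf cJ31) (BT.leaf cJ32)))))) (BT.node 48 (BT.node 40 (BT.node 36 (BT.node 34 (BT.node 33 (BT.leaf cJ33) (BT.leaf cJ34)) (BT.node 35 (BT.leaf cJ35) (BT.leaf cJ36))) (BT.node 38 (BT.node 37 (BT.leaf cJ37) (BT.leaf cJ38)) (BT.node 39 (BT.leaf cJ39) (BT.leaf cJ40)))) (BT.node 44 (BT.node 42 (BT.node 41 (BT.leaf cJ41) (BT.leaf cJ42)) (BT.node 43 (BT.leaf cJ43) (BT.leaf cJ44))) (BT.node 46 (BT.node 45 (BT.leaf cJ45) (BT.leaf cJ46)) (BT.node 47 (BT.leaf cJ47) (BT.leaf cJ48))))) (BT.node 56 (BT.node 52 (BT.node 50 (BT.node 49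 (BT.leaf cJ49) (BT.leaf cJ50)) (BT.node 51 (BT.leaf cJ51) (BT.leaf cJ52))) (BT.node 54 (BT.node 53 (BT.leaf cJ53) (BT.leaf cJ54)) (BT.node 55 (BT.leaf cJ55) (BT.leaf cJ56)))) (BT.node 60 (BT.node 58 (BT.node 57 (BT.leaf cJ57) (BT.leaf cJ58)) (BT.node 59 (BT.leaf cJ59) (BT.leaf cJ60))) (BT.node 62 (BT.node 61 (BT.leaf cJ61) (BT.leaf cJ62)) (BT.node 63 (BT.leaf cJ63) (BT.leaf cJ64))))))) (BT.node 97 (BT.node 81 (BT.node 73 (BT.node 69 (BT.node 67 (BT.node 66 (BT.node 65 (BT.leaf cJ65) (BT.leaf cJ66)) (BT.leaf cJ67)) (BT.node 68 (BT.leaf cJ68) (BT.leaf cJ69))) (BT.node 71 (BT.node 70 (BT.leaf cJ70) (BT.leaf cJ71)) (BT.node 72 (BT.leaf cJ72) (BT.leaf cJ73)))) (BT.node 77 (BT.node 75 (BT.node 74 (BT.leaf cJ74) (BT.leaf cJ75)) (BT.node 76 (BT.leaf cJ76) (BT.leaf cJ77))) (BT.node 79 (BT.node 78 (BT.leaf cJ78) (BT.leaf cJ79)) (BT.node 80 (BT.leaf cJ80) (BT.leaf cJ81)))))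 (BT.node 89 (BT.node 85 (BT.node 83 (BT.node 82 (BT.leaf cJ82) (BT.leaf cJ83)) (BT.node 84 (BT.leaf cJ84) (BT.leaf cJ85))) (BT.node 87 (BT.node 86 (BT.leaf cJ86) (BT.leaf cJ87)) (BT.node 88 (BT.leaf cJ88) (BT.leaf cJ89)))) (BT.node 93 (BT.node 91 (BT.node 90 (BT.leaf cJ90) (BT.leaf cJ91)) (BT.node 92 (BT.leaf cJ92) (BT.leaf cJ93))) (BT.node 95 (BT.node 94 (BT.leaf cJ94) (BT.leaf cJ95)) (BT.node 96 (BT.leaf cJ96) (BT.leaf cJ97)))))) (BT.node 113 (BT.node 105 (BT.node 101 (BT.node 99 (BT.node 98 (BT.leaf cJ98) (BT.leaf cJ99)) (BT.node 100 (BT.leaf cJ100) (BT.leaf cJ101))) (BT.node 103 (BT.node 102 (BT.leaf cJ102) (BT.leaf cJ103)) (BT.node 104 (BT.leaf cJ104) (BT.leaf cJ105)))) (BT.node 109 (BT.node 107 (BT.node 106 (BT.leaf cJ106) (BT.leaf cJ107)) (BT.node 108 (BT.leaf cJ108) (BT.leaf cJ109))) (BT.node 111 (BT.node 110 (BT.leaf cJ110) (BT.leaf cJ111)) (BT.node 112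 (BT.leaf cJ112) (BT.leaf cJ113))))) (BT.node 121 (BT.node 117 (BT.node 115 (BT.node 114 (BT.leaf cJ114) (BT.leaf cJ115)) (BT.node 116 (BT.leaf cJ116) (BT.leaf cJ117))) (BT.node 119 (BT.node 118 (BT.leaf cJ118) (BT.leaf cJ119)) (BT.node 120 (BT.leaf cJ120) (BT.leaf cJ121)))) (BT.node 125 (BT.node 123 (BT.node 122 (BT.leaf cJ122) (BT.leaf cJ123)) (BT.node 124 (BT.leaf cJ124) (BT.leaf cJ125))) (BT.node 127 (BT.node 126 (BT.leaf cJ126) (BT.leaf cJ127)) (BT.node 128 (BT.leaf cJ128) (BT.leaf cJ129)))))))) (BT.node 194 (BT.node 162 (BT.node 146 (BT.node 138 (BT.node 134 (BT.node 132 (BT.node 131 (BT.node 130 (BT.leaf cJ130) (BT.leaf cJ131)) (BT.leaf cJ132)) (BT.node 133 (BT.leaf cJ133) (BT.leaf cJ134))) (BT.node 136 (BT.node 135 (BT.leaf cJ135) (BT.leaf cJ136)) (BT.node 137 (BT.leaf cJ137) (BT.leaf cJ138)))) (BT.node 142 (BT.node 140 (BT.node 139 (BT.leaf cJ139) (BT.leaf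 cJ140)) (BT.node 141 (BT.leaf cJ141) (BT.leaf cJ142))) (BT.node 144 (BT.node 143 (BT.leaf cJ143) (BT.leaf cJ144)) (BT.node 145 (BT.leaf cJ145) (BT.leaf cJ146))))) (BT.node 154 (BT.node 150 (BT.node 148 (BT.node 147 (BT.leaf cJ147) (BT.leaf cJ148)) (BT.node 149 (BT.leaf cJ149) (BT.leaf cJ150))) (BT.node 152 (BT.node 151 (BT.leaf cJ151) (BT.leaf cJ152)) (BT.node 153 (BT.leaf cJ153) (BT.leaf cJ154)))) (BT.node 158 (BT.node 156 (BT.node 155 (BT.leaf cJ155) (BT.leaf cJ156)) (BT.node 157 (BT.leaf cJ157) (BT.leaf cJ158))) (BT.node 160 (BT.node 159 (BT.leaf cJ159) (BT.leaf cJ160)) (BT.node 161 (BT.leaf cJ161) (BT.leaf cJ162)))))) (BT.node 178 (BT.node 170 (BT.node 166 (BT.node 164 (BT.node 163 (BT.leaf cJ163) (BT.leaf cJ164)) (BT.node 165 (BT.leaf cJ165) (BT.leaf cJ166))) (BT.node 168 (BT.node 167 (BT.leaf cJ167) (BT.leaf cJ168)) (BT.node 169 (BT.leaf cJ169) (BT.leaf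 cJ170)))) (BT.node 174 (BT.node 172 (BT.node 171 (BT.leaf cJ171) (BT.leaf cJ172)) (BT.node 173 (BT.leaf cJ173) (BT.leaf cJ174))) (BT.node 176 (BT.node 175 (BT.leaf cJ175) (BT.leaf cJ176)) (BT.node 177 (BT.leaf cJ177) (BT.leaf cJ178))))) (BT.node 186 (BT.node 182 (BT.node 180 (BT.node 179 (BT.leaf cJ179) (BT.leaf cJ180)) (BT.node 181 (BT.leaf cJ181) (BT.leaf cJ182))) (BT.node 184 (BT.node 183 (BT.leaf cJ183) (BT.leaf cJ184)) (BT.node 185 (BT.leaf cJ185) (BT.leaf cJ186)))) (BT.node 190 (BT.node 188 (BT.node 187 (BT.leaf cJ187) (BT.leaf cJ188)) (BT.node 189 (BT.leaf cJ189) (BT.leaf cJ190))) (BT.node 192 (BT.node 191 (BT.leaf cJ191) (BT.leaf cJ192)) (BT.node 193 (BT.leaf cJ193) (BT.leaf cJ194))))))) (BT.node 226 (BT.node 210 (BT.node 202 (BT.node 198 (BT.node 196 (BT.node 195 (BT.leaf cJ195) (BT.leaf cJ196)) (BT.node 197 (BT.leaf cJ197) (BT.leaf cJ198))) (BT.node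 200 (BT.node 199 (BT.leaf cJ199) (BT.leaf cJ200)) (BT.node 201 (BT.leaf cJ201) (BT.leaf cJ202)))) (BT.node 206 (BT.node 204 (BT.node 203 (BT.leaf cJ203) (BT.leaf cJ204)) (BT.node 205 (BT.leaf cJ205) (BT.leaf cJ206))) (BT.node 208 (BT.node 207 (BT.leaf cJ207) (BT.leaf cJ208)) (BT.node 209 (BT.leaf cJ209) (BT.leaf cJ210))))) (BT.node 218 (BT.node 214 (BT.node 212 (BT.node 211 (BT.leaf cJ211) (BT.leaf cJ212)) (BT.node 213 (BT.leaf cJ213) (BT.leaf cJ214))) (BT.node 216 (BT.node 215 (BT.leaf cJ215) (BT.leaf cJ216)) (BT.node 217 (BT.leaf cJ217) (BT.leaf cJ218)))) (BT.node 222 (BT.node 220 (BT.node 219 (BT.leaf cJ219) (BT.leaf cJ220)) (BT.node 221 (BT.leaf cJ221) (BT.leaf cJ222))) (BT.node 224 (BT.node 223 (BT.leaf cJ223) (BT.leaf cJ224)) (BT.node 225 (BT.leaf cJ225) (BT.leaf cJ226)))))) (BT.node 242 (BT.node 234 (BT.node 230 (BT.node 228 (BT.node 227 (BT.leaf cJ227)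 (BT.leaf cJ228)) (BT.node 229 (BT.leaf cJ229) (BT.leaf cJ230))) (BT.node 232 (BT.node 231 (BT.leaf cJ231) (BT.leaf cJ232)) (BT.node 233 (BT.leaf cJ233) (BT.leaf cJ234)))) (BT.node 238 (BT.node 236 (BT.node 235 (BT.leaf cJ235) (BT.leaf cJ236)) (BT.node 237 (BT.leaf cJ237) (BT.leaf cJ238))) (BT.node 240 (BT.node 239 (BT.leaf cJ239) (BT.leaf cJ240)) (BT.node 241 (BT.leaf cJ241) (BT.leaf cJ242))))) (BT.node 250 (BT.node 246 (BT.node 244 (BT.node 243 (BT.leaf cJ243) (BT.leaf cJ244)) (BT.node 245 (BT.leaf cJ245) (BT.leaf cJ246))) (BT.node 248 (BT.node 247 (BT.leaf cJ247) (BT.leaf cJ248)) (BT.node 249 (BT.leaf cJ249) (BT.leaf cJ250)))) (BT.node 254 (BT.node 252 (BT.node 251 (BT.leaf cJ251) (BT.leaf cJ252)) (BT.node 253 (BT.leaf cJ253) (BT.leaf cJ254))) (BT.node 256 (BT.node 255 (BT.leaf cJ255) (BT.leaf cJ256)) (BT.node 257 (BT.leaf cJ257) (BT.leaf cJ258))))))))) (BT.node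 387 (BT.node 323 (BT.node 291 (BT.node 275 (BT.node 267 (BT.node 263 (BT.node 261 (BT.node 260 (BT.node 259 (BT.leaf cJ259) (BT.leaf cJ260)) (BT.leaf cJ261)) (BT.node 262 (BT.leaf cJ262) (BT.leaf cJ263))) (BT.node 265 (BT.node 264 (BT.leaf cJ264) (BT.leaf cJ265)) (BT.node 266 (BT.leaf cJ266) (BT.leaf cJ267)))) (BT.node 271 (BT.node 269 (BT.node 268 (BT.leaf cJ268) (BT.leaf cJ269)) (BT.node 270 (BT.leaf cJ270) (BT.leaf cJ271))) (BT.node 273 (BT.node 272 (BT.leaf cJ272) (BT.leaf cJ273)) (BT.node 274 (BT.leaf cJ274) (BT.leaf cJ275))))) (BT.node 283 (BT.node 279 (BT.node 277 (BT.node 276 (BT.leaf cJ276) (BT.leaf cJ277)) (BT.node 278 (BT.leaf cJ278) (BT.leaf cJ279))) (BT.node 281 (BT.node 280 (BT.leaf cJ280) (BT.leaf cJ281)) (BT.node 282 (BT.leaf cJ282) (BT.leaf cJ283)))) (BT.node 287 (BT.node 285 (BT.node 284 (BT.leaf cJ284) (BT.leaf cJ285)) (BT.node 286 (BT.leaf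 cJ286) (BT.leaf cJ287))) (BT.node 289 (BT.node 288 (BT.leaf cJ288) (BT.leaf cJ289)) (BT.node 290 (BT.leaf cJ290) (BT.leaf cJ291)))))) (BT.node 307 (BT.node 299 (BT.node 295 (BT.node 293 (BT.node 292 (BT.leaf cJ292) (BT.leaf cJ293)) (BT.node 294 (BT.leaf cJ294) (BT.leaf cJ295))) (BT.node 297 (BT.node 296 (BT.leaf cJ296) (BT.leaf cJ297)) (BT.node 298 (BT.leaf cJ298) (BT.leaf cJ299)))) (BT.node 303 (BT.node 301 (BT.node 300 (BT.leaf cJ300) (BT.leaf cJ301)) (BT.node 302 (BT.leaf cJ302) (BT.leaf cJ303))) (BT.node 305 (BT.node 304 (BT.leaf cJ304) (BT.leaf cJ305)) (BT.node 306 (BT.leaf cJ306) (BT.leaf cJ307))))) (BT.node 315 (BT.node 311 (BT.node 309 (BT.node 308 (BT.leaf cJ308) (BT.leaf cJ309)) (BT.node 310 (BT.leaf cJ310) (BT.leaf cJ311))) (BT.node 313 (BT.node 312 (BT.leaf cJ312) (BT.leaf cJ313)) (BT.node 314 (BT.leaf cJ314) (BT.leaf cJ315)))) (BT.node 319 (BT.node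 317 (BT.node 316 (BT.leaf cJ316) (BT.leaf cJ317)) (BT.node 318 (BT.leaf cJ318) (BT.leaf cJ319))) (BT.node 321 (BT.node 320 (BT.leaf cJ320) (BT.leaf cJ321)) (BT.node 322 (BT.leaf cJ322) (BT.leaf cJ323))))))) (BT.node 355 (BT.node 339 (BT.node 331 (BT.node 327 (BT.node 325 (BT.node 324 (BT.leaf cJ324) (BT.leaf cJ325)) (BT.node 326 (BT.leaf cJ326) (BT.leaf cJ327))) (BT.node 329 (BT.node 328 (BT.leaf cJ328) (BT.leaf cJ329)) (BT.node 330 (BT.leaf cJ330) (BT.leaf cJ331)))) (BT.node 335 (BT.node 333 (BT.node 332 (BT.leaf cJ332) (BT.leaf cJ333)) (BT.node 334 (BT.leaf cJ334) (BT.leaf cJ335))) (BT.node 337 (BT.node 336 (BT.leaf cJ336) (BT.leaf cJ337)) (BT.node 338 (BT.leaf cJ338) (BT.leaf cJ339))))) (BT.node 347 (BT.node 343 (BT.node 341 (BT.node 340 (BT.leaf cJ340) (BT.leaf cJ341)) (BT.node 342 (BT.leaf cJ342) (BT.leaf cJ343))) (BT.node 345 (BT.node 344 (BT.leaf cJ344)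 (BT.leaf cJ345)) (BT.node 346 (BT.leaf cJ346) (BT.leaf cJ347)))) (BT.node 351 (BT.node 349 (BT.node 348 (BT.leaf cJ348) (BT.leaf cJ349)) (BT.node 350 (BT.leaf cJ350) (BT.leaf cJ351))) (BT.node 353 (BT.node 352 (BT.leaf cJ352) (BT.leaf cJ353)) (BT.node 354 (BT.leaf cJ354) (BT.leaf cJ355)))))) (BT.node 371 (BT.node 363 (BT.node 359 (BT.node 357 (BT.node 356 (BT.leaf cJ356) (BT.leaf cJ357)) (BT.node 358 (BT.leaf cJ358) (BT.leaf cJ359))) (BT.node 361 (BT.node 360 (BT.leaf cJ360) (BT.leaf cJ361)) (BT.node 362 (BT.leaf cJ362) (BT.leaf cJ363)))) (BT.node 367 (BT.node 365 (BT.node 364 (BT.leaf cJ364) (BT.leaf cJ365)) (BT.node 366 (BT.leaf cJ366) (BT.leaf cJ367))) (BT.node 369 (BT.node 368 (BT.leaf cJ368) (BT.leaf cJ369)) (BT.node 370 (BT.leaf cJ370) (BT.leaf cJ371))))) (BT.node 379 (BT.node 375 (BT.node 373 (BT.node 372 (BT.leaf cJ372) (BT.leaf cJ373)) (BT.node 374 (BT.leaf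 cJ374) (BT.leaf cJ375))) (BT.node 377 (BT.node 376 (BT.leaf cJ376) (BT.leaf cJ377)) (BT.node 378 (BT.leaf cJ378) (BT.leaf cJ379)))) (BT.node 383 (BT.node 381 (BT.node 380 (BT.leaf cJ380) (BT.leaf cJ381)) (BT.node 382 (BT.leaf cJ382) (BT.leaf cJ383))) (BT.node 385 (BT.node 384 (BT.leaf cJ384) (BT.leaf cJ385)) (BT.node 386 (BT.leaf cJ386) (BT.leaf cJ387)))))))) (BT.node 452 (BT.node 420 (BT.node 404 (BT.node 396 (BT.node 392 (BT.node 390 (BT.node 389 (BT.node 388 (BT.leaf cJ388) (BT.leaf cJ389)) (BT.leaf cJ390)) (BT.node 391 (BT.leaf cJ391) (BT.leaf cJ392))) (BT.node 394 (BT.node 393 (BT.leaf cJ393) (BT.leaf cJ394)) (BT.node 395 (BT.leaf cJ395) (BT.leaf cJ396)))) (BT.node 400 (BT.node 398 (BT.node 397 (BT.leaf cJ397) (BT.leaf cJ398)) (BT.node 399 (BT.leaf cJ399) (BT.leaf cJ400))) (BT.node 402 (BT.node 401 (BT.leaf cJ401) (BT.leaf cJ402)) (BT.node 403 (BT.leaf cJ403)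 (BT.leaf cJ404))))) (BT.node 412 (BT.node 408 (BT.node 406 (BT.node 405 (BT.leaf cJ405) (BT.leaf cJ406)) (BT.node 407 (BT.leaf cJ407) (BT.leaf cJ408))) (BT.node 410 (BT.node 409 (BT.leaf cJ409) (BT.leaf cJ410)) (BT.node 411 (BT.leaf cJ411) (BT.leaf cJ412)))) (BT.node 416 (BT.node 414 (BT.node 413 (BT.leaf cJ413) (BT.leaf cJ414)) (BT.node 415 (BT.leaf cJ415) (BT.leaf cJ416))) (BT.node 418 (BT.node 417 (BT.leaf cJ417) (BT.leaf cJ418)) (BT.node 419 (BT.leaf cJ419) (BT.leaf cJ420)))))) (BT.node 436 (BT.node 428 (BT.node 424 (BT.node 422 (BT.node 421 (BT.leaf cJ421) (BT.leaf cJ422)) (BT.node 423 (BT.leaf cJ423) (BT.leaf cJ424))) (BT.node 426 (BT.node 425 (BT.leaf cJ425) (BT.leaf cJ426)) (BT.node 427 (BT.leaf cJ427) (BT.leaf cJ428)))) (BT.node 432 (BT.node 430 (BT.node 429 (BT.leaf cJ429) (BT.leaf cJ430)) (BT.node 431 (BT.leaf cJ431) (BT.leaf cJ432))) (BT.node 434 (BT.node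 433 (BT.leaf cJ433) (BT.leaf cJ434)) (BT.node 435 (BT.leaf cJ435) (BT.leaf cJ436))))) (BT.node 444 (BT.node 440 (BT.node 438 (BT.node 437 (BT.leaf cJ437) (BT.leaf cJ438)) (BT.node 439 (BT.leaf cJ439) (BT.leaf cJ440))) (BT.node 442 (BT.node 441 (BT.leaf cJ441) (BT.leaf cJ442)) (BT.node 443 (BT.leaf cJ443) (BT.leaf cJ444)))) (BT.node 448 (BT.node 446 (BT.node 445 (BT.leaf cJ445) (BT.leaf cJ446)) (BT.node 447 (BT.leaf cJ447) (BT.leaf cJ448))) (BT.node 450 (BT.node 449 (BT.leaf cJ449) (BT.leaf cJ450)) (BT.node 451 (BT.leaf cJ451) (BT.leaf cJ452))))))) (BT.node 484 (BT.node 468 (BT.node 460 (BT.node 456 (BT.node 454 (BT.node 453 (BT.leaf cJ453) (BT.leaf cJ454)) (BT.node 455 (BT.leaf cJ455) (BT.leaf cJ456))) (BT.node 458 (BT.node 457 (BT.leaf cJ457) (BT.leaf cJ458)) (BT.node 459 (BT.leaf cJ459) (BT.leaf cJ460)))) (BT.node 464 (BT.node 462 (BT.node 461 (BT.leaf cJ461)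 (BT.leaf cJ462)) (BT.node 463 (BT.leaf cJ463) (BT.leaf cJ464))) (BT.node 466 (BT.node 465 (BT.leaf cJ465) (BT.leaf cJ466)) (BT.node 467 (BT.leaf cJ467) (BT.leaf cJ468))))) (BT.node 476 (BT.node 472 (BT.node 470 (BT.node 469 (BT.leaf cJ469) (BT.leaf cJ470)) (BT.node 471 (BT.leaf cJ471) (BT.leaf cJ472))) (BT.node 474 (BT.node 473 (BT.leaf cJ473) (BT.leaf cJ474)) (BT.node 475 (BT.leaf cJ475) (BT.leaf cJ476)))) (BT.node 480 (BT.node 478 (BT.node 477 (BT.leaf cJ477) (BT.leaf cJ478)) (BT.node 479 (BT.leaf cJ479) (BT.leaf cJ480))) (BT.node 482 (BT.node 481 (BT.leaf cJ481) (BT.leaf cJ482)) (BT.node 483 (BT.leaf cJ483) (BT.leaf cJ484)))))) (BT.node 500 (BT.node 492 (BT.node 488 (BT.node 486 (BT.node 485 (BT.leaf cJ485) (BT.leaf cJ486)) (BT.node 487 (BT.leaf cJ487) (BT.leaf cJ488))) (BT.node 490 (BT.node 489 (BT.leaf cJ489) (BT.leaf cJ490)) (BT.node 491 (BT.leaf cJ491)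 (BT.leaf cJ492)))) (BT.node 496 (BT.node 494 (BT.node 493 (BT.leaf cJ493) (BT.leaf cJ494)) (BT.node 495 (BT.leaf cJ495) (BT.leaf cJ496))) (BT.node 498 (BT.node 497 (BT.leaf cJ497) (BT.leaf cJ498)) (BT.node 499 (BT.leaf cJ499) (BT.leaf cJ500))))) (BT.node 508 (BT.node 504 (BT.node 502 (BT.node 501 (BT.leaf cJ501) (BT.leaf cJ502)) (BT.node 503 (BT.leaf cJ503) (BT.leaf cJ504))) (BT.node 506 (BT.node 505 (BT.leaf cJ505) (BT.leaf cJ506)) (BT.node 507 (BT.leaf cJ507) (BT.leaf cJ508)))) (BT.node 512 (BT.node 510 (BT.node 509 (BT.leaf cJ509) (BT.leaf cJ510)) (BT.node 511 (BT.leaf cJ511) (BT.leaf cJ512))) (BT.node 514 (BT.node 513 (BT.leaf cJ513) (BT.leaf cJ514)) (BT.node 515 (BT.leaf cJ515) (BT.leaf cJ516)))))))))) (BT.node 774 (BT.node 645 (BT.node 581 (BT.node 549 (BT.node 533 (BT.node 525 (BT.node 521 (BT.node 519 (BT.node 518 (BT.node 517 (BT.leaf cJ517) (BT.leaf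 cJ518)) (BT.leaf cJ519)) (BT.node 520 (BT.leaf cJ520) (BT.leaf cJ521))) (BT.node 523 (BT.node 522 (BT.leaf cJ522) (BT.leaf cJ523)) (BT.node 524 (BT.leaf cJ524) (BT.leaf cJ525)))) (BT.node 529 (BT.node 527 (BT.node 526 (BT.leaf cJ526) (BT.leaf cJ527)) (BT.node 528 (BT.leaf cJ528) (BT.leaf cJ529))) (BT.node 531 (BT.node 530 (BT.leaf cJ530) (BT.leaf cJ531)) (BT.node 532 (BT.leaf cJ532) (BT.leaf cJ533))))) (BT.node 541 (BT.node 537 (BT.node 535 (BT.node 534 (BT.leaf cJ534) (BT.leaf cJ535)) (BT.node 536 (BT.leaf cJ536) (BT.leaf cJ537))) (BT.node 539 (BT.node 538 (BT.leaf cJ538) (BT.leaf cJ539)) (BT.node 540 (BT.leaf cJ540) (BT.leaf cJ541)))) (BT.node 545 (BT.node 543 (BT.node 542 (BT.leaf cJ542) (BT.leaf cJ543)) (BT.node 544 (BT.leaf cJ544) (BT.leaf cJ545))) (BT.node 547 (BT.node 546 (BT.leaf cJ546) (BT.leaf cJ547)) (BT.node 548 (BT.leaf cJ548) (BT.leaf cJ549))))))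 (BT.node 565 (BT.node 557 (BT.node 553 (BT.node 551 (BT.node 550 (BT.leaf cJ550) (BT.leaf cJ551)) (BT.node 552 (BT.leaf cJ552) (BT.leaf cJ553))) (BT.node 555 (BT.node 554 (BT.leaf cJ554) (BT.leaf cJ555)) (BT.node 556 (BT.leaf cJ556) (BT.leaf cJ557)))) (BT.node 561 (BT.node 559 (BT.node 558 (BT.leaf cJ558) (BT.leaf cJ559)) (BT.node 560 (BT.leaf cJ560) (BT.leaf cJ561))) (BT.node 563 (BT.node 562 (BT.leaf cJ562) (BT.leaf cJ563)) (BT.node 564 (BT.leaf cJ564) (BT.leaf cJ565))))) (BT.node 573 (BT.node 569 (BT.node 567 (BT.node 566 (BT.leaf cJ566) (BT.leaf cJ567)) (BT.node 568 (BT.leaf cJ568) (BT.leaf cJ569))) (BT.node 571 (BT.node 570 (BT.leaf cJ570) (BT.leaf cJ571)) (BT.node 572 (BT.leaf cJ572) (BT.leaf cJ573)))) (BT.node 577 (BT.node 575 (BT.node 574 (BT.leaf cJ574) (BT.leaf cJ575)) (BT.node 576 (BT.leaf cJ576) (BT.leaf cJ577))) (BT.node 579 (BT.node 578 (BT.leaf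 cJ578) (BT.leaf cJ579)) (BT.node 580 (BT.leaf cJ580) (BT.leaf cJ581))))))) (BT.node 613 (BT.node 597 (BT.node 589 (BT.node 585 (BT.node 583 (BT.node 582 (BT.leaf cJ582) (BT.leaf cJ583)) (BT.node 584 (BT.leaf cJ584) (BT.leaf cJ585))) (BT.node 587 (BT.node 586 (BT.leaf cJ586) (BT.leaf cJ587)) (BT.node 588 (BT.leaf cJ588) (BT.leaf cJ589)))) (BT.node 593 (BT.node 591 (BT.node 590 (BT.leaf cJ590) (BT.leaf cJ591)) (BT.node 592 (BT.leaf cJ592) (BT.leaf cJ593))) (BT.node 595 (BT.node 594 (BT.leaf cJ594) (BT.leaf cJ595)) (BT.node 596 (BT.leaf cJ596) (BT.leaf cJ597))))) (BT.node 605 (BT.node 601 (BT.node 599 (BT.node 598 (BT.leaf cJ598) (BT.leaf cJ599)) (BT.node 600 (BT.leaf cJ600) (BT.leaf cJ601))) (BT.node 603 (BT.node 602 (BT.leaf cJ602) (BT.leaf cJ603)) (BT.node 604 (BT.leaf cJ604) (BT.leaf cJ605)))) (BT.node 609 (BT.node 607 (BT.node 606 (BT.leaf cJ606) (BT.leaf cJ607))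 (BT.node 608 (BT.leaf cJ608) (BT.leaf cJ609))) (BT.node 611 (BT.node 610 (BT.leaf cJ610) (BT.leaf cJ611)) (BT.node 612 (BT.leaf cJ612) (BT.leaf cJ613)))))) (BT.node 629 (BT.node 621 (BT.node 617 (BT.node 615 (BT.node 614 (BT.leaf cJ614) (BT.leaf cJ615)) (BT.node 616 (BT.leaf cJ616) (BT.leaf cJ617))) (BT.node 619 (BT.node 618 (BT.leaf cJ618) (BT.leaf cJ619)) (BT.node 620 (BT.leaf cJ620) (BT.leaf cJ621)))) (BT.node 625 (BT.node 623 (BT.node 622 (BT.leaf cJ622) (BT.leaf cJ623)) (BT.node 624 (BT.leaf cJ624) (BT.leaf cJ625))) (BT.node 627 (BT.node 626 (BT.leaf cJ626) (BT.leaf cJ627)) (BT.node 628 (BT.leaf cJ628) (BT.leaf cJ629))))) (BT.node 637 (BT.node 633 (BT.node 631 (BT.node 630 (BT.leaf cJ630) (BT.leaf cJ631)) (BT.node 632 (BT.leaf cJ632) (BT.leaf cJ633))) (BT.node 635 (BT.node 634 (BT.leaf cJ634) (BT.leaf cJ635)) (BT.node 636 (BT.leaf cJ636) (BT.leaf cJ637))))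 (BT.node 641 (BT.node 639 (BT.node 638 (BT.leaf cJ638) (BT.leaf cJ639)) (BT.node 640 (BT.leaf cJ640) (BT.leaf cJ641))) (BT.node 643 (BT.node 642 (BT.leaf cJ642) (BT.leaf cJ643)) (BT.node 644 (BT.leaf cJ644) (BT.leaf cJ645)))))))) (BT.node 710 (BT.node 678 (BT.node 662 (BT.node 654 (BT.node 650 (BT.node 648 (BT.node 647 (BT.node 646 (BT.leaf cJ646) (BT.leaf cJ647)) (BT.leaf cJ648)) (BT.node 649 (BT.leaf cJ649) (BT.leaf cJ650))) (BT.node 652 (BT.node 651 (BT.leaf cJ651) (BT.leaf cJ652)) (BT.node 653 (BT.leaf cJ653) (BT.leaf cJ654)))) (BT.node 658 (BT.node 656 (BT.node 655 (BT.leaf cJ655) (BT.leaf cJ656)) (BT.node 657 (BT.leaf cJ657) (BT.leaf cJ658))) (BT.node 660 (BT.node 659 (BT.leaf cJ659) (BT.leaf cJ660)) (BT.node 661 (BT.leaf cJ661) (BT.leaf cJ662))))) (BT.node 670 (BT.node 666 (BT.node 664 (BT.node 663 (BT.leaf cJ663) (BT.leaf cJ664)) (BT.node 665 (BT.leaf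 cJ665) (BT.leaf cJ666))) (BT.node 668 (BT.node 667 (BT.leaf cJ667) (BT.leaf cJ668)) (BT.node 669 (BT.leaf cJ669) (BT.leaf cJ670)))) (BT.node 674 (BT.node 672 (BT.node 671 (BT.leaf cJ671) (BT.leaf cJ672)) (BT.node 673 (BT.leaf cJ673) (BT.leaf cJ674))) (BT.node 676 (BT.node 675 (BT.leaf cJ675) (BT.leaf cJ676)) (BT.node 677 (BT.leaf cJ677) (BT.leaf cJ678)))))) (BT.node 694 (BT.node 686 (BT.node 682 (BT.node 680 (BT.node 679 (BT.leaf cJ679) (BT.leaf cJ680)) (BT.node 681 (BT.leaf cJ681) (BT.leaf cJ682))) (BT.node 684 (BT.node 683 (BT.leaf cJ683) (BT.leaf cJ684)) (BT.node 685 (BT.leaf cJ685) (BT.leaf cJ686)))) (BT.node 690 (BT.node 688 (BT.node 687 (BT.leaf cJ687) (BT.leaf cJ688)) (BT.node 689 (BT.leaf cJ689) (BT.leaf cJ690))) (BT.node 692 (BT.node 691 (BT.leaf cJ691) (BT.leaf cJ692)) (BT.node 693 (BT.leaf cJ693) (BT.leaf cJ694))))) (BT.node 702 (BT.node 698 (BT.node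 696 (BT.node 695 (BT.leaf cJ695) (BT.leaf cJ696)) (BT.node 697 (BT.leaf cJ697) (BT.leaf cJ698))) (BT.node 700 (BT.node 699 (BT.leaf cJ699) (BT.leaf cJ700)) (BT.node 701 (BT.leaf cJ701) (BT.leaf cJ702)))) (BT.node 706 (BT.node 704 (BT.node 703 (BT.leaf cJ703) (BT.leaf cJ704)) (BT.node 705 (BT.leaf cJ705) (BT.leaf cJ706))) (BT.node 708 (BT.node 707 (BT.leaf cJ707) (BT.leaf cJ708)) (BT.node 709 (BT.leaf cJ709) (BT.leaf cJ710))))))) (BT.node 742 (BT.node 726 (BT.node 718 (BT.node 714 (BT.node 712 (BT.node 711 (BT.leaf cJ711) (BT.leaf cJ712)) (BT.node 713 (BT.leaf cJ713) (BT.leaf cJ714))) (BT.node 716 (BT.node 715 (BT.leaf cJ715) (BT.leaf cJ716)) (BT.node 717 (BT.leaf cJ717) (BT.leaf cJ718)))) (BT.node 722 (BT.node 720 (BT.node 719 (BT.leaf cJ719) (BT.leaf cJ720)) (BT.node 721 (BT.leaf cJ721) (BT.leaf cJ722))) (BT.node 724 (BT.node 723 (BT.leaf cJ723) (BT.leaf cJ724))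 (BT.node 725 (BT.leaf cJ725) (BT.leaf cJ726))))) (BT.node 734 (BT.node 730 (BT.node 728 (BT.node 727 (BT.leaf cJ727) (BT.leaf cJ728)) (BT.node 729 (BT.leaf cJ729) (BT.leaf cJ730))) (BT.node 732 (BT.node 731 (BT.leaf cJ731) (BT.leaf cJ732)) (BT.node 733 (BT.leaf cJ733) (BT.leaf cJ734)))) (BT.node 738 (BT.node 736 (BT.node 735 (BT.leaf cJ735) (BT.leaf cJ736)) (BT.node 737 (BT.leaf cJ737) (BT.leaf cJ738))) (BT.node 740 (BT.node 739 (BT.leaf cJ739) (BT.leaf cJ740)) (BT.node 741 (BT.leaf cJ741) (BT.leaf cJ742)))))) (BT.node 758 (BT.node 750 (BT.node 746 (BT.node 744 (BT.node 743 (BT.leaf cJ743) (BT.leaf cJ744)) (BT.node 745 (BT.leaf cJ745) (BT.leaf cJ746))) (BT.node 748 (BT.node 747 (BT.leaf cJ747) (BT.leaf cJ748)) (BT.node 749 (BT.leaf cJ749) (BT.leaf cJ750)))) (BT.node 754 (BT.node 752 (BT.node 751 (BT.leaf cJ751) (BT.leaf cJ752)) (BT.node 753 (BT.leaf cJ753) (BT.leaf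 cJ754))) (BT.node 756 (BT.node 755 (BT.leaf cJ755) (BT.leaf cJ756)) (BT.node 757 (BT.leaf cJ757) (BT.leaf cJ758))))) (BT.node 766 (BT.node 762 (BT.node 760 (BT.node 759 (BT.leaf cJ759) (BT.leaf cJ760)) (BT.node 761 (BT.leaf cJ761) (BT.leaf cJ762))) (BT.node 764 (BT.node 763 (BT.leaf cJ763) (BT.leaf cJ764)) (BT.node 765 (BT.leaf cJ765) (BT.leaf cJ766)))) (BT.node 770 (BT.node 768 (BT.node 767 (BT.leaf cJ767) (BT.leaf cJ768)) (BT.node 769 (BT.leaf cJ769) (BT.leaf cJ770))) (BT.node 772 (BT.node 771 (BT.leaf cJ771) (BT.leaf cJ772)) (BT.node 773 (BT.leaf cJ773) (BT.leaf cJ774))))))))) (BT.node 903 (BT.node 839 (BT.node 807 (BT.node 791 (BT.node 783 (BT.node 779 (BT.node 777 (BT.node 776 (BT.node 775 (BT.leaf cJ775) (BT.leaf cJ776)) (BT.leaf cJ777)) (BT.node 778 (BT.leaf cJ778) (BT.leaf cJ779))) (BT.node 781 (BT.node 780 (BT.leaf cJ780) (BT.leaf cJ781)) (BT.node 782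 (BT.leaf cJ782) (BT.leaf cJ783)))) (BT.node 787 (BT.node 785 (BT.node 784 (BT.leaf cJ784) (BT.leaf cJ785)) (BT.node 786 (BT.leaf cJ786) (BT.leaf cJ787))) (BT.node 789 (BT.node 788 (BT.leaf cJ788) (BT.leaf cJ789)) (BT.node 790 (BT.leaf cJ790) (BT.leaf cJ791))))) (BT.node 799 (BT.node 795 (BT.node 793 (BT.node 792 (BT.leaf cJ792) (BT.leaf cJ793)) (BT.node 794 (BT.leaf cJ794) (BT.leaf cJ795))) (BT.node 797 (BT.node 796 (BT.leaf cJ796) (BT.leaf cJ797)) (BT.node 798 (BT.leaf cJ798) (BT.leaf cJ799)))) (BT.node 803 (BT.node 801 (BT.node 800 (BT.leaf cJ800) (BT.leaf cJ801)) (BT.node 802 (BT.leaf cJ802) (BT.leaf cJ803))) (BT.node 805 (BT.node 804 (BT.leaf cJ804) (BT.leaf cJ805)) (BT.node 806 (BT.leaf cJ806) (BT.leaf cJ807)))))) (BT.node 823 (BT.node 815 (BT.node 811 (BT.node 809 (BT.node 808 (BT.leaf cJ808) (BT.leaf cJ809)) (BT.node 810 (BT.leaf cJ810) (BT.leaf cJ811)))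 (BT.node 813 (BT.node 812 (BT.leaf cJ812) (BT.leaf cJ813)) (BT.node 814 (BT.leaf cJ814) (BT.leaf cJ815)))) (BT.node 819 (BT.node 817 (BT.node 816 (BT.leaf cJ816) (BT.leaf cJ817)) (BT.node 818 (BT.leaf cJ818) (BT.leaf cJ819))) (BT.node 821 (BT.node 820 (BT.leaf cJ820) (BT.leaf cJ821)) (BT.node 822 (BT.leaf cJ822) (BT.leaf cJ823))))) (BT.node 831 (BT.node 827 (BT.node 825 (BT.node 824 (BT.leaf cJ824) (BT.leaf cJ825)) (BT.node 826 (BT.leaf cJ826) (BT.leaf cJ827))) (BT.node 829 (BT.node 828 (BT.leaf cJ828) (BT.leaf cJ829)) (BT.node 830 (BT.leaf cJ830) (BT.leaf cJ831)))) (BT.node 835 (BT.node 833 (BT.node 832 (BT.leaf cJ832) (BT.leaf cJ833)) (BT.node 834 (BT.leaf cJ834) (BT.leaf cJ835))) (BT.node 837 (BT.node 836 (BT.leaf cJ836) (BT.leaf cJ837)) (BT.node 838 (BT.leaf cJ838) (BT.leaf cJ839))))))) (BT.node 871 (BT.node 855 (BT.node 847 (BT.node 843 (BT.node 841 (BT.node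 840 (BT.leaf cJ840) (BT.leaf cJ841)) (BT.node 842 (BT.leaf cJ842) (BT.leaf cJ843))) (BT.node 845 (BT.node 844 (BT.leaf cJ844) (BT.leaf cJ845)) (BT.node 846 (BT.leaf cJ846) (BT.leaf cJ847)))) (BT.node 851 (BT.node 849 (BT.node 848 (BT.leaf cJ848) (BT.leaf cJ849)) (BT.node 850 (BT.leaf cJ850) (BT.leaf cJ851))) (BT.node 853 (BT.node 852 (BT.leaf cJ852) (BT.leaf cJ853)) (BT.node 854 (BT.leaf cJ854) (BT.leaf cJ855))))) (BT.node 863 (BT.node 859 (BT.node 857 (BT.node 856 (BT.leaf cJ856) (BT.leaf cJ857)) (BT.node 858 (BT.leaf cJ858) (BT.leaf cJ859))) (BT.node 861 (BT.node 860 (BT.leaf cJ860) (BT.leaf cJ861)) (BT.node 862 (BT.leaf cJ862) (BT.leaf cJ863)))) (BT.node 867 (BT.node 865 (BT.node 864 (BT.leaf cJ864) (BT.leaf cJ865)) (BT.node 866 (BT.leaf cJ866) (BT.leaf cJ867))) (BT.node 869 (BT.node 868 (BT.leaf cJ868) (BT.leaf cJ869)) (BT.node 870 (BT.leaf cJ870) (BT.leaf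 cJ871)))))) (BT.node 887 (BT.node 879 (BT.node 875 (BT.node 873 (BT.node 872 (BT.leaf cJ872) (BT.leaf cJ873)) (BT.node 874 (BT.leaf cJ874) (BT.leaf cJ875))) (BT.node 877 (BT.node 876 (BT.leaf cJ876) (BT.leaf cJ877)) (BT.node 878 (BT.leaf cJ878) (BT.leaf cJ879)))) (BT.node 883 (BT.node 881 (BT.node 880 (BT.leaf cJ880) (BT.leaf cJ881)) (BT.node 882 (BT.leaf cJ882) (BT.leaf cJ883))) (BT.node 885 (BT.node 884 (BT.leaf cJ884) (BT.leaf cJ885)) (BT.node 886 (BT.leaf cJ886) (BT.leaf cJ887))))) (BT.node 895 (BT.node 891 (BT.node 889 (BT.node 888 (BT.leaf cJ888) (BT.leaf cJ889)) (BT.node 890 (BT.leaf cJ890) (BT.leaf cJ891))) (BT.node 893 (BT.node 892 (BT.leaf cJ892) (BT.leaf cJ893)) (BT.node 894 (BT.leaf cJ894) (BT.leaf cJ895)))) (BT.node 899 (BT.node 897 (BT.node 896 (BT.leaf cJ896) (BT.leaf cJ897)) (BT.node 898 (BT.leaf cJ898) (BT.leaf cJ899))) (BT.node 901 (BT.node 900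 (BT.leaf cJ900) (BT.leaf cJ901)) (BT.node 902 (BT.leaf cJ902) (BT.leaf cJ903)))))))) (BT.node 968 (BT.node 936 (BT.node 920 (BT.node 912 (BT.node 908 (BT.node 906 (BT.node 905 (BT.node 904 (BT.leaf cJ904) (BT.leaf cJ905)) (BT.leaf cJ906)) (BT.node 907 (BT.leaf cJ907) (BT.leaf cJ908))) (BT.node 910 (BT.node 909 (BT.leaf cJ909) (BT.leaf cJ910)) (BT.node 911 (BT.leaf cJ911) (BT.leaf cJ912)))) (BT.node 916 (BT.node 914 (BT.node 913 (BT.leaf cJ913) (BT.leaf cJ914)) (BT.node 915 (BT.leaf cJ915) (BT.leaf cJ916))) (BT.node 918 (BT.node 917 (BT.leaf cJ917) (BT.leaf cJ918)) (BT.node 919 (BT.leaf cJ919) (BT.leaf cJ920))))) (BT.node 928 (BT.node 924 (BT.node 922 (BT.node 921 (BT.leaf cJ921) (BT.leaf cJ922)) (BT.node 923 (BT.leaf cJ923) (BT.leaf cJ924))) (BT.node 926 (BT.node 925 (BT.leaf cJ925) (BT.leaf cJ926)) (BT.node 927 (BT.leaf cJ927) (BT.leaf cJ928)))) (BT.node 932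 (BT.node 930 (BT.node 929 (BT.leaf cJ929) (BT.leaf cJ930)) (BT.node 931 (BT.leaf cJ931) (BT.leaf cJ932))) (BT.node 934 (BT.node 933 (BT.leaf cJ933) (BT.leaf cJ934)) (BT.node 935 (BT.leaf cJ935) (BT.leaf cJ936)))))) (BT.node 952 (BT.node 944 (BT.node 940 (BT.node 938 (BT.node 937 (BT.leaf cJ937) (BT.leaf cJ938)) (BT.node 939 (BT.leaf cJ939) (BT.leaf cJ940))) (BT.node 942 (BT.node 941 (BT.leaf cJ941) (BT.leaf cJ942)) (BT.node 943 (BT.leaf cJ943) (BT.leaf cJ944)))) (BT.node 948 (BT.node 946 (BT.node 945 (BT.leaf cJ945) (BT.leaf cJ946)) (BT.node 947 (BT.leaf cJ947) (BT.leaf cJ948))) (BT.node 950 (BT.node 949 (BT.leaf cJ949) (BT.leaf cJ950)) (BT.node 951 (BT.leaf cJ951) (BT.leaf cJ952))))) (BT.node 960 (BT.node 956 (BT.node 954 (BT.node 953 (BT.leaf cJ953) (BT.leaf cJ954)) (BT.node 955 (BT.leaf cJ955) (BT.leaf cJ956))) (BT.node 958 (BT.node 957 (BT.leaf cJ957) (BT.leaf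 cJ958)) (BT.node 959 (BT.leaf cJ959) (BT.leaf cJ960)))) (BT.node 964 (BT.node 962 (BT.node 961 (BT.leaf cJ961) (BT.leaf cJ962)) (BT.node 963 (BT.leaf cJ963) (BT.leaf cJ964))) (BT.node 966 (BT.node 965 (BT.leaf cJ965) (BT.leaf cJ966)) (BT.node 967 (BT.leaf cJ967) (BT.leaf cJ968))))))) (BT.node 1000 (BT.node 984 (BT.node 976 (BT.node 972 (BT.node 970 (BT.node 969 (BT.leaf cJ969) (BT.leaf cJ970)) (BT.node 971 (BT.leaf cJ971) (BT.leaf cJ972))) (BT.node 974 (BT.node 973 (BT.leaf cJ973) (BT.leaf cJ974)) (BT.node 975 (BT.leaf cJ975) (BT.leaf cJ976)))) (BT.node 980 (BT.node 978 (BT.node 977 (BT.leaf cJ977) (BT.leaf cJ978)) (BT.node 979 (BT.leaf cJ979) (BT.leaf cJ980))) (BT.node 982 (BT.node 981 (BT.leaf cJ981) (BT.leaf cJ982)) (BT.node 983 (BT.leaf cJ983) (BT.leaf cJ984))))) (BT.node 992 (BT.node 988 (BT.node 986 (BT.node 985 (BT.leaf cJ985) (BT.leaf cJ986)) (BT.node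 987 (BT.leaf cJ987) (BT.leaf cJ988))) (BT.node 990 (BT.node 989 (BT.leaf cJ989) (BT.leaf cJ990)) (BT.node 991 (BT.leaf cJ991) (BT.leaf cJ992)))) (BT.node 996 (BT.node 994 (BT.node 993 (BT.leaf cJ993) (BT.leaf cJ994)) (BT.node 995 (BT.leaf cJ995) (BT.leaf cJ996))) (BT.node 998 (BT.node 997 (BT.leaf cJ997) (BT.leaf cJ998)) (BT.node 999 (BT.leaf cJ999) (BT.leaf cJ1000)))))) (BT.node 1016 (BT.node 1008 (BT.node 1004 (BT.node 1002 (BT.node 1001 (BT.leaf cJ1001) (BT.leaf cJ1002)) (BT.node 1003 (BT.leaf cJ1003) (BT.leaf cJ1004))) (BT.node 1006 (BT.node 1005 (BT.leaf cJ1005) (BT.leaf cJ1006)) (BT.node 1007 (BT.leaf cJ1007) (BT.leaf cJ1008)))) (BT.node 1012 (BT.node 1010 (BT.node 1009 (BT.leaf cJ1009) (BT.leaf cJ1010)) (BT.node 1011 (BT.leaf cJ1011) (BT.leaf cJ1012))) (BT.node 1014 (BT.node 1013 (BT.leaf cJ1013) (BT.leaf cJ1014)) (BT.node 1015 (BT.leaf cJ1015) (BT.leaf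 cJ1016))))) (BT.node 1024 (BT.node 1020 (BT.node 1018 (BT.node 1017 (BT.leaf cJ1017) (BT.leaf cJ1018)) (BT.node 1019 (BT.leaf cJ1019) (BT.leaf cJ1020))) (BT.node 1022 (BT.node 1021 (BT.leaf cJ1021) (BT.leaf cJ1022)) (BT.node 1023 (BT.leaf cJ1023) (BT.leaf cJ1024)))) (BT.node 1028 (BT.node 1026 (BT.node 1025 (BT.leaf cJ1025) (BT.leaf cJ1026)) (BT.node 1027 (BT.leaf cJ1027) (BT.leaf cJ1028))) (BT.node 1030 (BT.node 1029 (BT.leaf cJ1029) (BT.leaf cJ1030)) (BT.node 1031 (BT.leaf cJ1031) (BT.leaf cJ1032))))))))))) (BT.node 1548 (BT.node 1290 (BT.node 1161 (BT.node 1097 (BT.node 1065 (BT.node 1049 (BT.node 1041 (BT.node 1037 (BT.node 1035 (BT.node 1034 (BT.node 1033 (BT.leaf cJ1033) (BT.leaf cJ1034)) (BT.leaf cJ1035)) (BT.node 1036 (BT.leaf cJ1036) (BT.leaf cJ1037))) (BT.node 1039 (BT.node 1038 (BT.leaf cJ1038) (BT.leaf cJ1039)) (BT.node 1040 (BT.leaf cJ1040) (BT.leaf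 cJ1041)))) (BT.node 1045 (BT.node 1043 (BT.node 1042 (BT.leaf cJ1042) (BT.leaf cJ1043)) (BT.node 1044 (BT.leaf cJ1044) (BT.leaf cJ1045))) (BT.node 1047 (BT.node 1046 (BT.leaf cJ1046) (BT.leaf cJ1047)) (BT.node 1048 (BT.leaf cJ1048) (BT.leaf cJ1049))))) (BT.node 1057 (BT.node 1053 (BT.node 1051 (BT.node 1050 (BT.leaf cJ1050) (BT.leaf cJ1051)) (BT.node 1052 (BT.leaf cJ1052) (BT.leaf cJ1053))) (BT.node 1055 (BT.node 1054 (BT.leaf cJ1054) (BT.leaf cJ1055)) (BT.node 1056 (BT.leaf cJ1056) (BT.leaf cJ1057)))) (BT.node 1061 (BT.node 1059 (BT.node 1058 (BT.leaf cJ1058) (BT.leaf cJ1059)) (BT.node 1060 (BT.leaf cJ1060) (BT.leaf cJ1061))) (BT.node 1063 (BT.node 1062 (BT.leaf cJ1062) (BT.leaf cJ1063)) (BT.node 1064 (BT.leaf cJ1064) (BT.leaf cJ1065)))))) (BT.node 1081 (BT.node 1073 (BT.node 1069 (BT.node 1067 (BT.node 1066 (BT.leaf cJ1066) (BT.leaf cJ1067)) (BT.node 1068 (BT.leaf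 cJ1068) (BT.leaf cJ1069))) (BT.node 1071 (BT.node 1070 (BT.leaf cJ1070) (BT.leaf cJ1071)) (BT.node 1072 (BT.leaf cJ1072) (BT.leaf cJ1073)))) (BT.node 1077 (BT.node 1075 (BT.node 1074 (BT.leaf cJ1074) (BT.leaf cJ1075)) (BT.node 1076 (BT.leaf cJ1076) (BT.leaf cJ1077))) (BT.node 1079 (BT.node 1078 (BT.leaf cJ1078) (BT.leaf cJ1079)) (BT.node 1080 (BT.leaf cJ1080) (BT.leaf cJ1081))))) (BT.node 1089 (BT.node 1085 (BT.node 1083 (BT.node 1082 (BT.leaf cJ1082) (BT.leaf cJ1083)) (BT.node 1084 (BT.leaf cJ1084) (BT.leaf cJ1085))) (BT.node 1087 (BT.node 1086 (BT.leaf cJ1086) (BT.leaf cJ1087)) (BT.node 1088 (BT.leaf cJ1088) (BT.leaf cJ1089)))) (BT.node 1093 (BT.node 1091 (BT.node 1090 (BT.leaf cJ1090) (BT.leaf cJ1091)) (BT.node 1092 (BT.leaf cJ1092) (BT.leaf cJ1093))) (BT.node 1095 (BT.node 1094 (BT.leaf cJ1094) (BT.leaf cJ1095)) (BT.node 1096 (BT.leaf cJ1096) (BT.leaf cJ1097)))))))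 (BT.node 1129 (BT.node 1113 (BT.node 1105 (BT.node 1101 (BT.node 1099 (BT.node 1098 (BT.leaf cJ1098) (BT.leaf cJ1099)) (BT.node 1100 (BT.leaf cJ1100) (BT.leaf cJ1101))) (BT.node 1103 (BT.node 1102 (BT.leaf cJ1102) (BT.leaf cJ1103)) (BT.node 1104 (BT.leaf cJ1104) (BT.leaf cJ1105)))) (BT.node 1109 (BT.node 1107 (BT.node 1106 (BT.leaf cJ1106) (BT.leaf cJ1107)) (BT.node 1108 (BT.leaf cJ1108) (BT.leaf cJ1109))) (BT.node 1111 (BT.node 1110 (BT.leaf cJ1110) (BT.leaf cJ1111)) (BT.node 1112 (BT.leaf cJ1112) (BT.leaf cJ1113))))) (BT.node 1121 (BT.node 1117 (BT.node 1115 (BT.node 1114 (BT.leaf cJ1114) (BT.leaf cJ1115)) (BT.node 1116 (BT.leaf cJ1116) (BT.leaf cJ1117))) (BT.node 1119 (BT.node 1118 (BT.leaf cJ1118) (BT.leaf cJ1119)) (BT.node 1120 (BT.leaf cJ1120) (BT.leaf cJ1121)))) (BT.node 1125 (BT.node 1123 (BT.node 1122 (BT.leaf cJ1122) (BT.leaf cJ1123)) (BT.node 1124 (BT.leaf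 cJ1124) (BT.leaf cJ1125))) (BT.node 1127 (BT.node 1126 (BT.leaf cJ1126) (BT.leaf cJ1127)) (BT.node 1128 (BT.leaf cJ1128) (BT.leaf cJ1129)))))) (BT.node 1145 (BT.node 1137 (BT.node 1133 (BT.node 1131 (BT.node 1130 (BT.leaf cJ1130) (BT.leaf cJ1131)) (BT.node 1132 (BT.leaf cJ1132) (BT.leaf cJ1133))) (BT.node 1135 (BT.node 1134 (BT.leaf cJ1134) (BT.leaf cJ1135)) (BT.node 1136 (BT.leaf cJ1136) (BT.leaf cJ1137)))) (BT.node 1141 (BT.node 1139 (BT.node 1138 (BT.leaf cJ1138) (BT.leaf cJ1139)) (BT.node 1140 (BT.leaf cJ1140) (BT.leaf cJ1141))) (BT.node 1143 (BT.node 1142 (BT.leaf cJ1142) (BT.leaf cJ1143)) (BT.node 1144 (BT.leaf cJ1144) (BT.leaf cJ1145))))) (BT.node 1153 (BT.node 1149 (BT.node 1147 (BT.node 1146 (BT.leaf cJ1146) (BT.leaf cJ1147)) (BT.node 1148 (BT.leaf cJ1148) (BT.leaf cJ1149))) (BT.node 1151 (BT.node 1150 (BT.leaf cJ1150) (BT.leaf cJ1151)) (BT.node 1152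 (BT.leaf cJ1152) (BT.leaf cJ1153)))) (BT.node 1157 (BT.node 1155 (BT.node 1154 (BT.leaf cJ1154) (BT.leaf cJ1155)) (BT.node 1156 (BT.leaf cJ1156) (BT.leaf cJ1157))) (BT.node 1159 (BT.node 1158 (BT.leaf cJ1158) (BT.leaf cJ1159)) (BT.node 1160 (BT.leaf cJ1160) (BT.leaf cJ1161)))))))) (BT.node 1226 (BT.node 1194 (BT.node 1178 (BT.node 1170 (BT.node 1166 (BT.node 1164 (BT.node 1163 (BT.node 1162 (BT.leaf cJ1162) (BT.leaf cJ1163)) (BT.leaf cJ1164)) (BT.node 1165 (BT.leaf cJ1165) (BT.leaf cJ1166))) (BT.node 1168 (BT.node 1167 (BT.leaf cJ1167) (BT.leaf cJ1168)) (BT.node 1169 (BT.leaf cJ1169) (BT.leaf cJ1170)))) (BT.node 1174 (BT.node 1172 (BT.node 1171 (BT.leaf cJ1171) (BT.leaf cJ1172)) (BT.node 1173 (BT.leaf cJ1173) (BT.leaf cJ1174))) (BT.node 1176 (BT.node 1175 (BT.leaf cJ1175) (BT.leaf cJ1176)) (BT.node 1177 (BT.leaf cJ1177) (BT.leaf cJ1178))))) (BT.node 1186 (BT.node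 1182 (BT.node 1180 (BT.node 1179 (BT.leaf cJ1179) (BT.leaf cJ1180)) (BT.node 1181 (BT.leaf cJ1181) (BT.leaf cJ1182))) (BT.node 1184 (BT.node 1183 (BT.leaf cJ1183) (BT.leaf cJ1184)) (BT.node 1185 (BT.leaf cJ1185) (BT.leaf cJ1186)))) (BT.node 1190 (BT.node 1188 (BT.node 1187 (BT.leaf cJ1187) (BT.leaf cJ1188)) (BT.node 1189 (BT.leaf cJ1189) (BT.leaf cJ1190))) (BT.node 1192 (BT.node 1191 (BT.leaf cJ1191) (BT.leaf cJ1192)) (BT.node 1193 (BT.leaf cJ1193) (BT.leaf cJ1194)))))) (BT.node 1210 (BT.node 1202 (BT.node 1198 (BT.node 1196 (BT.node 1195 (BT.leaf cJ1195) (BT.leaf cJ1196)) (BT.node 1197 (BT.leaf cJ1197) (BT.leaf cJ1198))) (BT.node 1200 (BT.node 1199 (BT.leaf cJ1199) (BT.leaf cJ1200)) (BT.node 1201 (BT.leaf cJ1201) (BT.leaf cJ1202)))) (BT.node 1206 (BT.node 1204 (BT.node 1203 (BT.leaf cJ1203) (BT.leaf cJ1204)) (BT.node 1205 (BT.leaf cJ1205) (BT.leaf cJ1206))) (BT.node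 1208 (BT.node 1207 (BT.leaf cJ1207) (BT.leaf cJ1208)) (BT.node 1209 (BT.leaf cJ1209) (BT.leaf cJ1210))))) (BT.node 1218 (BT.node 1214 (BT.node 1212 (BT.node 1211 (BT.leaf cJ1211) (BT.leaf cJ1212)) (BT.node 1213 (BT.leaf cJ1213) (BT.leaf cJ1214))) (BT.node 1216 (BT.node 1215 (BT.leaf cJ1215) (BT.leaf cJ1216)) (BT.node 1217 (BT.leaf cJ1217) (BT.leaf cJ1218)))) (BT.node 1222 (BT.node 1220 (BT.node 1219 (BT.leaf cJ1219) (BT.leaf cJ1220)) (BT.node 1221 (BT.leaf cJ1221) (BT.leaf cJ1222))) (BT.node 1224 (BT.node 1223 (BT.leaf cJ1223) (BT.leaf cJ1224)) (BT.node 1225 (BT.leaf cJ1225) (BT.leaf cJ1226))))))) (BT.node 1258 (BT.node 1242 (BT.node 1234 (BT.node 1230 (BT.node 1228 (BT.node 1227 (BT.leaf cJ1227) (BT.leaf cJ1228)) (BT.node 1229 (BT.leaf cJ1229) (BT.leaf cJ1230))) (BT.node 1232 (BT.node 1231 (BT.leaf cJ1231) (BT.leaf cJ1232)) (BT.node 1233 (BT.leaf cJ1233) (BT.leaf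 cJ1234)))) (BT.node 1238 (BT.node 1236 (BT.node 1235 (BT.leaf cJ1235) (BT.leaf cJ1236)) (BT.node 1237 (BT.leaf cJ1237) (BT.leaf cJ1238))) (BT.node 1240 (BT.node 1239 (BT.leaf cJ1239) (BT.leaf cJ1240)) (BT.node 1241 (BT.leaf cJ1241) (BT.leaf cJ1242))))) (BT.node 1250 (BT.node 1246 (BT.node 1244 (BT.node 1243 (BT.leaf cJ1243) (BT.leaf cJ1244)) (BT.node 1245 (BT.leaf cJ1245) (BT.leaf cJ1246))) (BT.node 1248 (BT.node 1247 (BT.leaf cJ1247) (BT.leaf cJ1248)) (BT.node 1249 (BT.leaf cJ1249) (BT.leaf cJ1250)))) (BT.node 1254 (BT.node 1252 (BT.node 1251 (BT.leaf cJ1251) (BT.leaf cJ1252)) (BT.node 1253 (BT.leaf cJ1253) (BT.leaf cJ1254))) (BT.node 1256 (BT.node 1255 (BT.leaf cJ1255) (BT.leaf cJ1256)) (BT.node 1257 (BT.leaf cJ1257) (BT.leaf cJ1258)))))) (BT.node 1274 (BT.node 1266 (BT.node 1262 (BT.node 1260 (BT.node 1259 (BT.leaf cJ1259) (BT.leaf cJ1260)) (BT.node 1261 (BT.leaf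 cJ1261) (BT.leaf cJ1262))) (BT.node 1264 (BT.node 1263 (BT.leaf cJ1263) (BT.leaf cJ1264)) (BT.node 1265 (BT.leaf cJ1265) (BT.leaf cJ1266)))) (BT.node 1270 (BT.node 1268 (BT.node 1267 (BT.leaf cJ1267) (BT.leaf cJ1268)) (BT.node 1269 (BT.leaf cJ1269) (BT.leaf cJ1270))) (BT.node 1272 (BT.node 1271 (BT.leaf cJ1271) (BT.leaf cJ1272)) (BT.node 1273 (BT.leaf cJ1273) (BT.leaf cJ1274))))) (BT.node 1282 (BT.node 1278 (BT.node 1276 (BT.node 1275 (BT.leaf cJ1275) (BT.leaf cJ1276)) (BT.node 1277 (BT.leaf cJ1277) (BT.leaf cJ1278))) (BT.node 1280 (BT.node 1279 (BT.leaf cJ1279) (BT.leaf cJ1280)) (BT.node 1281 (BT.leaf cJ1281) (BT.leaf cJ1282)))) (BT.node 1286 (BT.node 1284 (BT.node 1283 (BT.leaf cJ1283) (BT.leaf cJ1284)) (BT.node 1285 (BT.leaf cJ1285) (BT.leaf cJ1286))) (BT.node 1288 (BT.node 1287 (BT.leaf cJ1287) (BT.leaf cJ1288)) (BT.node 1289 (BT.leaf cJ1289) (BT.leaf cJ1290)))))))))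 (BT.node 1419 (BT.node 1355 (BT.node 1323 (BT.node 1307 (BT.node 1299 (BT.node 1295 (BT.node 1293 (BT.node 1292 (BT.node 1291 (BT.leaf cJ1291) (BT.leaf cJ1292)) (BT.leaf cJ1293)) (BT.node 1294 (BT.leaf cJ1294) (BT.leaf cJ1295))) (BT.node 1297 (BT.node 1296 (BT.leaf cJ1296) (BT.leaf cJ1297)) (BT.node 1298 (BT.leaf cJ1298) (BT.leaf cJ1299)))) (BT.node 1303 (BT.node 1301 (BT.node 1300 (BT.leaf cJ1300) (BT.leaf cJ1301)) (BT.node 1302 (BT.leaf cJ1302) (BT.leaf cJ1303))) (BT.node 1305 (BT.node 1304 (BT.leaf cJ1304) (BT.leaf cJ1305)) (BT.node 1306 (BT.leaf cJ1306) (BT.leaf cJ1307))))) (BT.node 1315 (BT.node 1311 (BT.node 1309 (BT.node 1308 (BT.leaf cJ1308) (BT.leaf cJ1309)) (BT.node 1310 (BT.leaf cJ1310) (BT.leaf cJ1311))) (BT.node 1313 (BT.node 1312 (BT.leaf cJ1312) (BT.leaf cJ1313)) (BT.node 1314 (BT.leaf cJ1314) (BT.leaf cJ1315)))) (BT.node 1319 (BT.node 1317 (BT.node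 1316 (BT.leaf cJ1316) (BT.leaf cJ1317)) (BT.node 1318 (BT.leaf cJ1318) (BT.leaf cJ1319))) (BT.node 1321 (BT.node 1320 (BT.leaf cJ1320) (BT.leaf cJ1321)) (BT.node 1322 (BT.leaf cJ1322) (BT.leaf cJ1323)))))) (BT.node 1339 (BT.node 1331 (BT.node 1327 (BT.node 1325 (BT.node 1324 (BT.leaf cJ1324) (BT.leaf cJ1325)) (BT.node 1326 (BT.leaf cJ1326) (BT.leaf cJ1327))) (BT.node 1329 (BT.node 1328 (BT.leaf cJ1328) (BT.leaf cJ1329)) (BT.node 1330 (BT.leaf cJ1330) (BT.leaf cJ1331)))) (BT.node 1335 (BT.node 1333 (BT.node 1332 (BT.leaf cJ1332) (BT.leaf cJ1333)) (BT.node 1334 (BT.leaf cJ1334) (BT.leaf cJ1335))) (BT.node 1337 (BT.node 1336 (BT.leaf cJ1336) (BT.leaf cJ1337)) (BT.node 1338 (BT.leaf cJ1338) (BT.leaf cJ1339))))) (BT.node 1347 (BT.node 1343 (BT.node 1341 (BT.node 1340 (BT.leaf cJ1340) (BT.leaf cJ1341)) (BT.node 1342 (BT.leaf cJ1342) (BT.leaf cJ1343))) (BT.node 1345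 (BT.node 1344 (BT.leaf cJ1344) (BT.leaf cJ1345)) (BT.node 1346 (BT.leaf cJ1346) (BT.leaf cJ1347)))) (BT.node 1351 (BT.node 1349 (BT.node 1348 (BT.leaf cJ1348) (BT.leaf cJ1349)) (BT.node 1350 (BT.leaf cJ1350) (BT.leaf cJ1351))) (BT.node 1353 (BT.node 1352 (BT.leaf cJ1352) (BT.leaf cJ1353)) (BT.node 1354 (BT.leaf cJ1354) (BT.leaf cJ1355))))))) (BT.node 1387 (BT.node 1371 (BT.node 1363 (BT.node 1359 (BT.node 1357 (BT.node 1356 (BT.leaf cJ1356) (BT.leaf cJ1357)) (BT.node 1358 (BT.leaf cJ1358) (BT.leaf cJ1359))) (BT.node 1361 (BT.node 1360 (BT.leaf cJ1360) (BT.leaf cJ1361)) (BT.node 1362 (BT.leaf cJ1362) (BT.leaf cJ1363)))) (BT.node 1367 (BT.node 1365 (BT.node 1364 (BT.leaf cJ1364) (BT.leaf cJ1365)) (BT.node 1366 (BT.leaf cJ1366) (BT.leaf cJ1367))) (BT.node 1369 (BT.node 1368 (BT.leaf cJ1368) (BT.leaf cJ1369)) (BT.node 1370 (BT.leaf cJ1370) (BT.leaf cJ1371))))) (BT.node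 1379 (BT.node 1375 (BT.node 1373 (BT.node 1372 (BT.leaf cJ1372) (BT.leaf cJ1373)) (BT.node 1374 (BT.leaf cJ1374) (BT.leaf cJ1375))) (BT.node 1377 (BT.node 1376 (BT.leaf cJ1376) (BT.leaf cJ1377)) (BT.node 1378 (BT.leaf cJ1378) (BT.leaf cJ1379)))) (BT.node 1383 (BT.node 1381 (BT.node 1380 (BT.leaf cJ1380) (BT.leaf cJ1381)) (BT.node 1382 (BT.leaf cJ1382) (BT.leaf cJ1383))) (BT.node 1385 (BT.node 1384 (BT.leaf cJ1384) (BT.leaf cJ1385)) (BT.node 1386 (BT.leaf cJ1386) (BT.leaf cJ1387)))))) (BT.node 1403 (BT.node 1395 (BT.node 1391 (BT.node 1389 (BT.node 1388 (BT.leaf cJ1388) (BT.leaf cJ1389)) (BT.node 1390 (BT.leaf cJ1390) (BT.leaf cJ1391))) (BT.node 1393 (BT.node 1392 (BT.leaf cJ1392) (BT.leaf cJ1393)) (BT.node 1394 (BT.leaf cJ1394) (BT.leaf cJ1395)))) (BT.node 1399 (BT.node 1397 (BT.node 1396 (BT.leaf cJ1396) (BT.leaf cJ1397)) (BT.node 1398 (BT.leaf cJ1398) (BT.leaf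 cJ1399))) (BT.node 1401 (BT.node 1400 (BT.leaf cJ1400) (BT.leaf cJ1401)) (BT.node 1402 (BT.leaf cJ1402) (BT.leaf cJ1403))))) (BT.node 1411 (BT.node 1407 (BT.node 1405 (BT.node 1404 (BT.leaf cJ1404) (BT.leaf cJ1405)) (BT.node 1406 (BT.leaf cJ1406) (BT.leaf cJ1407))) (BT.node 1409 (BT.node 1408 (BT.leaf cJ1408) (BT.leaf cJ1409)) (BT.node 1410 (BT.leaf cJ1410) (BT.leaf cJ1411)))) (BT.node 1415 (BT.node 1413 (BT.node 1412 (BT.leaf cJ1412) (BT.leaf cJ1413)) (BT.node 1414 (BT.leaf cJ1414) (BT.leaf cJ1415))) (BT.node 1417 (BT.node 1416 (BT.leaf cJ1416) (BT.leaf cJ1417)) (BT.node 1418 (BT.leaf cJ1418) (BT.leaf cJ1419)))))))) (BT.node 1484 (BT.node 1452 (BT.node 1436 (BT.node 1428 (BT.node 1424 (BT.node 1422 (BT.node 1421 (BT.node 1420 (BT.leaf cJ1420) (BT.leaf cJ1421)) (BT.leaf cJ1422)) (BT.node 1423 (BT.leaf cJ1423) (BT.leaf cJ1424))) (BT.node 1426 (BT.node 1425 (BT.leaf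 cJ1425) (BT.leaf cJ1426)) (BT.node 1427 (BT.leaf cJ1427) (BT.leaf cJ1428)))) (BT.node 1432 (BT.node 1430 (BT.node 1429 (BT.leaf cJ1429) (BT.leaf cJ1430)) (BT.node 1431 (BT.leaf cJ1431) (BT.leaf cJ1432))) (BT.node 1434 (BT.node 1433 (BT.leaf cJ1433) (BT.leaf cJ1434)) (BT.node 1435 (BT.leaf cJ1435) (BT.leaf cJ1436))))) (BT.node 1444 (BT.node 1440 (BT.node 1438 (BT.node 1437 (BT.leaf cJ1437) (BT.leaf cJ1438)) (BT.node 1439 (BT.leaf cJ1439) (BT.leaf cJ1440))) (BT.node 1442 (BT.node 1441 (BT.leaf cJ1441) (BT.leaf cJ1442)) (BT.node 1443 (BT.leaf cJ1443) (BT.leaf cJ1444)))) (BT.node 1448 (BT.node 1446 (BT.node 1445 (BT.leaf cJ1445) (BT.leaf cJ1446)) (BT.node 1447 (BT.leaf cJ1447) (BT.leaf cJ1448))) (BT.node 1450 (BT.node 1449 (BT.leaf cJ1449) (BT.leaf cJ1450)) (BT.node 1451 (BT.leaf cJ1451) (BT.leaf cJ1452)))))) (BT.node 1468 (BT.node 1460 (BT.node 1456 (BT.node 1454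 (BT.node 1453 (BT.leaf cJ1453) (BT.leaf cJ1454)) (BT.node 1455 (BT.leaf cJ1455) (BT.leaf cJ1456))) (BT.node 1458 (BT.node 1457 (BT.leaf cJ1457) (BT.leaf cJ1458)) (BT.node 1459 (BT.leaf cJ1459) (BT.leaf cJ1460)))) (BT.node 1464 (BT.node 1462 (BT.node 1461 (BT.leaf cJ1461) (BT.leaf cJ1462)) (BT.node 1463 (BT.leaf cJ1463) (BT.leaf cJ1464))) (BT.node 1466 (BT.node 1465 (BT.leaf cJ1465) (BT.leaf cJ1466)) (BT.node 1467 (BT.leaf cJ1467) (BT.leaf cJ1468))))) (BT.node 1476 (BT.node 1472 (BT.node 1470 (BT.node 1469 (BT.leaf cJ1469) (BT.leaf cJ1470)) (BT.node 1471 (BT.leaf cJ1471) (BT.leaf cJ1472))) (BT.node 1474 (BT.node 1473 (BT.leaf cJ1473) (BT.leaf cJ1474)) (BT.node 1475 (BT.leaf cJ1475) (BT.leaf cJ1476)))) (BT.node 1480 (BT.node 1478 (BT.node 1477 (BT.leaf cJ1477) (BT.leaf cJ1478)) (BT.node 1479 (BT.leaf cJ1479) (BT.leaf cJ1480))) (BT.node 1482 (BT.node 1481 (BT.leaf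 cJ1481) (BT.leaf cJ1482)) (BT.node 1483 (BT.leaf cJ1483) (BT.leaf cJ1484))))))) (BT.node 1516 (BT.node 1500 (BT.node 1492 (BT.node 1488 (BT.node 1486 (BT.node 1485 (BT.leaf cJ1485) (BT.leaf cJ1486)) (BT.node 1487 (BT.leaf cJ1487) (BT.leaf cJ1488))) (BT.node 1490 (BT.node 1489 (BT.leaf cJ1489) (BT.leaf cJ1490)) (BT.node 1491 (BT.leaf cJ1491) (BT.leaf cJ1492)))) (BT.node 1496 (BT.node 1494 (BT.node 1493 (BT.leaf cJ1493) (BT.leaf cJ1494)) (BT.node 1495 (BT.leaf cJ1495) (BT.leaf cJ1496))) (BT.node 1498 (BT.node 1497 (BT.leaf cJ1497) (BT.leaf cJ1498)) (BT.node 1499 (BT.leaf cJ1499) (BT.leaf cJ1500))))) (BT.node 1508 (BT.node 1504 (BT.node 1502 (BT.node 1501 (BT.leaf cJ1501) (BT.leaf cJ1502)) (BT.node 1503 (BT.leaf cJ1503) (BT.leaf cJ1504))) (BT.node 1506 (BT.node 1505 (BT.leaf cJ1505) (BT.leaf cJ1506)) (BT.node 1507 (BT.leaf cJ1507) (BT.leaf cJ1508)))) (BT.node 1512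 (BT.node 1510 (BT.node 1509 (BT.leaf cJ1509) (BT.leaf cJ1510)) (BT.node 1511 (BT.leaf cJ1511) (BT.leaf cJ1512))) (BT.node 1514 (BT.node 1513 (BT.leaf cJ1513) (BT.leaf cJ1514)) (BT.node 1515 (BT.leaf cJ1515) (BT.leaf cJ1516)))))) (BT.node 1532 (BT.node 1524 (BT.node 1520 (BT.node 1518 (BT.node 1517 (BT.leaf cJ1517) (BT.leaf cJ1518)) (BT.node 1519 (BT.leaf cJ1519) (BT.leaf cJ1520))) (BT.node 1522 (BT.node 1521 (BT.leaf cJ1521) (BT.leaf cJ1522)) (BT.node 1523 (BT.leaf cJ1523) (BT.leaf cJ1524)))) (BT.node 1528 (BT.node 1526 (BT.node 1525 (BT.leaf cJ1525) (BT.leaf cJ1526)) (BT.node 1527 (BT.leaf cJ1527) (BT.leaf cJ1528))) (BT.node 1530 (BT.node 1529 (BT.leaf cJ1529) (BT.leaf cJ1530)) (BT.node 1531 (BT.leaf cJ1531) (BT.leaf cJ1532))))) (BT.node 1540 (BT.node 1536 (BT.node 1534 (BT.node 1533 (BT.leaf cJ1533) (BT.leaf cJ1534)) (BT.node 1535 (BT.leaf cJ1535) (BT.leaf cJ1536)))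 (BT.node 1538 (BT.node 1537 (BT.leaf cJ1537) (BT.leaf cJ1538)) (BT.node 1539 (BT.leaf cJ1539) (BT.leaf cJ1540)))) (BT.node 1544 (BT.node 1542 (BT.node 1541 (BT.leaf cJ1541) (BT.leaf cJ1542)) (BT.node 1543 (BT.leaf cJ1543) (BT.leaf cJ1544))) (BT.node 1546 (BT.node 1545 (BT.leaf cJ1545) (BT.leaf cJ1546)) (BT.node 1547 (BT.leaf cJ1547) (BT.leaf cJ1548)))))))))) (BT.node 1806 (BT.node 1677 (BT.node 1613 (BT.node 1581 (BT.node 1565 (BT.node 1557 (BT.node 1553 (BT.node 1551 (BT.node 1550 (BT.node 1549 (BT.leaf cJ1549) (BT.leaf cJ1550)) (BT.leaf cJ1551)) (BT.node 1552 (BT.leaf cJ1552) (BT.leaf cJ1553))) (BT.node 1555 (BT.node 1554 (BT.leaf cJ1554) (BT.leaf cJ1555)) (BT.node 1556 (BT.leaf cJ1556) (BT.leaf cJ1557)))) (BT.node 1561 (BT.node 1559 (BT.node 1558 (BT.leaf cJ1558) (BT.leaf cJ1559)) (BT.node 1560 (BT.leaf cJ1560) (BT.leaf cJ1561))) (BT.node 1563 (BT.node 1562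 (BT.leaf cJ1562) (BT.leaf cJ1563)) (BT.node 1564 (BT.leaf cJ1564) (BT.leaf cJ1565))))) (BT.node 1573 (BT.node 1569 (BT.node 1567 (BT.node 1566 (BT.leaf cJ1566) (BT.leaf cJ1567)) (BT.node 1568 (BT.leaf cJ1568) (BT.leaf cJ1569))) (BT.node 1571 (BT.node 1570 (BT.leaf cJ1570) (BT.leaf cJ1571)) (BT.node 1572 (BT.leaf cJ1572) (BT.leaf cJ1573)))) (BT.node 1577 (BT.node 1575 (BT.node 1574 (BT.leaf cJ1574) (BT.leaf cJ1575)) (BT.node 1576 (BT.leaf cJ1576) (BT.leaf cJ1577))) (BT.node 1579 (BT.node 1578 (BT.leaf cJ1578) (BT.leaf cJ1579)) (BT.node 1580 (BT.leaf cJ1580) (BT.leaf cJ1581)))))) (BT.node 1597 (BT.node 1589 (BT.node 1585 (BT.node 1583 (BT.node 1582 (BT.leaf cJ1582) (BT.leaf cJ1583)) (BT.node 1584 (BT.leaf cJ1584) (BT.leaf cJ1585))) (BT.node 1587 (BT.node 1586 (BT.leaf cJ1586) (BT.leaf cJ1587)) (BT.node 1588 (BT.leaf cJ1588) (BT.leaf cJ1589)))) (BT.node 1593 (BT.node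 1591 (BT.node 1590 (BT.leaf cJ1590) (BT.leaf cJ1591)) (BT.node 1592 (BT.leaf cJ1592) (BT.leaf cJ1593))) (BT.node 1595 (BT.node 1594 (BT.leaf cJ1594) (BT.leaf cJ1595)) (BT.node 1596 (BT.leaf cJ1596) (BT.leaf cJ1597))))) (BT.node 1605 (BT.node 1601 (BT.node 1599 (BT.node 1598 (BT.leaf cJ1598) (BT.leaf cJ1599)) (BT.node 1600 (BT.leaf cJ1600) (BT.leaf cJ1601))) (BT.node 1603 (BT.node 1602 (BT.leaf cJ1602) (BT.leaf cJ1603)) (BT.node 1604 (BT.leaf cJ1604) (BT.leaf cJ1605)))) (BT.node 1609 (BT.node 1607 (BT.node 1606 (BT.leaf cJ1606) (BT.leaf cJ1607)) (BT.node 1608 (BT.leaf cJ1608) (BT.leaf cJ1609))) (BT.node 1611 (BT.node 1610 (BT.leaf cJ1610) (BT.leaf cJ1611)) (BT.node 1612 (BT.leaf cJ1612) (BT.leaf cJ1613))))))) (BT.node 1645 (BT.node 1629 (BT.node 1621 (BT.node 1617 (BT.node 1615 (BT.node 1614 (BT.leaf cJ1614) (BT.leaf cJ1615)) (BT.node 1616 (BT.leaf cJ1616) (BT.leaf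 cJ1617))) (BT.node 1619 (BT.node 1618 (BT.leaf cJ1618) (BT.leaf cJ1619)) (BT.node 1620 (BT.leaf cJ1620) (BT.leaf cJ1621)))) (BT.node 1625 (BT.node 1623 (BT.node 1622 (BT.leaf cJ1622) (BT.leaf cJ1623)) (BT.node 1624 (BT.leaf cJ1624) (BT.leaf cJ1625))) (BT.node 1627 (BT.node 1626 (BT.leaf cJ1626) (BT.leaf cJ1627)) (BT.node 1628 (BT.leaf cJ1628) (BT.leaf cJ1629))))) (BT.node 1637 (BT.node 1633 (BT.node 1631 (BT.node 1630 (BT.leaf cJ1630) (BT.leaf cJ1631)) (BT.node 1632 (BT.leaf cJ1632) (BT.leaf cJ1633))) (BT.node 1635 (BT.node 1634 (BT.leaf cJ1634) (BT.leaf cJ1635)) (BT.node 1636 (BT.leaf cJ1636) (BT.leaf cJ1637)))) (BT.node 1641 (BT.node 1639 (BT.node 1638 (BT.leaf cJ1638) (BT.leaf cJ1639)) (BT.node 1640 (BT.leaf cJ1640) (BT.leaf cJ1641))) (BT.node 1643 (BT.node 1642 (BT.leaf cJ1642) (BT.leaf cJ1643)) (BT.node 1644 (BT.leaf cJ1644) (BT.leaf cJ1645)))))) (BT.node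 1661 (BT.node 1653 (BT.node 1649 (BT.node 1647 (BT.node 1646 (BT.leaf cJ1646) (BT.leaf cJ1647)) (BT.node 1648 (BT.leaf cJ1648) (BT.leaf cJ1649))) (BT.node 1651 (BT.node 1650 (BT.leaf cJ1650) (BT.leaf cJ1651)) (BT.node 1652 (BT.leaf cJ1652) (BT.leaf cJ1653)))) (BT.node 1657 (BT.node 1655 (BT.node 1654 (BT.leaf cJ1654) (BT.leaf cJ1655)) (BT.node 1656 (BT.leaf cJ1656) (BT.leaf cJ1657))) (BT.node 1659 (BT.node 1658 (BT.leaf cJ1658) (BT.leaf cJ1659)) (BT.node 1660 (BT.leaf cJ1660) (BT.leaf cJ1661))))) (BT.node 1669 (BT.node 1665 (BT.node 1663 (BT.node 1662 (BT.leaf cJ1662) (BT.leaf cJ1663)) (BT.node 1664 (BT.leaf cJ1664) (BT.leaf cJ1665))) (BT.node 1667 (BT.node 1666 (BT.leaf cJ1666) (BT.leaf cJ1667)) (BT.node 1668 (BT.leaf cJ1668) (BT.leaf cJ1669)))) (BT.node 1673 (BT.node 1671 (BT.node 1670 (BT.leaf cJ1670) (BT.leaf cJ1671)) (BT.node 1672 (BT.leaf cJ1672) (BT.leaf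 cJ1673))) (BT.node 1675 (BT.node 1674 (BT.leaf cJ1674) (BT.leaf cJ1675)) (BT.node 1676 (BT.leaf cJ1676) (BT.leaf cJ1677)))))))) (BT.node 1742 (BT.node 1710 (BT.node 1694 (BT.node 1686 (BT.node 1682 (BT.node 1680 (BT.node 1679 (BT.node 1678 (BT.leaf cJ1678) (BT.leaf cJ1679)) (BT.leaf cJ1680)) (BT.node 1681 (BT.leaf cJ1681) (BT.leaf cJ1682))) (BT.node 1684 (BT.node 1683 (BT.leaf cJ1683) (BT.leaf cJ1684)) (BT.node 1685 (BT.leaf cJ1685) (BT.leaf cJ1686)))) (BT.node 1690 (BT.node 1688 (BT.node 1687 (BT.leaf cJ1687) (BT.leaf cJ1688)) (BT.node 1689 (BT.leaf cJ1689) (BT.leaf cJ1690))) (BT.node 1692 (BT.node 1691 (BT.leaf cJ1691) (BT.leaf cJ1692)) (BT.node 1693 (BT.leaf cJ1693) (BT.leaf cJ1694))))) (BT.node 1702 (BT.node 1698 (BT.node 1696 (BT.node 1695 (BT.leaf cJ1695) (BT.leaf cJ1696)) (BT.node 1697 (BT.leaf cJ1697) (BT.leaf cJ1698))) (BT.node 1700 (BT.node 1699 (BT.leaf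 cJ1699) (BT.leaf cJ1700)) (BT.node 1701 (BT.leaf cJ1701) (BT.leaf cJ1702)))) (BT.node 1706 (BT.node 1704 (BT.node 1703 (BT.leaf cJ1703) (BT.leaf cJ1704)) (BT.node 1705 (BT.leaf cJ1705) (BT.leaf cJ1706))) (BT.node 1708 (BT.node 1707 (BT.leaf cJ1707) (BT.leaf cJ1708)) (BT.node 1709 (BT.leaf cJ1709) (BT.leaf cJ1710)))))) (BT.node 1726 (BT.node 1718 (BT.node 1714 (BT.node 1712 (BT.node 1711 (BT.leaf cJ1711) (BT.leaf cJ1712)) (BT.node 1713 (BT.leaf cJ1713) (BT.leaf cJ1714))) (BT.node 1716 (BT.node 1715 (BT.leaf cJ1715) (BT.leaf cJ1716)) (BT.node 1717 (BT.leaf cJ1717) (BT.leaf cJ1718)))) (BT.node 1722 (BT.node 1720 (BT.node 1719 (BT.leaf cJ1719) (BT.leaf cJ1720)) (BT.node 1721 (BT.leaf cJ1721) (BT.leaf cJ1722))) (BT.node 1724 (BT.node 1723 (BT.leaf cJ1723) (BT.leaf cJ1724)) (BT.node 1725 (BT.leaf cJ1725) (BT.leaf cJ1726))))) (BT.node 1734 (BT.node 1730 (BT.node 1728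 (BT.node 1727 (BT.leaf cJ1727) (BT.leaf cJ1728)) (BT.node 1729 (BT.leaf cJ1729) (BT.leaf cJ1730))) (BT.node 1732 (BT.node 1731 (BT.leaf cJ1731) (BT.leaf cJ1732)) (BT.node 1733 (BT.leaf cJ1733) (BT.leaf cJ1734)))) (BT.node 1738 (BT.node 1736 (BT.node 1735 (BT.leaf cJ1735) (BT.leaf cJ1736)) (BT.node 1737 (BT.leaf cJ1737) (BT.leaf cJ1738))) (BT.node 1740 (BT.node 1739 (BT.leaf cJ1739) (BT.leaf cJ1740)) (BT.node 1741 (BT.leaf cJ1741) (BT.leaf cJ1742))))))) (BT.node 1774 (BT.node 1758 (BT.node 1750 (BT.node 1746 (BT.node 1744 (BT.node 1743 (BT.leaf cJ1743) (BT.leaf cJ1744)) (BT.node 1745 (BT.leaf cJ1745) (BT.leaf cJ1746))) (BT.node 1748 (BT.node 1747 (BT.leaf cJ1747) (BT.leaf cJ1748)) (BT.node 1749 (BT.leaf cJ1749) (BT.leaf cJ1750)))) (BT.node 1754 (BT.node 1752 (BT.node 1751 (BT.leaf cJ1751) (BT.leaf cJ1752)) (BT.node 1753 (BT.leaf cJ1753) (BT.leaf cJ1754))) (BT.node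 1756 (BT.node 1755 (BT.leaf cJ1755) (BT.leaf cJ1756)) (BT.node 1757 (BT.leaf cJ1757) (BT.leaf cJ1758))))) (BT.node 1766 (BT.node 1762 (BT.node 1760 (BT.node 1759 (BT.leaf cJ1759) (BT.leaf cJ1760)) (BT.node 1761 (BT.leaf cJ1761) (BT.leaf cJ1762))) (BT.node 1764 (BT.node 1763 (BT.leaf cJ1763) (BT.leaf cJ1764)) (BT.node 1765 (BT.leaf cJ1765) (BT.leaf cJ1766)))) (BT.node 1770 (BT.node 1768 (BT.node 1767 (BT.leaf cJ1767) (BT.leaf cJ1768)) (BT.node 1769 (BT.leaf cJ1769) (BT.leaf cJ1770))) (BT.node 1772 (BT.node 1771 (BT.leaf cJ1771) (BT.leaf cJ1772)) (BT.node 1773 (BT.leaf cJ1773) (BT.leaf cJ1774)))))) (BT.node 1790 (BT.node 1782 (BT.node 1778 (BT.node 1776 (BT.node 1775 (BT.leaf cJ1775) (BT.leaf cJ1776)) (BT.node 1777 (BT.leaf cJ1777) (BT.leaf cJ1778))) (BT.node 1780 (BT.node 1779 (BT.leaf cJ1779) (BT.leaf cJ1780)) (BT.node 1781 (BT.leaf cJ1781) (BT.leaf cJ1782))))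 (BT.node 1786 (BT.node 1784 (BT.node 1783 (BT.leaf cJ1783) (BT.leaf cJ1784)) (BT.node 1785 (BT.leaf cJ1785) (BT.leaf cJ1786))) (BT.node 1788 (BT.node 1787 (BT.leaf cJ1787) (BT.leaf cJ1788)) (BT.node 1789 (BT.leaf cJ1789) (BT.leaf cJ1790))))) (BT.node 1798 (BT.node 1794 (BT.node 1792 (BT.node 1791 (BT.leaf cJ1791) (BT.leaf cJ1792)) (BT.node 1793 (BT.leaf cJ1793) (BT.leaf cJ1794))) (BT.node 1796 (BT.node 1795 (BT.leaf cJ1795) (BT.leaf cJ1796)) (BT.node 1797 (BT.leaf cJ1797) (BT.leaf cJ1798)))) (BT.node 1802 (BT.node 1800 (BT.node 1799 (BT.leaf cJ1799) (BT.leaf cJ1800)) (BT.node 1801 (BT.leaf cJ1801) (BT.leaf cJ1802))) (BT.node 1804 (BT.node 1803 (BT.leaf cJ1803) (BT.leaf cJ1804)) (BT.node 1805 (BT.leaf cJ1805) (BT.leaf cJ1806))))))))) (BT.node 1935 (BT.node 1871 (BT.node 1839 (BT.node 1823 (BT.node 1815 (BT.node 1811 (BT.node 1809 (BT.node 1808 (BT.node 1807 (BT.leaf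 cJ1807) (BT.leaf cJ1808)) (BT.leaf cJ1809)) (BT.node 1810 (BT.leaf cJ1810) (BT.leaf cJ1811))) (BT.node 1813 (BT.node 1812 (BT.leaf cJ1812) (BT.leaf cJ1813)) (BT.node 1814 (BT.leaf cJ1814) (BT.leaf cJ1815)))) (BT.node 1819 (BT.node 1817 (BT.node 1816 (BT.leaf cJ1816) (BT.leaf cJ1817)) (BT.node 1818 (BT.leaf cJ1818) (BT.leaf cJ1819))) (BT.node 1821 (BT.node 1820 (BT.leaf cJ1820) (BT.leaf cJ1821)) (BT.node 1822 (BT.leaf cJ1822) (BT.leaf cJ1823))))) (BT.node 1831 (BT.node 1827 (BT.node 1825 (BT.node 1824 (BT.leaf cJ1824) (BT.leaf cJ1825)) (BT.node 1826 (BT.leaf cJ1826) (BT.leaf cJ1827))) (BT.node 1829 (BT.node 1828 (BT.leaf cJ1828) (BT.leaf cJ1829)) (BT.node 1830 (BT.leaf cJ1830) (BT.leaf cJ1831)))) (BT.node 1835 (BT.node 1833 (BT.node 1832 (BT.leaf cJ1832) (BT.leaf cJ1833)) (BT.node 1834 (BT.leaf cJ1834) (BT.leaf cJ1835))) (BT.node 1837 (BT.node 1836 (BT.leaf cJ1836)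 (BT.leaf cJ1837)) (BT.node 1838 (BT.leaf cJ1838) (BT.leaf cJ1839)))))) (BT.node 1855 (BT.node 1847 (BT.node 1843 (BT.node 1841 (BT.node 1840 (BT.leaf cJ1840) (BT.leaf cJ1841)) (BT.node 1842 (BT.leaf cJ1842) (BT.leaf cJ1843))) (BT.node 1845 (BT.node 1844 (BT.leaf cJ1844) (BT.leaf cJ1845)) (BT.node 1846 (BT.leaf cJ1846) (BT.leaf cJ1847)))) (BT.node 1851 (BT.node 1849 (BT.node 1848 (BT.leaf cJ1848) (BT.leaf cJ1849)) (BT.node 1850 (BT.leaf cJ1850) (BT.leaf cJ1851))) (BT.node 1853 (BT.node 1852 (BT.leaf cJ1852) (BT.leaf cJ1853)) (BT.node 1854 (BT.leaf cJ1854) (BT.leaf cJ1855))))) (BT.node 1863 (BT.node 1859 (BT.node 1857 (BT.node 1856 (BT.leaf cJ1856) (BT.leaf cJ1857)) (BT.node 1858 (BT.leaf cJ1858) (BT.leaf cJ1859))) (BT.node 1861 (BT.node 1860 (BT.leaf cJ1860) (BT.leaf cJ1861)) (BT.node 1862 (BT.leaf cJ1862) (BT.leaf cJ1863)))) (BT.node 1867 (BT.node 1865 (BT.node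 1864 (BT.leaf cJ1864) (BT.leaf cJ1865)) (BT.node 1866 (BT.leaf cJ1866) (BT.leaf cJ1867))) (BT.node 1869 (BT.node 1868 (BT.leaf cJ1868) (BT.leaf cJ1869)) (BT.node 1870 (BT.leaf cJ1870) (BT.leaf cJ1871))))))) (BT.node 1903 (BT.node 1887 (BT.node 1879 (BT.node 1875 (BT.node 1873 (BT.node 1872 (BT.leaf cJ1872) (BT.leaf cJ1873)) (BT.node 1874 (BT.leaf cJ1874) (BT.leaf cJ1875))) (BT.node 1877 (BT.node 1876 (BT.leaf cJ1876) (BT.leaf cJ1877)) (BT.node 1878 (BT.leaf cJ1878) (BT.leaf cJ1879)))) (BT.node 1883 (BT.node 1881 (BT.node 1880 (BT.leaf cJ1880) (BT.leaf cJ1881)) (BT.node 1882 (BT.leaf cJ1882) (BT.leaf cJ1883))) (BT.node 1885 (BT.node 1884 (BT.leaf cJ1884) (BT.leaf cJ1885)) (BT.node 1886 (BT.leaf cJ1886) (BT.leaf cJ1887))))) (BT.node 1895 (BT.node 1891 (BT.node 1889 (BT.node 1888 (BT.leaf cJ1888) (BT.leaf cJ1889)) (BT.node 1890 (BT.leaf cJ1890) (BT.leaf cJ1891)))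 (BT.node 1893 (BT.node 1892 (BT.leaf cJ1892) (BT.leaf cJ1893)) (BT.node 1894 (BT.leaf cJ1894) (BT.leaf cJ1895)))) (BT.node 1899 (BT.node 1897 (BT.node 1896 (BT.leaf cJ1896) (BT.leaf cJ1897)) (BT.node 1898 (BT.leaf cJ1898) (BT.leaf cJ1899))) (BT.node 1901 (BT.node 1900 (BT.leaf cJ1900) (BT.leaf cJ1901)) (BT.node 1902 (BT.leaf cJ1902) (BT.leaf cJ1903)))))) (BT.node 1919 (BT.node 1911 (BT.node 1907 (BT.node 1905 (BT.node 1904 (BT.leaf cJ1904) (BT.leaf cJ1905)) (BT.node 1906 (BT.leaf cJ1906) (BT.leaf cJ1907))) (BT.node 1909 (BT.node 1908 (BT.leaf cJ1908) (BT.leaf cJ1909)) (BT.node 1910 (BT.leaf cJ1910) (BT.leaf cJ1911)))) (BT.node 1915 (BT.node 1913 (BT.node 1912 (BT.leaf cJ1912) (BT.leaf cJ1913)) (BT.node 1914 (BT.leaf cJ1914) (BT.leaf cJ1915))) (BT.node 1917 (BT.node 1916 (BT.leaf cJ1916) (BT.leaf cJ1917)) (BT.node 1918 (BT.leaf cJ1918) (BT.leaf cJ1919))))) (BT.node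 1927 (BT.node 1923 (BT.node 1921 (BT.node 1920 (BT.leaf cJ1920) (BT.leaf cJ1921)) (BT.node 1922 (BT.leaf cJ1922) (BT.leaf cJ1923))) (BT.node 1925 (BT.node 1924 (BT.leaf cJ1924) (BT.leaf cJ1925)) (BT.node 1926 (BT.leaf cJ1926) (BT.leaf cJ1927)))) (BT.node 1931 (BT.node 1929 (BT.node 1928 (BT.leaf cJ1928) (BT.leaf cJ1929)) (BT.node 1930 (BT.leaf cJ1930) (BT.leaf cJ1931))) (BT.node 1933 (BT.node 1932 (BT.leaf cJ1932) (BT.leaf cJ1933)) (BT.node 1934 (BT.leaf cJ1934) (BT.leaf cJ1935)))))))) (BT.node 2000 (BT.node 1968 (BT.node 1952 (BT.node 1944 (BT.node 1940 (BT.node 1938 (BT.node 1937 (BT.node 1936 (BT.leaf cJ1936) (BT.leaf cJ1937)) (BT.leaf cJ1938)) (BT.node 1939 (BT.leaf cJ1939) (BT.leaf cJ1940))) (BT.node 1942 (BT.node 1941 (BT.leaf cJ1941) (BT.leaf cJ1942)) (BT.node 1943 (BT.leaf cJ1943) (BT.leaf cJ1944)))) (BT.node 1948 (BT.node 1946 (BT.node 1945 (BT.leaf cJ1945)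 (BT.leaf cJ1946)) (BT.node 1947 (BT.leaf cJ1947) (BT.leaf cJ1948))) (BT.node 1950 (BT.node 1949 (BT.leaf cJ1949) (BT.leaf cJ1950)) (BT.node 1951 (BT.leaf cJ1951) (BT.leaf cJ1952))))) (BT.node 1960 (BT.node 1956 (BT.node 1954 (BT.node 1953 (BT.leaf cJ1953) (BT.leaf cJ1954)) (BT.node 1955 (BT.leaf cJ1955) (BT.leaf cJ1956))) (BT.node 1958 (BT.node 1957 (BT.leaf cJ1957) (BT.leaf cJ1958)) (BT.node 1959 (BT.leaf cJ1959) (BT.leaf cJ1960)))) (BT.node 1964 (BT.node 1962 (BT.node 1961 (BT.leaf cJ1961) (BT.leaf cJ1962)) (BT.node 1963 (BT.leaf cJ1963) (BT.leaf cJ1964))) (BT.node 1966 (BT.node 1965 (BT.leaf cJ1965) (BT.leaf cJ1966)) (BT.node 1967 (BT.leaf cJ1967) (BT.leaf cJ1968)))))) (BT.node 1984 (BT.node 1976 (BT.node 1972 (BT.node 1970 (BT.node 1969 (BT.leaf cJ1969) (BT.leaf cJ1970)) (BT.node 1971 (BT.leaf cJ1971) (BT.leaf cJ1972))) (BT.node 1974 (BT.node 1973 (BT.leaf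 cJ1973) (BT.leaf cJ1974)) (BT.node 1975 (BT.leaf cJ1975) (BT.leaf cJ1976)))) (BT.node 1980 (BT.node 1978 (BT.node 1977 (BT.leaf cJ1977) (BT.leaf cJ1978)) (BT.node 1979 (BT.leaf cJ1979) (BT.leaf cJ1980))) (BT.node 1982 (BT.node 1981 (BT.leaf cJ1981) (BT.leaf cJ1982)) (BT.node 1983 (BT.leaf cJ1983) (BT.leaf cJ1984))))) (BT.node 1992 (BT.node 1988 (BT.node 1986 (BT.node 1985 (BT.leaf cJ1985) (BT.leaf cJ1986)) (BT.node 1987 (BT.leaf cJ1987) (BT.leaf cJ1988))) (BT.node 1990 (BT.node 1989 (BT.leaf cJ1989) (BT.leaf cJ1990)) (BT.node 1991 (BT.leaf cJ1991) (BT.leaf cJ1992)))) (BT.node 1996 (BT.node 1994 (BT.node 1993 (BT.leaf cJ1993) (BT.leaf cJ1994)) (BT.node 1995 (BT.leaf cJ1995) (BT.leaf cJ1996))) (BT.node 1998 (BT.node 1997 (BT.leaf cJ1997) (BT.leaf cJ1998)) (BT.node 1999 (BT.leaf cJ1999) (BT.leaf cJ2000))))))) (BT.node 2032 (BT.node 2016 (BT.node 2008 (BT.node 2004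 (BT.node 2002 (BT.node 2001 (BT.leaf cJ2001) (BT.leaf cJ2002)) (BT.node 2003 (BT.leaf cJ2003) (BT.leaf cJ2004))) (BT.node 2006 (BT.node 2005 (BT.leaf cJ2005) (BT.leaf cJ2006)) (BT.node 2007 (BT.leaf cJ2007) (BT.leaf cJ2008)))) (BT.node 2012 (BT.node 2010 (BT.node 2009 (BT.leaf cJ2009) (BT.leaf cJ2010)) (BT.node 2011 (BT.leaf cJ2011) (BT.leaf cJ2012))) (BT.node 2014 (BT.node 2013 (BT.leaf cJ2013) (BT.leaf cJ2014)) (BT.node 2015 (BT.leaf cJ2015) (BT.leaf cJ2016))))) (BT.node 2024 (BT.node 2020 (BT.node 2018 (BT.node 2017 (BT.leaf cJ2017) (BT.leaf cJ2018)) (BT.node 2019 (BT.leaf cJ2019) (BT.leaf cJ2020))) (BT.node 2022 (BT.node 2021 (BT.leaf cJ2021) (BT.leaf cJ2022)) (BT.node 2023 (BT.leaf cJ2023) (BT.leaf cJ2024)))) (BT.node 2028 (BT.node 2026 (BT.node 2025 (BT.leaf cJ2025) (BT.leaf cJ2026)) (BT.node 2027 (BT.leaf cJ2027) (BT.leaf cJ2028))) (BT.node 2030 (BT.node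 2029 (BT.leaf cJ2029) (BT.leaf cJ2030)) (BT.node 2031 (BT.leaf cJ2031) (BT.leaf cJ2032)))))) (BT.node 2048 (BT.node 2040 (BT.node 2036 (BT.node 2034 (BT.node 2033 (BT.leaf cJ2033) (BT.leaf cJ2034)) (BT.node 2035 (BT.leaf cJ2035) (BT.leaf cJ2036))) (BT.node 2038 (BT.node 2037 (BT.leaf cJ2037) (BT.leaf cJ2038)) (BT.node 2039 (BT.leaf cJ2039) (BT.leaf cJ2040)))) (BT.node 2044 (BT.node 2042 (BT.node 2041 (BT.leaf cJ2041) (BT.leaf cJ2042)) (BT.node 2043 (BT.leaf cJ2043) (BT.leaf cJ2044))) (BT.node 2046 (BT.node 2045 (BT.leaf cJ2045) (BT.leaf cJ2046)) (BT.node 2047 (BT.leaf cJ2047) (BT.leaf cJ2048))))) (BT.node 2056 (BT.node 2052 (BT.node 2050 (BT.node 2049 (BT.leaf cJ2049) (BT.leaf cJ2050)) (BT.node 2051 (BT.leaf cJ2051) (BT.leaf cJ2052))) (BT.node 2054 (BT.node 2053 (BT.leaf cJ2053) (BT.leaf cJ2054)) (BT.node 2055 (BT.leaf cJ2055) (BT.leaf cJ2056)))) (BT.node 2060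 (BT.node 2058 (BT.node 2057 (BT.leaf cJ2057) (BT.leaf cJ2058)) (BT.node 2059 (BT.leaf cJ2059) (BT.leaf cJ2060))) (BT.node 2062 (BT.node 2061 (BT.leaf cJ2061) (BT.leaf cJ2062)) (BT.node 2063 (BT.leaf cJ2063) (BT.leaf cJ2064))))))))))))
/-- parent chunks -/
def parCT : BT ℕ := (BT.node 206 (BT.node 103 (BT.node 51 (BT.node 25 (BT.node 12 (BT.node 6 (BT.node 3 (BT.node 1 (BT.node 0 (BT.leaf cP0) (BT.leaf cP1)) (BT.node 2 (BT.leaf cP2) (BT.leaf cP3))) (BT.node 5 (BT.node 4 (BT.leaf cP4) (BT.leaf cP5)) (BT.leaf cP6))) (BT.node 9 (BT.node 8 (BT.node 7 (BT.leaf cP7) (BT.leaf cP8)) (BT.leaf cP9)) (BT.node 11 (BT.node 10 (BT.leaf cP10) (BT.leaf cP11)) (BT.leaf cP12)))) (BT.node 19 (BT.node 16 (BT.node 14 (BT.node 13 (BT.leaf cP13) (BT.leaf cP14)) (BT.node 15 (BT.leaf cP15) (BT.leaf cP16))) (BT.node 18 (BT.node 17 (BT.leaf cP17) (BT.leaf cP18)) (BT.leaf cP19))) (BT.node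 22 (BT.node 21 (BT.node 20 (BT.leaf cP20) (BT.leaf cP21)) (BT.leaf cP22)) (BT.node 24 (BT.node 23 (BT.leaf cP23) (BT.leaf cP24)) (BT.leaf cP25))))) (BT.node 38 (BT.node 32 (BT.node 29 (BT.node 27 (BT.node 26 (BT.leaf cP26) (BT.leaf cP27)) (BT.node 28 (BT.leaf cP28) (BT.leaf cP29))) (BT.node 31 (BT.node 30 (BT.leaf cP30) (BT.leaf cP31)) (BT.leaf cP32))) (BT.node 35 (BT.node 34 (BT.node 33 (BT.leaf cP33) (BT.leaf cP34)) (BT.leaf cP35)) (BT.node 37 (BT.node 36 (BT.leaf cP36) (BT.leaf cP37)) (BT.leaf cP38)))) (BT.node 45 (BT.node 42 (BT.node 40 (BT.node 39 (BT.leaf cP39) (BT.leaf cP40)) (BT.node 41 (BT.leaf cP41) (BT.leaf cP42))) (BT.node 44 (BT.node 43 (BT.leaf cP43) (BT.leaf cP44)) (BT.leaf cP45))) (BT.node 48 (BT.node 47 (BT.node 46 (BT.leaf cP46) (BT.leaf cP47)) (BT.leaf cP48)) (BT.node 50 (BT.node 49 (BT.leaf cP49) (BT.leaf cP50)) (BT.leaf cP51)))))) (BT.node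 77 (BT.node 64 (BT.node 58 (BT.node 55 (BT.node 53 (BT.node 52 (BT.leaf cP52) (BT.leaf cP53)) (BT.node 54 (BT.leaf cP54) (BT.leaf cP55))) (BT.node 57 (BT.node 56 (BT.leaf cP56) (BT.leaf cP57)) (BT.leaf cP58))) (BT.node 61 (BT.node 60 (BT.node 59 (BT.leaf cP59) (BT.leaf cP60)) (BT.leaf cP61)) (BT.node 63 (BT.node 62 (BT.leaf cP62) (BT.leaf cP63)) (BT.leaf cP64)))) (BT.node 71 (BT.node 68 (BT.node 66 (BT.node 65 (BT.leaf cP65) (BT.leaf cP66)) (BT.node 67 (BT.leaf cP67) (BT.leaf cP68))) (BT.node 70 (BT.node 69 (BT.leaf cP69) (BT.leaf cP70)) (BT.leaf cP71))) (BT.node 74 (BT.node 73 (BT.node 72 (BT.leaf cP72) (BT.leaf cP73)) (BT.leaf cP74)) (BT.node 76 (BT.node 75 (BT.leaf cP75) (BT.leaf cP76)) (BT.leaf cP77))))) (BT.node 90 (BT.node 84 (BT.node 81 (BT.node 79 (BT.node 78 (BT.leaf cP78) (BT.leaf cP79)) (BT.node 80 (BT.leaf cP80) (BT.leaf cP81))) (BT.node 83 (BT.node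 82 (BT.leaf cP82) (BT.leaf cP83)) (BT.leaf cP84))) (BT.node 87 (BT.node 86 (BT.node 85 (BT.leaf cP85) (BT.leaf cP86)) (BT.leaf cP87)) (BT.node 89 (BT.node 88 (BT.leaf cP88) (BT.leaf cP89)) (BT.leaf cP90)))) (BT.node 97 (BT.node 94 (BT.node 92 (BT.node 91 (BT.leaf cP91) (BT.leaf cP92)) (BT.node 93 (BT.leaf cP93) (BT.leaf cP94))) (BT.node 96 (BT.node 95 (BT.leaf cP95) (BT.leaf cP96)) (BT.leaf cP97))) (BT.node 100 (BT.node 99 (BT.node 98 (BT.leaf cP98) (BT.leaf cP99)) (BT.leaf cP100)) (BT.node 102 (BT.node 101 (BT.leaf cP101) (BT.leaf cP102)) (BT.leaf cP103))))))) (BT.node 155 (BT.node 129 (BT.node 116 (BT.node 110 (BT.node 107 (BT.node 105 (BT.node 104 (BT.leaf cP104) (BT.leaf cP105)) (BT.node 106 (BT.leaf cP106) (BT.leaf cP107))) (BT.node 109 (BT.node 108 (BT.leaf cP108) (BT.leaf cP109)) (BT.leaf cP110))) (BT.node 113 (BT.node 112 (BT.node 111 (BT.leaf cP111) (BT.leaf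 cP112)) (BT.leaf cP113)) (BT.node 115 (BT.node 114 (BT.leaf cP114) (BT.leaf cP115)) (BT.leaf cP116)))) (BT.node 123 (BT.node 120 (BT.node 118 (BT.node 117 (BT.leaf cP117) (BT.leaf cP118)) (BT.node 119 (BT.leaf cP119) (BT.leaf cP120))) (BT.node 122 (BT.node 121 (BT.leaf cP121) (BT.leaf cP122)) (BT.leaf cP123))) (BT.node 126 (BT.node 125 (BT.node 124 (BT.leaf cP124) (BT.leaf cP125)) (BT.leaf cP126)) (BT.node 128 (BT.node 127 (BT.leaf cP127) (BT.leaf cP128)) (BT.leaf cP129))))) (BT.node 142 (BT.node 136 (BT.node 133 (BT.node 131 (BT.node 130 (BT.leaf cP130) (BT.leaf cP131)) (BT.node 132 (BT.leaf cP132) (BT.leaf cP133))) (BT.node 135 (BT.node 134 (BT.leaf cP134) (BT.leaf cP135)) (BT.leaf cP136))) (BT.node 139 (BT.node 138 (BT.node 137 (BT.leaf cP137) (BT.leaf cP138)) (BT.leaf cP139)) (BT.node 141 (BT.node 140 (BT.leaf cP140) (BT.leaf cP141)) (BT.leaf cP142)))) (BT.node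 149 (BT.node 146 (BT.node 144 (BT.node 143 (BT.leaf cP143) (BT.leaf cP144)) (BT.node 145 (BT.leaf cP145) (BT.leaf cP146))) (BT.node 148 (BT.node 147 (BT.leaf cP147) (BT.leaf cP148)) (BT.leaf cP149))) (BT.node 152 (BT.node 151 (BT.node 150 (BT.leaf cP150) (BT.leaf cP151)) (BT.leaf cP152)) (BT.node 154 (BT.node 153 (BT.leaf cP153) (BT.leaf cP154)) (BT.leaf cP155)))))) (BT.node 181 (BT.node 168 (BT.node 162 (BT.node 159 (BT.node 157 (BT.node 156 (BT.leaf cP156) (BT.leaf cP157)) (BT.node 158 (BT.leaf cP158) (BT.leaf cP159))) (BT.node 161 (BT.node 160 (BT.leaf cP160) (BT.leaf cP161)) (BT.leaf cP162))) (BT.node 165 (BT.node 164 (BT.node 163 (BT.leaf cP163) (BT.leaf cP164)) (BT.leaf cP165)) (BT.node 167 (BT.node 166 (BT.leaf cP166) (BT.leaf cP167)) (BT.leaf cP168)))) (BT.node 175 (BT.node 172 (BT.node 170 (BT.node 169 (BT.leaf cP169) (BT.leaf cP170)) (BT.node 171 (BT.leaf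 cP171) (BT.leaf cP172))) (BT.node 174 (BT.node 173 (BT.leaf cP173) (BT.leaf cP174)) (BT.leaf cP175))) (BT.node 178 (BT.node 177 (BT.node 176 (BT.leaf cP176) (BT.leaf cP177)) (BT.leaf cP178)) (BT.node 180 (BT.node 179 (BT.leaf cP179) (BT.leaf cP180)) (BT.leaf cP181))))) (BT.node 194 (BT.node 188 (BT.node 185 (BT.node 183 (BT.node 182 (BT.leaf cP182) (BT.leaf cP183)) (BT.node 184 (BT.leaf cP184) (BT.leaf cP185))) (BT.node 187 (BT.node 186 (BT.leaf cP186) (BT.leaf cP187)) (BT.leaf cP188))) (BT.node 191 (BT.node 190 (BT.node 189 (BT.leaf cP189) (BT.leaf cP190)) (BT.leaf cP191)) (BT.node 193 (BT.node 192 (BT.leaf cP192) (BT.leaf cP193)) (BT.leaf cP194)))) (BT.node 200 (BT.node 197 (BT.node 196 (BT.node 195 (BT.leaf cP195) (BT.leaf cP196)) (BT.leaf cP197)) (BT.node 199 (BT.node 198 (BT.leaf cP198) (BT.leaf cP199)) (BT.leaf cP200))) (BT.node 203 (BT.node 202 (BT.node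 201 (BT.leaf cP201) (BT.leaf cP202)) (BT.leaf cP203)) (BT.node 205 (BT.node 204 (BT.leaf cP204) (BT.leaf cP205)) (BT.leaf cP206)))))))) (BT.node 309 (BT.node 258 (BT.node 232 (BT.node 219 (BT.node 213 (BT.node 210 (BT.node 208 (BT.node 207 (BT.leaf cP207) (BT.leaf cP208)) (BT.node 209 (BT.leaf cP209) (BT.leaf cP210))) (BT.node 212 (BT.node 211 (BT.leaf cP211) (BT.leaf cP212)) (BT.leaf cP213))) (BT.node 216 (BT.node 215 (BT.node 214 (BT.leaf cP214) (BT.leaf cP215)) (BT.leaf cP216)) (BT.node 218 (BT.node 217 (BT.leaf cP217) (BT.leaf cP218)) (BT.leaf cP219)))) (BT.node 226 (BT.node 223 (BT.node 221 (BT.node 220 (BT.leaf cP220) (BT.leaf cP221)) (BT.node 222 (BT.leaf cP222) (BT.leaf cP223))) (BT.node 225 (BT.node 224 (BT.leaf cP224) (BT.leaf cP225)) (BT.leaf cP226))) (BT.node 229 (BT.node 228 (BT.node 227 (BT.leaf cP227) (BT.leaf cP228)) (BT.leaf cP229)) (BT.node 231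 (BT.node 230 (BT.leaf cP230) (BT.leaf cP231)) (BT.leaf cP232))))) (BT.node 245 (BT.node 239 (BT.node 236 (BT.node 234 (BT.node 233 (BT.leaf cP233) (BT.leaf cP234)) (BT.node 235 (BT.leaf cP235) (BT.leaf cP236))) (BT.node 238 (BT.node 237 (BT.leaf cP237) (BT.leaf cP238)) (BT.leaf cP239))) (BT.node 242 (BT.node 241 (BT.node 240 (BT.leaf cP240) (BT.leaf cP241)) (BT.leaf cP242)) (BT.node 244 (BT.node 243 (BT.leaf cP243) (BT.leaf cP244)) (BT.leaf cP245)))) (BT.node 252 (BT.node 249 (BT.node 247 (BT.node 246 (BT.leaf cP246) (BT.leaf cP247)) (BT.node 248 (BT.leaf cP248) (BT.leaf cP249))) (BT.node 251 (BT.node 250 (BT.leaf cP250) (BT.leaf cP251)) (BT.leaf cP252))) (BT.node 255 (BT.node 254 (BT.node 253 (BT.leaf cP253) (BT.leaf cP254)) (BT.leaf cP255)) (BT.node 257 (BT.node 256 (BT.leaf cP256) (BT.leaf cP257)) (BT.leaf cP258)))))) (BT.node 284 (BT.node 271 (BT.node 265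 (BT.node 262 (BT.node 260 (BT.node 259 (BT.leaf cP259) (BT.leaf cP260)) (BT.node 261 (BT.leaf cP261) (BT.leaf cP262))) (BT.node 264 (BT.node 263 (BT.leaf cP263) (BT.leaf cP264)) (BT.leaf cP265))) (BT.node 268 (BT.node 267 (BT.node 266 (BT.leaf cP266) (BT.leaf cP267)) (BT.leaf cP268)) (BT.node 270 (BT.node 269 (BT.leaf cP269) (BT.leaf cP270)) (BT.leaf cP271)))) (BT.node 278 (BT.node 275 (BT.node 273 (BT.node 272 (BT.leaf cP272) (BT.leaf cP273)) (BT.node 274 (BT.leaf cP274) (BT.leaf cP275))) (BT.node 277 (BT.node 276 (BT.leaf cP276) (BT.leaf cP277)) (BT.leaf cP278))) (BT.node 281 (BT.node 280 (BT.node 279 (BT.leaf cP279) (BT.leaf cP280)) (BT.leaf cP281)) (BT.node 283 (BT.node 282 (BT.leaf cP282) (BT.leaf cP283)) (BT.leaf cP284))))) (BT.node 297 (BT.node 291 (BT.node 288 (BT.node 286 (BT.node 285 (BT.leaf cP285) (BT.leaf cP286)) (BT.node 287 (BT.leaf cP287) (BT.leaf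 cP288))) (BT.node 290 (BT.node 289 (BT.leaf cP289) (BT.leaf cP290)) (BT.leaf cP291))) (BT.node 294 (BT.node 293 (BT.node 292 (BT.leaf cP292) (BT.leaf cP293)) (BT.leaf cP294)) (BT.node 296 (BT.node 295 (BT.leaf cP295) (BT.leaf cP296)) (BT.leaf cP297)))) (BT.node 303 (BT.node 300 (BT.node 299 (BT.node 298 (BT.leaf cP298) (BT.leaf cP299)) (BT.leaf cP300)) (BT.node 302 (BT.node 301 (BT.leaf cP301) (BT.leaf cP302)) (BT.leaf cP303))) (BT.node 306 (BT.node 305 (BT.node 304 (BT.leaf cP304) (BT.leaf cP305)) (BT.leaf cP306)) (BT.node 308 (BT.node 307 (BT.leaf cP307) (BT.leaf cP308)) (BT.leaf cP309))))))) (BT.node 361 (BT.node 335 (BT.node 322 (BT.node 316 (BT.node 313 (BT.node 311 (BT.node 310 (BT.leaf cP310) (BT.leaf cP311)) (BT.node 312 (BT.leaf cP312) (BT.leaf cP313))) (BT.node 315 (BT.node 314 (BT.leaf cP314) (BT.leaf cP315)) (BT.leaf cP316))) (BT.node 319 (BT.node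 318 (BT.node 317 (BT.leaf cP317) (BT.leaf cP318)) (BT.leaf cP319)) (BT.node 321 (BT.node 320 (BT.leaf cP320) (BT.leaf cP321)) (BT.leaf cP322)))) (BT.node 329 (BT.node 326 (BT.node 324 (BT.node 323 (BT.leaf cP323) (BT.leaf cP324)) (BT.node 325 (BT.leaf cP325) (BT.leaf cP326))) (BT.node 328 (BT.node 327 (BT.leaf cP327) (BT.leaf cP328)) (BT.leaf cP329))) (BT.node 332 (BT.node 331 (BT.node 330 (BT.leaf cP330) (BT.leaf cP331)) (BT.leaf cP332)) (BT.node 334 (BT.node 333 (BT.leaf cP333) (BT.leaf cP334)) (BT.leaf cP335))))) (BT.node 348 (BT.node 342 (BT.node 339 (BT.node 337 (BT.node 336 (BT.leaf cP336) (BT.leaf cP337)) (BT.node 338 (BT.leaf cP338) (BT.leaf cP339))) (BT.node 341 (BT.node 340 (BT.leaf cP340) (BT.leaf cP341)) (BT.leaf cP342))) (BT.node 345 (BT.node 344 (BT.node 343 (BT.leaf cP343) (BT.leaf cP344)) (BT.leaf cP345)) (BT.node 347 (BT.node 346 (BT.leaf cP346)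 (BT.leaf cP347)) (BT.leaf cP348)))) (BT.node 355 (BT.node 352 (BT.node 350 (BT.node 349 (BT.leaf cP349) (BT.leaf cP350)) (BT.node 351 (BT.leaf cP351) (BT.leaf cP352))) (BT.node 354 (BT.node 353 (BT.leaf cP353) (BT.leaf cP354)) (BT.leaf cP355))) (BT.node 358 (BT.node 357 (BT.node 356 (BT.leaf cP356) (BT.leaf cP357)) (BT.leaf cP358)) (BT.node 360 (BT.node 359 (BT.leaf cP359) (BT.leaf cP360)) (BT.leaf cP361)))))) (BT.node 387 (BT.node 374 (BT.node 368 (BT.node 365 (BT.node 363 (BT.node 362 (BT.leaf cP362) (BT.leaf cP363)) (BT.node 364 (BT.leaf cP364) (BT.leaf cP365))) (BT.node 367 (BT.node 366 (BT.leaf cP366) (BT.leaf cP367)) (BT.leaf cP368))) (BT.node 371 (BT.node 370 (BT.node 369 (BT.leaf cP369) (BT.leaf cP370)) (BT.leaf cP371)) (BT.node 373 (BT.node 372 (BT.leaf cP372) (BT.leaf cP373)) (BT.leaf cP374)))) (BT.node 381 (BT.node 378 (BT.node 376 (BT.node 375 (BT.leaf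 cP375) (BT.leaf cP376)) (BT.node 377 (BT.leaf cP377) (BT.leaf cP378))) (BT.node 380 (BT.node 379 (BT.leaf cP379) (BT.leaf cP380)) (BT.leaf cP381))) (BT.node 384 (BT.node 383 (BT.node 382 (BT.leaf cP382) (BT.leaf cP383)) (BT.leaf cP384)) (BT.node 386 (BT.node 385 (BT.leaf cP385) (BT.leaf cP386)) (BT.leaf cP387))))) (BT.node 400 (BT.node 394 (BT.node 391 (BT.node 389 (BT.node 388 (BT.leaf cP388) (BT.leaf cP389)) (BT.node 390 (BT.leaf cP390) (BT.leaf cP391))) (BT.node 393 (BT.node 392 (BT.leaf cP392) (BT.leaf cP393)) (BT.leaf cP394))) (BT.node 397 (BT.node 396 (BT.node 395 (BT.leaf cP395) (BT.leaf cP396)) (BT.leaf cP397)) (BT.node 399 (BT.node 398 (BT.leaf cP398) (BT.leaf cP399)) (BT.leaf cP400)))) (BT.node 406 (BT.node 403 (BT.node 402 (BT.node 401 (BT.leaf cP401) (BT.leaf cP402)) (BT.leaf cP403)) (BT.node 405 (BT.node 404 (BT.leaf cP404) (BT.leaf cP405)) (BT.leaf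 cP406))) (BT.node 409 (BT.node 408 (BT.node 407 (BT.leaf cP407) (BT.leaf cP408)) (BT.leaf cP409)) (BT.node 411 (BT.node 410 (BT.leaf cP410) (BT.leaf cP411)) (BT.leaf cP412)))))))))
/-- the certificate -/
def data : Data where
  k := 4
  N := 211166
  W := 38
  MW := 274877906944
  B := 262144
  CH := 512
  NCH := 413
  colE := colET
  JW := 64
  MJ := 18446744073709551616
  A := 1048576
  colJ := colJT
  PW := 28
  MP := 268435456
  parC := parCT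
  inv := (BT.node 2 (BT.node 1 (BT.node 0 (BT.leaf 1) (BT.leaf 0)) (BT.leaf 3)) (BT.node 3 (BT.leaf 2) (BT.leaf 4)))
  rel := relT
  sub := subT
  fuel := 64

end Cfsg.Agent.Lib.Helper3.Cover.EU3Data
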