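import Cfsg.Agent.Lib.Helper28.TC2Range
import Cfsg.Agent.Lib.Helper3.Cover.EU3Data
import Cfsg.Agent.Lib.Helper3.Cover.EU3Table
set_option autoImplicit false
set_option maxRecDepth 100000
set_option maxHeartbeats 0

namespace Cfsg.Agent.Lib.Helper3.Cover.EU3M13
open Cfsg.Agent.Lib.Helper28.TC2Upper Cfsg.Agent.Lib.Helper28.TC2Lower Cfsg.Agent.Lib.Helper28.TC2Range Cfsg.Agent.Lib.Helper3.Cover.EU3Data Cfsg.Agent.Lib.Helper3.Cover.EU3Table

theorem cnt29 : Data.countFrom data 174000 6000 = 47 := by decide +kernel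
theorem cnt30 : Data.countFrom data 180000 6000 = 29 := by decide +kernel
theorem cnt31 : Data.countFrom data 186000 6000 = 30 := by decide +kernel
theorem cnt32 : Data.countFrom data 192000 6000 = 15 := by decide +kernel
theorem cnt33 : Data.countFrom data 198000 6000 = 18 := by decide +kernel

end Cfsg.Agent.Lib.Helper3.Cover.EU3M13
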