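import Cfsg.Agent.Lib.Helper28.TC2Range
import Cfsg.Agent.Lib.Helper3.Cover.EU3Data
import Cfsg.Agent.Lib.Helper3.Cover.EU3Table
set_option autoImplicit false
set_option maxRecDepth 100000
set_option maxHeartbeats 0

namespace Cfsg.Agent.Lib.Helper3.Cover.EU3M5
open Cfsg.Agent.Lib.Helper28.TC2Upper Cfsg.Agent.Lib.Helper28.TC2Lower Cfsg.Agent.Lib.Helper28.TC2Range Cfsg.Agent.Lib.Helper3.Cover.EU3Data Cfsg.Agent.Lib.Helper3.Cover.EU3Table

theorem fin25 : Data.finalRange data 150000 6000 = true := by decide +kernel
theorem fin26 : Data.finalRange data 156000 6000 = true := by decide +kernel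
theorem fin27 : Data.finalRange data 162000 6000 = true := by decide +kernel
theorem fin28 : Data.finalRange data 168000 6000 = true := by decide +kernel
theorem fin29 : Data.finalRange data 174000 6000 = true := by decide +kernel

end Cfsg.Agent.Lib.Helper3.Cover.EU3M5
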