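import Cfsg.Agent.Lib.Helper3.Cover.EU3Data
set_option autoImplicit false
set_option maxRecDepth 100000
set_option maxHeartbeats 0

namespace Cfsg.Agent.Lib.Helper3.Cover.EU3U12
open Cfsg.Agent.Lib.Helper28.TC2Upper Cfsg.Agent.Lib.Helper3.Cover.EU3Data

theorem chk60 : data.checkRange 86672 1558 = true := by decide +kernel
theorem chk61 : data.checkRange 88230 1607 = true := by decide +kernel
theorem chk62 : data.checkRange 89837 1691 = true := by decide +kernel
theorem chk63 : data.checkRange 91528 1754 = true := by decide +kernel
theorem chk64 : data.checkRange 93282 1750 = true := by decide +kernel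

end Cfsg.Agent.Lib.Helper3.Cover.EU3U12
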