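import Cfsg.Agent.Lib.Helper3.Cover.EU3Data
set_option autoImplicit false
set_option maxRecDepth 100000
set_option maxHeartbeats 0

namespace Cfsg.Agent.Lib.Helper3.Cover.EU3U14
open Cfsg.Agent.Lib.Helper28.TC2Upper Cfsg.Agent.Lib.Helper3.Cover.EU3Data

theorem chk70 : data.checkRange 103487 1706 = true := by decide +kernel
theorem chk71 : data.checkRange 105193 1668 = true := by decide +kernel
theorem chk72 : data.checkRange 106861 1668 = true := by decide +kernel
theorem chk73 : data.checkRange 108529 1698 = true := by decide +kernel
theorem chk74 : data.checkRange 110227 1777 = true := by decide +kernel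

end Cfsg.Agent.Lib.Helper3.Cover.EU3U14
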