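import Cfsg.Agent.Lib.Helper3.Cover.EU3Data
set_option autoImplicit false
set_option maxRecDepth 100000
set_option maxHeartbeats 0

namespace Cfsg.Agent.Lib.Helper3.Cover.EU3U19
open Cfsg.Agent.Lib.Helper28.TC2Upper Cfsg.Agent.Lib.Helper3.Cover.EU3Data

theorem chk95 : data.checkRange 145463 1775 = true := by decide +kernel
theorem chk96 : data.checkRange 147238 1859 = true := by decide +kernel
theorem chk97 : data.checkRange 149097 1814 = true := by decide +kernel
theorem chk98 : data.checkRange 150911 1792 = true := by decide +kernel
theorem chk99 : data.checkRange 152703 1804 = true := by decide +kernel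

end Cfsg.Agent.Lib.Helper3.Cover.EU3U19
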