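import Cfsg.Agent.Lib.Helper3.Cover.EU3Data
set_option autoImplicit false
set_option maxRecDepth 100000
set_option maxHeartbeats 0

namespace Cfsg.Agent.Lib.Helper3.Cover.EU3U2
open Cfsg.Agent.Lib.Helper28.TC2Upper Cfsg.Agent.Lib.Helper3.Cover.EU3Data

theorem chk10 : data.checkRange 12745 1191 = true := by decide +kernel
theorem chk11 : data.checkRange 13936 1311 = true := by decide +kernel
theorem chk12 : data.checkRange 15247 1404 = true := by decide +kernel
theorem chk13 : data.checkRange 16651 1414 = true := by decide +kernel
theorem chk14 : data.checkRange 18065 1351 = true := by decide +kernel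

end Cfsg.Agent.Lib.Helper3.Cover.EU3U2
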