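import Cfsg.Agent.Lib.Helper3.Cover.EU3Data
set_option autoImplicit false
set_option maxRecDepth 100000
set_option maxHeartbeats 0

namespace Cfsg.Agent.Lib.Helper3.Cover.EU3U20
open Cfsg.Agent.Lib.Helper28.TC2Upper Cfsg.Agent.Lib.Helper3.Cover.EU3Data

theorem chk100 : data.checkRange 154507 1841 = true := by decide +kernel
theorem chk101 : data.checkRange 156348 1845 = true := by decide +kernel
theorem chk102 : data.checkRange 158193 1663 = true := by decide +kernel
theorem chk103 : data.checkRange 159856 1620 = true := by decide +kernel
theorem chk104 : data.checkRange 161476 1618 = true := by decide +kernel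

end Cfsg.Agent.Lib.Helper3.Cover.EU3U20
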