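import Cfsg.Agent.Lib.Helper3.Cover.EU3Data
set_option autoImplicit false
set_option maxRecDepth 100000
set_option maxHeartbeats 0

namespace Cfsg.Agent.Lib.Helper3.Cover.EU3U21
open Cfsg.Agent.Lib.Helper28.TC2Upper Cfsg.Agent.Lib.Helper3.Cover.EU3Data

theorem chk105 : data.checkRange 163094 1635 = true := by decide +kernel
theorem chk106 : data.checkRange 164729 1689 = true := by decide +kernel
theorem chk107 : data.checkRange 166418 1779 = true := by decide +kernel
theorem chk108 : data.checkRange 168197 1746 = true := by decide +kernel
theorem chk109 : data.checkRange 169943 1808 = true := by decide +kernel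

end Cfsg.Agent.Lib.Helper3.Cover.EU3U21
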