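import Cfsg.Agent.Lib.Helper3.Cover.EU3Data
set_option autoImplicit false
set_option maxRecDepth 100000
set_option maxHeartbeats 0

namespace Cfsg.Agent.Lib.Helper3.Cover.EU3U22
open Cfsg.Agent.Lib.Helper28.TC2Upper Cfsg.Agent.Lib.Helper3.Cover.EU3Data

theorem chk110 : data.checkRange 171751 1810 = true := by decide +kernel
theorem chk111 : data.checkRange 173561 1805 = true := by decide +kernel
theorem chk112 : data.checkRange 175366 1775 = true := by decide +kernel
theorem chk113 : data.checkRange 177141 1816 = true := by decide +kernel
theorem chk114 : data.checkRange 178957 1911 = true := by decide +kernel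

end Cfsg.Agent.Lib.Helper3.Cover.EU3U22
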