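import Cfsg.Agent.Lib.Helper3.Cover.EU3Data
set_option autoImplicit false
set_option maxRecDepth 100000
set_option maxHeartbeats 0

namespace Cfsg.Agent.Lib.Helper3.Cover.EU3U24
open Cfsg.Agent.Lib.Helper28.TC2Upper Cfsg.Agent.Lib.Helper3.Cover.EU3Data

theorem chk120 : data.checkRange 190510 1925 = true := by decide +kernel
theorem chk121 : data.checkRange 192435 1951 = true := by decide +kernel
theorem chk122 : data.checkRange 194386 1990 = true := by decide +kernel
theorem chk123 : data.checkRange 196376 1888 = true := by decide +kernel
theorem chk124 : data.checkRange 198264 1865 = true := by decide +kernel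

end Cfsg.Agent.Lib.Helper3.Cover.EU3U24
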