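import Cfsg.Agent.Lib.Helper3.Cover.EU3Data
set_option autoImplicit false
set_option maxRecDepth 100000
set_option maxHeartbeats 0

namespace Cfsg.Agent.Lib.Helper3.Cover.EU3U25
open Cfsg.Agent.Lib.Helper28.TC2Upper Cfsg.Agent.Lib.Helper3.Cover.EU3Data

theorem chk125 : data.checkRange 200129 1919 = true := by decide +kernel
theorem chk126 : data.checkRange 202048 1879 = true := by decide +kernel
theorem chk127 : data.checkRange 203927 1927 = true := by decide +kernel
theorem chk128 : data.checkRange 205854 1925 = true := by decide +kernel
theorem chk129 : data.checkRange 207779 1973 = true := by decide +kernel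

end Cfsg.Agent.Lib.Helper3.Cover.EU3U25
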