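import Cfsg.Agent.Lib.Helper3.Cover.EU3Data
set_option autoImplicit false
set_option maxRecDepth 100000
set_option maxHeartbeats 0

namespace Cfsg.Agent.Lib.Helper3.Cover.EU3U6
open Cfsg.Agent.Lib.Helper28.TC2Upper Cfsg.Agent.Lib.Helper3.Cover.EU3Data

theorem chk30 : data.checkRange 41033 1609 = true := by decide +kernel
theorem chk31 : data.checkRange 42642 1547 = true := by decide +kernel
theorem chk32 : data.checkRange 44189 1291 = true := by decide +kernel
theorem chk33 : data.checkRange 45480 1224 = true := by decide +kernel
theorem chk34 : data.checkRange 46704 1347 = true := by decide +kernel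

end Cfsg.Agent.Lib.Helper3.Cover.EU3U6
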