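import Cfsg.Agent.Lib.Helper3.Cover.EU3Data
set_option autoImplicit false
set_option maxRecDepth 100000
set_option maxHeartbeats 0

namespace Cfsg.Agent.Lib.Helper3.Cover.EU3U9
open Cfsg.Agent.Lib.Helper28.TC2Upper Cfsg.Agent.Lib.Helper3.Cover.EU3Data

theorem chk45 : data.checkRange 63598 1584 = true := by decide +kernel
theorem chk46 : data.checkRange 65182 1626 = true := by decide +kernel
theorem chk47 : data.checkRange 66808 1611 = true := by decide +kernel
theorem chk48 : data.checkRange 68419 1608 = true := by decide +kernel
theorem chk49 : data.checkRange 70027 1602 = true := by decide +kernel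

end Cfsg.Agent.Lib.Helper3.Cover.EU3U9
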