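import Cfsg.Agent.Lib.Helper28.TC2GlueOrb
import Cfsg.Agent.Lib.Helper28.TC2Range
import Cfsg.Agent.Lib.Helper3.Cover.EU3Link
import Cfsg.Agent.Lib.Helper3.Cover.EU3M
import Cfsg.Agent.Lib.Helper3.Cover.EU3M0
import Cfsg.Agent.Lib.Helper3.Cover.EU3M1
import Cfsg.Agent.Lib.Helper3.Cover.EU3M2
import Cfsg.Agent.Lib.Helper3.Cover.EU3M3
import Cfsg.Agent.Lib.Helper3.Cover.EU3M4
import Cfsg.Agent.Lib.Helper3.Cover.EU3M5
import Cfsg.Agent.Lib.Helper3.Cover.EU3M6
import Cfsg.Agent.Lib.Helper3.Cover.EU3M7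
import Cfsg.Agent.Lib.Helper3.Cover.EU3M8
import Cfsg.Agent.Lib.Helper3.Cover.EU3M9
import Cfsg.Agent.Lib.Helper3.Cover.EU3M10
import Cfsg.Agent.Lib.Helper3.Cover.EU3M11
import Cfsg.Agent.Lib.Helper3.Cover.EU3M12
import Cfsg.Agent.Lib.Helper3.Cover.EU3M13
import Cfsg.Agent.Lib.Helper3.Cover.EU3M14
import Cfsg.Agent.Lib.Helper3.Cover.EU3M15
import Cfsg.Agent.Lib.Helper3.Cover.EU3U0
import Cfsg.Agent.Lib.Helper3.Cover.EU3U1
import Cfsg.Agent.Lib.Helper3.Cover.EU3U2
import Cfsg.Agent.Lib.Helper3.Cover.EU3U3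
import Cfsg.Agent.Lib.Helper3.Cover.EU3U4
import Cfsg.Agent.Lib.Helper3.Cover.EU3U5
import Cfsg.Agent.Lib.Helper3.Cover.EU3U6
import Cfsg.Agent.Lib.Helper3.Cover.EU3U7
import Cfsg.Agent.Lib.Helper3.Cover.EU3U8
import Cfsg.Agent.Lib.Helper3.Cover.EU3U9
import Cfsg.Agent.Lib.Helper3.Cover.EU3U10
import Cfsg.Agent.Lib.Helper3.Cover.EU3U11
import Cfsg.Agent.Lib.Helper3.Cover.EU3U12
import Cfsg.Agent.Lib.Helper3.Cover.EU3U13
import Cfsg.Agent.Lib.Helper3.Cover.EU3U14
import Cfsg.Agent.Lib.Helper3.Cover.EU3U15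
import Cfsg.Agent.Lib.Helper3.Cover.EU3U16
import Cfsg.Agent.Lib.Helper3.Cover.EU3U17
import Cfsg.Agent.Lib.Helper3.Cover.EU3U18
import Cfsg.Agent.Lib.Helper3.Cover.EU3U19
import Cfsg.Agent.Lib.Helper3.Cover.EU3U20
import Cfsg.Agent.Lib.Helper3.Cover.EU3U21
import Cfsg.Agent.Lib.Helper3.Cover.EU3U22
import Cfsg.Agent.Lib.Helper3.Cover.EU3U23
import Cfsg.Agent.Lib.Helper3.Cover.EU3U24
import Cfsg.Agent.Lib.Helper3.Cover.EU3U25
import Cfsg.Agent.Lib.Helper3.Cover.EU3U26
import Cfsg.Agent.Lib.Helper3.Cover.EU3L0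

set_option autoImplicit false
set_option maxRecDepth 100000
open Cfsg

namespace Cfsg.Agent.Lib.Helper3.Cover.EU3Main
open Cfsg.Agent.Lib.Helper28.TC2Upper Cfsg.Agent.Lib.Helper28.TC2Lower Cfsg.Agent.Lib.Helper28.TC2Glue Cfsg.Agent.Lib.Helper28.TC2GlueOrb Cfsg.Agent.Lib.Helper28.TC2Orbit Cfsg.Agent.Lib.Helper28.TC2Range
open Cfsg.Agent.Lib.Helper3.Cover.EU3Data Cfsg.Agent.Lib.Helper3.Cover.EU3Table Cfsg.Agent.Lib.Helper3.Cover.EU3Link Cfsg.Agent.Lib.Helper3.Cover.EU3M

theorem hchk : ∀ v, v < data.N → data.checkNode v = true := by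
  intro v hv
  have hv' : v < 211166 := hv
  rcases Nat.lt_or_ge v 1220 with h0 | h0
  · exact (data.checkRange_iff 0 1220).mp Cfsg.Agent.Lib.Helper3.Cover.EU3U0.chk0 v (by omega) (by omega)
  rcases Nat.lt_or_ge v 2444 with h1 | h1
  · exact (data.checkRange_iff 1220 1224).mp Cfsg.Agent.Lib.Helper3.Cover.EU3U0.chk1 v (by omega) (by omega)
  rcases Nat.lt_or_ge v 3651 with h2 | h2
  · exact (data.checkRange_iff 2444 1207).mp Cfsg.Agent.Lib.Helper3.Cover.EU3U0.chk2 v (by omega) (by omega)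
  rcases Nat.lt_or_ge v 4913 with h3 | h3
  · exact (data.checkRange_iff 3651 1262).mp Cfsg.Agent.Lib.Helper3.Cover.EU3U0.chk3 v (by omega) (by omega)
  rcases Nat.lt_or_ge v 6210 with h4 | h4
  · exact (data.checkRange_iff 4913 1297).mp Cfsg.Agent.Lib.Helper3.Cover.EU3U0.chk4 v (by omega) (by omega)
  rcases Nat.lt_or_ge v 7410 with h5 | h5
  · exact (data.checkRange_iff 6210 1200).mp Cfsg.Agent.Lib.Helper3.Cover.EU3U1.chk5 v (by omega) (by omega)
  rcases Nat.lt_or_ge v 8728 with h6 | h6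
  · exact (data.checkRange_iff 7410 1318).mp Cfsg.Agent.Lib.Helper3.Cover.EU3U1.chk6 v (by omega) (by omega)
  rcases Nat.lt_or_ge v 10046 with h7 | h7
  · exact (data.checkRange_iff 8728 1318).mp Cfsg.Agent.Lib.Helper3.Cover.EU3U1.chk7 v (by omega) (by omega)
  rcases Nat.lt_or_ge v 11370 with h8 | h8
  · exact (data.checkRange_iff 10046 1324).mp Cfsg.Agent.Lib.Helper3.Cover.EU3U1.chk8 v (by omega) (by omega)
  rcases Nat.lt_or_ge v 12745 with h9 | h9
  · exact (data.checkRange_iff 11370 1375).mp Cfsg.Agent.Lib.Helper3.Cover.EU3U1.chk9 v (by omega) (by omega)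
  rcases Nat.lt_or_ge v 13936 with h10 | h10
  · exact (data.checkRange_iff 12745 1191).mp Cfsg.Agent.Lib.Helper3.Cover.EU3U2.chk10 v (by omega) (by omega)
  rcases Nat.lt_or_ge v 15247 with h11 | h11
  · exact (data.checkRange_iff 13936 1311).mp Cfsg.Agent.Lib.Helper3.Cover.EU3U2.chk11 v (by omega) (by omega)
  rcases Nat.lt_or_ge v 16651 with h12 | h12
  · exact (data.checkRange_iff 15247 1404).mp Cfsg.Agent.Lib.Helper3.Cover.EU3U2.chk12 v (by omega) (by omega)
  rcases Nat.lt_or_ge v 18065 with h13 | h13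
  · exact (data.checkRange_iff 16651 1414).mp Cfsg.Agent.Lib.Helper3.Cover.EU3U2.chk13 v (by omega) (by omega)
  rcases Nat.lt_or_ge v 19416 with h14 | h14
  · exact (data.checkRange_iff 18065 1351).mp Cfsg.Agent.Lib.Helper3.Cover.EU3U2.chk14 v (by omega) (by omega)
  rcases Nat.lt_or_ge v 20854 with h15 | h15
  · exact (data.checkRange_iff 19416 1438).mp Cfsg.Agent.Lib.Helper3.Cover.EU3U3.chk15 v (by omega) (by omega)
  rcases Nat.lt_or_ge v 22259 with h16 | h16
  · exact (data.checkRange_iff 20854 1405).mp Cfsg.Agent.Lib.Helper3.Cover.EU3U3.chk16 v (by omega) (by omega)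
  rcases Nat.lt_or_ge v 23746 with h17 | h17
  · exact (data.checkRange_iff 22259 1487).mp Cfsg.Agent.Lib.Helper3.Cover.EU3U3.chk17 v (by omega) (by omega)
  rcases Nat.lt_or_ge v 25064 with h18 | h18
  · exact (data.checkRange_iff 23746 1318).mp Cfsg.Agent.Lib.Helper3.Cover.EU3U3.chk18 v (by omega) (by omega)
  rcases Nat.lt_or_ge v 26276 with h19 | h19
  · exact (data.checkRange_iff 25064 1212).mp Cfsg.Agent.Lib.Helper3.Cover.EU3U3.chk19 v (by omega) (by omega)
  rcases Nat.lt_or_ge v 27660 with h20 | h20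
  · exact (data.checkRange_iff 26276 1384).mp Cfsg.Agent.Lib.Helper3.Cover.EU3U4.chk20 v (by omega) (by omega)
  rcases Nat.lt_or_ge v 29083 with h21 | h21
  · exact (data.checkRange_iff 27660 1423).mp Cfsg.Agent.Lib.Helper3.Cover.EU3U4.chk21 v (by omega) (by omega)
  rcases Nat.lt_or_ge v 30474 with h22 | h22
  · exact (data.checkRange_iff 29083 1391).mp Cfsg.Agent.Lib.Helper3.Cover.EU3U4.chk22 v (by omega) (by omega)
  rcases Nat.lt_or_ge v 32050 with h23 | h23
  · exact (data.checkRange_iff 30474 1576).mp Cfsg.Agent.Lib.Helper3.Cover.EU3U4.chk23 v (by omega) (by omega)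
  rcases Nat.lt_or_ge v 33555 with h24 | h24
  · exact (data.checkRange_iff 32050 1505).mp Cfsg.Agent.Lib.Helper3.Cover.EU3U4.chk24 v (by omega) (by omega)
  rcases Nat.lt_or_ge v 35080 with h25 | h25
  · exact (data.checkRange_iff 33555 1525).mp Cfsg.Agent.Lib.Helper3.Cover.EU3U5.chk25 v (by omega) (by omega)
  rcases Nat.lt_or_ge v 36498 with h26 | h26
  · exact (data.checkRange_iff 35080 1418).mp Cfsg.Agent.Lib.Helper3.Cover.EU3U5.chk26 v (by omega) (by omega)
  rcases Nat.lt_or_ge v 38013 with h27 | h27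
  · exact (data.checkRange_iff 36498 1515).mp Cfsg.Agent.Lib.Helper3.Cover.EU3U5.chk27 v (by omega) (by omega)
  rcases Nat.lt_or_ge v 39554 with h28 | h28
  · exact (data.checkRange_iff 38013 1541).mp Cfsg.Agent.Lib.Helper3.Cover.EU3U5.chk28 v (by omega) (by omega)
  rcases Nat.lt_or_ge v 41033 with h29 | h29
  · exact (data.checkRange_iff 39554 1479).mp Cfsg.Agent.Lib.Helper3.Cover.EU3U5.chk29 v (by omega) (by omega)
  rcases Nat.lt_or_ge v 42642 with h30 | h30
  · exact (data.checkRange_iff 41033 1609).mp Cfsg.Agent.Lib.Helper3.Cover.EU3U6.chk30 v (by omega) (by omega)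
  rcases Nat.lt_or_ge v 44189 with h31 | h31
  · exact (data.checkRange_iff 42642 1547).mp Cfsg.Agent.Lib.Helper3.Cover.EU3U6.chk31 v (by omega) (by omega)
  rcases Nat.lt_or_ge v 45480 with h32 | h32
  · exact (data.checkRange_iff 44189 1291).mp Cfsg.Agent.Lib.Helper3.Cover.EU3U6.chk32 v (by omega) (by omega)
  rcases Nat.lt_or_ge v 46704 with h33 | h33
  · exact (data.checkRange_iff 45480 1224).mp Cfsg.Agent.Lib.Helper3.Cover.EU3U6.chk33 v (by omega) (by omega)
  rcases Nat.lt_or_ge v 48051 with h34 | h34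
  · exact (data.checkRange_iff 46704 1347).mp Cfsg.Agent.Lib.Helper3.Cover.EU3U6.chk34 v (by omega) (by omega)
  rcases Nat.lt_or_ge v 49507 with h35 | h35
  · exact (data.checkRange_iff 48051 1456).mp Cfsg.Agent.Lib.Helper3.Cover.EU3U7.chk35 v (by omega) (by omega)
  rcases Nat.lt_or_ge v 51013 with h36 | h36
  · exact (data.checkRange_iff 49507 1506).mp Cfsg.Agent.Lib.Helper3.Cover.EU3U7.chk36 v (by omega) (by omega)
  rcases Nat.lt_or_ge v 52536 with h37 | h37
  · exact (data.checkRange_iff 51013 1523).mp Cfsg.Agent.Lib.Helper3.Cover.EU3U7.chk37 v (by omega) (by omega)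
  rcases Nat.lt_or_ge v 53996 with h38 | h38
  · exact (data.checkRange_iff 52536 1460).mp Cfsg.Agent.Lib.Helper3.Cover.EU3U7.chk38 v (by omega) (by omega)
  rcases Nat.lt_or_ge v 55570 with h39 | h39
  · exact (data.checkRange_iff 53996 1574).mp Cfsg.Agent.Lib.Helper3.Cover.EU3U7.chk39 v (by omega) (by omega)
  rcases Nat.lt_or_ge v 57193 with h40 | h40
  · exact (data.checkRange_iff 55570 1623).mp Cfsg.Agent.Lib.Helper3.Cover.EU3U8.chk40 v (by omega) (by omega)
  rcases Nat.lt_or_ge v 58815 with h41 | h41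
  · exact (data.checkRange_iff 57193 1622).mp Cfsg.Agent.Lib.Helper3.Cover.EU3U8.chk41 v (by omega) (by omega)
  rcases Nat.lt_or_ge v 60524 with h42 | h42
  · exact (data.checkRange_iff 58815 1709).mp Cfsg.Agent.Lib.Helper3.Cover.EU3U8.chk42 v (by omega) (by omega)
  rcases Nat.lt_or_ge v 62077 with h43 | h43
  · exact (data.checkRange_iff 60524 1553).mp Cfsg.Agent.Lib.Helper3.Cover.EU3U8.chk43 v (by omega) (by omega)
  rcases Nat.lt_or_ge v 63598 with h44 | h44
  · exact (data.checkRange_iff 62077 1521).mp Cfsg.Agent.Lib.Helper3.Cover.EU3U8.chk44 v (by omega) (by omega)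
  rcases Nat.lt_or_ge v 65182 with h45 | h45
  · exact (data.checkRange_iff 63598 1584).mp Cfsg.Agent.Lib.Helper3.Cover.EU3U9.chk45 v (by omega) (by omega)
  rcases Nat.lt_or_ge v 66808 with h46 | h46
  · exact (data.checkRange_iff 65182 1626).mp Cfsg.Agent.Lib.Helper3.Cover.EU3U9.chk46 v (by omega) (by omega)
  rcases Nat.lt_or_ge v 68419 with h47 | h47
  · exact (data.checkRange_iff 66808 1611).mp Cfsg.Agent.Lib.Helper3.Cover.EU3U9.chk47 v (by omega) (by omega)
  rcases Nat.lt_or_ge v 70027 with h48 | h48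
  · exact (data.checkRange_iff 68419 1608).mp Cfsg.Agent.Lib.Helper3.Cover.EU3U9.chk48 v (by omega) (by omega)
  rcases Nat.lt_or_ge v 71629 with h49 | h49
  · exact (data.checkRange_iff 70027 1602).mp Cfsg.Agent.Lib.Helper3.Cover.EU3U9.chk49 v (by omega) (by omega)
  rcases Nat.lt_or_ge v 73291 with h50 | h50
  · exact (data.checkRange_iff 71629 1662).mp Cfsg.Agent.Lib.Helper3.Cover.EU3U10.chk50 v (by omega) (by omega)
  rcases Nat.lt_or_ge v 74977 with h51 | h51
  · exact (data.checkRange_iff 73291 1686).mp Cfsg.Agent.Lib.Helper3.Cover.EU3U10.chk51 v (by omega) (by omega)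
  rcases Nat.lt_or_ge v 76251 with h52 | h52
  · exact (data.checkRange_iff 74977 1274).mp Cfsg.Agent.Lib.Helper3.Cover.EU3U10.chk52 v (by omega) (by omega)
  rcases Nat.lt_or_ge v 77565 with h53 | h53
  · exact (data.checkRange_iff 76251 1314).mp Cfsg.Agent.Lib.Helper3.Cover.EU3U10.chk53 v (by omega) (by omega)
  rcases Nat.lt_or_ge v 78913 with h54 | h54
  · exact (data.checkRange_iff 77565 1348).mp Cfsg.Agent.Lib.Helper3.Cover.EU3U10.chk54 v (by omega) (by omega)
  rcases Nat.lt_or_ge v 80385 with h55 | h55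
  · exact (data.checkRange_iff 78913 1472).mp Cfsg.Agent.Lib.Helper3.Cover.EU3U11.chk55 v (by omega) (by omega)
  rcases Nat.lt_or_ge v 81921 with h56 | h56
  · exact (data.checkRange_iff 80385 1536).mp Cfsg.Agent.Lib.Helper3.Cover.EU3U11.chk56 v (by omega) (by omega)
  rcases Nat.lt_or_ge v 83499 with h57 | h57
  · exact (data.checkRange_iff 81921 1578).mp Cfsg.Agent.Lib.Helper3.Cover.EU3U11.chk57 v (by omega) (by omega)
  rcases Nat.lt_or_ge v 85067 with h58 | h58
  · exact (data.checkRange_iff 83499 1568).mp Cfsg.Agent.Lib.Helper3.Cover.EU3U11.chk58 v (by omega) (by omega)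
  rcases Nat.lt_or_ge v 86672 with h59 | h59
  · exact (data.checkRange_iff 85067 1605).mp Cfsg.Agent.Lib.Helper3.Cover.EU3U11.chk59 v (by omega) (by omega)
  rcases Nat.lt_or_ge v 88230 with h60 | h60
  · exact (data.checkRange_iff 86672 1558).mp Cfsg.Agent.Lib.Helper3.Cover.EU3U12.chk60 v (by omega) (by omega)
  rcases Nat.lt_or_ge v 89837 with h61 | h61
  · exact (data.checkRange_iff 88230 1607).mp Cfsg.Agent.Lib.Helper3.Cover.EU3U12.chk61 v (by omega) (by omega)
  rcases Nat.lt_or_ge v 91528 with h62 | h62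
  · exact (data.checkRange_iff 89837 1691).mp Cfsg.Agent.Lib.Helper3.Cover.EU3U12.chk62 v (by omega) (by omega)
  rcases Nat.lt_or_ge v 93282 with h63 | h63
  · exact (data.checkRange_iff 91528 1754).mp Cfsg.Agent.Lib.Helper3.Cover.EU3U12.chk63 v (by omega) (by omega)
  rcases Nat.lt_or_ge v 95032 with h64 | h64
  · exact (data.checkRange_iff 93282 1750).mp Cfsg.Agent.Lib.Helper3.Cover.EU3U12.chk64 v (by omega) (by omega)
  rcases Nat.lt_or_ge v 96821 with h65 | h65
  · exact (data.checkRange_iff 95032 1789).mp Cfsg.Agent.Lib.Helper3.Cover.EU3U13.chk65 v (by omega) (by omega)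
  rcases Nat.lt_or_ge v 98498 with h66 | h66
  · exact (data.checkRange_iff 96821 1677).mp Cfsg.Agent.Lib.Helper3.Cover.EU3U13.chk66 v (by omega) (by omega)
  rcases Nat.lt_or_ge v 100152 with h67 | h67
  · exact (data.checkRange_iff 98498 1654).mp Cfsg.Agent.Lib.Helper3.Cover.EU3U13.chk67 v (by omega) (by omega)
  rcases Nat.lt_or_ge v 101812 with h68 | h68
  · exact (data.checkRange_iff 100152 1660).mp Cfsg.Agent.Lib.Helper3.Cover.EU3U13.chk68 v (by omega) (by omega)
  rcases Nat.lt_or_ge v 103487 with h69 | h69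
  · exact (data.checkRange_iff 101812 1675).mp Cfsg.Agent.Lib.Helper3.Cover.EU3U13.chk69 v (by omega) (by omega)
  rcases Nat.lt_or_ge v 105193 with h70 | h70
  · exact (data.checkRange_iff 103487 1706).mp Cfsg.Agent.Lib.Helper3.Cover.EU3U14.chk70 v (by omega) (by omega)
  rcases Nat.lt_or_ge v 106861 with h71 | h71
  · exact (data.checkRange_iff 105193 1668).mp Cfsg.Agent.Lib.Helper3.Cover.EU3U14.chk71 v (by omega) (by omega)
  rcases Nat.lt_or_ge v 108529 with h72 | h72
  · exact (data.checkRange_iff 106861 1668).mp Cfsg.Agent.Lib.Helper3.Cover.EU3U14.chk72 v (by omega) (by omega)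
  rcases Nat.lt_or_ge v 110227 with h73 | h73
  · exact (data.checkRange_iff 108529 1698).mp Cfsg.Agent.Lib.Helper3.Cover.EU3U14.chk73 v (by omega) (by omega)
  rcases Nat.lt_or_ge v 112004 with h74 | h74
  · exact (data.checkRange_iff 110227 1777).mp Cfsg.Agent.Lib.Helper3.Cover.EU3U14.chk74 v (by omega) (by omega)
  rcases Nat.lt_or_ge v 113717 with h75 | h75
  · exact (data.checkRange_iff 112004 1713).mp Cfsg.Agent.Lib.Helper3.Cover.EU3U15.chk75 v (by omega) (by omega)
  rcases Nat.lt_or_ge v 115256 with h76 | h76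
  · exact (data.checkRange_iff 113717 1539).mp Cfsg.Agent.Lib.Helper3.Cover.EU3U15.chk76 v (by omega) (by omega)
  rcases Nat.lt_or_ge v 116692 with h77 | h77
  · exact (data.checkRange_iff 115256 1436).mp Cfsg.Agent.Lib.Helper3.Cover.EU3U15.chk77 v (by omega) (by omega)
  rcases Nat.lt_or_ge v 118146 with h78 | h78
  · exact (data.checkRange_iff 116692 1454).mp Cfsg.Agent.Lib.Helper3.Cover.EU3U15.chk78 v (by omega) (by omega)
  rcases Nat.lt_or_ge v 119617 with h79 | h79
  · exact (data.checkRange_iff 118146 1471).mp Cfsg.Agent.Lib.Helper3.Cover.EU3U15.chk79 v (by omega) (by omega)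
  rcases Nat.lt_or_ge v 121151 with h80 | h80
  · exact (data.checkRange_iff 119617 1534).mp Cfsg.Agent.Lib.Helper3.Cover.EU3U16.chk80 v (by omega) (by omega)
  rcases Nat.lt_or_ge v 122816 with h81 | h81
  · exact (data.checkRange_iff 121151 1665).mp Cfsg.Agent.Lib.Helper3.Cover.EU3U16.chk81 v (by omega) (by omega)
  rcases Nat.lt_or_ge v 124451 with h82 | h82
  · exact (data.checkRange_iff 122816 1635).mp Cfsg.Agent.Lib.Helper3.Cover.EU3U16.chk82 v (by omega) (by omega)
  rcases Nat.lt_or_ge v 126084 with h83 | h83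
  · exact (data.checkRange_iff 124451 1633).mp Cfsg.Agent.Lib.Helper3.Cover.EU3U16.chk83 v (by omega) (by omega)
  rcases Nat.lt_or_ge v 127776 with h84 | h84
  · exact (data.checkRange_iff 126084 1692).mp Cfsg.Agent.Lib.Helper3.Cover.EU3U16.chk84 v (by omega) (by omega)
  rcases Nat.lt_or_ge v 129463 with h85 | h85
  · exact (data.checkRange_iff 127776 1687).mp Cfsg.Agent.Lib.Helper3.Cover.EU3U17.chk85 v (by omega) (by omega)
  rcases Nat.lt_or_ge v 131136 with h86 | h86
  · exact (data.checkRange_iff 129463 1673).mp Cfsg.Agent.Lib.Helper3.Cover.EU3U17.chk86 v (by omega) (by omega)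
  rcases Nat.lt_or_ge v 132829 with h87 | h87
  · exact (data.checkRange_iff 131136 1693).mp Cfsg.Agent.Lib.Helper3.Cover.EU3U17.chk87 v (by omega) (by omega)
  rcases Nat.lt_or_ge v 134570 with h88 | h88
  · exact (data.checkRange_iff 132829 1741).mp Cfsg.Agent.Lib.Helper3.Cover.EU3U17.chk88 v (by omega) (by omega)
  rcases Nat.lt_or_ge v 136373 with h89 | h89
  · exact (data.checkRange_iff 134570 1803).mp Cfsg.Agent.Lib.Helper3.Cover.EU3U17.chk89 v (by omega) (by omega)
  rcases Nat.lt_or_ge v 138229 with h90 | h90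
  · exact (data.checkRange_iff 136373 1856).mp Cfsg.Agent.Lib.Helper3.Cover.EU3U18.chk90 v (by omega) (by omega)
  rcases Nat.lt_or_ge v 140137 with h91 | h91
  · exact (data.checkRange_iff 138229 1908).mp Cfsg.Agent.Lib.Helper3.Cover.EU3U18.chk91 v (by omega) (by omega)
  rcases Nat.lt_or_ge v 141975 with h92 | h92
  · exact (data.checkRange_iff 140137 1838).mp Cfsg.Agent.Lib.Helper3.Cover.EU3U18.chk92 v (by omega) (by omega)
  rcases Nat.lt_or_ge v 143698 with h93 | h93
  · exact (data.checkRange_iff 141975 1723).mp Cfsg.Agent.Lib.Helper3.Cover.EU3U18.chk93 v (by omega) (by omega)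
  rcases Nat.lt_or_ge v 145463 with h94 | h94
  · exact (data.checkRange_iff 143698 1765).mp Cfsg.Agent.Lib.Helper3.Cover.EU3U18.chk94 v (by omega) (by omega)
  rcases Nat.lt_or_ge v 147238 with h95 | h95
  · exact (data.checkRange_iff 145463 1775).mp Cfsg.Agent.Lib.Helper3.Cover.EU3U19.chk95 v (by omega) (by omega)
  rcases Nat.lt_or_ge v 149097 with h96 | h96
  · exact (data.checkRange_iff 147238 1859).mp Cfsg.Agent.Lib.Helper3.Cover.EU3U19.chk96 v (by omega) (by omega)
  rcases Nat.lt_or_ge v 150911 with h97 | h97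
  · exact (data.checkRange_iff 149097 1814).mp Cfsg.Agent.Lib.Helper3.Cover.EU3U19.chk97 v (by omega) (by omega)
  rcases Nat.lt_or_ge v 152703 with h98 | h98
  · exact (data.checkRange_iff 150911 1792).mp Cfsg.Agent.Lib.Helper3.Cover.EU3U19.chk98 v (by omega) (by omega)
  rcases Nat.lt_or_ge v 154507 with h99 | h99
  · exact (data.checkRange_iff 152703 1804).mp Cfsg.Agent.Lib.Helper3.Cover.EU3U19.chk99 v (by omega) (by omega)
  rcases Nat.lt_or_ge v 156348 with h100 | h100
  · exact (data.checkRange_iff 154507 1841).mp Cfsg.Agent.Lib.Helper3.Cover.EU3U20.chk100 v (by omega) (by omega)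
  rcases Nat.lt_or_ge v 158193 with h101 | h101
  · exact (data.checkRange_iff 156348 1845).mp Cfsg.Agent.Lib.Helper3.Cover.EU3U20.chk101 v (by omega) (by omega)
  rcases Nat.lt_or_ge v 159856 with h102 | h102
  · exact (data.checkRange_iff 158193 1663).mp Cfsg.Agent.Lib.Helper3.Cover.EU3U20.chk102 v (by omega) (by omega)
  rcases Nat.lt_or_ge v 161476 with h103 | h103
  · exact (data.checkRange_iff 159856 1620).mp Cfsg.Agent.Lib.Helper3.Cover.EU3U20.chk103 v (by omega) (by omega)
  rcases Nat.lt_or_ge v 163094 with h104 | h104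
  · exact (data.checkRange_iff 161476 1618).mp Cfsg.Agent.Lib.Helper3.Cover.EU3U20.chk104 v (by omega) (by omega)
  rcases Nat.lt_or_ge v 164729 with h105 | h105
  · exact (data.checkRange_iff 163094 1635).mp Cfsg.Agent.Lib.Helper3.Cover.EU3U21.chk105 v (by omega) (by omega)
  rcases Nat.lt_or_ge v 166418 with h106 | h106
  · exact (data.checkRange_iff 164729 1689).mp Cfsg.Agent.Lib.Helper3.Cover.EU3U21.chk106 v (by omega) (by omega)
  rcases Nat.lt_or_ge v 168197 with h107 | h107
  · exact (data.checkRange_iff 166418 1779).mp Cfsg.Agent.Lib.Helper3.Cover.EU3U21.chk107 v (by omega) (by omega)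
  rcases Nat.lt_or_ge v 169943 with h108 | h108
  · exact (data.checkRange_iff 168197 1746).mp Cfsg.Agent.Lib.Helper3.Cover.EU3U21.chk108 v (by omega) (by omega)
  rcases Nat.lt_or_ge v 171751 with h109 | h109
  · exact (data.checkRange_iff 169943 1808).mp Cfsg.Agent.Lib.Helper3.Cover.EU3U21.chk109 v (by omega) (by omega)
  rcases Nat.lt_or_ge v 173561 with h110 | h110
  · exact (data.checkRange_iff 171751 1810).mp Cfsg.Agent.Lib.Helper3.Cover.EU3U22.chk110 v (by omega) (by omega)
  rcases Nat.lt_or_ge v 175366 with h111 | h111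
  · exact (data.checkRange_iff 173561 1805).mp Cfsg.Agent.Lib.Helper3.Cover.EU3U22.chk111 v (by omega) (by omega)
  rcases Nat.lt_or_ge v 177141 with h112 | h112
  · exact (data.checkRange_iff 175366 1775).mp Cfsg.Agent.Lib.Helper3.Cover.EU3U22.chk112 v (by omega) (by omega)
  rcases Nat.lt_or_ge v 178957 with h113 | h113
  · exact (data.checkRange_iff 177141 1816).mp Cfsg.Agent.Lib.Helper3.Cover.EU3U22.chk113 v (by omega) (by omega)
  rcases Nat.lt_or_ge v 180868 with h114 | h114
  · exact (data.checkRange_iff 178957 1911).mp Cfsg.Agent.Lib.Helper3.Cover.EU3U22.chk114 v (by omega) (by omega)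
  rcases Nat.lt_or_ge v 182817 with h115 | h115
  · exact (data.checkRange_iff 180868 1949).mp Cfsg.Agent.Lib.Helper3.Cover.EU3U23.chk115 v (by omega) (by omega)
  rcases Nat.lt_or_ge v 184787 with h116 | h116
  · exact (data.checkRange_iff 182817 1970).mp Cfsg.Agent.Lib.Helper3.Cover.EU3U23.chk116 v (by omega) (by omega)
  rcases Nat.lt_or_ge v 186695 with h117 | h117
  · exact (data.checkRange_iff 184787 1908).mp Cfsg.Agent.Lib.Helper3.Cover.EU3U23.chk117 v (by omega) (by omega)
  rcases Nat.lt_or_ge v 188576 with h118 | h118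
  · exact (data.checkRange_iff 186695 1881).mp Cfsg.Agent.Lib.Helper3.Cover.EU3U23.chk118 v (by omega) (by omega)
  rcases Nat.lt_or_ge v 190510 with h119 | h119
  · exact (data.checkRange_iff 188576 1934).mp Cfsg.Agent.Lib.Helper3.Cover.EU3U23.chk119 v (by omega) (by omega)
  rcases Nat.lt_or_ge v 192435 with h120 | h120
  · exact (data.checkRange_iff 190510 1925).mp Cfsg.Agent.Lib.Helper3.Cover.EU3U24.chk120 v (by omega) (by omega)
  rcases Nat.lt_or_ge v 194386 with h121 | h121
  · exact (data.checkRange_iff 192435 1951).mp Cfsg.Agent.Lib.Helper3.Cover.EU3U24.chk121 v (by omega) (by omega)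
  rcases Nat.lt_or_ge v 196376 with h122 | h122
  · exact (data.checkRange_iff 194386 1990).mp Cfsg.Agent.Lib.Helper3.Cover.EU3U24.chk122 v (by omega) (by omega)
  rcases Nat.lt_or_ge v 198264 with h123 | h123
  · exact (data.checkRange_iff 196376 1888).mp Cfsg.Agent.Lib.Helper3.Cover.EU3U24.chk123 v (by omega) (by omega)
  rcases Nat.lt_or_ge v 200129 with h124 | h124
  · exact (data.checkRange_iff 198264 1865).mp Cfsg.Agent.Lib.Helper3.Cover.EU3U24.chk124 v (by omega) (by omega)
  rcases Nat.lt_or_ge v 202048 with h125 | h125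
  · exact (data.checkRange_iff 200129 1919).mp Cfsg.Agent.Lib.Helper3.Cover.EU3U25.chk125 v (by omega) (by omega)
  rcases Nat.lt_or_ge v 203927 with h126 | h126
  · exact (data.checkRange_iff 202048 1879).mp Cfsg.Agent.Lib.Helper3.Cover.EU3U25.chk126 v (by omega) (by omega)
  rcases Nat.lt_or_ge v 205854 with h127 | h127
  · exact (data.checkRange_iff 203927 1927).mp Cfsg.Agent.Lib.Helper3.Cover.EU3U25.chk127 v (by omega) (by omega)
  rcases Nat.lt_or_ge v 207779 with h128 | h128
  · exact (data.checkRange_iff 205854 1925).mp Cfsg.Agent.Lib.Helper3.Cover.EU3U25.chk128 v (by omega) (by omega)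
  rcases Nat.lt_or_ge v 209752 with h129 | h129
  · exact (data.checkRange_iff 207779 1973).mp Cfsg.Agent.Lib.Helper3.Cover.EU3U25.chk129 v (by omega) (by omega)
  exact (data.checkRange_iff 209752 1414).mp Cfsg.Agent.Lib.Helper3.Cover.EU3U26.chk130 v (by omega) (by omega)

theorem hrows : ∀ v, v < data.N → Data.rowOK data v = true := by
  intro v hv
  have hv' : v < 211166 := hv
  rcases Nat.lt_or_ge v 6000 with h0 | h0
  · exact (Data.finalRange_iff data 0 6000).mp Cfsg.Agent.Lib.Helper3.Cover.EU3M0.fin0 v (by omega) (by omega)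
  rcases Nat.lt_or_ge v 12000 with h1 | h1
  · exact (Data.finalRange_iff data 6000 6000).mp Cfsg.Agent.Lib.Helper3.Cover.EU3M0.fin1 v (by omega) (by omega)
  rcases Nat.lt_or_ge v 18000 with h2 | h2
  · exact (Data.finalRange_iff data 12000 6000).mp Cfsg.Agent.Lib.Helper3.Cover.EU3M0.fin2 v (by omega) (by omega)
  rcases Nat.lt_or_ge v 24000 with h3 | h3
  · exact (Data.finalRange_iff data 18000 6000).mp Cfsg.Agent.Lib.Helper3.Cover.EU3M0.fin3 v (by omega) (by omega)
  rcases Nat.lt_or_ge v 30000 with h4 | h4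
  · exact (Data.finalRange_iff data 24000 6000).mp Cfsg.Agent.Lib.Helper3.Cover.EU3M0.fin4 v (by omega) (by omega)
  rcases Nat.lt_or_ge v 36000 with h5 | h5
  · exact (Data.finalRange_iff data 30000 6000).mp Cfsg.Agent.Lib.Helper3.Cover.EU3M1.fin5 v (by omega) (by omega)
  rcases Nat.lt_or_ge v 42000 with h6 | h6
  · exact (Data.finalRange_iff data 36000 6000).mp Cfsg.Agent.Lib.Helper3.Cover.EU3M1.fin6 v (by omega) (by omega)
  rcases Nat.lt_or_ge v 48000 with h7 | h7
  · exact (Data.finalRange_iff data 42000 6000).mp Cfsg.Agent.Lib.Helper3.Cover.EU3M1.fin7 v (by omega) (by omega)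
  rcases Nat.lt_or_ge v 54000 with h8 | h8
  · exact (Data.finalRange_iff data 48000 6000).mp Cfsg.Agent.Lib.Helper3.Cover.EU3M1.fin8 v (by omega) (by omega)
  rcases Nat.lt_or_ge v 60000 with h9 | h9
  · exact (Data.finalRange_iff data 54000 6000).mp Cfsg.Agent.Lib.Helper3.Cover.EU3M1.fin9 v (by omega) (by omega)
  rcases Nat.lt_or_ge v 66000 with h10 | h10
  · exact (Data.finalRange_iff data 60000 6000).mp Cfsg.Agent.Lib.Helper3.Cover.EU3M2.fin10 v (by omega) (by omega)
  rcases Nat.lt_or_ge v 72000 with h11 | h11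
  · exact (Data.finalRange_iff data 66000 6000).mp Cfsg.Agent.Lib.Helper3.Cover.EU3M2.fin11 v (by omega) (by omega)
  rcases Nat.lt_or_ge v 78000 with h12 | h12
  · exact (Data.finalRange_iff data 72000 6000).mp Cfsg.Agent.Lib.Helper3.Cover.EU3M2.fin12 v (by omega) (by omega)
  rcases Nat.lt_or_ge v 84000 with h13 | h13
  · exact (Data.finalRange_iff data 78000 6000).mp Cfsg.Agent.Lib.Helper3.Cover.EU3M2.fin13 v (by omega) (by omega)
  rcases Nat.lt_or_ge v 90000 with h14 | h14
  · exact (Data.finalRange_iff data 84000 6000).mp Cfsg.Agent.Lib.Helper3.Cover.EU3M2.fin14 v (by omega) (by omega)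
  rcases Nat.lt_or_ge v 96000 with h15 | h15
  · exact (Data.finalRange_iff data 90000 6000).mp Cfsg.Agent.Lib.Helper3.Cover.EU3M3.fin15 v (by omega) (by omega)
  rcases Nat.lt_or_ge v 102000 with h16 | h16
  · exact (Data.finalRange_iff data 96000 6000).mp Cfsg.Agent.Lib.Helper3.Cover.EU3M3.fin16 v (by omega) (by omega)
  rcases Nat.lt_or_ge v 108000 with h17 | h17
  · exact (Data.finalRange_iff data 102000 6000).mp Cfsg.Agent.Lib.Helper3.Cover.EU3M3.fin17 v (by omega) (by omega)
  rcases Nat.lt_or_ge v 114000 with h18 | h18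
  · exact (Data.finalRange_iff data 108000 6000).mp Cfsg.Agent.Lib.Helper3.Cover.EU3M3.fin18 v (by omega) (by omega)
  rcases Nat.lt_or_ge v 120000 with h19 | h19
  · exact (Data.finalRange_iff data 114000 6000).mp Cfsg.Agent.Lib.Helper3.Cover.EU3M3.fin19 v (by omega) (by omega)
  rcases Nat.lt_or_ge v 126000 with h20 | h20
  · exact (Data.finalRange_iff data 120000 6000).mp Cfsg.Agent.Lib.Helper3.Cover.EU3M4.fin20 v (by omega) (by omega)
  rcases Nat.lt_or_ge v 132000 with h21 | h21
  · exact (Data.finalRange_iff data 126000 6000).mp Cfsg.Agent.Lib.Helper3.Cover.EU3M4.fin21 v (by omega) (by omega)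
  rcases Nat.lt_or_ge v 138000 with h22 | h22
  · exact (Data.finalRange_iff data 132000 6000).mp Cfsg.Agent.Lib.Helper3.Cover.EU3M4.fin22 v (by omega) (by omega)
  rcases Nat.lt_or_ge v 144000 with h23 | h23
  · exact (Data.finalRange_iff data 138000 6000).mp Cfsg.Agent.Lib.Helper3.Cover.EU3M4.fin23 v (by omega) (by omega)
  rcases Nat.lt_or_ge v 150000 with h24 | h24
  · exact (Data.finalRange_iff data 144000 6000).mp Cfsg.Agent.Lib.Helper3.Cover.EU3M4.fin24 v (by omega) (by omega)
  rcases Nat.lt_or_ge v 156000 with h25 | h25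
  · exact (Data.finalRange_iff data 150000 6000).mp Cfsg.Agent.Lib.Helper3.Cover.EU3M5.fin25 v (by omega) (by omega)
  rcases Nat.lt_or_ge v 162000 with h26 | h26
  · exact (Data.finalRange_iff data 156000 6000).mp Cfsg.Agent.Lib.Helper3.Cover.EU3M5.fin26 v (by omega) (by omega)
  rcases Nat.lt_or_ge v 168000 with h27 | h27
  · exact (Data.finalRange_iff data 162000 6000).mp Cfsg.Agent.Lib.Helper3.Cover.EU3M5.fin27 v (by omega) (by omega)
  rcases Nat.lt_or_ge v 174000 with h28 | h28
  · exact (Data.finalRange_iff data 168000 6000).mp Cfsg.Agent.Lib.Helper3.Cover.EU3M5.fin28 v (by omega) (by omega)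
  rcases Nat.lt_or_ge v 180000 with h29 | h29
  · exact (Data.finalRange_iff data 174000 6000).mp Cfsg.Agent.Lib.Helper3.Cover.EU3M5.fin29 v (by omega) (by omega)
  rcases Nat.lt_or_ge v 186000 with h30 | h30
  · exact (Data.finalRange_iff data 180000 6000).mp Cfsg.Agent.Lib.Helper3.Cover.EU3M6.fin30 v (by omega) (by omega)
  rcases Nat.lt_or_ge v 192000 with h31 | h31
  · exact (Data.finalRange_iff data 186000 6000).mp Cfsg.Agent.Lib.Helper3.Cover.EU3M6.fin31 v (by omega) (by omega)
  rcases Nat.lt_or_ge v 198000 with h32 | h32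
  · exact (Data.finalRange_iff data 192000 6000).mp Cfsg.Agent.Lib.Helper3.Cover.EU3M6.fin32 v (by omega) (by omega)
  rcases Nat.lt_or_ge v 204000 with h33 | h33
  · exact (Data.finalRange_iff data 198000 6000).mp Cfsg.Agent.Lib.Helper3.Cover.EU3M6.fin33 v (by omega) (by omega)
  rcases Nat.lt_or_ge v 210000 with h34 | h34
  · exact (Data.finalRange_iff data 204000 6000).mp Cfsg.Agent.Lib.Helper3.Cover.EU3M6.fin34 v (by omega) (by omega)
  exact (Data.finalRange_iff data 210000 1166).mp Cfsg.Agent.Lib.Helper3.Cover.EU3M7.fin35 v (by omega) (by omega)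

theorem hfin : data.finalOK = true := Data.finalOK_of_rows data hlive0 (by decide) hrows

theorem pc0 : Data.countFrom data 0 6000 = 777 := Cfsg.Agent.Lib.Helper3.Cover.EU3M7.cnt0
theorem pc1 : Data.countFrom data 0 12000 = 1281 := Data.countFrom_step data pc0 Cfsg.Agent.Lib.Helper3.Cover.EU3M7.cnt1 (by norm_num) (by norm_num)
theorem pc2 : Data.countFrom data 0 18000 = 1622 := Data.countFrom_step data pc1 Cfsg.Agent.Lib.Helper3.Cover.EU3M7.cnt2 (by norm_num) (by norm_num)
theorem pc3 : Data.countFrom data 0 24000 = 2129 := Data.countFrom_step data pc2 Cfsg.Agent.Lib.Helper3.Cover.EU3M7.cnt3 (by norm_num) (by norm_num)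
theorem pc4 : Data.countFrom data 0 30000 = 2458 := Data.countFrom_step data pc3 Cfsg.Agent.Lib.Helper3.Cover.EU3M8.cnt4 (by norm_num) (by norm_num)
theorem pc5 : Data.countFrom data 0 36000 = 2709 := Data.countFrom_step data pc4 Cfsg.Agent.Lib.Helper3.Cover.EU3M8.cnt5 (by norm_num) (by norm_num)
theorem pc6 : Data.countFrom data 0 42000 = 3092 := Data.countFrom_step data pc5 Cfsg.Agent.Lib.Helper3.Cover.EU3M8.cnt6 (by norm_num) (by norm_num)
theorem pc7 : Data.countFrom data 0 48000 = 3222 := Data.countFrom_step data pc6 Cfsg.Agent.Lib.Helper3.Cover.EU3M8.cnt7 (by norm_num) (by norm_num)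
theorem pc8 : Data.countFrom data 0 54000 = 3537 := Data.countFrom_step data pc7 Cfsg.Agent.Lib.Helper3.Cover.EU3M8.cnt8 (by norm_num) (by norm_num)
theorem pc9 : Data.countFrom data 0 60000 = 3650 := Data.countFrom_step data pc8 Cfsg.Agent.Lib.Helper3.Cover.EU3M9.cnt9 (by norm_num) (by norm_num)
theorem pc10 : Data.countFrom data 0 66000 = 3887 := Data.countFrom_step data pc9 Cfsg.Agent.Lib.Helper3.Cover.EU3M9.cnt10 (by norm_num) (by norm_num)
theorem pc11 : Data.countFrom data 0 72000 = 4169 := Data.countFrom_step data pc10 Cfsg.Agent.Lib.Helper3.Cover.EU3M9.cnt11 (by norm_num) (by norm_num)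
theorem pc12 : Data.countFrom data 0 78000 = 4238 := Data.countFrom_step data pc11 Cfsg.Agent.Lib.Helper3.Cover.EU3M9.cnt12 (by norm_num) (by norm_num)
theorem pc13 : Data.countFrom data 0 84000 = 4397 := Data.countFrom_step data pc12 Cfsg.Agent.Lib.Helper3.Cover.EU3M9.cnt13 (by norm_num) (by norm_num)
theorem pc14 : Data.countFrom data 0 90000 = 4617 := Data.countFrom_step data pc13 Cfsg.Agent.Lib.Helper3.Cover.EU3M10.cnt14 (by norm_num) (by norm_num)
theorem pc15 : Data.countFrom data 0 96000 = 4666 := Data.countFrom_step data pc14 Cfsg.Agent.Lib.Helper3.Cover.EU3M10.cnt15 (by norm_num) (by norm_num)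
theorem pc16 : Data.countFrom data 0 102000 = 4841 := Data.countFrom_step data pc15 Cfsg.Agent.Lib.Helper3.Cover.EU3M10.cnt16 (by norm_num) (by norm_num)
theorem pc17 : Data.countFrom data 0 108000 = 4996 := Data.countFrom_step data pc16 Cfsg.Agent.Lib.Helper3.Cover.EU3M10.cnt17 (by norm_num) (by norm_num)
theorem pc18 : Data.countFrom data 0 114000 = 5182 := Data.countFrom_step data pc17 Cfsg.Agent.Lib.Helper3.Cover.EU3M10.cnt18 (by norm_num) (by norm_num)
theorem pc19 : Data.countFrom data 0 120000 = 5182 := Data.countFrom_step data pc18 Cfsg.Agent.Lib.Helper3.Cover.EU3M11.cnt19 (by norm_num) (by norm_num)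
theorem pc20 : Data.countFrom data 0 126000 = 5326 := Data.countFrom_step data pc19 Cfsg.Agent.Lib.Helper3.Cover.EU3M11.cnt20 (by norm_num) (by norm_num)
theorem pc21 : Data.countFrom data 0 132000 = 5449 := Data.countFrom_step data pc20 Cfsg.Agent.Lib.Helper3.Cover.EU3M11.cnt21 (by norm_num) (by norm_num)
theorem pc22 : Data.countFrom data 0 138000 = 5524 := Data.countFrom_step data pc21 Cfsg.Agent.Lib.Helper3.Cover.EU3M11.cnt22 (by norm_num) (by norm_num)
theorem pc23 : Data.countFrom data 0 144000 = 5599 := Data.countFrom_step data pc22 Cfsg.Agent.Lib.Helper3.Cover.EU3M11.cnt23 (by norm_num) (by norm_num)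
theorem pc24 : Data.countFrom data 0 150000 = 5687 := Data.countFrom_step data pc23 Cfsg.Agent.Lib.Helper3.Cover.EU3M12.cnt24 (by norm_num) (by norm_num)
theorem pc25 : Data.countFrom data 0 156000 = 5768 := Data.countFrom_step data pc24 Cfsg.Agent.Lib.Helper3.Cover.EU3M12.cnt25 (by norm_num) (by norm_num)
theorem pc26 : Data.countFrom data 0 162000 = 5792 := Data.countFrom_step data pc25 Cfsg.Agent.Lib.Helper3.Cover.EU3M12.cnt26 (by norm_num) (by norm_num)
theorem pc27 : Data.countFrom data 0 168000 = 5845 := Data.countFrom_step data pc26 Cfsg.Agent.Lib.Helper3.Cover.EU3M12.cnt27 (by norm_num) (by norm_num)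
theorem pc28 : Data.countFrom data 0 174000 = 5897 := Data.countFrom_step data pc27 Cfsg.Agent.Lib.Helper3.Cover.EU3M12.cnt28 (by norm_num) (by norm_num)
theorem pc29 : Data.countFrom data 0 180000 = 5944 := Data.countFrom_step data pc28 Cfsg.Agent.Lib.Helper3.Cover.EU3M13.cnt29 (by norm_num) (by norm_num)
theorem pc30 : Data.countFrom data 0 186000 = 5973 := Data.countFrom_step data pc29 Cfsg.Agent.Lib.Helper3.Cover.EU3M13.cnt30 (by norm_num) (by norm_num)
theorem pc31 : Data.countFrom data 0 192000 = 6003 := Data.countFrom_step data pc30 Cfsg.Agent.Lib.Helper3.Cover.EU3M13.cnt31 (by norm_num) (by norm_num)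
theorem pc32 : Data.countFrom data 0 198000 = 6018 := Data.countFrom_step data pc31 Cfsg.Agent.Lib.Helper3.Cover.EU3M13.cnt32 (by norm_num) (by norm_num)
theorem pc33 : Data.countFrom data 0 204000 = 6036 := Data.countFrom_step data pc32 Cfsg.Agent.Lib.Helper3.Cover.EU3M13.cnt33 (by norm_num) (by norm_num)
theorem pc34 : Data.countFrom data 0 210000 = 6048 := Data.countFrom_step data pc33 Cfsg.Agent.Lib.Helper3.Cover.EU3M14.cnt34 (by norm_num) (by norm_num)
theorem pc35 : Data.countFrom data 0 211166 = 6048 := Data.countFrom_step data pc34 Cfsg.Agent.Lib.Helper3.Cover.EU3M14.cnt35 (by norm_num) (by norm_num)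

theorem hcount : data.countLive = table.n := by
  rw [Data.countLive_eq]
  exact pc35

theorem hpermAll : ∀ p, p < table.n → Table.permRow table p = true := by
  intro p hv
  have hv' : p < 6048 := hv
  rcases Nat.lt_or_ge p 6000 with h0 | h0
  · exact (Table.permRange_iff table 0 6000).mp Cfsg.Agent.Lib.Helper3.Cover.EU3M14.prm0 p (by omega) (by omega)
  exact (Table.permRange_iff table 6000 48).mp Cfsg.Agent.Lib.Helper3.Cover.EU3M14.prm1 p (by omega) (by omega)

theorem hT : table.OK := Table.ok_of_rows table hinvOK hpermAll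

theorem htreeAll : ∀ i, i < Nat.pred table.n → Table.treeRow table i = true := by
  intro p hv
  have hv' : p < 6047 := hv
  rcases Nat.lt_or_ge p 6000 with h0 | h0
  · exact (Table.treeRange_iff table 0 6000).mp Cfsg.Agent.Lib.Helper3.Cover.EU3M14.tre0 p (by omega) (by omega)
  exact (Table.treeRange_iff table 6000 47).mp Cfsg.Agent.Lib.Helper3.Cover.EU3M15.tre1 p (by omega) (by omega)

theorem htree : table.treeOK = true := Table.treeOK_of_rows table htreeAll

theorem hchkT : ∀ P ∈ chkPaths, ∀ p, p < table.n → table.walkT P p = p := by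
  intro P hm p hv
  have hv' : p < 6048 := hv
  rcases Nat.lt_or_ge p 2000 with h0 | h0
  · exact (Table.relOK_iff chkPaths 0 2000).mp Cfsg.Agent.Lib.Helper3.Cover.EU3L0.rel0 p (by omega) (by omega) _ hm
  rcases Nat.lt_or_ge p 4000 with h1 | h1
  · exact (Table.relOK_iff chkPaths 2000 2000).mp Cfsg.Agent.Lib.Helper3.Cover.EU3L0.rel1 p (by omega) (by omega) _ hm
  rcases Nat.lt_or_ge p 6000 with h2 | h2
  · exact (Table.relOK_iff chkPaths 4000 2000).mp Cfsg.Agent.Lib.Helper3.Cover.EU3L0.rel2 p (by omega) (by omega) _ hm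
  exact (Table.relOK_iff chkPaths 6000 48).mp Cfsg.Agent.Lib.Helper3.Cover.EU3L0.rel3 p (by omega) (by omega) _ hm

theorem hrelT : ∀ L ∈ relWords, ∀ p, p < table.n → table.walkT (pathOf lw L) p = p :=
  fun L hL => Table.fix_of_covered hT chkPaths hchkT _ (hcov _ (hrelmem L hL)).1 (hcov _ (hrelmem L hL)).2

theorem hsubT : ∀ L ∈ subWords, table.walkT (pathOf lw L) 0 = 0 :=
  fun L hL => (Table.subOK_iff subPaths).mp hsub0 _ (hsubmem L hL)

theorem hn : 0 < table.n := by decide

theorem main : ((Subgroup.closure S).map (PresentedGroup.mk rels)).index = table.n ∧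
    ∃ φ : PresentedGroup rels →* Equiv.Perm (Fin table.n),
      (∀ x, φ (PresentedGroup.of x) = Table.sigma hT (lw (x, true))) ∧
      ∃ f : PresentedGroup rels ⧸ (Subgroup.closure S).map (PresentedGroup.mk rels) → Fin table.n,
        Function.Bijective f ∧ (∀ g q, f (g • q) = φ g (f q)) ∧ f (QuotientGroup.mk 1) = ⟨0, hn⟩ :=
  index_eq link hchk hfin hcount hT hn hrelT hsubT htree

end Cfsg.Agent.Lib.Helper3.Cover.EU3Main
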