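import Cfsg.Agent.Lib.Helper3.Cover.Sp6Iso
import Cfsg.Agent.Lib.Helper3.Cover.Univ
import Cfsg.Agent.Lib.Helper3.Cover.M12Main
import Cfsg.Agent.Lib.Helper3.Cover.ES6Main
import Cfsg.Agent.Lib.Helper3.Cover.EU3Main
import Cfsg.Agent.S0246

set_option autoImplicit false
set_option maxRecDepth 100000

/-!
# The Schur multiplier of `Sp₆(2)` is cyclic of order 2

`PS6 = ⟨a, b, c | …⟩ ≅ Sp₆(2)` with `⟨a, b⟩ ≅ U₃(3)` of index 240; the covering presentation `ES6` has order at
most `480 * 6048` (the subgroup `⟨a, b⟩` is a quotient of the covering presentation `EU3` of `U₃(3)`, of order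
6048), so the kernel has order at most 2; the square of the lifted transvection `c` is a non-trivial element of it.
-/

namespace Cfsg.Agent.Lib.Helper3.Cover.Sp6Main

open Cfsg Cfsg.Agent.Lib.Helper3 Cfsg.Agent.Lib.Helper3.Cover.Sp6Num Cfsg.Agent.Lib.Helper3.Cover.Sp6Iso
open Cfsg.Agent.Lib.Helper28.TC2Upper Cfsg.Agent.Lib.Helper28.TC2Lower Cfsg.Agent.Lib.Helper28.TC2Glue
open Cfsg.Agent.Lib.Helper28.TC2Tower

theorem cardEU3 : Finite (PresentedGroup EU3Link.rels) ∧ Nat.card (PresentedGroup EU3Link.rels) = 6048 := by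
  have h : ((Subgroup.closure EU3Link.S).map (PresentedGroup.mk EU3Link.rels)).index = 6048 := EU3Main.main.1
  have e : (Subgroup.closure EU3Link.S).map (PresentedGroup.mk EU3Link.rels) = ⊥ := by
    show (Subgroup.closure {1}).map _ = ⊥
    rw [Subgroup.closure_singleton_one, Subgroup.map_bot]
  rw [e] at h
  exact card_of_index_bot (by norm_num) h

theorem upE : ∀ L ∈ EU3Def.relWords, upWord EU3Def.up L ∈ ES6Def.relWords := by decide +kernel

theorem hSES6 : ∀ s ∈ ES6Link.S, ∃ b, s = FreeGroup.of (EU3Def.up b) := by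
  intro s hs
  simp only [ES6Link.S, Set.mem_insert_iff, Set.mem_singleton_iff] at hs
  rcases hs with rfl | rfl
  exacts [⟨.a, rfl⟩, ⟨.b, rfl⟩]

theorem cardES6' : Finite (PresentedGroup ES6Link.rels) ∧ Nat.card (PresentedGroup ES6Link.rels) ≤ 2903040 := by
  haveI : Finite (PresentedGroup EU3Link.rels) := cardEU3.1
  have hrel := hrel_of_words ES6Link.rels EU3Link.rels EU3Def.up ES6Link.relWords EU3Link.relWords
    ES6Link.link.hrels EU3Link.link.hrels upE
  obtain ⟨hfin, hle⟩ := card_le_of_subpres ES6Link.rels EU3Link.rels EU3Def.up hrel ES6Link.S hSES6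
  have hidx : ((Subgroup.closure ES6Link.S).map (PresentedGroup.mk ES6Link.rels)).index = 480 := ES6Main.main.1
  have := hfin
  refine ⟨finite_of_index _ (by rw [hidx]; norm_num), ?_⟩
  exact card_le_of_index _ hidx (le_trans hle (le_of_eq cardEU3.2))

theorem cardES6 : Finite DS.E ∧ Nat.card DS.E ≤ 2903040 := cardES6'

/-- the relator `c c` -/
def rc : List (ES6Def.Gen × Bool) := ES6Def.R.getD 5 []

theorem rc_mem : rc ∈ ES6Def.R := by decide +kernel

theorem walk_rc : ES6Table.table.walkT (pathOf ES6Link.lw rc) 0 ≠ 0 := by decide +kernel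

/-- the kernel of the projection is not trivial -/
theorem ker_ne_bot : ∃ z ∈ DS.proj.ker, z ≠ 1 := by
  obtain ⟨-, φ, hφ, -⟩ := ES6Main.main
  refine ⟨PresentedGroup.mk DS.relsE (FreeGroup.mk rc), ?_, ?_⟩
  · rw [MonoidHom.mem_ker, DS.proj_mk]
    exact PresentedGroup.one_of_mem ⟨rc, rc_mem, rfl⟩
  · intro h
    have h1 := M12Main.phi_mk_apply ES6Link.link ES6Main.hT φ hφ rc ⟨0, ES6Main.hn⟩
    have h2 : φ (PresentedGroup.mk ES6Link.rels (FreeGroup.mk rc)) = 1 := by
      have : (PresentedGroup.mk ES6Link.rels (FreeGroup.mk rc)) = 1 := h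
      rw [this, map_one]
    rw [h2] at h1
    exact walk_rc h1.symm

theorem card_ker : Nat.card DS.proj.ker = 2 := by
  haveI := cardES6.1
  have h1 := DS.card_E
  rw [cardPS6_eq] at h1
  have h2 := cardES6.2
  have h3 : Nat.card DS.proj.ker ≤ 2 := by
    rw [h1] at h2
    have h5 : Nat.card ↥DS.proj.ker * 1451520 ≤ 2 * 1451520 := h2
    exact Nat.le_of_mul_le_mul_right h5 (by norm_num)
  have h4 : 1 < Nat.card DS.proj.ker := by
    obtain ⟨z, hz, hz1⟩ := ker_ne_bot
    rw [Finite.one_lt_card_iff_nontrivial]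
    exact ⟨⟨⟨z, hz⟩, 1, fun h => hz1 (congrArg Subtype.val h)⟩⟩
  exact le_antisymm h3 h4

/-- the Schur multiplier of the symplectic group over `ZMod 2` -/
theorem schur_Sp6 : Cfsg.HasCyclicSchurMultiplier Sp6 2 := by
  haveI := cardES6.1
  obtain ⟨φ⟩ := iso_Sp6
  haveI : Fact (Nat.Prime 2) := ⟨Nat.prime_two⟩
  have hc : IsCyclic DS.proj.ker := isCyclic_of_prime_card card_ker
  have e : Nat.card DS.proj.ker = Nat.card (Multiplicative (ZMod 2)) := by
    rw [card_ker, Nat.card_eq_fintype_card]; rfl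
  exact DS.hasSchurMultiplier φ (mulEquivOfCyclicCardEq e)

section Transport

variable {F : Type*} [Field F] [Fintype F]

/-- the ring isomorphism from `ZMod 2` -/
noncomputable def gF (hF : Fintype.card F = 2) : ZMod 2 ≃+* F :=
  ZMod.ringEquivOfPrime F Nat.prime_two hF

/-- the entrywise map between the symplectic groups -/
noncomputable def chi (hF : Fintype.card F = 2) : Sp6 →* Matrix.symplecticGroup (Fin 3) F :=
  MonoidHom.codRestrict
    ((RingHom.mapMatrix (gF hF).toRingHom).toMonoidHom.comp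
      (Matrix.symplecticGroup (Fin 3) (ZMod 2)).subtype)
    (Matrix.symplecticGroup (Fin 3) F) (fun s => SymplecticGroup.map_mem s.2 (gF hF).toRingHom)

theorem chi_val (hF : Fintype.card F = 2) (s : Sp6) :
    ((chi hF s : Matrix.symplecticGroup (Fin 3) F) : Matrix I6 I6 F) =
      (s : Matrix I6 I6 (ZMod 2)).map (gF hF) := rfl

theorem chi_injective (hF : Fintype.card F = 2) : Function.Injective (chi hF) := by
  intro s t h
  apply Subtype.ext
  have h1 : (s : Matrix I6 I6 (ZMod 2)).map (gF hF) = (t : Matrix I6 I6 (ZMod 2)).map (gF hF) := by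
    rw [← chi_val, ← chi_val, h]
  ext i j
  have h2 := congrFun (congrFun h1 i) j
  simp only [Matrix.map_apply] at h2
  exact (gF hF).injective h2

theorem card_SpF (hF : Fintype.card F = 2) : Nat.card (Matrix.symplecticGroup (Fin 3) F) = 1451520 := by
  rw [Cfsg.Agent.Lib.Helper14.card_symplectic (F := F) 3, hF]
  decide

theorem chi_bijective (hF : Fintype.card F = 2) : Function.Bijective (chi hF) := by
  haveI : Finite (Matrix.symplecticGroup (Fin 3) F) :=
    Nat.finite_of_card_ne_zero (by rw [card_SpF hF]; norm_num)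
  apply Function.Injective.bijective_of_nat_card_le (chi_injective hF)
  rw [card_SpF hF, card_Sp6]

theorem center_SpF (hF : Fintype.card F = 2) :
    Subgroup.center (Matrix.symplecticGroup (Fin 3) F) = ⊥ := by
  have h := Cfsg.Agent.S0246.result hF 3 (by norm_num)
  have h1 : Nat.card (Subgroup.center (Matrix.symplecticGroup (Fin 3) F)) = 1 := by
    rw [h]; decide
  exact (Subgroup.card_eq_one).mp h1

/-- the symplectic group over `ZMod 2` is the projective symplectic group over any field with two elements -/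
theorem iso_PSp (hF : Fintype.card F = 2) : Nonempty (Sp6 ≃* Cfsg.PSp 3 F) := by
  have e1 : Sp6 ≃* Matrix.symplecticGroup (Fin 3) F := MulEquiv.ofBijective (chi hF) (chi_bijective hF)
  have e2 : Matrix.symplecticGroup (Fin 3) F ≃*
      Matrix.symplecticGroup (Fin 3) F ⧸ (⊥ : Subgroup (Matrix.symplecticGroup (Fin 3) F)) :=
    QuotientGroup.quotientBot.symm
  have e3 : Matrix.symplecticGroup (Fin 3) F ⧸ (⊥ : Subgroup (Matrix.symplecticGroup (Fin 3) F)) ≃*
      Cfsg.PSp 3 F := QuotientGroup.quotientMulEquivOfEq (center_SpF hF).symm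
  exact ⟨e1.trans (e2.trans e3)⟩

/-- the Schur multiplier of `PSp₆(2)` is cyclic of order 2 -/
theorem schur_PSp6 (hF : Fintype.card F = 2) : Cfsg.HasCyclicSchurMultiplier (Cfsg.PSp 3 F) 2 := by
  obtain ⟨e⟩ := iso_PSp hF
  exact hasSchurMultiplier_transport e schur_Sp6

end Transport

end Cfsg.Agent.Lib.Helper3.Cover.Sp6Main
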