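import Cfsg.Agent.Lib.Helper3.Cover.Basic

set_option autoImplicit false

/-!
# Covering presentations and surjections

The universal property of the covering presentation `D.E → D.P` for a group `G` which is only known to be a
homomorphic image of `D.P`: every finite stem extension of `G` is a homomorphic image of `D.E`.
-/

namespace Cfsg.Agent.Lib.Helper3.Cover.CoverData

open Subgroup
open scoped commutatorElement

variable {α : Type} [DecidableEq α] [Fintype α] (D : CoverData α)
variable {G Γ : Type} [Group G] [Group Γ] (π : D.P →* G) (σ : Γ →* G)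

/-- every central extension of the group receives a compatible homomorphism from the covering group -/
theorem exists_hom' (hσ : Function.Surjective σ) (hc : σ.ker ≤ center Γ) :
    ∃ Λ : D.E →* Γ, ∀ e, σ (Λ e) = π (D.proj e) := by
  choose l0 hl0 using fun x : α => hσ (π (PresentedGroup.of x))
  let L0 : FreeGroup α →* Γ := FreeGroup.lift l0
  have hL0 : ∀ w, σ (L0 w) = π (PresentedGroup.mk (relSet D.R) w) := by
    have : σ.comp L0 = π.comp (PresentedGroup.mk (relSet D.R)) := by
      ext x
      simp only [MonoidHom.comp_apply, L0, FreeGroup.lift_apply_of]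
      exact hl0 x
    exact fun w => DFunLike.congr_fun this w
  have hker : ∀ w, PresentedGroup.mk (relSet D.R) w = 1 → L0 w ∈ center Γ := by
    intro w hw
    apply hc
    rw [MonoidHom.mem_ker, hL0, hw, map_one]
  letI cg : CommGroup ↥(center Γ) :=
    { (inferInstance : Group ↥(center Γ)) with
      mul_comm := fun u v => Subtype.ext (Subgroup.mem_center_iff.mp v.2 u.1) }
  -- the correction terms
  let a : α → center Γ := fun x => ⟨(L0 (FreeGroup.mk (D.nrm x)))⁻¹, inv_mem (hker _ (D.hnrm x))⟩
  have ha : ∀ x, σ (a x : Γ) = 1 := by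
    intro x
    show σ ((L0 (FreeGroup.mk (D.nrm x)))⁻¹) = 1
    rw [map_inv, hL0, D.hnrm, map_one, inv_one]
  let κ : FreeGroup α →* center Γ := FreeGroup.lift a
  let l : α → Γ := fun x => l0 x * (a x : Γ)
  let L : FreeGroup α →* Γ := FreeGroup.lift l
  have hL : ∀ w, L w = L0 w * (κ w : Γ) := by
    intro w
    induction w using FreeGroup.induction_on with
    | C1 => simp
    | of x => simp [L, L0, κ, l]
    | inv_of x ih =>
      rw [map_inv, map_inv, map_inv, ih, mul_inv_rev]
      have := (κ (FreeGroup.of x))⁻¹.2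
      rw [Subgroup.mem_center_iff] at this
      simpa using (this _).symm
    | mul u v hu hv =>
      rw [map_mul, map_mul, map_mul, hu, hv]
      have := (κ u).2
      rw [Subgroup.mem_center_iff] at this
      simp only [Subgroup.coe_mul]
      calc L0 u * ↑(κ u) * (L0 v * ↑(κ v)) = L0 u * (↑(κ u) * L0 v) * ↑(κ v) := by group
        _ = L0 u * (L0 v * ↑(κ u)) * ↑(κ v) := by rw [this]
        _ = L0 u * L0 v * (↑(κ u) * ↑(κ v)) := by group
  have hκ : ∀ y, κ (FreeGroup.mk (D.nrm y)) = a y := by
    intro y
    rw [hom_eq_prod (C := ↥(center Γ)) κ]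
    simp only [expSum_mk, toAdd_ofAdd, D.hexp]
    rw [Finset.prod_eq_single y]
    · simp [κ]
    · intro b _ hb; simp [hb]
    · intro h; exact absurd (Finset.mem_univ y) h
  have hσL : ∀ w, σ (L w) = π (PresentedGroup.mk (relSet D.R) w) := by
    intro w
    rw [hL, map_mul, hL0]
    have : σ (κ w : Γ) = 1 := by
      have h1 : ((σ.comp (Subgroup.center Γ).subtype).comp κ) = 1 := by
        ext x
        simp only [MonoidHom.comp_apply, κ, FreeGroup.lift_apply_of, MonoidHom.one_apply]
        exact ha x
      exact DFunLike.congr_fun h1 w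
    rw [this, mul_one]
  have hrel : ∀ w ∈ D.relsE, L w = 1 := by
    intro w hw
    rcases D.mem_relsE hw with ⟨r, hr, x, rfl⟩ | ⟨x, rfl⟩
    · rw [map_commutatorElement, commutatorElement_eq_one_iff_mul_comm]
      have h1 : L (FreeGroup.mk r) ∈ center Γ := by
        apply hc
        have h2 : PresentedGroup.mk (relSet D.R) (FreeGroup.mk r) = 1 :=
          PresentedGroup.one_of_mem ⟨r, hr, rfl⟩
        rw [MonoidHom.mem_ker, hσL, h2, map_one]
      exact (Subgroup.mem_center_iff.mp h1 _).symm
    · rw [hL, hκ]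
      show L0 (FreeGroup.mk (D.nrm x)) * (L0 (FreeGroup.mk (D.nrm x)))⁻¹ = 1
      rw [mul_inv_cancel]
  refine ⟨PresentedGroup.toGroup (f := l) hrel, ?_⟩
  intro e
  obtain ⟨w, rfl⟩ := PresentedGroup.mk_surjective _ e
  have h1 : PresentedGroup.toGroup (f := l) hrel (PresentedGroup.mk D.relsE w) = L w := by
    have : (PresentedGroup.toGroup (f := l) hrel).comp (PresentedGroup.mk D.relsE) = L := by
      ext x
      simp only [MonoidHom.comp_apply, L, FreeGroup.lift_apply_of]
      exact PresentedGroup.toGroup.of hrel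
    exact DFunLike.congr_fun this w
  rw [h1, hσL, D.proj_mk]

/-- for a stem extension of a homomorphic image of `D.P` the homomorphism from the covering group is onto -/
theorem exists_surj' (hπ : Function.Surjective π) (hσ : Cfsg.IsStemExtension σ) :
    ∃ Λ : D.E →* Γ, (∀ e, σ (Λ e) = π (D.proj e)) ∧ Function.Surjective Λ := by
  obtain ⟨Λ, hΛ⟩ := exists_hom' D π σ hσ.1 hσ.2.1
  have hsurj : Function.Surjective Λ := by
    rw [← MonoidHom.range_eq_top]
    have h1 : Λ.range ⊔ σ.ker = ⊤ := by
      rw [eq_top_iff]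
      intro γ _
      obtain ⟨p, hp⟩ := hπ (σ γ)
      obtain ⟨e, rfl⟩ := D.proj_surjective p
      have : γ = Λ e * ((Λ e)⁻¹ * γ) := by group
      rw [this]
      apply Subgroup.mul_mem_sup (MonoidHom.mem_range.mpr ⟨e, rfl⟩)
      rw [MonoidHom.mem_ker, map_mul, map_inv, hΛ, hp, inv_mul_cancel]
    haveI : σ.ker.Normal := MonoidHom.normal_ker σ
    have h2 : σ.ker ≤ Λ.range := by
      intro z hz
      have h3 : z ∈ ⁅(⊤ : Subgroup Γ), ⊤⁆ := hσ.2.2 hz
      rw [← h1] at h3
      have h4 := Cfsg.Agent.Lib.Helper3.SchurM.comm_sup_central_le Λ.range σ.ker hσ.2.1 h3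
      have h5 : ⁅Λ.range, Λ.range⁆ ≤ Λ.range := by
        simpa using Subgroup.commutator_le_sup (H₁ := Λ.range) (H₂ := Λ.range)
      exact h5 h4
    rw [← h1]
    exact (sup_eq_left.mpr h2).symm
  exact ⟨Λ, hΛ, hsurj⟩

/-- the order of a finite stem extension of a homomorphic image of `D.P` is at most the order of `D.E` -/
theorem card_le_of_stem [Finite D.E] (hπ : Function.Surjective π) (hσ : Cfsg.IsStemExtension σ) :
    Nat.card Γ ≤ Nat.card D.E := by
  obtain ⟨Λ, -, hs⟩ := exists_surj' D π σ hπ hσ
  exact Nat.card_le_card_of_surjective Λ hs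

end Cfsg.Agent.Lib.Helper3.Cover.CoverData
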