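import Cfsg.Agent.Lib.Helper3.Cover.KillKer

set_option autoImplicit false

/-!
# Conjugation modulo the centre

If conjugation by `t` sends the images `v x` of the letters to `v' x` times central elements `κ x`, then for every
word `n` whose value under `v` is central and equal to its value under `v'`, the product of the `κ x ^ (exponent sum
of x in n)` is trivial.  With words whose exponent sums form a unit vector this shows that `κ x` is trivial.
-/

namespace Cfsg.Agent.Lib.Helper3.Cover

open scoped IsMulCommutative

variable {β : Type} [DecidableEq β] [Fintype β]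

/-- twisting the images of the generators by central elements multiplies the value of a word by the product of the
powers of the central elements given by the exponent sums -/
theorem lift_twist_mul {G : Type*} [Group G] (g : β → G) (κ : β → Subgroup.center G)
    (m : List (β × Bool)) :
    FreeGroup.lift (fun x => g x * (κ x : G)) (FreeGroup.mk m) =
      FreeGroup.lift g (FreeGroup.mk m) * ((∏ x, κ x ^ (expL x m) : Subgroup.center G) : G) := by
  let ρ : FreeGroup β →* G :=
    { toFun := fun w => FreeGroup.lift g w * ((FreeGroup.lift κ w : Subgroup.center G) : G)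
      map_one' := by simp
      map_mul' := by
        intro u v
        have hc := (FreeGroup.lift κ u).2
        rw [Subgroup.mem_center_iff] at hc
        rw [map_mul, map_mul, Subgroup.coe_mul, mul_assoc, mul_assoc]
        congr 1
        rw [← mul_assoc, ← mul_assoc, hc (FreeGroup.lift g v)] }
  have h1 : FreeGroup.lift (fun x => g x * (κ x : G)) = ρ := by
    ext x
    show _ = FreeGroup.lift g (FreeGroup.of x) * ((FreeGroup.lift κ (FreeGroup.of x) : Subgroup.center G) : G)
    rw [FreeGroup.lift_apply_of, FreeGroup.lift_apply_of, FreeGroup.lift_apply_of]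
  rw [h1]
  show FreeGroup.lift g (FreeGroup.mk m) * ((FreeGroup.lift κ (FreeGroup.mk m) : Subgroup.center G) : G) = _
  congr 2
  rw [hom_eq_prod (FreeGroup.lift κ) (FreeGroup.mk m)]
  apply Finset.prod_congr rfl
  intro x _
  rw [expSum_mk, toAdd_ofAdd, FreeGroup.lift_apply_of]

omit [DecidableEq β] [Fintype β] in
theorem conj_lift {G : Type*} [Group G] (t : G) (v : β → G) (w : FreeGroup β) :
    t * FreeGroup.lift v w * t⁻¹ = FreeGroup.lift (fun x => t * v x * t⁻¹) w := by
  have : (MulAut.conj t).toMonoidHom.comp (FreeGroup.lift v) = FreeGroup.lift (fun x => t * v x * t⁻¹) := by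
    ext x
    simp [MulAut.conj_apply]
  rw [← this]
  simp [MulAut.conj_apply]

/-- the conjugation argument -/
theorem prod_kappa_eq_one {G : Type*} [Group G] (t : G) (v v' : β → G) (κ : β → Subgroup.center G)
    (hconj : ∀ x, t * v x * t⁻¹ = v' x * (κ x : G))
    (n : List (β × Bool)) (h1 : FreeGroup.lift v (FreeGroup.mk n) ∈ Subgroup.center G)
    (h2 : FreeGroup.lift v' (FreeGroup.mk n) = FreeGroup.lift v (FreeGroup.mk n)) :
    ∏ x, κ x ^ (expL x n) = 1 := by
  have e1 : t * FreeGroup.lift v (FreeGroup.mk n) * t⁻¹ = FreeGroup.lift v (FreeGroup.mk n) := by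
    rw [Subgroup.mem_center_iff] at h1
    rw [h1 t, mul_inv_cancel_right]
  rw [conj_lift] at e1
  have e2 : (fun x => t * v x * t⁻¹) = fun x => v' x * (κ x : G) := funext hconj
  rw [e2, lift_twist_mul v' κ n, h2] at e1
  have e3 := mul_eq_left.mp e1
  exact Subtype.ext e3

/-- with a word of exponent sums the unit vector at `y` -/
theorem kappa_eq_one {G : Type*} [Group G] (t : G) (v v' : β → G) (κ : β → Subgroup.center G)
    (hconj : ∀ x, t * v x * t⁻¹ = v' x * (κ x : G))
    (y : β) (n : List (β × Bool)) (hexp : ∀ x, expL x n = if x = y then 1 else 0)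
    (h1 : FreeGroup.lift v (FreeGroup.mk n) ∈ Subgroup.center G)
    (h2 : FreeGroup.lift v' (FreeGroup.mk n) = FreeGroup.lift v (FreeGroup.mk n)) :
    κ y = 1 := by
  have h := prod_kappa_eq_one t v v' κ hconj n h1 h2
  rw [Finset.prod_eq_single y] at h
  · rw [hexp y, if_pos rfl, zpow_one] at h
    exact h
  · intro b _ hb
    rw [hexp b, if_neg hb, zpow_zero]
  · intro h'
    exact absurd (Finset.mem_univ y) h'

end Cfsg.Agent.Lib.Helper3.Cover
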