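import Mathlib

/-!
Recognising the group `Z/3 × Z/4 × Z/4` (helper3).
-/

set_option autoImplicit false

namespace Cfsg.Agent.Lib.Helper3.Cover

section

variable {K : Type*} [CommGroup K]

/-- the map `(a, b, c) ↦ x ^ a * y ^ b * z ^ c` -/
def triFun (x y z : K) (s : ZMod 3 × ZMod 4 × ZMod 4) : K :=
  x ^ s.1.val * y ^ s.2.1.val * z ^ s.2.2.val

theorem pow_val_add {n : ℕ} [NeZero n] {x : K} (hx : x ^ n = 1) (a b : ZMod n) :
    x ^ (a + b).val = x ^ a.val * x ^ b.val := by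
  rw [ZMod.val_add, ← pow_add, ← pow_eq_pow_mod _ hx]

/-- the homomorphism `(a, b, c) ↦ x ^ a * y ^ b * z ^ c` -/
def triHom (x y z : K) (hx : x ^ 3 = 1) (hy : y ^ 4 = 1) (hz : z ^ 4 = 1) :
    Multiplicative (ZMod 3 × ZMod 4 × ZMod 4) →* K where
  toFun s := triFun x y z (Multiplicative.toAdd s)
  map_one' := by simp [triFun]
  map_mul' s t := by
    simp only [triFun, toAdd_mul, Prod.fst_add, Prod.snd_add]
    rw [pow_val_add hx, pow_val_add hy, pow_val_add hz]
    simp only [mul_assoc, mul_left_comm, mul_comm]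

theorem iso344_aux [Finite K] (hle : Nat.card K ≤ 48) {H : Type*} [Group H] (Ψ : K →* H) (x y z : K)
    (hinj : ∀ s t, Ψ (triFun x y z s) = Ψ (triFun x y z t) → s = t)
    (hx : Ψ x ^ 3 = 1) (hy : Ψ y ^ 4 = 1) (hz : Ψ z ^ 4 = 1) :
    Nonempty (K ≃* Multiplicative (ZMod 3 × ZMod 4 × ZMod 4)) := by
  have hf : Function.Injective (triFun x y z) := fun s t h => hinj s t (by rw [h])
  have hcard : Nat.card (ZMod 3 × ZMod 4 × ZMod 4) = 48 := by
    rw [Nat.card_eq_fintype_card, Fintype.card_prod, Fintype.card_prod, ZMod.card, ZMod.card]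
  have hbij : Function.Bijective (triFun x y z) :=
    hf.bijective_of_nat_card_le (by rw [hcard]; exact hle)
  have hΨ : Function.Injective Ψ := by
    intro k1 k2 h
    obtain ⟨s, rfl⟩ := hbij.2 k1
    obtain ⟨t, rfl⟩ := hbij.2 k2
    rw [hinj s t h]
  have hx' : x ^ 3 = 1 := hΨ (by rw [map_pow, hx, map_one])
  have hy' : y ^ 4 = 1 := hΨ (by rw [map_pow, hy, map_one])
  have hz' : z ^ 4 = 1 := hΨ (by rw [map_pow, hz, map_one])
  have hθ : Function.Bijective (triHom x y z hx' hy' hz') :=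
    hbij.comp Multiplicative.toAdd.bijective
  exact ⟨(MulEquiv.ofBijective _ hθ).symm⟩

end

/-- a finite commutative group of order at most 48 with three elements `x`, `y`, `z` whose 48 products
`x ^ a * y ^ b * z ^ c` are separated by a homomorphism under which `x ^ 3`, `y ^ 4`, `z ^ 4` are trivial is
`Z/3 × Z/4 × Z/4` -/
theorem iso344 {K : Type*} [Group K] [Finite K] (hc : ∀ a b : K, a * b = b * a)
    (hle : Nat.card K ≤ 48) {H : Type*} [Group H] (Ψ : K →* H) (x y z : K)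
    (hinj : ∀ s t : ZMod 3 × ZMod 4 × ZMod 4,
      Ψ (x ^ s.1.val * y ^ s.2.1.val * z ^ s.2.2.val) = Ψ (x ^ t.1.val * y ^ t.2.1.val * z ^ t.2.2.val) → s = t)
    (hx : Ψ x ^ 3 = 1) (hy : Ψ y ^ 4 = 1) (hz : Ψ z ^ 4 = 1) :
    Nonempty (K ≃* Multiplicative (ZMod 3 × ZMod 4 × ZMod 4)) := by
  letI : CommGroup K := { (inferInstance : Group K) with mul_comm := hc }
  exact iso344_aux hle Ψ x y z hinj hx hy hz

end Cfsg.Agent.Lib.Helper3.Cover
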