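import Cfsg.Agent.Lib.Helper3.Cover.Abelian344

/-!
Recognising the group `Z/l × Z/m × Z/n` (helper3).
-/

set_option autoImplicit false

namespace Cfsg.Agent.Lib.Helper3.Cover

section

variable {K : Type*} [CommGroup K] {l m n : ℕ}

/-- the map `(a, b, c) ↦ x ^ a * y ^ b * z ^ c` -/
def triFunG (x y z : K) (s : ZMod l × ZMod m × ZMod n) : K :=
  x ^ s.1.val * y ^ s.2.1.val * z ^ s.2.2.val

theorem mul6_comm (a a' b b' c c' : K) : a * a' * (b * b') * (c * c') = a * b * c * (a' * b' * c') := by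
  simp only [mul_assoc, mul_left_comm, mul_comm]

/-- the homomorphism `(a, b, c) ↦ x ^ a * y ^ b * z ^ c` -/
def triHomG [NeZero l] [NeZero m] [NeZero n] (x y z : K) (hx : x ^ l = 1) (hy : y ^ m = 1) (hz : z ^ n = 1) :
    Multiplicative (ZMod l × ZMod m × ZMod n) →* K where
  toFun s := triFunG x y z (Multiplicative.toAdd s)
  map_one' := by simp [triFunG]
  map_mul' s t := by
    simp only [triFunG, toAdd_mul, Prod.fst_add, Prod.snd_add]
    rw [pow_val_add hx, pow_val_add hy, pow_val_add hz]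
    exact mul6_comm _ _ _ _ _ _

theorem isoTri_aux [NeZero l] [NeZero m] [NeZero n] [Finite K] (hle : Nat.card K ≤ l * m * n)
    {H : Type*} [Group H] (Ψ : K →* H) (x y z : K)
    (hinj : ∀ s t : ZMod l × ZMod m × ZMod n, Ψ (triFunG x y z s) = Ψ (triFunG x y z t) → s = t)
    (hx : Ψ x ^ l = 1) (hy : Ψ y ^ m = 1) (hz : Ψ z ^ n = 1) :
    Nonempty (K ≃* Multiplicative (ZMod l × ZMod m × ZMod n)) := by
  have hf : Function.Injective (triFunG (l := l) (m := m) (n := n) x y z) :=
    fun s t h => hinj s t (by rw [h])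
  have hcard : Nat.card (ZMod l × ZMod m × ZMod n) = l * m * n := by
    rw [Nat.card_eq_fintype_card, Fintype.card_prod, Fintype.card_prod, ZMod.card, ZMod.card, ZMod.card,
      mul_assoc]
  have hbij : Function.Bijective (triFunG (l := l) (m := m) (n := n) x y z) :=
    hf.bijective_of_nat_card_le (by rw [hcard]; exact hle)
  have hΨ : Function.Injective Ψ := by
    intro k1 k2 h
    obtain ⟨s, rfl⟩ := hbij.2 k1
    obtain ⟨t, rfl⟩ := hbij.2 k2
    rw [hinj s t h]
  have hx' : x ^ l = 1 := hΨ (by rw [map_pow, hx, map_one])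
  have hy' : y ^ m = 1 := hΨ (by rw [map_pow, hy, map_one])
  have hz' : z ^ n = 1 := hΨ (by rw [map_pow, hz, map_one])
  have hθ : Function.Bijective (triHomG x y z hx' hy' hz') :=
    hbij.comp Multiplicative.toAdd.bijective
  exact ⟨(MulEquiv.ofBijective _ hθ).symm⟩

end

/-- a finite commutative group of order at most `l * m * n` with three elements `x`, `y`, `z` whose products
`x ^ a * y ^ b * z ^ c` are separated by a homomorphism under which `x ^ l`, `y ^ m`, `z ^ n` are trivial is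
`Z/l × Z/m × Z/n` -/
theorem isoTri {l m n : ℕ} [NeZero l] [NeZero m] [NeZero n] {K : Type*} [Group K] [Finite K]
    (hc : ∀ a b : K, a * b = b * a)
    (hle : Nat.card K ≤ l * m * n) {H : Type*} [Group H] (Ψ : K →* H) (x y z : K)
    (hinj : ∀ s t : ZMod l × ZMod m × ZMod n,
      Ψ (x ^ s.1.val * y ^ s.2.1.val * z ^ s.2.2.val) = Ψ (x ^ t.1.val * y ^ t.2.1.val * z ^ t.2.2.val) → s = t)
    (hx : Ψ x ^ l = 1) (hy : Ψ y ^ m = 1) (hz : Ψ z ^ n = 1) :
    Nonempty (K ≃* Multiplicative (ZMod l × ZMod m × ZMod n)) := by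
  letI : CommGroup K := { (inferInstance : Group K) with mul_comm := hc }
  exact isoTri_aux hle Ψ x y z hinj hx hy hz

end Cfsg.Agent.Lib.Helper3.Cover
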