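import Cfsg.Agent.Lib.Helper3.Cover.StemBound
set_option autoImplicit false
set_option maxRecDepth 100000

namespace Cfsg.Agent.Lib.Helper3.Cover.BSzDef

/-- the generators -/
inductive Gen
  | t
  | h
  deriving DecidableEq

instance : Fintype Gen := ⟨⟨(([Gen.t, Gen.h] : List Gen) : Multiset Gen), by decide⟩, by intro x; cases x <;> decide⟩

open Cfsg.Agent.Lib.Helper3.Cover

/-- the relators of the group -/
def R : List (List (Gen × Bool)) := [
  [(.h, false), (.h, false), (.h, false), (.h, false), (.h, false), (.h, false), (.h, false)],
  [(.h, false), (.h, false), (.h, false), (.t, true), (.h, true), (.t, true), (.h, true), (.h, true), (.t, true)],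
  [(.h, false), (.t, false), (.t, false), (.h, true), (.t, false), (.h, false), (.t, false), (.t, false), (.h, true), (.t, true)],
  [(.h, false), (.t, false), (.h, true), (.t, false), (.t, false), (.h, false), (.t, true), (.h, true), (.t, false), (.t, false)] ]

/-- the normalising word of `t` -/
def nrm_t : List (Gen × Bool) := R.getD 1 [] ++ R.getD 2 []
/-- the normalising word of `h` -/
def nrm_h : List (Gen × Bool) := R.getD 0 []

/-- the normalising words -/
def nrm : Gen → List (Gen × Bool)
  | .t => nrm_t
  | .h => nrm_h

/-- the diagonal exponents -/
def dd : Gen → ℤ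
  | .t => -1
  | .h => -7

/-- the covering presentation -/
def odata : OddData Gen where
  R := R
  gens := [.t, .h]
  nrm := nrm
  norms := [nrm_t, nrm_h]
  d := dd
  hgens := by intro x; cases x <;> decide
  hnorms := by intro x; cases x <;> simp [nrm]
  hnorms' := by
    intro L hL
    simp only [List.mem_cons, List.not_mem_nil, or_false] at hL
    rcases hL with rfl | rfl
    · exact ⟨.t, rfl⟩
    · exact ⟨.h, rfl⟩
  hexp := by intro x y; cases x <;> cases y <;> decide +kernel

/-- the relators of the covering group in list form -/
abbrev relWords : List (List (Gen × Bool)) := coverWords odata.R odata.gens odata.norms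

end Cfsg.Agent.Lib.Helper3.Cover.BSzDef
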