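import Cfsg.Agent.Lib.Helper28.TC2Upper
import Cfsg.Agent.Lib.Helper3.Cover.E21DataC0
set_option autoImplicit false
set_option maxRecDepth 100000

namespace Cfsg.Agent.Lib.Helper3.Cover.E21Data
open Cfsg.Agent.Lib.Helper28.TC2Upper

/-- relators -/
def relT : BT (ℕ × List ℕ × List ℕ) := (BT.node 13 (BT.node 6 (BT.node 3 (BT.node 1 (BT.node 0 (BT.leaf (6, [1, 1, 1, 0, 0, 0], [1, 1, 1, 0, 0, 0])) (BT.leaf (6, [3, 1, 1, 2, 0, 0], [1, 1, 3, 0, 0, 2]))) (BT.node 2 (BT.leaf (6, [5, 1, 1, 4, 0, 0], [1, 1, 5, 0, 0, 4])) (BT.leaf (10, [1, 3, 3, 3, 3, 0, 2, 2, 2, 2], [3, 3, 3, 3, 1, 2, 2, 2, 2, 0])))) (BT.node 5 (BT.node 4 (BT.leaf (10, [3, 3, 3, 3, 3, 2, 2, 2, 2, 2], [3, 3, 3, 3, 3, 2, 2, 2, 2, 2])) (BT.leaf (10, [5, 3, 3, 3, 3, 4, 2, 2, 2, 2], [3, 3, 3, 3, 5, 2, 2, 2, 2, 4]))) (BT.leaf (22, [1, 1, 3, 1, 3, 1, 3, 1, 3, 1,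 3, 0, 2, 0, 2, 0, 2, 0, 2, 0, 2, 0], [1, 3, 1, 3, 1, 3, 1, 3, 1, 3, 1, 2, 0, 2, 0, 2, 0, 2, 0, 2, 0, 0])))) (BT.node 10 (BT.node 8 (BT.node 7 (BT.leaf (22, [3, 1, 3, 1, 3, 1, 3, 1, 3, 1, 3, 2, 2, 0, 2, 0, 2, 0, 2, 0, 2, 0], [1, 3, 1, 3, 1, 3, 1, 3, 1, 3, 3, 2, 0, 2, 0, 2, 0, 2, 0, 2, 0, 2])) (BT.leaf (22, [5, 1, 3, 1, 3, 1, 3, 1, 3, 1, 3, 4, 2, 0, 2, 0, 2, 0, 2, 0, 2, 0], [1, 3, 1, 3, 1, 3, 1, 3, 1, 3, 5, 2, 0, 2, 0, 2, 0, 2, 0, 2, 0, 4]))) (BT.node 9 (BT.leaf (32, [1, 1, 3, 3, 1, 3, 3, 1, 3, 3, 1, 3, 3, 1, 3, 3, 0, 2, 2, 0, 2, 2, 0, 2, 2, 0, 2, 2, 0, 2, 2, 0], [1, 3, 3, 1, 3, 3, 1, 3, 3, 1, 3, 3, 1, 3, 3, 1, 2, 2, 0, 2, 2, 0, 2, 2, 0, 2, 2, 0, 2, 2, 0, 0])) (BT.leaf (32, [3, 1, 3, 3, 1, 3, 3, 1, 3, 3, 1, 3, 3, 1, 3, 3, 2, 2, 2, 0, 2, 2, 0, 2, 2, 0, 2, 2, 0, 2, 2, 0], [1, 3, 3, 1, 3, 3, 1, 3, 3, 1, 3, 3, 1, 3,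 3, 3, 2, 2, 0, 2, 2, 0, 2, 2, 0, 2, 2, 0, 2, 2, 0, 2])))) (BT.node 12 (BT.node 11 (BT.leaf (32, [5, 1, 3, 3, 1, 3, 3, 1, 3, 3, 1, 3, 3, 1, 3, 3, 4, 2, 2, 0, 2, 2, 0, 2, 2, 0, 2, 2, 0, 2, 2, 0], [1, 3, 3, 1, 3, 3, 1, 3, 3, 1, 3, 3, 1, 3, 3, 5, 2, 2, 0, 2, 2, 0, 2, 2, 0, 2, 2, 0, 2, 2, 0, 4])) (BT.leaf (8, [1, 5, 5, 5, 0, 4, 4, 4], [5, 5, 5, 1, 4, 4, 4, 0]))) (BT.leaf (8, [3, 5, 5, 5, 2, 4, 4, 4], [5, 5, 5, 3, 4, 4, 4, 2]))))) (BT.node 20 (BT.node 17 (BT.node 15 (BT.node 14 (BT.leaf (8, [5, 5, 5, 5, 4, 4, 4, 4], [5, 5, 5, 5, 4, 4, 4, 4])) (BT.leaf (22, [1, 4, 2, 4, 1, 2, 1, 5, 3, 5, 2, 0, 3, 4, 2, 4, 0, 3, 0, 5, 3, 5], [4, 2, 4, 1, 2, 1, 5, 3, 5, 2, 1, 3, 4, 2, 4, 0, 3, 0, 5, 3, 5, 0]))) (BT.node 16 (BT.leaf (22, [3, 4, 2, 4, 1, 2, 1, 5, 3, 5, 2, 2, 3, 4, 2, 4, 0, 3, 0, 5, 3, 5], [4, 2, 4, 1, 2, 1, 5, 3, 5, 2, 3,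 3, 4, 2, 4, 0, 3, 0, 5, 3, 5, 2])) (BT.leaf (22, [5, 4, 2, 4, 1, 2, 1, 5, 3, 5, 2, 4, 3, 4, 2, 4, 0, 3, 0, 5, 3, 5], [4, 2, 4, 1, 2, 1, 5, 3, 5, 2, 5, 3, 4, 2, 4, 0, 3, 0, 5, 3, 5, 4])))) (BT.node 19 (BT.node 18 (BT.leaf (22, [1, 4, 2, 2, 5, 1, 4, 3, 3, 5, 1, 0, 0, 4, 2, 2, 5, 0, 4, 3, 3, 5], [4, 2, 2, 5, 1, 4, 3, 3, 5, 1, 1, 0, 4, 2, 2, 5, 0, 4, 3, 3, 5, 0])) (BT.leaf (22, [3, 4, 2, 2, 5, 1, 4, 3, 3, 5, 1, 2, 0, 4, 2, 2, 5, 0, 4, 3, 3, 5], [4, 2, 2, 5, 1, 4, 3, 3, 5, 1, 3, 0, 4, 2, 2, 5, 0, 4, 3, 3, 5, 2]))) (BT.leaf (22, [5, 4, 2, 2, 5, 1, 4, 3, 3, 5, 1, 4, 0, 4, 2, 2, 5, 0, 4, 3, 3, 5], [4, 2, 2, 5, 1, 4, 3, 3, 5, 1, 5, 0, 4, 2, 2, 5, 0, 4, 3, 3, 5, 4])))) (BT.node 23 (BT.node 22 (BT.node 21 (BT.leaf (22, [1, 4, 1, 4, 3, 1, 5, 2, 2, 1, 2, 0, 3, 0, 3, 3, 4, 0, 2, 5, 0, 5], [4, 1, 4, 3, 1, 5, 2, 2, 1, 2, 1, 3,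 0, 3, 3, 4, 0, 2, 5, 0, 5, 0])) (BT.leaf (22, [3, 4, 1, 4, 3, 1, 5, 2, 2, 1, 2, 2, 3, 0, 3, 3, 4, 0, 2, 5, 0, 5], [4, 1, 4, 3, 1, 5, 2, 2, 1, 2, 3, 3, 0, 3, 3, 4, 0, 2, 5, 0, 5, 2]))) (BT.leaf (22, [5, 4, 1, 4, 3, 1, 5, 2, 2, 1, 2, 4, 3, 0, 3, 3, 4, 0, 2, 5, 0, 5], [4, 1, 4, 3, 1, 5, 2, 2, 1, 2, 5, 3, 0, 3, 3, 4, 0, 2, 5, 0, 5, 4]))) (BT.node 25 (BT.node 24 (BT.leaf (39, [1, 3, 3, 1, 3, 3, 1, 3, 3, 1, 3, 3, 1, 3, 3, 2, 0, 2, 0, 2, 0, 2, 0, 2, 0, 2, 0, 2, 0, 2, 0, 2, 0, 2, 0, 1, 1, 1, 1], [0, 0, 0, 0, 1, 3, 1, 3, 1, 3, 1, 3, 1, 3, 1, 3, 1, 3, 1, 3, 1, 3, 1, 3, 2, 2, 0, 2, 2, 0, 2, 2, 0, 2, 2, 0, 2, 2, 0])) (BT.leaf (29, [2, 2, 0, 2, 2, 0, 2, 2, 0, 2, 2, 0, 2, 2, 0, 1, 3, 1, 3, 1, 3, 1, 3, 1, 3, 3, 3, 3, 3], [2, 2, 2, 2, 2, 0, 2, 0, 2, 0, 2, 0, 2, 0, 1, 3, 3, 1, 3, 3, 1, 3, 3, 1, 3, 3, 1, 3, 3]))) (BT.leaf (185,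 [2, 2, 2, 2, 2, 0, 2, 0, 2, 0, 2, 0, 2, 0, 1, 3, 3, 1, 3, 3, 1, 3, 3, 1, 3, 3, 1, 3, 3, 2, 2, 2, 2, 2, 0, 2, 0, 2, 0, 2, 0, 2, 0, 1, 3, 3, 1, 3, 3, 1, 3, 3, 1, 3, 3, 1, 3, 3, 1, 3, 3, 1, 3, 3, 1, 3, 3, 1, 3, 3, 1, 3, 3, 2, 0, 2, 0, 2, 0, 2, 0, 2, 0, 2, 0, 2, 0, 2, 0, 2, 0, 2, 0, 1, 1, 1, 1, 1, 3, 3, 1, 3, 3, 1, 3, 3, 1, 3, 3, 1, 3, 3, 2, 0, 2, 0, 2, 0, 2, 0, 2, 0, 2, 0, 2, 0, 2, 0, 2, 0, 2, 0, 1, 1, 1, 1, 1, 3, 3, 1, 3, 3, 1, 3, 3, 1, 3, 3, 1, 3, 3, 2, 0, 2, 0, 2, 0, 2, 0, 2, 0, 2, 0, 2, 0, 2, 0, 2, 0, 2, 0, 1, 1, 1, 1, 4, 1, 4, 3, 1, 5, 2, 2, 1, 2], [3, 0, 3, 3, 4, 0, 2, 5, 0, 5, 0, 0, 0, 0, 1, 3, 1, 3, 1, 3, 1, 3, 1, 3, 1, 3, 1, 3, 1, 3, 1, 3, 1, 3, 2, 2, 0, 2, 2, 0, 2, 2, 0, 2, 2, 0, 2, 2, 0, 0, 0, 0, 0, 1, 3, 1, 3, 1, 3, 1, 3, 1, 3, 1, 3, 1, 3, 1, 3, 1, 3, 1, 3, 2, 2, 0, 2, 2, 0, 2, 2, 0, 2, 2, 0, 2, 2, 0,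 0, 0, 0, 0, 1, 3, 1, 3, 1, 3, 1, 3, 1, 3, 1, 3, 1, 3, 1, 3, 1, 3, 1, 3, 2, 2, 0, 2, 2, 0, 2, 2, 0, 2, 2, 0, 2, 2, 0, 2, 2, 0, 2, 2, 0, 2, 2, 0, 2, 2, 0, 2, 2, 0, 1, 3, 1, 3, 1, 3, 1, 3, 1, 3, 3, 3, 3, 3, 2, 2, 0, 2, 2, 0, 2, 2, 0, 2, 2, 0, 2, 2, 0, 1, 3, 1, 3, 1, 3, 1, 3, 1, 3, 3, 3, 3, 3]))))))
/-- subgroup generators -/
def subT : BT (ℕ × List ℕ × List ℕ) := (BT.node 0 (BT.leaf (1, [0], [1])) (BT.leaf (1, [2], [3])))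
/-- fact chunks -/
def colET : BT ℕ := (BT.node 181 (BT.node 90 (BT.node 45 (BT.node 22 (BT.node 11 (BT.node 5 (BT.node 2 (BT.node 1 (BT.node 0 (BT.leaf cE0) (BT.leaf cE1)) (BT.leaf cE2)) (BT.node 4 (BT.node 3 (BT.leaf cE3) (BT.leaf cE4)) (BT.leaf cE5))) (BT.node 8 (BT.node 7 (BT.node 6 (BT.leaf cE6) (BT.leaf cE7)) (BT.leaf cE8)) (BT.node 10 (BT.node 9 (BT.leaf cE9) (BT.leaf cE10)) (BT.leaf cE11)))) (BT.node 17 (BT.node 14 (BT.node 13 (BT.node 12 (BT.leaf cE12) (BT.leaf cE13)) (BT.leaf cE14)) (BT.node 16 (BT.node 15 (BT.leaf cE15) (BT.leaf cE16)) (BT.leaf cE17))) (BT.node 20 (BT.node 19 (BT.node 18 (BT.leaf cE18) (BT.leaf cE19)) (BT.leaf cE20)) (BT.node 21 (BT.leaf cE21) (BT.leaf cE22))))) (BT.node 34 (BT.node 28 (BT.node 25 (BT.node 24 (BT.node 23 (BT.leaf cE23) (BT.leaf cE24)) (BT.leaf cE25)) (BT.node 27 (BT.node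 26 (BT.leaf cE26) (BT.leaf cE27)) (BT.leaf cE28))) (BT.node 31 (BT.node 30 (BT.node 29 (BT.leaf cE29) (BT.leaf cE30)) (BT.leaf cE31)) (BT.node 33 (BT.node 32 (BT.leaf cE32) (BT.leaf cE33)) (BT.leaf cE34)))) (BT.node 40 (BT.node 37 (BT.node 36 (BT.node 35 (BT.leaf cE35) (BT.leaf cE36)) (BT.leaf cE37)) (BT.node 39 (BT.node 38 (BT.leaf cE38) (BT.leaf cE39)) (BT.leaf cE40))) (BT.node 43 (BT.node 42 (BT.node 41 (BT.leaf cE41) (BT.leaf cE42)) (BT.leaf cE43)) (BT.node 44 (BT.leaf cE44) (BT.leaf cE45)))))) (BT.node 68 (BT.node 57 (BT.node 51 (BT.node 48 (BT.node 47 (BT.node 46 (BT.leaf cE46) (BT.leaf cE47)) (BT.leaf cE48)) (BT.node 50 (BT.node 49 (BT.leaf cE49) (BT.leaf cE50)) (BT.leaf cE51))) (BT.node 54 (BT.node 53 (BT.node 52 (BT.leaf cE52) (BT.leaf cE53)) (BT.leaf cE54)) (BT.node 56 (BT.node 55 (BT.leaf cE55) (BT.leaf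 cE56)) (BT.leaf cE57)))) (BT.node 63 (BT.node 60 (BT.node 59 (BT.node 58 (BT.leaf cE58) (BT.leaf cE59)) (BT.leaf cE60)) (BT.node 62 (BT.node 61 (BT.leaf cE61) (BT.leaf cE62)) (BT.leaf cE63))) (BT.node 66 (BT.node 65 (BT.node 64 (BT.leaf cE64) (BT.leaf cE65)) (BT.leaf cE66)) (BT.node 67 (BT.leaf cE67) (BT.leaf cE68))))) (BT.node 79 (BT.node 74 (BT.node 71 (BT.node 70 (BT.node 69 (BT.leaf cE69) (BT.leaf cE70)) (BT.leaf cE71)) (BT.node 73 (BT.node 72 (BT.leaf cE72) (BT.leaf cE73)) (BT.leaf cE74))) (BT.node 77 (BT.node 76 (BT.node 75 (BT.leaf cE75) (BT.leaf cE76)) (BT.leaf cE77)) (BT.node 78 (BT.leaf cE78) (BT.leaf cE79)))) (BT.node 85 (BT.node 82 (BT.node 81 (BT.node 80 (BT.leaf cE80) (BT.leaf cE81)) (BT.leaf cE82)) (BT.node 84 (BT.node 83 (BT.leaf cE83) (BT.leaf cE84)) (BT.leaf cE85))) (BT.node 88 (BT.node 87 (BT.node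 86 (BT.leaf cE86) (BT.leaf cE87)) (BT.leaf cE88)) (BT.node 89 (BT.leaf cE89) (BT.leaf cE90))))))) (BT.node 136 (BT.node 113 (BT.node 102 (BT.node 96 (BT.node 93 (BT.node 92 (BT.node 91 (BT.leaf cE91) (BT.leaf cE92)) (BT.leaf cE93)) (BT.node 95 (BT.node 94 (BT.leaf cE94) (BT.leaf cE95)) (BT.leaf cE96))) (BT.node 99 (BT.node 98 (BT.node 97 (BT.leaf cE97) (BT.leaf cE98)) (BT.leaf cE99)) (BT.node 101 (BT.node 100 (BT.leaf cE100) (BT.leaf cE101)) (BT.leaf cE102)))) (BT.node 108 (BT.node 105 (BT.node 104 (BT.node 103 (BT.leaf cE103) (BT.leaf cE104)) (BT.leaf cE105)) (BT.node 107 (BT.node 106 (BT.leaf cE106) (BT.leaf cE107)) (BT.leaf cE108))) (BT.node 111 (BT.node 110 (BT.node 109 (BT.leaf cE109) (BT.leaf cE110)) (BT.leaf cE111)) (BT.node 112 (BT.leaf cE112) (BT.leaf cE113))))) (BT.node 125 (BT.node 119 (BT.node 116 (BT.node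 115 (BT.node 114 (BT.leaf cE114) (BT.leaf cE115)) (BT.leaf cE116)) (BT.node 118 (BT.node 117 (BT.leaf cE117) (BT.leaf cE118)) (BT.leaf cE119))) (BT.node 122 (BT.node 121 (BT.node 120 (BT.leaf cE120) (BT.leaf cE121)) (BT.leaf cE122)) (BT.node 124 (BT.node 123 (BT.leaf cE123) (BT.leaf cE124)) (BT.leaf cE125)))) (BT.node 131 (BT.node 128 (BT.node 127 (BT.node 126 (BT.leaf cE126) (BT.leaf cE127)) (BT.leaf cE128)) (BT.node 130 (BT.node 129 (BT.leaf cE129) (BT.leaf cE130)) (BT.leaf cE131))) (BT.node 134 (BT.node 133 (BT.node 132 (BT.leaf cE132) (BT.leaf cE133)) (BT.leaf cE134)) (BT.node 135 (BT.leaf cE135) (BT.leaf cE136)))))) (BT.node 159 (BT.node 148 (BT.node 142 (BT.node 139 (BT.node 138 (BT.node 137 (BT.leaf cE137) (BT.leaf cE138)) (BT.leaf cE139)) (BT.node 141 (BT.node 140 (BT.leaf cE140) (BT.leaf cE141)) (BT.leaf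 cE142))) (BT.node 145 (BT.node 144 (BT.node 143 (BT.leaf cE143) (BT.leaf cE144)) (BT.leaf cE145)) (BT.node 147 (BT.node 146 (BT.leaf cE146) (BT.leaf cE147)) (BT.leaf cE148)))) (BT.node 154 (BT.node 151 (BT.node 150 (BT.node 149 (BT.leaf cE149) (BT.leaf cE150)) (BT.leaf cE151)) (BT.node 153 (BT.node 152 (BT.leaf cE152) (BT.leaf cE153)) (BT.leaf cE154))) (BT.node 157 (BT.node 156 (BT.node 155 (BT.leaf cE155) (BT.leaf cE156)) (BT.leaf cE157)) (BT.node 158 (BT.leaf cE158) (BT.leaf cE159))))) (BT.node 170 (BT.node 165 (BT.node 162 (BT.node 161 (BT.node 160 (BT.leaf cE160) (BT.leaf cE161)) (BT.leaf cE162)) (BT.node 164 (BT.node 163 (BT.leaf cE163) (BT.leaf cE164)) (BT.leaf cE165))) (BT.node 168 (BT.node 167 (BT.node 166 (BT.leaf cE166) (BT.leaf cE167)) (BT.leaf cE168)) (BT.node 169 (BT.leaf cE169) (BT.leaf cE170))))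 (BT.node 176 (BT.node 173 (BT.node 172 (BT.node 171 (BT.leaf cE171) (BT.leaf cE172)) (BT.leaf cE173)) (BT.node 175 (BT.node 174 (BT.leaf cE174) (BT.leaf cE175)) (BT.leaf cE176))) (BT.node 179 (BT.node 178 (BT.node 177 (BT.leaf cE177) (BT.leaf cE178)) (BT.leaf cE179)) (BT.node 180 (BT.leaf cE180) (BT.leaf cE181)))))))) (BT.node 272 (BT.node 227 (BT.node 204 (BT.node 193 (BT.node 187 (BT.node 184 (BT.node 183 (BT.node 182 (BT.leaf cE182) (BT.leaf cE183)) (BT.leaf cE184)) (BT.node 186 (BT.node 185 (BT.leaf cE185) (BT.leaf cE186)) (BT.leaf cE187))) (BT.node 190 (BT.node 189 (BT.node 188 (BT.leaf cE188) (BT.leaf cE189)) (BT.leaf cE190)) (BT.node 192 (BT.node 191 (BT.leaf cE191) (BT.leaf cE192)) (BT.leaf cE193)))) (BT.node 199 (BT.node 196 (BT.node 195 (BT.node 194 (BT.leaf cE194) (BT.leaf cE195)) (BT.leaf cE196)) (BT.node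 198 (BT.node 197 (BT.leaf cE197) (BT.leaf cE198)) (BT.leaf cE199))) (BT.node 202 (BT.node 201 (BT.node 200 (BT.leaf cE200) (BT.leaf cE201)) (BT.leaf cE202)) (BT.node 203 (BT.leaf cE203) (BT.leaf cE204))))) (BT.node 216 (BT.node 210 (BT.node 207 (BT.node 206 (BT.node 205 (BT.leaf cE205) (BT.leaf cE206)) (BT.leaf cE207)) (BT.node 209 (BT.node 208 (BT.leaf cE208) (BT.leaf cE209)) (BT.leaf cE210))) (BT.node 213 (BT.node 212 (BT.node 211 (BT.leaf cE211) (BT.leaf cE212)) (BT.leaf cE213)) (BT.node 215 (BT.node 214 (BT.leaf cE214) (BT.leaf cE215)) (BT.leaf cE216)))) (BT.node 222 (BT.node 219 (BT.node 218 (BT.node 217 (BT.leaf cE217) (BT.leaf cE218)) (BT.leaf cE219)) (BT.node 221 (BT.node 220 (BT.leaf cE220) (BT.leaf cE221)) (BT.leaf cE222))) (BT.node 225 (BT.node 224 (BT.node 223 (BT.leaf cE223) (BT.leaf cE224)) (BT.leaf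 cE225)) (BT.node 226 (BT.leaf cE226) (BT.leaf cE227)))))) (BT.node 250 (BT.node 239 (BT.node 233 (BT.node 230 (BT.node 229 (BT.node 228 (BT.leaf cE228) (BT.leaf cE229)) (BT.leaf cE230)) (BT.node 232 (BT.node 231 (BT.leaf cE231) (BT.leaf cE232)) (BT.leaf cE233))) (BT.node 236 (BT.node 235 (BT.node 234 (BT.leaf cE234) (BT.leaf cE235)) (BT.leaf cE236)) (BT.node 238 (BT.node 237 (BT.leaf cE237) (BT.leaf cE238)) (BT.leaf cE239)))) (BT.node 245 (BT.node 242 (BT.node 241 (BT.node 240 (BT.leaf cE240) (BT.leaf cE241)) (BT.leaf cE242)) (BT.node 244 (BT.node 243 (BT.leaf cE243) (BT.leaf cE244)) (BT.leaf cE245))) (BT.node 248 (BT.node 247 (BT.node 246 (BT.leaf cE246) (BT.leaf cE247)) (BT.leaf cE248)) (BT.node 249 (BT.leaf cE249) (BT.leaf cE250))))) (BT.node 261 (BT.node 256 (BT.node 253 (BT.node 252 (BT.node 251 (BT.leaf cE251)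 (BT.leaf cE252)) (BT.leaf cE253)) (BT.node 255 (BT.node 254 (BT.leaf cE254) (BT.leaf cE255)) (BT.leaf cE256))) (BT.node 259 (BT.node 258 (BT.node 257 (BT.leaf cE257) (BT.leaf cE258)) (BT.leaf cE259)) (BT.node 260 (BT.leaf cE260) (BT.leaf cE261)))) (BT.node 267 (BT.node 264 (BT.node 263 (BT.node 262 (BT.leaf cE262) (BT.leaf cE263)) (BT.leaf cE264)) (BT.node 266 (BT.node 265 (BT.leaf cE265) (BT.leaf cE266)) (BT.leaf cE267))) (BT.node 270 (BT.node 269 (BT.node 268 (BT.leaf cE268) (BT.leaf cE269)) (BT.leaf cE270)) (BT.node 271 (BT.leaf cE271) (BT.leaf cE272))))))) (BT.node 318 (BT.node 295 (BT.node 284 (BT.node 278 (BT.node 275 (BT.node 274 (BT.node 273 (BT.leaf cE273) (BT.leaf cE274)) (BT.leaf cE275)) (BT.node 277 (BT.node 276 (BT.leaf cE276) (BT.leaf cE277)) (BT.leaf cE278))) (BT.node 281 (BT.node 280 (BT.node 279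 (BT.leaf cE279) (BT.leaf cE280)) (BT.leaf cE281)) (BT.node 283 (BT.node 282 (BT.leaf cE282) (BT.leaf cE283)) (BT.leaf cE284)))) (BT.node 290 (BT.node 287 (BT.node 286 (BT.node 285 (BT.leaf cE285) (BT.leaf cE286)) (BT.leaf cE287)) (BT.node 289 (BT.node 288 (BT.leaf cE288) (BT.leaf cE289)) (BT.leaf cE290))) (BT.node 293 (BT.node 292 (BT.node 291 (BT.leaf cE291) (BT.leaf cE292)) (BT.leaf cE293)) (BT.node 294 (BT.leaf cE294) (BT.leaf cE295))))) (BT.node 307 (BT.node 301 (BT.node 298 (BT.node 297 (BT.node 296 (BT.leaf cE296) (BT.leaf cE297)) (BT.leaf cE298)) (BT.node 300 (BT.node 299 (BT.leaf cE299) (BT.leaf cE300)) (BT.leaf cE301))) (BT.node 304 (BT.node 303 (BT.node 302 (BT.leaf cE302) (BT.leaf cE303)) (BT.leaf cE304)) (BT.node 306 (BT.node 305 (BT.leaf cE305) (BT.leaf cE306)) (BT.leaf cE307)))) (BT.node 313 (BT.node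 310 (BT.node 309 (BT.node 308 (BT.leaf cE308) (BT.leaf cE309)) (BT.leaf cE310)) (BT.node 312 (BT.node 311 (BT.leaf cE311) (BT.leaf cE312)) (BT.leaf cE313))) (BT.node 316 (BT.node 315 (BT.node 314 (BT.leaf cE314) (BT.leaf cE315)) (BT.leaf cE316)) (BT.node 317 (BT.leaf cE317) (BT.leaf cE318)))))) (BT.node 341 (BT.node 330 (BT.node 324 (BT.node 321 (BT.node 320 (BT.node 319 (BT.leaf cE319) (BT.leaf cE320)) (BT.leaf cE321)) (BT.node 323 (BT.node 322 (BT.leaf cE322) (BT.leaf cE323)) (BT.leaf cE324))) (BT.node 327 (BT.node 326 (BT.node 325 (BT.leaf cE325) (BT.leaf cE326)) (BT.leaf cE327)) (BT.node 329 (BT.node 328 (BT.leaf cE328) (BT.leaf cE329)) (BT.leaf cE330)))) (BT.node 336 (BT.node 333 (BT.node 332 (BT.node 331 (BT.leaf cE331) (BT.leaf cE332)) (BT.leaf cE333)) (BT.node 335 (BT.node 334 (BT.leaf cE334) (BT.leaf cE335))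 (BT.leaf cE336))) (BT.node 339 (BT.node 338 (BT.node 337 (BT.leaf cE337) (BT.leaf cE338)) (BT.leaf cE339)) (BT.node 340 (BT.leaf cE340) (BT.leaf cE341))))) (BT.node 352 (BT.node 347 (BT.node 344 (BT.node 343 (BT.node 342 (BT.leaf cE342) (BT.leaf cE343)) (BT.leaf cE344)) (BT.node 346 (BT.node 345 (BT.leaf cE345) (BT.leaf cE346)) (BT.leaf cE347))) (BT.node 350 (BT.node 349 (BT.node 348 (BT.leaf cE348) (BT.leaf cE349)) (BT.leaf cE350)) (BT.node 351 (BT.leaf cE351) (BT.leaf cE352)))) (BT.node 358 (BT.node 355 (BT.node 354 (BT.node 353 (BT.leaf cE353) (BT.leaf cE354)) (BT.leaf cE355)) (BT.node 357 (BT.node 356 (BT.leaf cE356) (BT.leaf cE357)) (BT.leaf cE358))) (BT.node 361 (BT.node 360 (BT.node 359 (BT.leaf cE359) (BT.leaf cE360)) (BT.leaf cE361)) (BT.node 362 (BT.leaf cE362) (BT.leaf cE363)))))))))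
/-- justification chunks -/
def colJT : BT ℕ := (BT.node 181 (BT.node 90 (BT.node 45 (BT.node 22 (BT.node 11 (BT.node 5 (BT.node 2 (BT.node 1 (BT.node 0 (BT.leaf cJ0) (BT.leaf cJ1)) (BT.leaf cJ2)) (BT.node 4 (BT.node 3 (BT.leaf cJ3) (BT.leaf cJ4)) (BT.leaf cJ5))) (BT.node 8 (BT.node 7 (BT.node 6 (BT.leaf cJ6) (BT.leaf cJ7)) (BT.leaf cJ8)) (BT.node 10 (BT.node 9 (BT.leaf cJ9) (BT.leaf cJ10)) (BT.leaf cJ11)))) (BT.node 17 (BT.node 14 (BT.node 13 (BT.node 12 (BT.leaf cJ12) (BT.leaf cJ13)) (BT.leaf cJ14)) (BT.node 16 (BT.node 15 (BT.leaf cJ15) (BT.leaf cJ16)) (BT.leaf cJ17))) (BT.node 20 (BT.node 19 (BT.node 18 (BT.leaf cJ18) (BT.leaf cJ19)) (BT.leaf cJ20)) (BT.node 21 (BT.leaf cJ21) (BT.leaf cJ22))))) (BT.node 34 (BT.node 28 (BT.node 25 (BT.node 24 (BT.node 23 (BT.leaf cJ23) (BT.leaf cJ24)) (BT.leaf cJ25)) (BT.node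 27 (BT.node 26 (BT.leaf cJ26) (BT.leaf cJ27)) (BT.leaf cJ28))) (BT.node 31 (BT.node 30 (BT.node 29 (BT.leaf cJ29) (BT.leaf cJ30)) (BT.leaf cJ31)) (BT.node 33 (BT.node 32 (BT.leaf cJ32) (BT.leaf cJ33)) (BT.leaf cJ34)))) (BT.node 40 (BT.node 37 (BT.node 36 (BT.node 35 (BT.leaf cJ35) (BT.leaf cJ36)) (BT.leaf cJ37)) (BT.node 39 (BT.node 38 (BT.leaf cJ38) (BT.leaf cJ39)) (BT.leaf cJ40))) (BT.node 43 (BT.node 42 (BT.node 41 (BT.leaf cJ41) (BT.leaf cJ42)) (BT.leaf cJ43)) (BT.node 44 (BT.leaf cJ44) (BT.leaf cJ45)))))) (BT.node 68 (BT.node 57 (BT.node 51 (BT.node 48 (BT.node 47 (BT.node 46 (BT.leaf cJ46) (BT.leaf cJ47)) (BT.leaf cJ48)) (BT.node 50 (BT.node 49 (BT.leaf cJ49) (BT.leaf cJ50)) (BT.leaf cJ51))) (BT.node 54 (BT.node 53 (BT.node 52 (BT.leaf cJ52) (BT.leaf cJ53)) (BT.leaf cJ54)) (BT.node 56 (BT.node 55 (BT.leaf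 cJ55) (BT.leaf cJ56)) (BT.leaf cJ57)))) (BT.node 63 (BT.node 60 (BT.node 59 (BT.node 58 (BT.leaf cJ58) (BT.leaf cJ59)) (BT.leaf cJ60)) (BT.node 62 (BT.node 61 (BT.leaf cJ61) (BT.leaf cJ62)) (BT.leaf cJ63))) (BT.node 66 (BT.node 65 (BT.node 64 (BT.leaf cJ64) (BT.leaf cJ65)) (BT.leaf cJ66)) (BT.node 67 (BT.leaf cJ67) (BT.leaf cJ68))))) (BT.node 79 (BT.node 74 (BT.node 71 (BT.node 70 (BT.node 69 (BT.leaf cJ69) (BT.leaf cJ70)) (BT.leaf cJ71)) (BT.node 73 (BT.node 72 (BT.leaf cJ72) (BT.leaf cJ73)) (BT.leaf cJ74))) (BT.node 77 (BT.node 76 (BT.node 75 (BT.leaf cJ75) (BT.leaf cJ76)) (BT.leaf cJ77)) (BT.node 78 (BT.leaf cJ78) (BT.leaf cJ79)))) (BT.node 85 (BT.node 82 (BT.node 81 (BT.node 80 (BT.leaf cJ80) (BT.leaf cJ81)) (BT.leaf cJ82)) (BT.node 84 (BT.node 83 (BT.leaf cJ83) (BT.leaf cJ84)) (BT.leaf cJ85))) (BT.node 88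 (BT.node 87 (BT.node 86 (BT.leaf cJ86) (BT.leaf cJ87)) (BT.leaf cJ88)) (BT.node 89 (BT.leaf cJ89) (BT.leaf cJ90))))))) (BT.node 136 (BT.node 113 (BT.node 102 (BT.node 96 (BT.node 93 (BT.node 92 (BT.node 91 (BT.leaf cJ91) (BT.leaf cJ92)) (BT.leaf cJ93)) (BT.node 95 (BT.node 94 (BT.leaf cJ94) (BT.leaf cJ95)) (BT.leaf cJ96))) (BT.node 99 (BT.node 98 (BT.node 97 (BT.leaf cJ97) (BT.leaf cJ98)) (BT.leaf cJ99)) (BT.node 101 (BT.node 100 (BT.leaf cJ100) (BT.leaf cJ101)) (BT.leaf cJ102)))) (BT.node 108 (BT.node 105 (BT.node 104 (BT.node 103 (BT.leaf cJ103) (BT.leaf cJ104)) (BT.leaf cJ105)) (BT.node 107 (BT.node 106 (BT.leaf cJ106) (BT.leaf cJ107)) (BT.leaf cJ108))) (BT.node 111 (BT.node 110 (BT.node 109 (BT.leaf cJ109) (BT.leaf cJ110)) (BT.leaf cJ111)) (BT.node 112 (BT.leaf cJ112) (BT.leaf cJ113))))) (BT.node 125 (BT.node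 119 (BT.node 116 (BT.node 115 (BT.node 114 (BT.leaf cJ114) (BT.leaf cJ115)) (BT.leaf cJ116)) (BT.node 118 (BT.node 117 (BT.leaf cJ117) (BT.leaf cJ118)) (BT.leaf cJ119))) (BT.node 122 (BT.node 121 (BT.node 120 (BT.leaf cJ120) (BT.leaf cJ121)) (BT.leaf cJ122)) (BT.node 124 (BT.node 123 (BT.leaf cJ123) (BT.leaf cJ124)) (BT.leaf cJ125)))) (BT.node 131 (BT.node 128 (BT.node 127 (BT.node 126 (BT.leaf cJ126) (BT.leaf cJ127)) (BT.leaf cJ128)) (BT.node 130 (BT.node 129 (BT.leaf cJ129) (BT.leaf cJ130)) (BT.leaf cJ131))) (BT.node 134 (BT.node 133 (BT.node 132 (BT.leaf cJ132) (BT.leaf cJ133)) (BT.leaf cJ134)) (BT.node 135 (BT.leaf cJ135) (BT.leaf cJ136)))))) (BT.node 159 (BT.node 148 (BT.node 142 (BT.node 139 (BT.node 138 (BT.node 137 (BT.leaf cJ137) (BT.leaf cJ138)) (BT.leaf cJ139)) (BT.node 141 (BT.node 140 (BT.leaf cJ140)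 (BT.leaf cJ141)) (BT.leaf cJ142))) (BT.node 145 (BT.node 144 (BT.node 143 (BT.leaf cJ143) (BT.leaf cJ144)) (BT.leaf cJ145)) (BT.node 147 (BT.node 146 (BT.leaf cJ146) (BT.leaf cJ147)) (BT.leaf cJ148)))) (BT.node 154 (BT.node 151 (BT.node 150 (BT.node 149 (BT.leaf cJ149) (BT.leaf cJ150)) (BT.leaf cJ151)) (BT.node 153 (BT.node 152 (BT.leaf cJ152) (BT.leaf cJ153)) (BT.leaf cJ154))) (BT.node 157 (BT.node 156 (BT.node 155 (BT.leaf cJ155) (BT.leaf cJ156)) (BT.leaf cJ157)) (BT.node 158 (BT.leaf cJ158) (BT.leaf cJ159))))) (BT.node 170 (BT.node 165 (BT.node 162 (BT.node 161 (BT.node 160 (BT.leaf cJ160) (BT.leaf cJ161)) (BT.leaf cJ162)) (BT.node 164 (BT.node 163 (BT.leaf cJ163) (BT.leaf cJ164)) (BT.leaf cJ165))) (BT.node 168 (BT.node 167 (BT.node 166 (BT.leaf cJ166) (BT.leaf cJ167)) (BT.leaf cJ168)) (BT.node 169 (BT.leaf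 cJ169) (BT.leaf cJ170)))) (BT.node 176 (BT.node 173 (BT.node 172 (BT.node 171 (BT.leaf cJ171) (BT.leaf cJ172)) (BT.leaf cJ173)) (BT.node 175 (BT.node 174 (BT.leaf cJ174) (BT.leaf cJ175)) (BT.leaf cJ176))) (BT.node 179 (BT.node 178 (BT.node 177 (BT.leaf cJ177) (BT.leaf cJ178)) (BT.leaf cJ179)) (BT.node 180 (BT.leaf cJ180) (BT.leaf cJ181)))))))) (BT.node 272 (BT.node 227 (BT.node 204 (BT.node 193 (BT.node 187 (BT.node 184 (BT.node 183 (BT.node 182 (BT.leaf cJ182) (BT.leaf cJ183)) (BT.leaf cJ184)) (BT.node 186 (BT.node 185 (BT.leaf cJ185) (BT.leaf cJ186)) (BT.leaf cJ187))) (BT.node 190 (BT.node 189 (BT.node 188 (BT.leaf cJ188) (BT.leaf cJ189)) (BT.leaf cJ190)) (BT.node 192 (BT.node 191 (BT.leaf cJ191) (BT.leaf cJ192)) (BT.leaf cJ193)))) (BT.node 199 (BT.node 196 (BT.node 195 (BT.node 194 (BT.leaf cJ194) (BT.leaf cJ195))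 (BT.leaf cJ196)) (BT.node 198 (BT.node 197 (BT.leaf cJ197) (BT.leaf cJ198)) (BT.leaf cJ199))) (BT.node 202 (BT.node 201 (BT.node 200 (BT.leaf cJ200) (BT.leaf cJ201)) (BT.leaf cJ202)) (BT.node 203 (BT.leaf cJ203) (BT.leaf cJ204))))) (BT.node 216 (BT.node 210 (BT.node 207 (BT.node 206 (BT.node 205 (BT.leaf cJ205) (BT.leaf cJ206)) (BT.leaf cJ207)) (BT.node 209 (BT.node 208 (BT.leaf cJ208) (BT.leaf cJ209)) (BT.leaf cJ210))) (BT.node 213 (BT.node 212 (BT.node 211 (BT.leaf cJ211) (BT.leaf cJ212)) (BT.leaf cJ213)) (BT.node 215 (BT.node 214 (BT.leaf cJ214) (BT.leaf cJ215)) (BT.leaf cJ216)))) (BT.node 222 (BT.node 219 (BT.node 218 (BT.node 217 (BT.leaf cJ217) (BT.leaf cJ218)) (BT.leaf cJ219)) (BT.node 221 (BT.node 220 (BT.leaf cJ220) (BT.leaf cJ221)) (BT.leaf cJ222))) (BT.node 225 (BT.node 224 (BT.node 223 (BT.leaf cJ223)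 (BT.leaf cJ224)) (BT.leaf cJ225)) (BT.node 226 (BT.leaf cJ226) (BT.leaf cJ227)))))) (BT.node 250 (BT.node 239 (BT.node 233 (BT.node 230 (BT.node 229 (BT.node 228 (BT.leaf cJ228) (BT.leaf cJ229)) (BT.leaf cJ230)) (BT.node 232 (BT.node 231 (BT.leaf cJ231) (BT.leaf cJ232)) (BT.leaf cJ233))) (BT.node 236 (BT.node 235 (BT.node 234 (BT.leaf cJ234) (BT.leaf cJ235)) (BT.leaf cJ236)) (BT.node 238 (BT.node 237 (BT.leaf cJ237) (BT.leaf cJ238)) (BT.leaf cJ239)))) (BT.node 245 (BT.node 242 (BT.node 241 (BT.node 240 (BT.leaf cJ240) (BT.leaf cJ241)) (BT.leaf cJ242)) (BT.node 244 (BT.node 243 (BT.leaf cJ243) (BT.leaf cJ244)) (BT.leaf cJ245))) (BT.node 248 (BT.node 247 (BT.node 246 (BT.leaf cJ246) (BT.leaf cJ247)) (BT.leaf cJ248)) (BT.node 249 (BT.leaf cJ249) (BT.leaf cJ250))))) (BT.node 261 (BT.node 256 (BT.node 253 (BT.node 252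 (BT.node 251 (BT.leaf cJ251) (BT.leaf cJ252)) (BT.leaf cJ253)) (BT.node 255 (BT.node 254 (BT.leaf cJ254) (BT.leaf cJ255)) (BT.leaf cJ256))) (BT.node 259 (BT.node 258 (BT.node 257 (BT.leaf cJ257) (BT.leaf cJ258)) (BT.leaf cJ259)) (BT.node 260 (BT.leaf cJ260) (BT.leaf cJ261)))) (BT.node 267 (BT.node 264 (BT.node 263 (BT.node 262 (BT.leaf cJ262) (BT.leaf cJ263)) (BT.leaf cJ264)) (BT.node 266 (BT.node 265 (BT.leaf cJ265) (BT.leaf cJ266)) (BT.leaf cJ267))) (BT.node 270 (BT.node 269 (BT.node 268 (BT.leaf cJ268) (BT.leaf cJ269)) (BT.leaf cJ270)) (BT.node 271 (BT.leaf cJ271) (BT.leaf cJ272))))))) (BT.node 318 (BT.node 295 (BT.node 284 (BT.node 278 (BT.node 275 (BT.node 274 (BT.node 273 (BT.leaf cJ273) (BT.leaf cJ274)) (BT.leaf cJ275)) (BT.node 277 (BT.node 276 (BT.leaf cJ276) (BT.leaf cJ277)) (BT.leaf cJ278))) (BT.node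 281 (BT.node 280 (BT.node 279 (BT.leaf cJ279) (BT.leaf cJ280)) (BT.leaf cJ281)) (BT.node 283 (BT.node 282 (BT.leaf cJ282) (BT.leaf cJ283)) (BT.leaf cJ284)))) (BT.node 290 (BT.node 287 (BT.node 286 (BT.node 285 (BT.leaf cJ285) (BT.leaf cJ286)) (BT.leaf cJ287)) (BT.node 289 (BT.node 288 (BT.leaf cJ288) (BT.leaf cJ289)) (BT.leaf cJ290))) (BT.node 293 (BT.node 292 (BT.node 291 (BT.leaf cJ291) (BT.leaf cJ292)) (BT.leaf cJ293)) (BT.node 294 (BT.leaf cJ294) (BT.leaf cJ295))))) (BT.node 307 (BT.node 301 (BT.node 298 (BT.node 297 (BT.node 296 (BT.leaf cJ296) (BT.leaf cJ297)) (BT.leaf cJ298)) (BT.node 300 (BT.node 299 (BT.leaf cJ299) (BT.leaf cJ300)) (BT.leaf cJ301))) (BT.node 304 (BT.node 303 (BT.node 302 (BT.leaf cJ302) (BT.leaf cJ303)) (BT.leaf cJ304)) (BT.node 306 (BT.node 305 (BT.leaf cJ305) (BT.leaf cJ306)) (BT.leaf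 cJ307)))) (BT.node 313 (BT.node 310 (BT.node 309 (BT.node 308 (BT.leaf cJ308) (BT.leaf cJ309)) (BT.leaf cJ310)) (BT.node 312 (BT.node 311 (BT.leaf cJ311) (BT.leaf cJ312)) (BT.leaf cJ313))) (BT.node 316 (BT.node 315 (BT.node 314 (BT.leaf cJ314) (BT.leaf cJ315)) (BT.leaf cJ316)) (BT.node 317 (BT.leaf cJ317) (BT.leaf cJ318)))))) (BT.node 341 (BT.node 330 (BT.node 324 (BT.node 321 (BT.node 320 (BT.node 319 (BT.leaf cJ319) (BT.leaf cJ320)) (BT.leaf cJ321)) (BT.node 323 (BT.node 322 (BT.leaf cJ322) (BT.leaf cJ323)) (BT.leaf cJ324))) (BT.node 327 (BT.node 326 (BT.node 325 (BT.leaf cJ325) (BT.leaf cJ326)) (BT.leaf cJ327)) (BT.node 329 (BT.node 328 (BT.leaf cJ328) (BT.leaf cJ329)) (BT.leaf cJ330)))) (BT.node 336 (BT.node 333 (BT.node 332 (BT.node 331 (BT.leaf cJ331) (BT.leaf cJ332)) (BT.leaf cJ333)) (BT.node 335 (BT.node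 334 (BT.leaf cJ334) (BT.leaf cJ335)) (BT.leaf cJ336))) (BT.node 339 (BT.node 338 (BT.node 337 (BT.leaf cJ337) (BT.leaf cJ338)) (BT.leaf cJ339)) (BT.node 340 (BT.leaf cJ340) (BT.leaf cJ341))))) (BT.node 352 (BT.node 347 (BT.node 344 (BT.node 343 (BT.node 342 (BT.leaf cJ342) (BT.leaf cJ343)) (BT.leaf cJ344)) (BT.node 346 (BT.node 345 (BT.leaf cJ345) (BT.leaf cJ346)) (BT.leaf cJ347))) (BT.node 350 (BT.node 349 (BT.node 348 (BT.leaf cJ348) (BT.leaf cJ349)) (BT.leaf cJ350)) (BT.node 351 (BT.leaf cJ351) (BT.leaf cJ352)))) (BT.node 358 (BT.node 355 (BT.node 354 (BT.node 353 (BT.leaf cJ353) (BT.leaf cJ354)) (BT.leaf cJ355)) (BT.node 357 (BT.node 356 (BT.leaf cJ356) (BT.leaf cJ357)) (BT.leaf cJ358))) (BT.node 361 (BT.node 360 (BT.node 359 (BT.leaf cJ359) (BT.leaf cJ360)) (BT.leaf cJ361)) (BT.node 362 (BT.leaf cJ362) (BT.leaf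 cJ363)))))))))
/-- parent chunks -/
def parCT : BT ℕ := (BT.node 25 (BT.node 12 (BT.node 6 (BT.node 3 (BT.node 1 (BT.node 0 (BT.leaf cP0) (BT.leaf cP1)) (BT.node 2 (BT.leaf cP2) (BT.leaf cP3))) (BT.node 5 (BT.node 4 (BT.leaf cP4) (BT.leaf cP5)) (BT.leaf cP6))) (BT.node 9 (BT.node 8 (BT.node 7 (BT.leaf cP7) (BT.leaf cP8)) (BT.leaf cP9)) (BT.node 11 (BT.node 10 (BT.leaf cP10) (BT.leaf cP11)) (BT.leaf cP12)))) (BT.node 19 (BT.node 16 (BT.node 14 (BT.node 13 (BT.leaf cP13) (BT.leaf cP14)) (BT.node 15 (BT.leaf cP15) (BT.leaf cP16))) (BT.node 18 (BT.node 17 (BT.leaf cP17) (BT.leaf cP18)) (BT.leaf cP19))) (BT.node 22 (BT.node 21 (BT.node 20 (BT.leaf cP20) (BT.leaf cP21)) (BT.leaf cP22)) (BT.node 24 (BT.node 23 (BT.leaf cP23) (BT.leaf cP24)) (BT.leaf cP25))))) (BT.node 38 (BT.node 32 (BT.node 29 (BT.node 27 (BT.node 26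 (BT.leaf cP26) (BT.leaf cP27)) (BT.node 28 (BT.leaf cP28) (BT.leaf cP29))) (BT.node 31 (BT.node 30 (BT.leaf cP30) (BT.leaf cP31)) (BT.leaf cP32))) (BT.node 35 (BT.node 34 (BT.node 33 (BT.leaf cP33) (BT.leaf cP34)) (BT.leaf cP35)) (BT.node 37 (BT.node 36 (BT.leaf cP36) (BT.leaf cP37)) (BT.leaf cP38)))) (BT.node 45 (BT.node 42 (BT.node 40 (BT.node 39 (BT.leaf cP39) (BT.leaf cP40)) (BT.node 41 (BT.leaf cP41) (BT.leaf cP42))) (BT.node 44 (BT.node 43 (BT.leaf cP43) (BT.leaf cP44)) (BT.leaf cP45))) (BT.node 48 (BT.node 47 (BT.node 46 (BT.leaf cP46) (BT.leaf cP47)) (BT.leaf cP48)) (BT.node 50 (BT.node 49 (BT.leaf cP49) (BT.leaf cP50)) (BT.leaf cP51))))))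
/-- the certificate -/
def data : Data where
  k := 6
  N := 26384
  W := 32
  MW := 4294967296
  B := 32768
  CH := 512
  NCH := 52
  colE := colET
  JW := 64
  MJ := 18446744073709551616
  A := 1048576
  colJ := colJT
  PW := 25
  MP := 33554432
  parC := parCT
  inv := (BT.node 3 (BT.node 1 (BT.node 0 (BT.leaf 1) (BT.leaf 0)) (BT.node 2 (BT.leaf 3) (BT.leaf 2))) (BT.node 5 (BT.node 4 (BT.leaf 5) (BT.leaf 4)) (BT.leaf 6)))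
  rel := relT
  sub := subT
  fuel := 64

end Cfsg.Agent.Lib.Helper3.Cover.E21Data
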