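import Cfsg.Agent.Lib.Helper3.Cover.Basic
set_option autoImplicit false
set_option maxRecDepth 100000

namespace Cfsg.Agent.Lib.Helper3.Cover.E21Def

/-- the generators -/
inductive Gen
  | u
  | v
  | w
  deriving DecidableEq

instance : Fintype Gen := ⟨⟨(([Gen.u, Gen.v, Gen.w] : List Gen) : Multiset Gen), by decide⟩, by intro x; cases x <;> decide⟩

open Cfsg.Agent.Lib.Helper3.Cover

/-- the relators of the group -/
def R : List (List (Gen × Bool)) := [
  [(.u, true), (.u, true)],
  [(.v, true), (.v, true), (.v, true), (.v, true)],
  [(.u, true), (.v, true), (.u, true), (.v, true), (.u, true), (.v, true), (.u, true), (.v, true), (.u, true), (.v, true)],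
  [(.u, true), (.v, true), (.v, true), (.u, true), (.v, true), (.v, true), (.u, true), (.v, true), (.v, true), (.u, true), (.v, true), (.v, true), (.u, true), (.v, true), (.v, true)],
  [(.w, true), (.w, true), (.w, true)],
  [(.w, false), (.v, false), (.w, false), (.u, true), (.v, false), (.u, true), (.w, true), (.v, true), (.w, true), (.v, false)],
  [(.w, false), (.v, false), (.v, false), (.w, true), (.u, true), (.w, false), (.v, true), (.v, true), (.w, true), (.u, true)],
  [(.w, false), (.u, true), (.w, false), (.v, true), (.u, true), (.w, true), (.v, false), (.v, false), (.u, true), (.v, false)] ]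

/-- the normalising word of `u` -/
def nrm_u : List (Gen × Bool) := combWord [(R.getD 0 [], -2), (R.getD 2 [], 2), (R.getD 3 [], -1)]
/-- the normalising word of `v` -/
def nrm_v : List (Gen × Bool) := combWord [(R.getD 1 [], -1), (R.getD 2 [], -1), (R.getD 3 [], 1)]
/-- the normalising word of `w` -/
def nrm_w : List (Gen × Bool) := combWord [(R.getD 7 [], -1), (nrm_u, 3), (nrm_v, -2)]

/-- the normalising words -/
def nrm : Gen → List (Gen × Bool)
  | .u => nrm_u
  | .v => nrm_v
  | .w => nrm_w

theorem hR : ∀ L ∈ R, PresentedGroup.mk (relSet R) (FreeGroup.mk L) = 1 :=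
  fun L hL => PresentedGroup.one_of_mem ⟨L, hL, rfl⟩

theorem hn_u : PresentedGroup.mk (relSet R) (FreeGroup.mk nrm_u) = 1 :=
  map_combWord_eq_one _ _ (by
    intro p hp
    simp only [List.mem_cons, List.not_mem_nil, or_false] at hp
    rcases hp with rfl | rfl | rfl
    · exact hR _ (by decide)
    · exact hR _ (by decide)
    · exact hR _ (by decide))

theorem hn_v : PresentedGroup.mk (relSet R) (FreeGroup.mk nrm_v) = 1 :=
  map_combWord_eq_one _ _ (by
    intro p hp
    simp only [List.mem_cons, List.not_mem_nil, or_false] at hp
    rcases hp with rfl | rfl | rfl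
    · exact hR _ (by decide)
    · exact hR _ (by decide)
    · exact hR _ (by decide))

theorem hn_w : PresentedGroup.mk (relSet R) (FreeGroup.mk nrm_w) = 1 :=
  map_combWord_eq_one _ _ (by
    intro p hp
    simp only [List.mem_cons, List.not_mem_nil, or_false] at hp
    rcases hp with rfl | rfl | rfl
    · exact hR _ (by decide)
    · exact hn_u
    · exact hn_v)

/-- the covering presentation -/
def cover : CoverData Gen where
  R := R
  gens := [.u, .v, .w]
  nrm := nrm
  norms := [nrm_u, nrm_v, nrm_w]
  hgens := by intro x; cases x <;> decide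
  hnorms := by intro x; cases x <;> simp [nrm]
  hnorms' := by
    intro L hL
    simp only [List.mem_cons, List.not_mem_nil, or_false] at hL
    rcases hL with rfl | rfl | rfl
    · exact ⟨.u, rfl⟩
    · exact ⟨.v, rfl⟩
    · exact ⟨.w, rfl⟩
  hnrm := by
    intro x
    cases x
    · exact hn_u
    · exact hn_v
    · exact hn_w
  hexp := by intro x y; cases x <;> cases y <;> decide +kernel

/-- the relators of the covering group in list form -/
abbrev relWords : List (List (Gen × Bool)) := coverWords cover.R cover.gens cover.norms

end Cfsg.Agent.Lib.Helper3.Cover.E21Def
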