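import Cfsg.Agent.Lib.Helper28.TC2Glue
import Cfsg.Agent.Lib.Helper3.Cover.E21Data
import Cfsg.Agent.Lib.Helper3.Cover.E21Table
import Cfsg.Agent.Lib.Helper3.Cover.E21Def
set_option autoImplicit false
set_option maxRecDepth 100000

namespace Cfsg.Agent.Lib.Helper3.Cover.E21Link
open Cfsg.Agent.Lib.Helper28.TC2Upper Cfsg.Agent.Lib.Helper28.TC2Lower Cfsg.Agent.Lib.Helper28.TC2Glue Cfsg.Agent.Lib.Helper3.Cover.E21Data Cfsg.Agent.Lib.Helper3.Cover.E21Table

/-- all relators in list form -/
abbrev relWords : List (List (Cfsg.Agent.Lib.Helper3.Cover.E21Def.Gen × Bool)) := Cfsg.Agent.Lib.Helper3.Cover.E21Def.relWords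

/-- the subgroup generators in list form -/
def subWords : List (List (Cfsg.Agent.Lib.Helper3.Cover.E21Def.Gen × Bool)) := [
  [(.u, true)],
  [(.v, true)] ]

/-- coding of the letters -/
def lw : Cfsg.Agent.Lib.Helper3.Cover.E21Def.Gen × Bool → ℕ
  | (.u, true) => 0
  | (.u, false) => 1
  | (.v, true) => 2
  | (.v, false) => 3
  | (.w, true) => 4
  | (.w, false) => 5

/-- decoding of the letters -/
def dec : ℕ → Cfsg.Agent.Lib.Helper3.Cover.E21Def.Gen × Bool
  | 0 => (.u, true)
  | 1 => (.u, false)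
  | 2 => (.v, true)
  | 3 => (.v, false)
  | 4 => (.w, true)
  | _ => (.w, false)

/-- the relators -/
abbrev rels : Set (FreeGroup Cfsg.Agent.Lib.Helper3.Cover.E21Def.Gen) := {r | ∃ L ∈ relWords, r = FreeGroup.mk L}

/-- the subgroup generators -/
abbrev S : Set (FreeGroup Cfsg.Agent.Lib.Helper3.Cover.E21Def.Gen) := {FreeGroup.of (Cfsg.Agent.Lib.Helper3.Cover.E21Def.Gen.u), FreeGroup.of (Cfsg.Agent.Lib.Helper3.Cover.E21Def.Gen.v)}

theorem hS : ∀ s, s ∈ S ↔ ∃ L ∈ subWords, s = FreeGroup.mk L := by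
  intro s
  simp only [S, subWords, Set.mem_insert_iff, Set.mem_singleton_iff, List.mem_cons, List.not_mem_nil,
    or_false, exists_eq_or_imp, exists_eq_left]
  rfl

theorem relD_ok : BT.all (fun t => decide (wfWord data t ∧ ∃ L ∈ relWords, t.2.1 = pathOf lw L)) data.rel = true := by
  decide +kernel

theorem subD_ok : BT.all (fun t => decide (wfWord data t ∧ ∃ L ∈ subWords, t.2.1 = pathOf lw L)) data.sub = true := by
  decide +kernel

theorem link : Link rels S relWords subWords lw dec data table where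
  hrels := fun _ => Iff.rfl
  hS := hS
  lwk := by rintro ⟨x, b⟩; cases x <;> cases b <;> decide
  lwinv := by intro x; cases x <;> decide +kernel
  d1 := by intro l hl; have : l < 6 := hl; interval_cases l <;> rfl
  d2 := by intro x; cases x <;> rfl
  d3 := by intro x; cases x <;> exact Or.inl rfl
  invk := by intro l hl; have : l < 6 := hl; interval_cases l <;> decide +kernel
  relD := BT.All_of_all (fun _ h => of_decide_eq_true h) _ relD_ok
  subD := BT.All_of_all (fun _ h => of_decide_eq_true h) _ subD_ok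
  Tk := rfl
  Tinv := fun _ => rfl

theorem hrelmem : ∀ L ∈ relWords, pathOf lw L ∈ relPaths := by decide +kernel
theorem hsubmem : ∀ L ∈ subWords, pathOf lw L ∈ subPaths := by decide +kernel
theorem hsubmem' : ∀ s ∈ subPaths, ∃ L ∈ subWords, s = pathOf lw L := by decide +kernel

end Cfsg.Agent.Lib.Helper3.Cover.E21Link
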