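import Cfsg.Agent.Lib.Helper3.Cover.E21Data
set_option autoImplicit false
set_option maxRecDepth 100000
set_option maxHeartbeats 0

namespace Cfsg.Agent.Lib.Helper3.Cover.E21U3
open Cfsg.Agent.Lib.Helper28.TC2Upper Cfsg.Agent.Lib.Helper3.Cover.E21Data

theorem chk15 : data.checkRange 20791 1882 = true := by decide +kernel
theorem chk16 : data.checkRange 22673 1879 = true := by decide +kernel
theorem chk17 : data.checkRange 24552 1832 = true := by decide +kernel

end Cfsg.Agent.Lib.Helper3.Cover.E21U3
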