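import Cfsg.Agent.Lib.Helper28.TC2GlueOrb
import Cfsg.Agent.Lib.Helper28.TC2Range
import Cfsg.Agent.Lib.Helper3.Cover.E21Link
import Cfsg.Agent.Lib.Helper3.Cover.E21M
import Cfsg.Agent.Lib.Helper3.Cover.E21M0
import Cfsg.Agent.Lib.Helper3.Cover.E21M1
import Cfsg.Agent.Lib.Helper3.Cover.E21M2
import Cfsg.Agent.Lib.Helper3.Cover.E21U0
import Cfsg.Agent.Lib.Helper3.Cover.E21U1
import Cfsg.Agent.Lib.Helper3.Cover.E21U2
import Cfsg.Agent.Lib.Helper3.Cover.E21U3
import Cfsg.Agent.Lib.Helper3.Cover.E21L0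

set_option autoImplicit false
set_option maxRecDepth 100000
open Cfsg

namespace Cfsg.Agent.Lib.Helper3.Cover.E21Main
open Cfsg.Agent.Lib.Helper28.TC2Upper Cfsg.Agent.Lib.Helper28.TC2Lower Cfsg.Agent.Lib.Helper28.TC2Glue Cfsg.Agent.Lib.Helper28.TC2GlueOrb Cfsg.Agent.Lib.Helper28.TC2Orbit Cfsg.Agent.Lib.Helper28.TC2Range
open Cfsg.Agent.Lib.Helper3.Cover.E21Data Cfsg.Agent.Lib.Helper3.Cover.E21Table Cfsg.Agent.Lib.Helper3.Cover.E21Link Cfsg.Agent.Lib.Helper3.Cover.E21M

theorem hchk : ∀ v, v < data.N → data.checkNode v = true := by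
  intro v hv
  have hv' : v < 26384 := hv
  rcases Nat.lt_or_ge v 859 with h0 | h0
  · exact (data.checkRange_iff 0 859).mp Cfsg.Agent.Lib.Helper3.Cover.E21U0.chk0 v (by omega) (by omega)
  rcases Nat.lt_or_ge v 1774 with h1 | h1
  · exact (data.checkRange_iff 859 915).mp Cfsg.Agent.Lib.Helper3.Cover.E21U0.chk1 v (by omega) (by omega)
  rcases Nat.lt_or_ge v 2985 with h2 | h2
  · exact (data.checkRange_iff 1774 1211).mp Cfsg.Agent.Lib.Helper3.Cover.E21U0.chk2 v (by omega) (by omega)
  rcases Nat.lt_or_ge v 4165 with h3 | h3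
  · exact (data.checkRange_iff 2985 1180).mp Cfsg.Agent.Lib.Helper3.Cover.E21U0.chk3 v (by omega) (by omega)
  rcases Nat.lt_or_ge v 5347 with h4 | h4
  · exact (data.checkRange_iff 4165 1182).mp Cfsg.Agent.Lib.Helper3.Cover.E21U0.chk4 v (by omega) (by omega)
  rcases Nat.lt_or_ge v 6674 with h5 | h5
  · exact (data.checkRange_iff 5347 1327).mp Cfsg.Agent.Lib.Helper3.Cover.E21U1.chk5 v (by omega) (by omega)
  rcases Nat.lt_or_ge v 8085 with h6 | h6
  · exact (data.checkRange_iff 6674 1411).mp Cfsg.Agent.Lib.Helper3.Cover.E21U1.chk6 v (by omega) (by omega)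
  rcases Nat.lt_or_ge v 9517 with h7 | h7
  · exact (data.checkRange_iff 8085 1432).mp Cfsg.Agent.Lib.Helper3.Cover.E21U1.chk7 v (by omega) (by omega)
  rcases Nat.lt_or_ge v 10950 with h8 | h8
  · exact (data.checkRange_iff 9517 1433).mp Cfsg.Agent.Lib.Helper3.Cover.E21U1.chk8 v (by omega) (by omega)
  rcases Nat.lt_or_ge v 12468 with h9 | h9
  · exact (data.checkRange_iff 10950 1518).mp Cfsg.Agent.Lib.Helper3.Cover.E21U1.chk9 v (by omega) (by omega)
  rcases Nat.lt_or_ge v 14103 with h10 | h10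
  · exact (data.checkRange_iff 12468 1635).mp Cfsg.Agent.Lib.Helper3.Cover.E21U2.chk10 v (by omega) (by omega)
  rcases Nat.lt_or_ge v 15725 with h11 | h11
  · exact (data.checkRange_iff 14103 1622).mp Cfsg.Agent.Lib.Helper3.Cover.E21U2.chk11 v (by omega) (by omega)
  rcases Nat.lt_or_ge v 17387 with h12 | h12
  · exact (data.checkRange_iff 15725 1662).mp Cfsg.Agent.Lib.Helper3.Cover.E21U2.chk12 v (by omega) (by omega)
  rcases Nat.lt_or_ge v 19066 with h13 | h13
  · exact (data.checkRange_iff 17387 1679).mp Cfsg.Agent.Lib.Helper3.Cover.E21U2.chk13 v (by omega) (by omega)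
  rcases Nat.lt_or_ge v 20791 with h14 | h14
  · exact (data.checkRange_iff 19066 1725).mp Cfsg.Agent.Lib.Helper3.Cover.E21U2.chk14 v (by omega) (by omega)
  rcases Nat.lt_or_ge v 22673 with h15 | h15
  · exact (data.checkRange_iff 20791 1882).mp Cfsg.Agent.Lib.Helper3.Cover.E21U3.chk15 v (by omega) (by omega)
  rcases Nat.lt_or_ge v 24552 with h16 | h16
  · exact (data.checkRange_iff 22673 1879).mp Cfsg.Agent.Lib.Helper3.Cover.E21U3.chk16 v (by omega) (by omega)
  exact (data.checkRange_iff 24552 1832).mp Cfsg.Agent.Lib.Helper3.Cover.E21U3.chk17 v (by omega) (by omega)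

theorem hrows : ∀ v, v < data.N → Data.rowOK data v = true := by
  intro v hv
  have hv' : v < 26384 := hv
  rcases Nat.lt_or_ge v 6000 with h0 | h0
  · exact (Data.finalRange_iff data 0 6000).mp Cfsg.Agent.Lib.Helper3.Cover.E21M0.fin0 v (by omega) (by omega)
  rcases Nat.lt_or_ge v 12000 with h1 | h1
  · exact (Data.finalRange_iff data 6000 6000).mp Cfsg.Agent.Lib.Helper3.Cover.E21M0.fin1 v (by omega) (by omega)
  rcases Nat.lt_or_ge v 18000 with h2 | h2
  · exact (Data.finalRange_iff data 12000 6000).mp Cfsg.Agent.Lib.Helper3.Cover.E21M0.fin2 v (by omega) (by omega)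
  rcases Nat.lt_or_ge v 24000 with h3 | h3
  · exact (Data.finalRange_iff data 18000 6000).mp Cfsg.Agent.Lib.Helper3.Cover.E21M0.fin3 v (by omega) (by omega)
  exact (Data.finalRange_iff data 24000 2384).mp Cfsg.Agent.Lib.Helper3.Cover.E21M0.fin4 v (by omega) (by omega)

theorem hfin : data.finalOK = true := Data.finalOK_of_rows data hlive0 (by decide) hrows

theorem pc0 : Data.countFrom data 0 6000 = 447 := Cfsg.Agent.Lib.Helper3.Cover.E21M1.cnt0
theorem pc1 : Data.countFrom data 0 12000 = 448 := Data.countFrom_step data pc0 Cfsg.Agent.Lib.Helper3.Cover.E21M1.cnt1 (by norm_num) (by norm_num)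
theorem pc2 : Data.countFrom data 0 18000 = 448 := Data.countFrom_step data pc1 Cfsg.Agent.Lib.Helper3.Cover.E21M1.cnt2 (by norm_num) (by norm_num)
theorem pc3 : Data.countFrom data 0 24000 = 448 := Data.countFrom_step data pc2 Cfsg.Agent.Lib.Helper3.Cover.E21M1.cnt3 (by norm_num) (by norm_num)
theorem pc4 : Data.countFrom data 0 26384 = 448 := Data.countFrom_step data pc3 Cfsg.Agent.Lib.Helper3.Cover.E21M1.cnt4 (by norm_num) (by norm_num)

theorem hcount : data.countLive = table.n := by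
  rw [Data.countLive_eq]
  exact pc4

theorem hpermAll : ∀ p, p < table.n → Table.permRow table p = true := by
  intro p hv
  have hv' : p < 448 := hv
  exact (Table.permRange_iff table 0 448).mp Cfsg.Agent.Lib.Helper3.Cover.E21M2.prm0 p (by omega) (by omega)

theorem hT : table.OK := Table.ok_of_rows table hinvOK hpermAll

theorem htreeAll : ∀ i, i < Nat.pred table.n → Table.treeRow table i = true := by
  intro p hv
  have hv' : p < 447 := hv
  exact (Table.treeRange_iff table 0 447).mp Cfsg.Agent.Lib.Helper3.Cover.E21M2.tre0 p (by omega) (by omega)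

theorem htree : table.treeOK = true := Table.treeOK_of_rows table htreeAll

theorem hchkT : ∀ P ∈ chkPaths, ∀ p, p < table.n → table.walkT P p = p := by
  intro P hm p hv
  have hv' : p < 448 := hv
  exact (Table.relOK_iff chkPaths 0 448).mp Cfsg.Agent.Lib.Helper3.Cover.E21L0.rel0 p (by omega) (by omega) _ hm

theorem hrelT : ∀ L ∈ relWords, ∀ p, p < table.n → table.walkT (pathOf lw L) p = p :=
  fun L hL => Table.fix_of_covered hT chkPaths hchkT _ (hcov _ (hrelmem L hL)).1 (hcov _ (hrelmem L hL)).2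

theorem hsubT : ∀ L ∈ subWords, table.walkT (pathOf lw L) 0 = 0 :=
  fun L hL => (Table.subOK_iff subPaths).mp hsub0 _ (hsubmem L hL)

theorem hn : 0 < table.n := by decide

theorem main : ((Subgroup.closure S).map (PresentedGroup.mk rels)).index = table.n ∧
    ∃ φ : PresentedGroup rels →* Equiv.Perm (Fin table.n),
      (∀ x, φ (PresentedGroup.of x) = Table.sigma hT (lw (x, true))) ∧
      ∃ f : PresentedGroup rels ⧸ (Subgroup.closure S).map (PresentedGroup.mk rels) → Fin table.n,
        Function.Bijective f ∧ (∀ g q, f (g • q) = φ g (f q)) ∧ f (QuotientGroup.mk 1) = ⟨0, hn⟩ :=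
  index_eq link hchk hfin hcount hT hn hrelT hsubT htree

end Cfsg.Agent.Lib.Helper3.Cover.E21Main
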