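import Cfsg.Agent.Lib.Helper28.TC2Upper
import Cfsg.Agent.Lib.Helper3.Cover.E22DataC0
import Cfsg.Agent.Lib.Helper3.Cover.E22DataC1
import Cfsg.Agent.Lib.Helper3.Cover.E22DataC2
set_option autoImplicit false
set_option maxRecDepth 100000

namespace Cfsg.Agent.Lib.Helper3.Cover.E22Data
open Cfsg.Agent.Lib.Helper28.TC2Upper

/-- relators -/
def relT : BT (ℕ × List ℕ × List ℕ) := (BT.node 16 (BT.node 8 (BT.node 4 (BT.node 2 (BT.node 1 (BT.node 0 (BT.leaf (8, [1, 1, 1, 1, 0, 0, 0, 0], [1, 1, 1, 1, 0, 0, 0, 0])) (BT.leaf (8, [3, 1, 1, 1, 2, 0, 0, 0], [1, 1, 1, 3, 0, 0, 0, 2]))) (BT.leaf (8, [5, 1, 1, 1, 4, 0, 0, 0], [1, 1, 1, 5, 0, 0, 0, 4]))) (BT.node 3 (BT.leaf (12, [1, 3, 3, 3, 3, 3, 0, 2, 2, 2, 2, 2], [3, 3, 3, 3, 3, 1, 2, 2, 2, 2, 2, 0])) (BT.leaf (12, [3, 3, 3, 3, 3, 3, 2, 2, 2, 2, 2, 2], [3, 3, 3, 3, 3, 3, 2, 2, 2, 2, 2, 2])))) (BT.node 6 (BT.node 5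 (BT.leaf (12, [5, 3, 3, 3, 3, 3, 4, 2, 2, 2, 2, 2], [3, 3, 3, 3, 3, 5, 2, 2, 2, 2, 2, 4])) (BT.leaf (30, [1, 1, 3, 1, 3, 1, 3, 1, 3, 1, 3, 1, 3, 1, 3, 0, 2, 0, 2, 0, 2, 0, 2, 0, 2, 0, 2, 0, 2, 0], [1, 3, 1, 3, 1, 3, 1, 3, 1, 3, 1, 3, 1, 3, 1, 2, 0, 2, 0, 2, 0, 2, 0, 2, 0, 2, 0, 2, 0, 0]))) (BT.node 7 (BT.leaf (30, [3, 1, 3, 1, 3, 1, 3, 1, 3, 1, 3, 1, 3, 1, 3, 2, 2, 0, 2, 0, 2, 0, 2, 0, 2, 0, 2, 0, 2, 0], [1, 3, 1, 3, 1, 3, 1, 3, 1, 3, 1, 3, 1, 3, 3, 2, 0, 2, 0, 2, 0, 2, 0, 2, 0, 2, 0, 2, 0, 2])) (BT.leaf (30, [5, 1, 3, 1, 3, 1, 3, 1, 3, 1, 3, 1, 3, 1, 3, 4, 2, 0, 2, 0, 2, 0, 2, 0, 2, 0, 2, 0, 2, 0], [1, 3, 1, 3, 1, 3, 1, 3, 1, 3, 1, 3, 1, 3, 5, 2, 0, 2, 0, 2, 0, 2, 0, 2, 0, 2, 0, 2, 0, 4]))))) (BT.node 12 (BT.node 10 (BT.node 9 (BT.leaf (18, [1, 1, 2, 1, 3, 1, 2, 1, 3, 0, 2, 0, 3, 0, 2, 0, 3, 0], [1, 2, 1, 3, 1, 2, 1, 3, 1, 2, 0, 3, 0, 2, 0, 3, 0, 0]))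 (BT.leaf (18, [3, 1, 2, 1, 3, 1, 2, 1, 3, 2, 2, 0, 3, 0, 2, 0, 3, 0], [1, 2, 1, 3, 1, 2, 1, 3, 3, 2, 0, 3, 0, 2, 0, 3, 0, 2]))) (BT.node 11 (BT.leaf (18, [5, 1, 2, 1, 3, 1, 2, 1, 3, 4, 2, 0, 3, 0, 2, 0, 3, 0], [1, 2, 1, 3, 1, 2, 1, 3, 5, 2, 0, 3, 0, 2, 0, 3, 0, 4])) (BT.leaf (26, [1, 1, 2, 2, 1, 3, 3, 1, 2, 2, 1, 3, 3, 0, 2, 2, 0, 3, 3, 0, 2, 2, 0, 3, 3, 0], [1, 2, 2, 1, 3, 3, 1, 2, 2, 1, 3, 3, 1, 2, 2, 0, 3, 3, 0, 2, 2, 0, 3, 3, 0, 0])))) (BT.node 14 (BT.node 13 (BT.leaf (26, [3, 1, 2, 2, 1, 3, 3, 1, 2, 2, 1, 3, 3, 2, 2, 2, 0, 3, 3, 0, 2, 2, 0, 3, 3, 0], [1, 2, 2, 1, 3, 3, 1, 2, 2, 1, 3, 3, 3, 2, 2, 0, 3, 3, 0, 2, 2, 0, 3, 3, 0, 2])) (BT.leaf (26, [5, 1, 2, 2, 1, 3, 3, 1, 2, 2, 1, 3, 3, 4, 2, 2, 0, 3, 3, 0, 2, 2, 0, 3, 3, 0], [1, 2, 2, 1, 3, 3, 1, 2, 2, 1, 3, 3, 5, 2, 2, 0, 3, 3, 0, 2, 2, 0, 3, 3, 0, 4]))) (BT.node 15 (BT.leaf (6, [1, 5, 5, 0, 4, 4],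 [5, 5, 1, 4, 4, 0])) (BT.leaf (6, [3, 5, 5, 2, 4, 4], [5, 5, 3, 4, 4, 2])))))) (BT.node 24 (BT.node 20 (BT.node 18 (BT.node 17 (BT.leaf (6, [5, 5, 5, 4, 4, 4], [5, 5, 5, 4, 4, 4])) (BT.leaf (26, [1, 2, 2, 0, 3, 3, 1, 5, 3, 5, 2, 5, 1, 0, 0, 4, 3, 4, 2, 4, 0, 2, 2, 1, 3, 3], [2, 2, 0, 3, 3, 1, 5, 3, 5, 2, 5, 1, 1, 0, 4, 3, 4, 2, 4, 0, 2, 2, 1, 3, 3, 0]))) (BT.node 19 (BT.leaf (26, [3, 2, 2, 0, 3, 3, 1, 5, 3, 5, 2, 5, 1, 2, 0, 4, 3, 4, 2, 4, 0, 2, 2, 1, 3, 3], [2, 2, 0, 3, 3, 1, 5, 3, 5, 2, 5, 1, 3, 0, 4, 3, 4, 2, 4, 0, 2, 2, 1, 3, 3, 2])) (BT.leaf (26, [5, 2, 2, 0, 3, 3, 1, 5, 3, 5, 2, 5, 1, 4, 0, 4, 3, 4, 2, 4, 0, 2, 2, 1, 3, 3], [2, 2, 0, 3, 3, 1, 5, 3, 5, 2, 5, 1, 5, 0, 4, 3, 4, 2, 4, 0, 2, 2, 1, 3, 3, 4])))) (BT.node 22 (BT.node 21 (BT.leaf (26, [1, 2, 2, 1, 5, 1, 2, 5, 2, 0, 5, 0, 5, 0, 4, 1, 4, 1, 3, 4, 3, 0, 4, 0, 3, 3], [2, 2, 1, 5, 1, 2, 5, 2,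 0, 5, 0, 5, 1, 4, 1, 4, 1, 3, 4, 3, 0, 4, 0, 3, 3, 0])) (BT.leaf (26, [3, 2, 2, 1, 5, 1, 2, 5, 2, 0, 5, 0, 5, 2, 4, 1, 4, 1, 3, 4, 3, 0, 4, 0, 3, 3], [2, 2, 1, 5, 1, 2, 5, 2, 0, 5, 0, 5, 3, 4, 1, 4, 1, 3, 4, 3, 0, 4, 0, 3, 3, 2]))) (BT.node 23 (BT.leaf (26, [5, 2, 2, 1, 5, 1, 2, 5, 2, 0, 5, 0, 5, 4, 4, 1, 4, 1, 3, 4, 3, 0, 4, 0, 3, 3], [2, 2, 1, 5, 1, 2, 5, 2, 0, 5, 0, 5, 5, 4, 1, 4, 1, 3, 4, 3, 0, 4, 0, 3, 3, 4])) (BT.leaf (26, [1, 2, 2, 1, 5, 1, 2, 5, 2, 5, 1, 5, 1, 0, 0, 4, 0, 4, 3, 4, 3, 0, 4, 0, 3, 3], [2, 2, 1, 5, 1, 2, 5, 2, 5, 1, 5, 1, 1, 0, 4, 0, 4, 3, 4, 3, 0, 4, 0, 3, 3, 0]))))) (BT.node 28 (BT.node 26 (BT.node 25 (BT.leaf (26, [3, 2, 2, 1, 5, 1, 2, 5, 2, 5, 1, 5, 1, 2, 0, 4, 0, 4, 3, 4, 3, 0, 4, 0, 3, 3], [2, 2, 1, 5, 1, 2, 5, 2, 5, 1, 5, 1, 3, 0, 4, 0, 4, 3, 4, 3, 0, 4, 0, 3, 3, 2])) (BT.leaf (26, [5, 2, 2, 1, 5, 1, 2, 5, 2, 5, 1, 5, 1, 4,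 0, 4, 0, 4, 3, 4, 3, 0, 4, 0, 3, 3], [2, 2, 1, 5, 1, 2, 5, 2, 5, 1, 5, 1, 5, 0, 4, 0, 4, 3, 4, 3, 0, 4, 0, 3, 3, 4]))) (BT.node 27 (BT.leaf (26, [1, 2, 5, 2, 5, 2, 5, 2, 5, 2, 5, 2, 5, 0, 4, 3, 4, 3, 4, 3, 4, 3, 4, 3, 4, 3], [2, 5, 2, 5, 2, 5, 2, 5, 2, 5, 2, 5, 1, 4, 3, 4, 3, 4, 3, 4, 3, 4, 3, 4, 3, 0])) (BT.leaf (26, [3, 2, 5, 2, 5, 2, 5, 2, 5, 2, 5, 2, 5, 2, 4, 3, 4, 3, 4, 3, 4, 3, 4, 3, 4, 3], [2, 5, 2, 5, 2, 5, 2, 5, 2, 5, 2, 5, 3, 4, 3, 4, 3, 4, 3, 4, 3, 4, 3, 4, 3, 2])))) (BT.node 30 (BT.node 29 (BT.leaf (26, [5, 2, 5, 2, 5, 2, 5, 2, 5, 2, 5, 2, 5, 4, 4, 3, 4, 3, 4, 3, 4, 3, 4, 3, 4, 3], [2, 5, 2, 5, 2, 5, 2, 5, 2, 5, 2, 5, 5, 4, 3, 4, 3, 4, 3, 4, 3, 4, 3, 4, 3, 4])) (BT.leaf (11, [2, 0, 3, 0, 2, 0, 3, 0, 1, 1, 1], [0, 0, 0, 1, 2, 1, 3, 1, 2, 1, 3]))) (BT.node 31 (BT.leaf (65, [2, 0, 3, 0, 2, 0, 3, 0, 2, 0, 3, 0, 2, 0, 3, 0, 1, 3, 1, 3, 1, 3, 1,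 3, 1, 3, 1, 3, 1, 3, 1, 3, 1, 3, 1, 3, 1, 3, 1, 3, 1, 3, 1, 3, 2, 2, 2, 2, 2, 2, 2, 2, 2, 2, 2, 2, 2, 2, 2, 0, 0, 0, 0, 0, 0], [1, 1, 1, 1, 1, 1, 3, 3, 3, 3, 3, 3, 3, 3, 3, 3, 3, 3, 3, 3, 3, 2, 0, 2, 0, 2, 0, 2, 0, 2, 0, 2, 0, 2, 0, 2, 0, 2, 0, 2, 0, 2, 0, 2, 0, 2, 0, 2, 0, 1, 2, 1, 3, 1, 2, 1, 3, 1, 2, 1, 3, 1, 2, 1, 3])) (BT.leaf (25, [0, 0, 0, 1, 2, 1, 3, 1, 2, 1, 3, 0, 4, 3, 4, 2, 4, 0, 2, 2, 1, 3, 3, 5, 5], [4, 4, 2, 2, 0, 3, 3, 1, 5, 3, 5, 2, 5, 1, 2, 0, 3, 0, 2, 0, 3, 0, 1, 1, 1])))))))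
/-- subgroup generators -/
def subT : BT (ℕ × List ℕ × List ℕ) := (BT.node 0 (BT.leaf (1, [0], [1])) (BT.leaf (1, [2], [3])))
/-- fact chunks -/
def colET : BT ℕ := (BT.node 531 (BT.node 265 (BT.node 132 (BT.node 66 (BT.node 33 (BT.node 16 (BT.node 8 (BT.node 4 (BT.node 2 (BT.node 1 (BT.node 0 (BT.leaf cE0) (BT.leaf cE1)) (BT.leaf cE2)) (BT.node 3 (BT.leaf cE3) (BT.leaf cE4))) (BT.node 6 (BT.node 5 (BT.leaf cE5) (BT.leaf cE6)) (BT.node 7 (BT.leaf cE7) (BT.leaf cE8)))) (BT.node 12 (BT.node 10 (BT.node 9 (BT.leaf cE9) (BT.leaf cE10)) (BT.node 11 (BT.leaf cE11) (BT.leaf cE12))) (BT.node 14 (BT.node 13 (BT.leaf cE13) (BT.leaf cE14)) (BT.node 15 (BT.leaf cE15) (BT.leaf cE16))))) (BT.node 25 (BT.node 21 (BT.node 19 (BT.node 18 (BT.node 17 (BT.leaf cE17) (BT.leaf cE18)) (BT.leaf cE19)) (BT.node 20 (BT.leaf cE20) (BT.leaf cE21))) (BT.node 23 (BT.node 22 (BT.leaf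 cE22) (BT.leaf cE23)) (BT.node 24 (BT.leaf cE24) (BT.leaf cE25)))) (BT.node 29 (BT.node 27 (BT.node 26 (BT.leaf cE26) (BT.leaf cE27)) (BT.node 28 (BT.leaf cE28) (BT.leaf cE29))) (BT.node 31 (BT.node 30 (BT.leaf cE30) (BT.leaf cE31)) (BT.node 32 (BT.leaf cE32) (BT.leaf cE33)))))) (BT.node 50 (BT.node 42 (BT.node 38 (BT.node 36 (BT.node 35 (BT.node 34 (BT.leaf cE34) (BT.leaf cE35)) (BT.leaf cE36)) (BT.node 37 (BT.leaf cE37) (BT.leaf cE38))) (BT.node 40 (BT.node 39 (BT.leaf cE39) (BT.leaf cE40)) (BT.node 41 (BT.leaf cE41) (BT.leaf cE42)))) (BT.node 46 (BT.node 44 (BT.node 43 (BT.leaf cE43) (BT.leaf cE44)) (BT.node 45 (BT.leaf cE45) (BT.leaf cE46))) (BT.node 48 (BT.node 47 (BT.leaf cE47) (BT.leaf cE48)) (BT.node 49 (BT.leaf cE49) (BT.leaf cE50))))) (BT.node 58 (BT.node 54 (BT.node 52 (BT.node 51 (BT.leaf cE51) (BT.leaf cE52)) (BT.node 53 (BT.leaf cE53) (BT.leaf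 cE54))) (BT.node 56 (BT.node 55 (BT.leaf cE55) (BT.leaf cE56)) (BT.node 57 (BT.leaf cE57) (BT.leaf cE58)))) (BT.node 62 (BT.node 60 (BT.node 59 (BT.leaf cE59) (BT.leaf cE60)) (BT.node 61 (BT.leaf cE61) (BT.leaf cE62))) (BT.node 64 (BT.node 63 (BT.leaf cE63) (BT.leaf cE64)) (BT.node 65 (BT.leaf cE65) (BT.leaf cE66))))))) (BT.node 99 (BT.node 83 (BT.node 75 (BT.node 71 (BT.node 69 (BT.node 68 (BT.node 67 (BT.leaf cE67) (BT.leaf cE68)) (BT.leaf cE69)) (BT.node 70 (BT.leaf cE70) (BT.leaf cE71))) (BT.node 73 (BT.node 72 (BT.leaf cE72) (BT.leaf cE73)) (BT.node 74 (BT.leaf cE74) (BT.leaf cE75)))) (BT.node 79 (BT.node 77 (BT.node 76 (BT.leaf cE76) (BT.leaf cE77)) (BT.node 78 (BT.leaf cE78) (BT.leaf cE79))) (BT.node 81 (BT.node 80 (BT.leaf cE80) (BT.leaf cE81)) (BT.node 82 (BT.leaf cE82) (BT.leaf cE83))))) (BT.node 91 (BT.node 87 (BT.node 85 (BT.node 84 (BT.leaf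 cE84) (BT.leaf cE85)) (BT.node 86 (BT.leaf cE86) (BT.leaf cE87))) (BT.node 89 (BT.node 88 (BT.leaf cE88) (BT.leaf cE89)) (BT.node 90 (BT.leaf cE90) (BT.leaf cE91)))) (BT.node 95 (BT.node 93 (BT.node 92 (BT.leaf cE92) (BT.leaf cE93)) (BT.node 94 (BT.leaf cE94) (BT.leaf cE95))) (BT.node 97 (BT.node 96 (BT.leaf cE96) (BT.leaf cE97)) (BT.node 98 (BT.leaf cE98) (BT.leaf cE99)))))) (BT.node 116 (BT.node 108 (BT.node 104 (BT.node 102 (BT.node 101 (BT.node 100 (BT.leaf cE100) (BT.leaf cE101)) (BT.leaf cE102)) (BT.node 103 (BT.leaf cE103) (BT.leaf cE104))) (BT.node 106 (BT.node 105 (BT.leaf cE105) (BT.leaf cE106)) (BT.node 107 (BT.leaf cE107) (BT.leaf cE108)))) (BT.node 112 (BT.node 110 (BT.node 109 (BT.leaf cE109) (BT.leaf cE110)) (BT.node 111 (BT.leaf cE111) (BT.leaf cE112))) (BT.node 114 (BT.node 113 (BT.leaf cE113) (BT.leaf cE114)) (BT.node 115 (BT.leaf cE115)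 (BT.leaf cE116))))) (BT.node 124 (BT.node 120 (BT.node 118 (BT.node 117 (BT.leaf cE117) (BT.leaf cE118)) (BT.node 119 (BT.leaf cE119) (BT.leaf cE120))) (BT.node 122 (BT.node 121 (BT.leaf cE121) (BT.leaf cE122)) (BT.node 123 (BT.leaf cE123) (BT.leaf cE124)))) (BT.node 128 (BT.node 126 (BT.node 125 (BT.leaf cE125) (BT.leaf cE126)) (BT.node 127 (BT.leaf cE127) (BT.leaf cE128))) (BT.node 130 (BT.node 129 (BT.leaf cE129) (BT.leaf cE130)) (BT.node 131 (BT.leaf cE131) (BT.leaf cE132)))))))) (BT.node 199 (BT.node 166 (BT.node 149 (BT.node 141 (BT.node 137 (BT.node 135 (BT.node 134 (BT.node 133 (BT.leaf cE133) (BT.leaf cE134)) (BT.leaf cE135)) (BT.node 136 (BT.leaf cE136) (BT.leaf cE137))) (BT.node 139 (BT.node 138 (BT.leaf cE138) (BT.leaf cE139)) (BT.node 140 (BT.leaf cE140) (BT.leaf cE141)))) (BT.node 145 (BT.node 143 (BT.node 142 (BT.leaf cE142) (BT.leaf cE143))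 (BT.node 144 (BT.leaf cE144) (BT.leaf cE145))) (BT.node 147 (BT.node 146 (BT.leaf cE146) (BT.leaf cE147)) (BT.node 148 (BT.leaf cE148) (BT.leaf cE149))))) (BT.node 158 (BT.node 154 (BT.node 152 (BT.node 151 (BT.node 150 (BT.leaf cE150) (BT.leaf cE151)) (BT.leaf cE152)) (BT.node 153 (BT.leaf cE153) (BT.leaf cE154))) (BT.node 156 (BT.node 155 (BT.leaf cE155) (BT.leaf cE156)) (BT.node 157 (BT.leaf cE157) (BT.leaf cE158)))) (BT.node 162 (BT.node 160 (BT.node 159 (BT.leaf cE159) (BT.leaf cE160)) (BT.node 161 (BT.leaf cE161) (BT.leaf cE162))) (BT.node 164 (BT.node 163 (BT.leaf cE163) (BT.leaf cE164)) (BT.node 165 (BT.leaf cE165) (BT.leaf cE166)))))) (BT.node 183 (BT.node 175 (BT.node 171 (BT.node 169 (BT.node 168 (BT.node 167 (BT.leaf cE167) (BT.leaf cE168)) (BT.leaf cE169)) (BT.node 170 (BT.leaf cE170) (BT.leaf cE171))) (BT.node 173 (BT.node 172 (BT.leaf cE172)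 (BT.leaf cE173)) (BT.node 174 (BT.leaf cE174) (BT.leaf cE175)))) (BT.node 179 (BT.node 177 (BT.node 176 (BT.leaf cE176) (BT.leaf cE177)) (BT.node 178 (BT.leaf cE178) (BT.leaf cE179))) (BT.node 181 (BT.node 180 (BT.leaf cE180) (BT.leaf cE181)) (BT.node 182 (BT.leaf cE182) (BT.leaf cE183))))) (BT.node 191 (BT.node 187 (BT.node 185 (BT.node 184 (BT.leaf cE184) (BT.leaf cE185)) (BT.node 186 (BT.leaf cE186) (BT.leaf cE187))) (BT.node 189 (BT.node 188 (BT.leaf cE188) (BT.leaf cE189)) (BT.node 190 (BT.leaf cE190) (BT.leaf cE191)))) (BT.node 195 (BT.node 193 (BT.node 192 (BT.leaf cE192) (BT.leaf cE193)) (BT.node 194 (BT.leaf cE194) (BT.leaf cE195))) (BT.node 197 (BT.node 196 (BT.leaf cE196) (BT.leaf cE197)) (BT.node 198 (BT.leaf cE198) (BT.leaf cE199))))))) (BT.node 232 (BT.node 216 (BT.node 208 (BT.node 204 (BT.node 202 (BT.node 201 (BT.node 200 (BT.leaf cE200)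 (BT.leaf cE201)) (BT.leaf cE202)) (BT.node 203 (BT.leaf cE203) (BT.leaf cE204))) (BT.node 206 (BT.node 205 (BT.leaf cE205) (BT.leaf cE206)) (BT.node 207 (BT.leaf cE207) (BT.leaf cE208)))) (BT.node 212 (BT.node 210 (BT.node 209 (BT.leaf cE209) (BT.leaf cE210)) (BT.node 211 (BT.leaf cE211) (BT.leaf cE212))) (BT.node 214 (BT.node 213 (BT.leaf cE213) (BT.leaf cE214)) (BT.node 215 (BT.leaf cE215) (BT.leaf cE216))))) (BT.node 224 (BT.node 220 (BT.node 218 (BT.node 217 (BT.leaf cE217) (BT.leaf cE218)) (BT.node 219 (BT.leaf cE219) (BT.leaf cE220))) (BT.node 222 (BT.node 221 (BT.leaf cE221) (BT.leaf cE222)) (BT.node 223 (BT.leaf cE223) (BT.leaf cE224)))) (BT.node 228 (BT.node 226 (BT.node 225 (BT.leaf cE225) (BT.leaf cE226)) (BT.node 227 (BT.leaf cE227) (BT.leaf cE228))) (BT.node 230 (BT.node 229 (BT.leaf cE229) (BT.leaf cE230)) (BT.node 231 (BT.leaf cE231) (BT.leaf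 cE232)))))) (BT.node 249 (BT.node 241 (BT.node 237 (BT.node 235 (BT.node 234 (BT.node 233 (BT.leaf cE233) (BT.leaf cE234)) (BT.leaf cE235)) (BT.node 236 (BT.leaf cE236) (BT.leaf cE237))) (BT.node 239 (BT.node 238 (BT.leaf cE238) (BT.leaf cE239)) (BT.node 240 (BT.leaf cE240) (BT.leaf cE241)))) (BT.node 245 (BT.node 243 (BT.node 242 (BT.leaf cE242) (BT.leaf cE243)) (BT.node 244 (BT.leaf cE244) (BT.leaf cE245))) (BT.node 247 (BT.node 246 (BT.leaf cE246) (BT.leaf cE247)) (BT.node 248 (BT.leaf cE248) (BT.leaf cE249))))) (BT.node 257 (BT.node 253 (BT.node 251 (BT.node 250 (BT.leaf cE250) (BT.leaf cE251)) (BT.node 252 (BT.leaf cE252) (BT.leaf cE253))) (BT.node 255 (BT.node 254 (BT.leaf cE254) (BT.leaf cE255)) (BT.node 256 (BT.leaf cE256) (BT.leaf cE257)))) (BT.node 261 (BT.node 259 (BT.node 258 (BT.leaf cE258) (BT.leaf cE259)) (BT.node 260 (BT.leaf cE260) (BT.leaf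 cE261))) (BT.node 263 (BT.node 262 (BT.leaf cE262) (BT.leaf cE263)) (BT.node 264 (BT.leaf cE264) (BT.leaf cE265))))))))) (BT.node 398 (BT.node 332 (BT.node 299 (BT.node 282 (BT.node 274 (BT.node 270 (BT.node 268 (BT.node 267 (BT.node 266 (BT.leaf cE266) (BT.leaf cE267)) (BT.leaf cE268)) (BT.node 269 (BT.leaf cE269) (BT.leaf cE270))) (BT.node 272 (BT.node 271 (BT.leaf cE271) (BT.leaf cE272)) (BT.node 273 (BT.leaf cE273) (BT.leaf cE274)))) (BT.node 278 (BT.node 276 (BT.node 275 (BT.leaf cE275) (BT.leaf cE276)) (BT.node 277 (BT.leaf cE277) (BT.leaf cE278))) (BT.node 280 (BT.node 279 (BT.leaf cE279) (BT.leaf cE280)) (BT.node 281 (BT.leaf cE281) (BT.leaf cE282))))) (BT.node 291 (BT.node 287 (BT.node 285 (BT.node 284 (BT.node 283 (BT.leaf cE283) (BT.leaf cE284)) (BT.leaf cE285)) (BT.node 286 (BT.leaf cE286) (BT.leaf cE287))) (BT.node 289 (BT.node 288 (BT.leaf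 cE288) (BT.leaf cE289)) (BT.node 290 (BT.leaf cE290) (BT.leaf cE291)))) (BT.node 295 (BT.node 293 (BT.node 292 (BT.leaf cE292) (BT.leaf cE293)) (BT.node 294 (BT.leaf cE294) (BT.leaf cE295))) (BT.node 297 (BT.node 296 (BT.leaf cE296) (BT.leaf cE297)) (BT.node 298 (BT.leaf cE298) (BT.leaf cE299)))))) (BT.node 316 (BT.node 308 (BT.node 304 (BT.node 302 (BT.node 301 (BT.node 300 (BT.leaf cE300) (BT.leaf cE301)) (BT.leaf cE302)) (BT.node 303 (BT.leaf cE303) (BT.leaf cE304))) (BT.node 306 (BT.node 305 (BT.leaf cE305) (BT.leaf cE306)) (BT.node 307 (BT.leaf cE307) (BT.leaf cE308)))) (BT.node 312 (BT.node 310 (BT.node 309 (BT.leaf cE309) (BT.leaf cE310)) (BT.node 311 (BT.leaf cE311) (BT.leaf cE312))) (BT.node 314 (BT.node 313 (BT.leaf cE313) (BT.leaf cE314)) (BT.node 315 (BT.leaf cE315) (BT.leaf cE316))))) (BT.node 324 (BT.node 320 (BT.node 318 (BT.node 317 (BT.leaf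 cE317) (BT.leaf cE318)) (BT.node 319 (BT.leaf cE319) (BT.leaf cE320))) (BT.node 322 (BT.node 321 (BT.leaf cE321) (BT.leaf cE322)) (BT.node 323 (BT.leaf cE323) (BT.leaf cE324)))) (BT.node 328 (BT.node 326 (BT.node 325 (BT.leaf cE325) (BT.leaf cE326)) (BT.node 327 (BT.leaf cE327) (BT.leaf cE328))) (BT.node 330 (BT.node 329 (BT.leaf cE329) (BT.leaf cE330)) (BT.node 331 (BT.leaf cE331) (BT.leaf cE332))))))) (BT.node 365 (BT.node 349 (BT.node 341 (BT.node 337 (BT.node 335 (BT.node 334 (BT.node 333 (BT.leaf cE333) (BT.leaf cE334)) (BT.leaf cE335)) (BT.node 336 (BT.leaf cE336) (BT.leaf cE337))) (BT.node 339 (BT.node 338 (BT.leaf cE338) (BT.leaf cE339)) (BT.node 340 (BT.leaf cE340) (BT.leaf cE341)))) (BT.node 345 (BT.node 343 (BT.node 342 (BT.leaf cE342) (BT.leaf cE343)) (BT.node 344 (BT.leaf cE344) (BT.leaf cE345))) (BT.node 347 (BT.node 346 (BT.leaf cE346)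 (BT.leaf cE347)) (BT.node 348 (BT.leaf cE348) (BT.leaf cE349))))) (BT.node 357 (BT.node 353 (BT.node 351 (BT.node 350 (BT.leaf cE350) (BT.leaf cE351)) (BT.node 352 (BT.leaf cE352) (BT.leaf cE353))) (BT.node 355 (BT.node 354 (BT.leaf cE354) (BT.leaf cE355)) (BT.node 356 (BT.leaf cE356) (BT.leaf cE357)))) (BT.node 361 (BT.node 359 (BT.node 358 (BT.leaf cE358) (BT.leaf cE359)) (BT.node 360 (BT.leaf cE360) (BT.leaf cE361))) (BT.node 363 (BT.node 362 (BT.leaf cE362) (BT.leaf cE363)) (BT.node 364 (BT.leaf cE364) (BT.leaf cE365)))))) (BT.node 382 (BT.node 374 (BT.node 370 (BT.node 368 (BT.node 367 (BT.node 366 (BT.leaf cE366) (BT.leaf cE367)) (BT.leaf cE368)) (BT.node 369 (BT.leaf cE369) (BT.leaf cE370))) (BT.node 372 (BT.node 371 (BT.leaf cE371) (BT.leaf cE372)) (BT.node 373 (BT.leaf cE373) (BT.leaf cE374)))) (BT.node 378 (BT.node 376 (BT.node 375 (BT.leaf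 cE375) (BT.leaf cE376)) (BT.node 377 (BT.leaf cE377) (BT.leaf cE378))) (BT.node 380 (BT.node 379 (BT.leaf cE379) (BT.leaf cE380)) (BT.node 381 (BT.leaf cE381) (BT.leaf cE382))))) (BT.node 390 (BT.node 386 (BT.node 384 (BT.node 383 (BT.leaf cE383) (BT.leaf cE384)) (BT.node 385 (BT.leaf cE385) (BT.leaf cE386))) (BT.node 388 (BT.node 387 (BT.leaf cE387) (BT.leaf cE388)) (BT.node 389 (BT.leaf cE389) (BT.leaf cE390)))) (BT.node 394 (BT.node 392 (BT.node 391 (BT.leaf cE391) (BT.leaf cE392)) (BT.node 393 (BT.leaf cE393) (BT.leaf cE394))) (BT.node 396 (BT.node 395 (BT.leaf cE395) (BT.leaf cE396)) (BT.node 397 (BT.leaf cE397) (BT.leaf cE398)))))))) (BT.node 465 (BT.node 432 (BT.node 415 (BT.node 407 (BT.node 403 (BT.node 401 (BT.node 400 (BT.node 399 (BT.leaf cE399) (BT.leaf cE400)) (BT.leaf cE401)) (BT.node 402 (BT.leaf cE402) (BT.leaf cE403))) (BT.node 405 (BT.node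 404 (BT.leaf cE404) (BT.leaf cE405)) (BT.node 406 (BT.leaf cE406) (BT.leaf cE407)))) (BT.node 411 (BT.node 409 (BT.node 408 (BT.leaf cE408) (BT.leaf cE409)) (BT.node 410 (BT.leaf cE410) (BT.leaf cE411))) (BT.node 413 (BT.node 412 (BT.leaf cE412) (BT.leaf cE413)) (BT.node 414 (BT.leaf cE414) (BT.leaf cE415))))) (BT.node 424 (BT.node 420 (BT.node 418 (BT.node 417 (BT.node 416 (BT.leaf cE416) (BT.leaf cE417)) (BT.leaf cE418)) (BT.node 419 (BT.leaf cE419) (BT.leaf cE420))) (BT.node 422 (BT.node 421 (BT.leaf cE421) (BT.leaf cE422)) (BT.node 423 (BT.leaf cE423) (BT.leaf cE424)))) (BT.node 428 (BT.node 426 (BT.node 425 (BT.leaf cE425) (BT.leaf cE426)) (BT.node 427 (BT.leaf cE427) (BT.leaf cE428))) (BT.node 430 (BT.node 429 (BT.leaf cE429) (BT.leaf cE430)) (BT.node 431 (BT.leaf cE431) (BT.leaf cE432)))))) (BT.node 449 (BT.node 441 (BT.node 437 (BT.node 435 (BT.node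 434 (BT.node 433 (BT.leaf cE433) (BT.leaf cE434)) (BT.leaf cE435)) (BT.node 436 (BT.leaf cE436) (BT.leaf cE437))) (BT.node 439 (BT.node 438 (BT.leaf cE438) (BT.leaf cE439)) (BT.node 440 (BT.leaf cE440) (BT.leaf cE441)))) (BT.node 445 (BT.node 443 (BT.node 442 (BT.leaf cE442) (BT.leaf cE443)) (BT.node 444 (BT.leaf cE444) (BT.leaf cE445))) (BT.node 447 (BT.node 446 (BT.leaf cE446) (BT.leaf cE447)) (BT.node 448 (BT.leaf cE448) (BT.leaf cE449))))) (BT.node 457 (BT.node 453 (BT.node 451 (BT.node 450 (BT.leaf cE450) (BT.leaf cE451)) (BT.node 452 (BT.leaf cE452) (BT.leaf cE453))) (BT.node 455 (BT.node 454 (BT.leaf cE454) (BT.leaf cE455)) (BT.node 456 (BT.leaf cE456) (BT.leaf cE457)))) (BT.node 461 (BT.node 459 (BT.node 458 (BT.leaf cE458) (BT.leaf cE459)) (BT.node 460 (BT.leaf cE460) (BT.leaf cE461))) (BT.node 463 (BT.node 462 (BT.leaf cE462) (BT.leaf cE463))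 (BT.node 464 (BT.leaf cE464) (BT.leaf cE465))))))) (BT.node 498 (BT.node 482 (BT.node 474 (BT.node 470 (BT.node 468 (BT.node 467 (BT.node 466 (BT.leaf cE466) (BT.leaf cE467)) (BT.leaf cE468)) (BT.node 469 (BT.leaf cE469) (BT.leaf cE470))) (BT.node 472 (BT.node 471 (BT.leaf cE471) (BT.leaf cE472)) (BT.node 473 (BT.leaf cE473) (BT.leaf cE474)))) (BT.node 478 (BT.node 476 (BT.node 475 (BT.leaf cE475) (BT.leaf cE476)) (BT.node 477 (BT.leaf cE477) (BT.leaf cE478))) (BT.node 480 (BT.node 479 (BT.leaf cE479) (BT.leaf cE480)) (BT.node 481 (BT.leaf cE481) (BT.leaf cE482))))) (BT.node 490 (BT.node 486 (BT.node 484 (BT.node 483 (BT.leaf cE483) (BT.leaf cE484)) (BT.node 485 (BT.leaf cE485) (BT.leaf cE486))) (BT.node 488 (BT.node 487 (BT.leaf cE487) (BT.leaf cE488)) (BT.node 489 (BT.leaf cE489) (BT.leaf cE490)))) (BT.node 494 (BT.node 492 (BT.node 491 (BT.leaf cE491)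 (BT.leaf cE492)) (BT.node 493 (BT.leaf cE493) (BT.leaf cE494))) (BT.node 496 (BT.node 495 (BT.leaf cE495) (BT.leaf cE496)) (BT.node 497 (BT.leaf cE497) (BT.leaf cE498)))))) (BT.node 515 (BT.node 507 (BT.node 503 (BT.node 501 (BT.node 500 (BT.node 499 (BT.leaf cE499) (BT.leaf cE500)) (BT.leaf cE501)) (BT.node 502 (BT.leaf cE502) (BT.leaf cE503))) (BT.node 505 (BT.node 504 (BT.leaf cE504) (BT.leaf cE505)) (BT.node 506 (BT.leaf cE506) (BT.leaf cE507)))) (BT.node 511 (BT.node 509 (BT.node 508 (BT.leaf cE508) (BT.leaf cE509)) (BT.node 510 (BT.leaf cE510) (BT.leaf cE511))) (BT.node 513 (BT.node 512 (BT.leaf cE512) (BT.leaf cE513)) (BT.node 514 (BT.leaf cE514) (BT.leaf cE515))))) (BT.node 523 (BT.node 519 (BT.node 517 (BT.node 516 (BT.leaf cE516) (BT.leaf cE517)) (BT.node 518 (BT.leaf cE518) (BT.leaf cE519))) (BT.node 521 (BT.node 520 (BT.leaf cE520) (BT.leaf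 cE521)) (BT.node 522 (BT.leaf cE522) (BT.leaf cE523)))) (BT.node 527 (BT.node 525 (BT.node 524 (BT.leaf cE524) (BT.leaf cE525)) (BT.node 526 (BT.leaf cE526) (BT.leaf cE527))) (BT.node 529 (BT.node 528 (BT.leaf cE528) (BT.leaf cE529)) (BT.node 530 (BT.leaf cE530) (BT.leaf cE531)))))))))) (BT.node 797 (BT.node 664 (BT.node 598 (BT.node 565 (BT.node 548 (BT.node 540 (BT.node 536 (BT.node 534 (BT.node 533 (BT.node 532 (BT.leaf cE532) (BT.leaf cE533)) (BT.leaf cE534)) (BT.node 535 (BT.leaf cE535) (BT.leaf cE536))) (BT.node 538 (BT.node 537 (BT.leaf cE537) (BT.leaf cE538)) (BT.node 539 (BT.leaf cE539) (BT.leaf cE540)))) (BT.node 544 (BT.node 542 (BT.node 541 (BT.leaf cE541) (BT.leaf cE542)) (BT.node 543 (BT.leaf cE543) (BT.leaf cE544))) (BT.node 546 (BT.node 545 (BT.leaf cE545) (BT.leaf cE546)) (BT.node 547 (BT.leaf cE547) (BT.leaf cE548))))) (BT.node 557 (BT.node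 553 (BT.node 551 (BT.node 550 (BT.node 549 (BT.leaf cE549) (BT.leaf cE550)) (BT.leaf cE551)) (BT.node 552 (BT.leaf cE552) (BT.leaf cE553))) (BT.node 555 (BT.node 554 (BT.leaf cE554) (BT.leaf cE555)) (BT.node 556 (BT.leaf cE556) (BT.leaf cE557)))) (BT.node 561 (BT.node 559 (BT.node 558 (BT.leaf cE558) (BT.leaf cE559)) (BT.node 560 (BT.leaf cE560) (BT.leaf cE561))) (BT.node 563 (BT.node 562 (BT.leaf cE562) (BT.leaf cE563)) (BT.node 564 (BT.leaf cE564) (BT.leaf cE565)))))) (BT.node 582 (BT.node 574 (BT.node 570 (BT.node 568 (BT.node 567 (BT.node 566 (BT.leaf cE566) (BT.leaf cE567)) (BT.leaf cE568)) (BT.node 569 (BT.leaf cE569) (BT.leaf cE570))) (BT.node 572 (BT.node 571 (BT.leaf cE571) (BT.leaf cE572)) (BT.node 573 (BT.leaf cE573) (BT.leaf cE574)))) (BT.node 578 (BT.node 576 (BT.node 575 (BT.leaf cE575) (BT.leaf cE576)) (BT.node 577 (BT.leaf cE577) (BT.leaf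 cE578))) (BT.node 580 (BT.node 579 (BT.leaf cE579) (BT.leaf cE580)) (BT.node 581 (BT.leaf cE581) (BT.leaf cE582))))) (BT.node 590 (BT.node 586 (BT.node 584 (BT.node 583 (BT.leaf cE583) (BT.leaf cE584)) (BT.node 585 (BT.leaf cE585) (BT.leaf cE586))) (BT.node 588 (BT.node 587 (BT.leaf cE587) (BT.leaf cE588)) (BT.node 589 (BT.leaf cE589) (BT.leaf cE590)))) (BT.node 594 (BT.node 592 (BT.node 591 (BT.leaf cE591) (BT.leaf cE592)) (BT.node 593 (BT.leaf cE593) (BT.leaf cE594))) (BT.node 596 (BT.node 595 (BT.leaf cE595) (BT.leaf cE596)) (BT.node 597 (BT.leaf cE597) (BT.leaf cE598))))))) (BT.node 631 (BT.node 615 (BT.node 607 (BT.node 603 (BT.node 601 (BT.node 600 (BT.node 599 (BT.leaf cE599) (BT.leaf cE600)) (BT.leaf cE601)) (BT.node 602 (BT.leaf cE602) (BT.leaf cE603))) (BT.node 605 (BT.node 604 (BT.leaf cE604) (BT.leaf cE605)) (BT.node 606 (BT.leaf cE606) (BT.leaf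 cE607)))) (BT.node 611 (BT.node 609 (BT.node 608 (BT.leaf cE608) (BT.leaf cE609)) (BT.node 610 (BT.leaf cE610) (BT.leaf cE611))) (BT.node 613 (BT.node 612 (BT.leaf cE612) (BT.leaf cE613)) (BT.node 614 (BT.leaf cE614) (BT.leaf cE615))))) (BT.node 623 (BT.node 619 (BT.node 617 (BT.node 616 (BT.leaf cE616) (BT.leaf cE617)) (BT.node 618 (BT.leaf cE618) (BT.leaf cE619))) (BT.node 621 (BT.node 620 (BT.leaf cE620) (BT.leaf cE621)) (BT.node 622 (BT.leaf cE622) (BT.leaf cE623)))) (BT.node 627 (BT.node 625 (BT.node 624 (BT.leaf cE624) (BT.leaf cE625)) (BT.node 626 (BT.leaf cE626) (BT.leaf cE627))) (BT.node 629 (BT.node 628 (BT.leaf cE628) (BT.leaf cE629)) (BT.node 630 (BT.leaf cE630) (BT.leaf cE631)))))) (BT.node 648 (BT.node 640 (BT.node 636 (BT.node 634 (BT.node 633 (BT.node 632 (BT.leaf cE632) (BT.leaf cE633)) (BT.leaf cE634)) (BT.node 635 (BT.leaf cE635) (BT.leaf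 cE636))) (BT.node 638 (BT.node 637 (BT.leaf cE637) (BT.leaf cE638)) (BT.node 639 (BT.leaf cE639) (BT.leaf cE640)))) (BT.node 644 (BT.node 642 (BT.node 641 (BT.leaf cE641) (BT.leaf cE642)) (BT.node 643 (BT.leaf cE643) (BT.leaf cE644))) (BT.node 646 (BT.node 645 (BT.leaf cE645) (BT.leaf cE646)) (BT.node 647 (BT.leaf cE647) (BT.leaf cE648))))) (BT.node 656 (BT.node 652 (BT.node 650 (BT.node 649 (BT.leaf cE649) (BT.leaf cE650)) (BT.node 651 (BT.leaf cE651) (BT.leaf cE652))) (BT.node 654 (BT.node 653 (BT.leaf cE653) (BT.leaf cE654)) (BT.node 655 (BT.leaf cE655) (BT.leaf cE656)))) (BT.node 660 (BT.node 658 (BT.node 657 (BT.leaf cE657) (BT.leaf cE658)) (BT.node 659 (BT.leaf cE659) (BT.leaf cE660))) (BT.node 662 (BT.node 661 (BT.leaf cE661) (BT.leaf cE662)) (BT.node 663 (BT.leaf cE663) (BT.leaf cE664)))))))) (BT.node 731 (BT.node 698 (BT.node 681 (BT.node 673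 (BT.node 669 (BT.node 667 (BT.node 666 (BT.node 665 (BT.leaf cE665) (BT.leaf cE666)) (BT.leaf cE667)) (BT.node 668 (BT.leaf cE668) (BT.leaf cE669))) (BT.node 671 (BT.node 670 (BT.leaf cE670) (BT.leaf cE671)) (BT.node 672 (BT.leaf cE672) (BT.leaf cE673)))) (BT.node 677 (BT.node 675 (BT.node 674 (BT.leaf cE674) (BT.leaf cE675)) (BT.node 676 (BT.leaf cE676) (BT.leaf cE677))) (BT.node 679 (BT.node 678 (BT.leaf cE678) (BT.leaf cE679)) (BT.node 680 (BT.leaf cE680) (BT.leaf cE681))))) (BT.node 690 (BT.node 686 (BT.node 684 (BT.node 683 (BT.node 682 (BT.leaf cE682) (BT.leaf cE683)) (BT.leaf cE684)) (BT.node 685 (BT.leaf cE685) (BT.leaf cE686))) (BT.node 688 (BT.node 687 (BT.leaf cE687) (BT.leaf cE688)) (BT.node 689 (BT.leaf cE689) (BT.leaf cE690)))) (BT.node 694 (BT.node 692 (BT.node 691 (BT.leaf cE691) (BT.leaf cE692)) (BT.node 693 (BT.leaf cE693) (BT.leaf cE694)))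 (BT.node 696 (BT.node 695 (BT.leaf cE695) (BT.leaf cE696)) (BT.node 697 (BT.leaf cE697) (BT.leaf cE698)))))) (BT.node 715 (BT.node 707 (BT.node 703 (BT.node 701 (BT.node 700 (BT.node 699 (BT.leaf cE699) (BT.leaf cE700)) (BT.leaf cE701)) (BT.node 702 (BT.leaf cE702) (BT.leaf cE703))) (BT.node 705 (BT.node 704 (BT.leaf cE704) (BT.leaf cE705)) (BT.node 706 (BT.leaf cE706) (BT.leaf cE707)))) (BT.node 711 (BT.node 709 (BT.node 708 (BT.leaf cE708) (BT.leaf cE709)) (BT.node 710 (BT.leaf cE710) (BT.leaf cE711))) (BT.node 713 (BT.node 712 (BT.leaf cE712) (BT.leaf cE713)) (BT.node 714 (BT.leaf cE714) (BT.leaf cE715))))) (BT.node 723 (BT.node 719 (BT.node 717 (BT.node 716 (BT.leaf cE716) (BT.leaf cE717)) (BT.node 718 (BT.leaf cE718) (BT.leaf cE719))) (BT.node 721 (BT.node 720 (BT.leaf cE720) (BT.leaf cE721)) (BT.node 722 (BT.leaf cE722) (BT.leaf cE723)))) (BT.node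 727 (BT.node 725 (BT.node 724 (BT.leaf cE724) (BT.leaf cE725)) (BT.node 726 (BT.leaf cE726) (BT.leaf cE727))) (BT.node 729 (BT.node 728 (BT.leaf cE728) (BT.leaf cE729)) (BT.node 730 (BT.leaf cE730) (BT.leaf cE731))))))) (BT.node 764 (BT.node 748 (BT.node 740 (BT.node 736 (BT.node 734 (BT.node 733 (BT.node 732 (BT.leaf cE732) (BT.leaf cE733)) (BT.leaf cE734)) (BT.node 735 (BT.leaf cE735) (BT.leaf cE736))) (BT.node 738 (BT.node 737 (BT.leaf cE737) (BT.leaf cE738)) (BT.node 739 (BT.leaf cE739) (BT.leaf cE740)))) (BT.node 744 (BT.node 742 (BT.node 741 (BT.leaf cE741) (BT.leaf cE742)) (BT.node 743 (BT.leaf cE743) (BT.leaf cE744))) (BT.node 746 (BT.node 745 (BT.leaf cE745) (BT.leaf cE746)) (BT.node 747 (BT.leaf cE747) (BT.leaf cE748))))) (BT.node 756 (BT.node 752 (BT.node 750 (BT.node 749 (BT.leaf cE749) (BT.leaf cE750)) (BT.node 751 (BT.leaf cE751) (BT.leaf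 cE752))) (BT.node 754 (BT.node 753 (BT.leaf cE753) (BT.leaf cE754)) (BT.node 755 (BT.leaf cE755) (BT.leaf cE756)))) (BT.node 760 (BT.node 758 (BT.node 757 (BT.leaf cE757) (BT.leaf cE758)) (BT.node 759 (BT.leaf cE759) (BT.leaf cE760))) (BT.node 762 (BT.node 761 (BT.leaf cE761) (BT.leaf cE762)) (BT.node 763 (BT.leaf cE763) (BT.leaf cE764)))))) (BT.node 781 (BT.node 773 (BT.node 769 (BT.node 767 (BT.node 766 (BT.node 765 (BT.leaf cE765) (BT.leaf cE766)) (BT.leaf cE767)) (BT.node 768 (BT.leaf cE768) (BT.leaf cE769))) (BT.node 771 (BT.node 770 (BT.leaf cE770) (BT.leaf cE771)) (BT.node 772 (BT.leaf cE772) (BT.leaf cE773)))) (BT.node 777 (BT.node 775 (BT.node 774 (BT.leaf cE774) (BT.leaf cE775)) (BT.node 776 (BT.leaf cE776) (BT.leaf cE777))) (BT.node 779 (BT.node 778 (BT.leaf cE778) (BT.leaf cE779)) (BT.node 780 (BT.leaf cE780) (BT.leaf cE781))))) (BT.node 789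 (BT.node 785 (BT.node 783 (BT.node 782 (BT.leaf cE782) (BT.leaf cE783)) (BT.node 784 (BT.leaf cE784) (BT.leaf cE785))) (BT.node 787 (BT.node 786 (BT.leaf cE786) (BT.leaf cE787)) (BT.node 788 (BT.leaf cE788) (BT.leaf cE789)))) (BT.node 793 (BT.node 791 (BT.node 790 (BT.leaf cE790) (BT.leaf cE791)) (BT.node 792 (BT.leaf cE792) (BT.leaf cE793))) (BT.node 795 (BT.node 794 (BT.leaf cE794) (BT.leaf cE795)) (BT.node 796 (BT.leaf cE796) (BT.leaf cE797))))))))) (BT.node 930 (BT.node 864 (BT.node 831 (BT.node 814 (BT.node 806 (BT.node 802 (BT.node 800 (BT.node 799 (BT.node 798 (BT.leaf cE798) (BT.leaf cE799)) (BT.leaf cE800)) (BT.node 801 (BT.leaf cE801) (BT.leaf cE802))) (BT.node 804 (BT.node 803 (BT.leaf cE803) (BT.leaf cE804)) (BT.node 805 (BT.leaf cE805) (BT.leaf cE806)))) (BT.node 810 (BT.node 808 (BT.node 807 (BT.leaf cE807) (BT.leaf cE808)) (BT.node 809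 (BT.leaf cE809) (BT.leaf cE810))) (BT.node 812 (BT.node 811 (BT.leaf cE811) (BT.leaf cE812)) (BT.node 813 (BT.leaf cE813) (BT.leaf cE814))))) (BT.node 823 (BT.node 819 (BT.node 817 (BT.node 816 (BT.node 815 (BT.leaf cE815) (BT.leaf cE816)) (BT.leaf cE817)) (BT.node 818 (BT.leaf cE818) (BT.leaf cE819))) (BT.node 821 (BT.node 820 (BT.leaf cE820) (BT.leaf cE821)) (BT.node 822 (BT.leaf cE822) (BT.leaf cE823)))) (BT.node 827 (BT.node 825 (BT.node 824 (BT.leaf cE824) (BT.leaf cE825)) (BT.node 826 (BT.leaf cE826) (BT.leaf cE827))) (BT.node 829 (BT.node 828 (BT.leaf cE828) (BT.leaf cE829)) (BT.node 830 (BT.leaf cE830) (BT.leaf cE831)))))) (BT.node 848 (BT.node 840 (BT.node 836 (BT.node 834 (BT.node 833 (BT.node 832 (BT.leaf cE832) (BT.leaf cE833)) (BT.leaf cE834)) (BT.node 835 (BT.leaf cE835) (BT.leaf cE836))) (BT.node 838 (BT.node 837 (BT.leaf cE837) (BT.leaf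 cE838)) (BT.node 839 (BT.leaf cE839) (BT.leaf cE840)))) (BT.node 844 (BT.node 842 (BT.node 841 (BT.leaf cE841) (BT.leaf cE842)) (BT.node 843 (BT.leaf cE843) (BT.leaf cE844))) (BT.node 846 (BT.node 845 (BT.leaf cE845) (BT.leaf cE846)) (BT.node 847 (BT.leaf cE847) (BT.leaf cE848))))) (BT.node 856 (BT.node 852 (BT.node 850 (BT.node 849 (BT.leaf cE849) (BT.leaf cE850)) (BT.node 851 (BT.leaf cE851) (BT.leaf cE852))) (BT.node 854 (BT.node 853 (BT.leaf cE853) (BT.leaf cE854)) (BT.node 855 (BT.leaf cE855) (BT.leaf cE856)))) (BT.node 860 (BT.node 858 (BT.node 857 (BT.leaf cE857) (BT.leaf cE858)) (BT.node 859 (BT.leaf cE859) (BT.leaf cE860))) (BT.node 862 (BT.node 861 (BT.leaf cE861) (BT.leaf cE862)) (BT.node 863 (BT.leaf cE863) (BT.leaf cE864))))))) (BT.node 897 (BT.node 881 (BT.node 873 (BT.node 869 (BT.node 867 (BT.node 866 (BT.node 865 (BT.leaf cE865) (BT.leaf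 cE866)) (BT.leaf cE867)) (BT.node 868 (BT.leaf cE868) (BT.leaf cE869))) (BT.node 871 (BT.node 870 (BT.leaf cE870) (BT.leaf cE871)) (BT.node 872 (BT.leaf cE872) (BT.leaf cE873)))) (BT.node 877 (BT.node 875 (BT.node 874 (BT.leaf cE874) (BT.leaf cE875)) (BT.node 876 (BT.leaf cE876) (BT.leaf cE877))) (BT.node 879 (BT.node 878 (BT.leaf cE878) (BT.leaf cE879)) (BT.node 880 (BT.leaf cE880) (BT.leaf cE881))))) (BT.node 889 (BT.node 885 (BT.node 883 (BT.node 882 (BT.leaf cE882) (BT.leaf cE883)) (BT.node 884 (BT.leaf cE884) (BT.leaf cE885))) (BT.node 887 (BT.node 886 (BT.leaf cE886) (BT.leaf cE887)) (BT.node 888 (BT.leaf cE888) (BT.leaf cE889)))) (BT.node 893 (BT.node 891 (BT.node 890 (BT.leaf cE890) (BT.leaf cE891)) (BT.node 892 (BT.leaf cE892) (BT.leaf cE893))) (BT.node 895 (BT.node 894 (BT.leaf cE894) (BT.leaf cE895)) (BT.node 896 (BT.leaf cE896) (BT.leaf cE897))))))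 (BT.node 914 (BT.node 906 (BT.node 902 (BT.node 900 (BT.node 899 (BT.node 898 (BT.leaf cE898) (BT.leaf cE899)) (BT.leaf cE900)) (BT.node 901 (BT.leaf cE901) (BT.leaf cE902))) (BT.node 904 (BT.node 903 (BT.leaf cE903) (BT.leaf cE904)) (BT.node 905 (BT.leaf cE905) (BT.leaf cE906)))) (BT.node 910 (BT.node 908 (BT.node 907 (BT.leaf cE907) (BT.leaf cE908)) (BT.node 909 (BT.leaf cE909) (BT.leaf cE910))) (BT.node 912 (BT.node 911 (BT.leaf cE911) (BT.leaf cE912)) (BT.node 913 (BT.leaf cE913) (BT.leaf cE914))))) (BT.node 922 (BT.node 918 (BT.node 916 (BT.node 915 (BT.leaf cE915) (BT.leaf cE916)) (BT.node 917 (BT.leaf cE917) (BT.leaf cE918))) (BT.node 920 (BT.node 919 (BT.leaf cE919) (BT.leaf cE920)) (BT.node 921 (BT.leaf cE921) (BT.leaf cE922)))) (BT.node 926 (BT.node 924 (BT.node 923 (BT.leaf cE923) (BT.leaf cE924)) (BT.node 925 (BT.leaf cE925) (BT.leaf cE926)))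 (BT.node 928 (BT.node 927 (BT.leaf cE927) (BT.leaf cE928)) (BT.node 929 (BT.leaf cE929) (BT.leaf cE930)))))))) (BT.node 997 (BT.node 964 (BT.node 947 (BT.node 939 (BT.node 935 (BT.node 933 (BT.node 932 (BT.node 931 (BT.leaf cE931) (BT.leaf cE932)) (BT.leaf cE933)) (BT.node 934 (BT.leaf cE934) (BT.leaf cE935))) (BT.node 937 (BT.node 936 (BT.leaf cE936) (BT.leaf cE937)) (BT.node 938 (BT.leaf cE938) (BT.leaf cE939)))) (BT.node 943 (BT.node 941 (BT.node 940 (BT.leaf cE940) (BT.leaf cE941)) (BT.node 942 (BT.leaf cE942) (BT.leaf cE943))) (BT.node 945 (BT.node 944 (BT.leaf cE944) (BT.leaf cE945)) (BT.node 946 (BT.leaf cE946) (BT.leaf cE947))))) (BT.node 956 (BT.node 952 (BT.node 950 (BT.node 949 (BT.node 948 (BT.leaf cE948) (BT.leaf cE949)) (BT.leaf cE950)) (BT.node 951 (BT.leaf cE951) (BT.leaf cE952))) (BT.node 954 (BT.node 953 (BT.leaf cE953) (BT.leaf cE954))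 (BT.node 955 (BT.leaf cE955) (BT.leaf cE956)))) (BT.node 960 (BT.node 958 (BT.node 957 (BT.leaf cE957) (BT.leaf cE958)) (BT.node 959 (BT.leaf cE959) (BT.leaf cE960))) (BT.node 962 (BT.node 961 (BT.leaf cE961) (BT.leaf cE962)) (BT.node 963 (BT.leaf cE963) (BT.leaf cE964)))))) (BT.node 981 (BT.node 973 (BT.node 969 (BT.node 967 (BT.node 966 (BT.node 965 (BT.leaf cE965) (BT.leaf cE966)) (BT.leaf cE967)) (BT.node 968 (BT.leaf cE968) (BT.leaf cE969))) (BT.node 971 (BT.node 970 (BT.leaf cE970) (BT.leaf cE971)) (BT.node 972 (BT.leaf cE972) (BT.leaf cE973)))) (BT.node 977 (BT.node 975 (BT.node 974 (BT.leaf cE974) (BT.leaf cE975)) (BT.node 976 (BT.leaf cE976) (BT.leaf cE977))) (BT.node 979 (BT.node 978 (BT.leaf cE978) (BT.leaf cE979)) (BT.node 980 (BT.leaf cE980) (BT.leaf cE981))))) (BT.node 989 (BT.node 985 (BT.node 983 (BT.node 982 (BT.leaf cE982) (BT.leaf cE983))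 (BT.node 984 (BT.leaf cE984) (BT.leaf cE985))) (BT.node 987 (BT.node 986 (BT.leaf cE986) (BT.leaf cE987)) (BT.node 988 (BT.leaf cE988) (BT.leaf cE989)))) (BT.node 993 (BT.node 991 (BT.node 990 (BT.leaf cE990) (BT.leaf cE991)) (BT.node 992 (BT.leaf cE992) (BT.leaf cE993))) (BT.node 995 (BT.node 994 (BT.leaf cE994) (BT.leaf cE995)) (BT.node 996 (BT.leaf cE996) (BT.leaf cE997))))))) (BT.node 1030 (BT.node 1014 (BT.node 1006 (BT.node 1002 (BT.node 1000 (BT.node 999 (BT.node 998 (BT.leaf cE998) (BT.leaf cE999)) (BT.leaf cE1000)) (BT.node 1001 (BT.leaf cE1001) (BT.leaf cE1002))) (BT.node 1004 (BT.node 1003 (BT.leaf cE1003) (BT.leaf cE1004)) (BT.node 1005 (BT.leaf cE1005) (BT.leaf cE1006)))) (BT.node 1010 (BT.node 1008 (BT.node 1007 (BT.leaf cE1007) (BT.leaf cE1008)) (BT.node 1009 (BT.leaf cE1009) (BT.leaf cE1010))) (BT.node 1012 (BT.node 1011 (BT.leaf cE1011)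 (BT.leaf cE1012)) (BT.node 1013 (BT.leaf cE1013) (BT.leaf cE1014))))) (BT.node 1022 (BT.node 1018 (BT.node 1016 (BT.node 1015 (BT.leaf cE1015) (BT.leaf cE1016)) (BT.node 1017 (BT.leaf cE1017) (BT.leaf cE1018))) (BT.node 1020 (BT.node 1019 (BT.leaf cE1019) (BT.leaf cE1020)) (BT.node 1021 (BT.leaf cE1021) (BT.leaf cE1022)))) (BT.node 1026 (BT.node 1024 (BT.node 1023 (BT.leaf cE1023) (BT.leaf cE1024)) (BT.node 1025 (BT.leaf cE1025) (BT.leaf cE1026))) (BT.node 1028 (BT.node 1027 (BT.leaf cE1027) (BT.leaf cE1028)) (BT.node 1029 (BT.leaf cE1029) (BT.leaf cE1030)))))) (BT.node 1047 (BT.node 1039 (BT.node 1035 (BT.node 1033 (BT.node 1032 (BT.node 1031 (BT.leaf cE1031) (BT.leaf cE1032)) (BT.leaf cE1033)) (BT.node 1034 (BT.leaf cE1034) (BT.leaf cE1035))) (BT.node 1037 (BT.node 1036 (BT.leaf cE1036) (BT.leaf cE1037)) (BT.node 1038 (BT.leaf cE1038) (BT.leaf cE1039))))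 (BT.node 1043 (BT.node 1041 (BT.node 1040 (BT.leaf cE1040) (BT.leaf cE1041)) (BT.node 1042 (BT.leaf cE1042) (BT.leaf cE1043))) (BT.node 1045 (BT.node 1044 (BT.leaf cE1044) (BT.leaf cE1045)) (BT.node 1046 (BT.leaf cE1046) (BT.leaf cE1047))))) (BT.node 1055 (BT.node 1051 (BT.node 1049 (BT.node 1048 (BT.leaf cE1048) (BT.leaf cE1049)) (BT.node 1050 (BT.leaf cE1050) (BT.leaf cE1051))) (BT.node 1053 (BT.node 1052 (BT.leaf cE1052) (BT.leaf cE1053)) (BT.node 1054 (BT.leaf cE1054) (BT.leaf cE1055)))) (BT.node 1059 (BT.node 1057 (BT.node 1056 (BT.leaf cE1056) (BT.leaf cE1057)) (BT.node 1058 (BT.leaf cE1058) (BT.leaf cE1059))) (BT.node 1061 (BT.node 1060 (BT.leaf cE1060) (BT.leaf cE1061)) (BT.node 1062 (BT.leaf cE1062) (BT.leaf cE1063)))))))))))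
/-- justification chunks -/
def colJT : BT ℕ := (BT.node 531 (BT.node 265 (BT.node 132 (BT.node 66 (BT.node 33 (BT.node 16 (BT.node 8 (BT.node 4 (BT.node 2 (BT.node 1 (BT.node 0 (BT.leaf cJ0) (BT.leaf cJ1)) (BT.leaf cJ2)) (BT.node 3 (BT.leaf cJ3) (BT.leaf cJ4))) (BT.node 6 (BT.node 5 (BT.leaf cJ5) (BT.leaf cJ6)) (BT.node 7 (BT.leaf cJ7) (BT.leaf cJ8)))) (BT.node 12 (BT.node 10 (BT.node 9 (BT.leaf cJ9) (BT.leaf cJ10)) (BT.node 11 (BT.leaf cJ11) (BT.leaf cJ12))) (BT.node 14 (BT.node 13 (BT.leaf cJ13) (BT.leaf cJ14)) (BT.node 15 (BT.leaf cJ15) (BT.leaf cJ16))))) (BT.node 25 (BT.node 21 (BT.node 19 (BT.node 18 (BT.node 17 (BT.leaf cJ17) (BT.leaf cJ18)) (BT.leaf cJ19)) (BT.node 20 (BT.leaf cJ20) (BT.leaf cJ21))) (BT.node 23 (BT.node 22 (BT.leaf cJ22) (BT.leaf cJ23)) (BT.node 24 (BT.leaf cJ24) (BT.leaf cJ25)))) (BT.node 29 (BT.node 27 (BT.node 26 (BT.leaf cJ26)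 (BT.leaf cJ27)) (BT.node 28 (BT.leaf cJ28) (BT.leaf cJ29))) (BT.node 31 (BT.node 30 (BT.leaf cJ30) (BT.leaf cJ31)) (BT.node 32 (BT.leaf cJ32) (BT.leaf cJ33)))))) (BT.node 50 (BT.node 42 (BT.node 38 (BT.node 36 (BT.node 35 (BT.node 34 (BT.leaf cJ34) (BT.leaf cJ35)) (BT.leaf cJ36)) (BT.node 37 (BT.leaf cJ37) (BT.leaf cJ38))) (BT.node 40 (BT.node 39 (BT.leaf cJ39) (BT.leaf cJ40)) (BT.node 41 (BT.leaf cJ41) (BT.leaf cJ42)))) (BT.node 46 (BT.node 44 (BT.node 43 (BT.leaf cJ43) (BT.leaf cJ44)) (BT.node 45 (BT.leaf cJ45) (BT.leaf cJ46))) (BT.node 48 (BT.node 47 (BT.leaf cJ47) (BT.leaf cJ48)) (BT.node 49 (BT.leaf cJ49) (BT.leaf cJ50))))) (BT.node 58 (BT.node 54 (BT.node 52 (BT.node 51 (BT.leaf cJ51) (BT.leaf cJ52)) (BT.node 53 (BT.leaf cJ53) (BT.leaf cJ54))) (BT.node 56 (BT.node 55 (BT.leaf cJ55) (BT.leaf cJ56)) (BT.node 57 (BT.leaf cJ57) (BT.leaf cJ58)))) (BT.node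 62 (BT.node 60 (BT.node 59 (BT.leaf cJ59) (BT.leaf cJ60)) (BT.node 61 (BT.leaf cJ61) (BT.leaf cJ62))) (BT.node 64 (BT.node 63 (BT.leaf cJ63) (BT.leaf cJ64)) (BT.node 65 (BT.leaf cJ65) (BT.leaf cJ66))))))) (BT.node 99 (BT.node 83 (BT.node 75 (BT.node 71 (BT.node 69 (BT.node 68 (BT.node 67 (BT.leaf cJ67) (BT.leaf cJ68)) (BT.leaf cJ69)) (BT.node 70 (BT.leaf cJ70) (BT.leaf cJ71))) (BT.node 73 (BT.node 72 (BT.leaf cJ72) (BT.leaf cJ73)) (BT.node 74 (BT.leaf cJ74) (BT.leaf cJ75)))) (BT.node 79 (BT.node 77 (BT.node 76 (BT.leaf cJ76) (BT.leaf cJ77)) (BT.node 78 (BT.leaf cJ78) (BT.leaf cJ79))) (BT.node 81 (BT.node 80 (BT.leaf cJ80) (BT.leaf cJ81)) (BT.node 82 (BT.leaf cJ82) (BT.leaf cJ83))))) (BT.node 91 (BT.node 87 (BT.node 85 (BT.node 84 (BT.leaf cJ84) (BT.leaf cJ85)) (BT.node 86 (BT.leaf cJ86) (BT.leaf cJ87))) (BT.node 89 (BT.node 88 (BT.leaf cJ88) (BT.leaf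 cJ89)) (BT.node 90 (BT.leaf cJ90) (BT.leaf cJ91)))) (BT.node 95 (BT.node 93 (BT.node 92 (BT.leaf cJ92) (BT.leaf cJ93)) (BT.node 94 (BT.leaf cJ94) (BT.leaf cJ95))) (BT.node 97 (BT.node 96 (BT.leaf cJ96) (BT.leaf cJ97)) (BT.node 98 (BT.leaf cJ98) (BT.leaf cJ99)))))) (BT.node 116 (BT.node 108 (BT.node 104 (BT.node 102 (BT.node 101 (BT.node 100 (BT.leaf cJ100) (BT.leaf cJ101)) (BT.leaf cJ102)) (BT.node 103 (BT.leaf cJ103) (BT.leaf cJ104))) (BT.node 106 (BT.node 105 (BT.leaf cJ105) (BT.leaf cJ106)) (BT.node 107 (BT.leaf cJ107) (BT.leaf cJ108)))) (BT.node 112 (BT.node 110 (BT.node 109 (BT.leaf cJ109) (BT.leaf cJ110)) (BT.node 111 (BT.leaf cJ111) (BT.leaf cJ112))) (BT.node 114 (BT.node 113 (BT.leaf cJ113) (BT.leaf cJ114)) (BT.node 115 (BT.leaf cJ115) (BT.leaf cJ116))))) (BT.node 124 (BT.node 120 (BT.node 118 (BT.node 117 (BT.leaf cJ117) (BT.leaf cJ118)) (BT.node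 119 (BT.leaf cJ119) (BT.leaf cJ120))) (BT.node 122 (BT.node 121 (BT.leaf cJ121) (BT.leaf cJ122)) (BT.node 123 (BT.leaf cJ123) (BT.leaf cJ124)))) (BT.node 128 (BT.node 126 (BT.node 125 (BT.leaf cJ125) (BT.leaf cJ126)) (BT.node 127 (BT.leaf cJ127) (BT.leaf cJ128))) (BT.node 130 (BT.node 129 (BT.leaf cJ129) (BT.leaf cJ130)) (BT.node 131 (BT.leaf cJ131) (BT.leaf cJ132)))))))) (BT.node 199 (BT.node 166 (BT.node 149 (BT.node 141 (BT.node 137 (BT.node 135 (BT.node 134 (BT.node 133 (BT.leaf cJ133) (BT.leaf cJ134)) (BT.leaf cJ135)) (BT.node 136 (BT.leaf cJ136) (BT.leaf cJ137))) (BT.node 139 (BT.node 138 (BT.leaf cJ138) (BT.leaf cJ139)) (BT.node 140 (BT.leaf cJ140) (BT.leaf cJ141)))) (BT.node 145 (BT.node 143 (BT.node 142 (BT.leaf cJ142) (BT.leaf cJ143)) (BT.node 144 (BT.leaf cJ144) (BT.leaf cJ145))) (BT.node 147 (BT.node 146 (BT.leaf cJ146) (BT.leaf cJ147)) (BT.node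 148 (BT.leaf cJ148) (BT.leaf cJ149))))) (BT.node 158 (BT.node 154 (BT.node 152 (BT.node 151 (BT.node 150 (BT.leaf cJ150) (BT.leaf cJ151)) (BT.leaf cJ152)) (BT.node 153 (BT.leaf cJ153) (BT.leaf cJ154))) (BT.node 156 (BT.node 155 (BT.leaf cJ155) (BT.leaf cJ156)) (BT.node 157 (BT.leaf cJ157) (BT.leaf cJ158)))) (BT.node 162 (BT.node 160 (BT.node 159 (BT.leaf cJ159) (BT.leaf cJ160)) (BT.node 161 (BT.leaf cJ161) (BT.leaf cJ162))) (BT.node 164 (BT.node 163 (BT.leaf cJ163) (BT.leaf cJ164)) (BT.node 165 (BT.leaf cJ165) (BT.leaf cJ166)))))) (BT.node 183 (BT.node 175 (BT.node 171 (BT.node 169 (BT.node 168 (BT.node 167 (BT.leaf cJ167) (BT.leaf cJ168)) (BT.leaf cJ169)) (BT.node 170 (BT.leaf cJ170) (BT.leaf cJ171))) (BT.node 173 (BT.node 172 (BT.leaf cJ172) (BT.leaf cJ173)) (BT.node 174 (BT.leaf cJ174) (BT.leaf cJ175)))) (BT.node 179 (BT.node 177 (BT.node 176 (BT.leaf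 cJ176) (BT.leaf cJ177)) (BT.node 178 (BT.leaf cJ178) (BT.leaf cJ179))) (BT.node 181 (BT.node 180 (BT.leaf cJ180) (BT.leaf cJ181)) (BT.node 182 (BT.leaf cJ182) (BT.leaf cJ183))))) (BT.node 191 (BT.node 187 (BT.node 185 (BT.node 184 (BT.leaf cJ184) (BT.leaf cJ185)) (BT.node 186 (BT.leaf cJ186) (BT.leaf cJ187))) (BT.node 189 (BT.node 188 (BT.leaf cJ188) (BT.leaf cJ189)) (BT.node 190 (BT.leaf cJ190) (BT.leaf cJ191)))) (BT.node 195 (BT.node 193 (BT.node 192 (BT.leaf cJ192) (BT.leaf cJ193)) (BT.node 194 (BT.leaf cJ194) (BT.leaf cJ195))) (BT.node 197 (BT.node 196 (BT.leaf cJ196) (BT.leaf cJ197)) (BT.node 198 (BT.leaf cJ198) (BT.leaf cJ199))))))) (BT.node 232 (BT.node 216 (BT.node 208 (BT.node 204 (BT.node 202 (BT.node 201 (BT.node 200 (BT.leaf cJ200) (BT.leaf cJ201)) (BT.leaf cJ202)) (BT.node 203 (BT.leaf cJ203) (BT.leaf cJ204))) (BT.node 206 (BT.node 205 (BT.leaf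 cJ205) (BT.leaf cJ206)) (BT.node 207 (BT.leaf cJ207) (BT.leaf cJ208)))) (BT.node 212 (BT.node 210 (BT.node 209 (BT.leaf cJ209) (BT.leaf cJ210)) (BT.node 211 (BT.leaf cJ211) (BT.leaf cJ212))) (BT.node 214 (BT.node 213 (BT.leaf cJ213) (BT.leaf cJ214)) (BT.node 215 (BT.leaf cJ215) (BT.leaf cJ216))))) (BT.node 224 (BT.node 220 (BT.node 218 (BT.node 217 (BT.leaf cJ217) (BT.leaf cJ218)) (BT.node 219 (BT.leaf cJ219) (BT.leaf cJ220))) (BT.node 222 (BT.node 221 (BT.leaf cJ221) (BT.leaf cJ222)) (BT.node 223 (BT.leaf cJ223) (BT.leaf cJ224)))) (BT.node 228 (BT.node 226 (BT.node 225 (BT.leaf cJ225) (BT.leaf cJ226)) (BT.node 227 (BT.leaf cJ227) (BT.leaf cJ228))) (BT.node 230 (BT.node 229 (BT.leaf cJ229) (BT.leaf cJ230)) (BT.node 231 (BT.leaf cJ231) (BT.leaf cJ232)))))) (BT.node 249 (BT.node 241 (BT.node 237 (BT.node 235 (BT.node 234 (BT.node 233 (BT.leaf cJ233) (BT.leaf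 cJ234)) (BT.leaf cJ235)) (BT.node 236 (BT.leaf cJ236) (BT.leaf cJ237))) (BT.node 239 (BT.node 238 (BT.leaf cJ238) (BT.leaf cJ239)) (BT.node 240 (BT.leaf cJ240) (BT.leaf cJ241)))) (BT.node 245 (BT.node 243 (BT.node 242 (BT.leaf cJ242) (BT.leaf cJ243)) (BT.node 244 (BT.leaf cJ244) (BT.leaf cJ245))) (BT.node 247 (BT.node 246 (BT.leaf cJ246) (BT.leaf cJ247)) (BT.node 248 (BT.leaf cJ248) (BT.leaf cJ249))))) (BT.node 257 (BT.node 253 (BT.node 251 (BT.node 250 (BT.leaf cJ250) (BT.leaf cJ251)) (BT.node 252 (BT.leaf cJ252) (BT.leaf cJ253))) (BT.node 255 (BT.node 254 (BT.leaf cJ254) (BT.leaf cJ255)) (BT.node 256 (BT.leaf cJ256) (BT.leaf cJ257)))) (BT.node 261 (BT.node 259 (BT.node 258 (BT.leaf cJ258) (BT.leaf cJ259)) (BT.node 260 (BT.leaf cJ260) (BT.leaf cJ261))) (BT.node 263 (BT.node 262 (BT.leaf cJ262) (BT.leaf cJ263)) (BT.node 264 (BT.leaf cJ264) (BT.leaf cJ265)))))))))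 (BT.node 398 (BT.node 332 (BT.node 299 (BT.node 282 (BT.node 274 (BT.node 270 (BT.node 268 (BT.node 267 (BT.node 266 (BT.leaf cJ266) (BT.leaf cJ267)) (BT.leaf cJ268)) (BT.node 269 (BT.leaf cJ269) (BT.leaf cJ270))) (BT.node 272 (BT.node 271 (BT.leaf cJ271) (BT.leaf cJ272)) (BT.node 273 (BT.leaf cJ273) (BT.leaf cJ274)))) (BT.node 278 (BT.node 276 (BT.node 275 (BT.leaf cJ275) (BT.leaf cJ276)) (BT.node 277 (BT.leaf cJ277) (BT.leaf cJ278))) (BT.node 280 (BT.node 279 (BT.leaf cJ279) (BT.leaf cJ280)) (BT.node 281 (BT.leaf cJ281) (BT.leaf cJ282))))) (BT.node 291 (BT.node 287 (BT.node 285 (BT.node 284 (BT.node 283 (BT.leaf cJ283) (BT.leaf cJ284)) (BT.leaf cJ285)) (BT.node 286 (BT.leaf cJ286) (BT.leaf cJ287))) (BT.node 289 (BT.node 288 (BT.leaf cJ288) (BT.leaf cJ289)) (BT.node 290 (BT.leaf cJ290) (BT.leaf cJ291)))) (BT.node 295 (BT.node 293 (BT.node 292 (BT.leaf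 cJ292) (BT.leaf cJ293)) (BT.node 294 (BT.leaf cJ294) (BT.leaf cJ295))) (BT.node 297 (BT.node 296 (BT.leaf cJ296) (BT.leaf cJ297)) (BT.node 298 (BT.leaf cJ298) (BT.leaf cJ299)))))) (BT.node 316 (BT.node 308 (BT.node 304 (BT.node 302 (BT.node 301 (BT.node 300 (BT.leaf cJ300) (BT.leaf cJ301)) (BT.leaf cJ302)) (BT.node 303 (BT.leaf cJ303) (BT.leaf cJ304))) (BT.node 306 (BT.node 305 (BT.leaf cJ305) (BT.leaf cJ306)) (BT.node 307 (BT.leaf cJ307) (BT.leaf cJ308)))) (BT.node 312 (BT.node 310 (BT.node 309 (BT.leaf cJ309) (BT.leaf cJ310)) (BT.node 311 (BT.leaf cJ311) (BT.leaf cJ312))) (BT.node 314 (BT.node 313 (BT.leaf cJ313) (BT.leaf cJ314)) (BT.node 315 (BT.leaf cJ315) (BT.leaf cJ316))))) (BT.node 324 (BT.node 320 (BT.node 318 (BT.node 317 (BT.leaf cJ317) (BT.leaf cJ318)) (BT.node 319 (BT.leaf cJ319) (BT.leaf cJ320))) (BT.node 322 (BT.node 321 (BT.leaf cJ321)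 (BT.leaf cJ322)) (BT.node 323 (BT.leaf cJ323) (BT.leaf cJ324)))) (BT.node 328 (BT.node 326 (BT.node 325 (BT.leaf cJ325) (BT.leaf cJ326)) (BT.node 327 (BT.leaf cJ327) (BT.leaf cJ328))) (BT.node 330 (BT.node 329 (BT.leaf cJ329) (BT.leaf cJ330)) (BT.node 331 (BT.leaf cJ331) (BT.leaf cJ332))))))) (BT.node 365 (BT.node 349 (BT.node 341 (BT.node 337 (BT.node 335 (BT.node 334 (BT.node 333 (BT.leaf cJ333) (BT.leaf cJ334)) (BT.leaf cJ335)) (BT.node 336 (BT.leaf cJ336) (BT.leaf cJ337))) (BT.node 339 (BT.node 338 (BT.leaf cJ338) (BT.leaf cJ339)) (BT.node 340 (BT.leaf cJ340) (BT.leaf cJ341)))) (BT.node 345 (BT.node 343 (BT.node 342 (BT.leaf cJ342) (BT.leaf cJ343)) (BT.node 344 (BT.leaf cJ344) (BT.leaf cJ345))) (BT.node 347 (BT.node 346 (BT.leaf cJ346) (BT.leaf cJ347)) (BT.node 348 (BT.leaf cJ348) (BT.leaf cJ349))))) (BT.node 357 (BT.node 353 (BT.node 351 (BT.node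 350 (BT.leaf cJ350) (BT.leaf cJ351)) (BT.node 352 (BT.leaf cJ352) (BT.leaf cJ353))) (BT.node 355 (BT.node 354 (BT.leaf cJ354) (BT.leaf cJ355)) (BT.node 356 (BT.leaf cJ356) (BT.leaf cJ357)))) (BT.node 361 (BT.node 359 (BT.node 358 (BT.leaf cJ358) (BT.leaf cJ359)) (BT.node 360 (BT.leaf cJ360) (BT.leaf cJ361))) (BT.node 363 (BT.node 362 (BT.leaf cJ362) (BT.leaf cJ363)) (BT.node 364 (BT.leaf cJ364) (BT.leaf cJ365)))))) (BT.node 382 (BT.node 374 (BT.node 370 (BT.node 368 (BT.node 367 (BT.node 366 (BT.leaf cJ366) (BT.leaf cJ367)) (BT.leaf cJ368)) (BT.node 369 (BT.leaf cJ369) (BT.leaf cJ370))) (BT.node 372 (BT.node 371 (BT.leaf cJ371) (BT.leaf cJ372)) (BT.node 373 (BT.leaf cJ373) (BT.leaf cJ374)))) (BT.node 378 (BT.node 376 (BT.node 375 (BT.leaf cJ375) (BT.leaf cJ376)) (BT.node 377 (BT.leaf cJ377) (BT.leaf cJ378))) (BT.node 380 (BT.node 379 (BT.leaf cJ379) (BT.leaf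 cJ380)) (BT.node 381 (BT.leaf cJ381) (BT.leaf cJ382))))) (BT.node 390 (BT.node 386 (BT.node 384 (BT.node 383 (BT.leaf cJ383) (BT.leaf cJ384)) (BT.node 385 (BT.leaf cJ385) (BT.leaf cJ386))) (BT.node 388 (BT.node 387 (BT.leaf cJ387) (BT.leaf cJ388)) (BT.node 389 (BT.leaf cJ389) (BT.leaf cJ390)))) (BT.node 394 (BT.node 392 (BT.node 391 (BT.leaf cJ391) (BT.leaf cJ392)) (BT.node 393 (BT.leaf cJ393) (BT.leaf cJ394))) (BT.node 396 (BT.node 395 (BT.leaf cJ395) (BT.leaf cJ396)) (BT.node 397 (BT.leaf cJ397) (BT.leaf cJ398)))))))) (BT.node 465 (BT.node 432 (BT.node 415 (BT.node 407 (BT.node 403 (BT.node 401 (BT.node 400 (BT.node 399 (BT.leaf cJ399) (BT.leaf cJ400)) (BT.leaf cJ401)) (BT.node 402 (BT.leaf cJ402) (BT.leaf cJ403))) (BT.node 405 (BT.node 404 (BT.leaf cJ404) (BT.leaf cJ405)) (BT.node 406 (BT.leaf cJ406) (BT.leaf cJ407)))) (BT.node 411 (BT.node 409 (BT.node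 408 (BT.leaf cJ408) (BT.leaf cJ409)) (BT.node 410 (BT.leaf cJ410) (BT.leaf cJ411))) (BT.node 413 (BT.node 412 (BT.leaf cJ412) (BT.leaf cJ413)) (BT.node 414 (BT.leaf cJ414) (BT.leaf cJ415))))) (BT.node 424 (BT.node 420 (BT.node 418 (BT.node 417 (BT.node 416 (BT.leaf cJ416) (BT.leaf cJ417)) (BT.leaf cJ418)) (BT.node 419 (BT.leaf cJ419) (BT.leaf cJ420))) (BT.node 422 (BT.node 421 (BT.leaf cJ421) (BT.leaf cJ422)) (BT.node 423 (BT.leaf cJ423) (BT.leaf cJ424)))) (BT.node 428 (BT.node 426 (BT.node 425 (BT.leaf cJ425) (BT.leaf cJ426)) (BT.node 427 (BT.leaf cJ427) (BT.leaf cJ428))) (BT.node 430 (BT.node 429 (BT.leaf cJ429) (BT.leaf cJ430)) (BT.node 431 (BT.leaf cJ431) (BT.leaf cJ432)))))) (BT.node 449 (BT.node 441 (BT.node 437 (BT.node 435 (BT.node 434 (BT.node 433 (BT.leaf cJ433) (BT.leaf cJ434)) (BT.leaf cJ435)) (BT.node 436 (BT.leaf cJ436) (BT.leaf cJ437)))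 (BT.node 439 (BT.node 438 (BT.leaf cJ438) (BT.leaf cJ439)) (BT.node 440 (BT.leaf cJ440) (BT.leaf cJ441)))) (BT.node 445 (BT.node 443 (BT.node 442 (BT.leaf cJ442) (BT.leaf cJ443)) (BT.node 444 (BT.leaf cJ444) (BT.leaf cJ445))) (BT.node 447 (BT.node 446 (BT.leaf cJ446) (BT.leaf cJ447)) (BT.node 448 (BT.leaf cJ448) (BT.leaf cJ449))))) (BT.node 457 (BT.node 453 (BT.node 451 (BT.node 450 (BT.leaf cJ450) (BT.leaf cJ451)) (BT.node 452 (BT.leaf cJ452) (BT.leaf cJ453))) (BT.node 455 (BT.node 454 (BT.leaf cJ454) (BT.leaf cJ455)) (BT.node 456 (BT.leaf cJ456) (BT.leaf cJ457)))) (BT.node 461 (BT.node 459 (BT.node 458 (BT.leaf cJ458) (BT.leaf cJ459)) (BT.node 460 (BT.leaf cJ460) (BT.leaf cJ461))) (BT.node 463 (BT.node 462 (BT.leaf cJ462) (BT.leaf cJ463)) (BT.node 464 (BT.leaf cJ464) (BT.leaf cJ465))))))) (BT.node 498 (BT.node 482 (BT.node 474 (BT.node 470 (BT.node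 468 (BT.node 467 (BT.node 466 (BT.leaf cJ466) (BT.leaf cJ467)) (BT.leaf cJ468)) (BT.node 469 (BT.leaf cJ469) (BT.leaf cJ470))) (BT.node 472 (BT.node 471 (BT.leaf cJ471) (BT.leaf cJ472)) (BT.node 473 (BT.leaf cJ473) (BT.leaf cJ474)))) (BT.node 478 (BT.node 476 (BT.node 475 (BT.leaf cJ475) (BT.leaf cJ476)) (BT.node 477 (BT.leaf cJ477) (BT.leaf cJ478))) (BT.node 480 (BT.node 479 (BT.leaf cJ479) (BT.leaf cJ480)) (BT.node 481 (BT.leaf cJ481) (BT.leaf cJ482))))) (BT.node 490 (BT.node 486 (BT.node 484 (BT.node 483 (BT.leaf cJ483) (BT.leaf cJ484)) (BT.node 485 (BT.leaf cJ485) (BT.leaf cJ486))) (BT.node 488 (BT.node 487 (BT.leaf cJ487) (BT.leaf cJ488)) (BT.node 489 (BT.leaf cJ489) (BT.leaf cJ490)))) (BT.node 494 (BT.node 492 (BT.node 491 (BT.leaf cJ491) (BT.leaf cJ492)) (BT.node 493 (BT.leaf cJ493) (BT.leaf cJ494))) (BT.node 496 (BT.node 495 (BT.leaf cJ495) (BT.leaf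 cJ496)) (BT.node 497 (BT.leaf cJ497) (BT.leaf cJ498)))))) (BT.node 515 (BT.node 507 (BT.node 503 (BT.node 501 (BT.node 500 (BT.node 499 (BT.leaf cJ499) (BT.leaf cJ500)) (BT.leaf cJ501)) (BT.node 502 (BT.leaf cJ502) (BT.leaf cJ503))) (BT.node 505 (BT.node 504 (BT.leaf cJ504) (BT.leaf cJ505)) (BT.node 506 (BT.leaf cJ506) (BT.leaf cJ507)))) (BT.node 511 (BT.node 509 (BT.node 508 (BT.leaf cJ508) (BT.leaf cJ509)) (BT.node 510 (BT.leaf cJ510) (BT.leaf cJ511))) (BT.node 513 (BT.node 512 (BT.leaf cJ512) (BT.leaf cJ513)) (BT.node 514 (BT.leaf cJ514) (BT.leaf cJ515))))) (BT.node 523 (BT.node 519 (BT.node 517 (BT.node 516 (BT.leaf cJ516) (BT.leaf cJ517)) (BT.node 518 (BT.leaf cJ518) (BT.leaf cJ519))) (BT.node 521 (BT.node 520 (BT.leaf cJ520) (BT.leaf cJ521)) (BT.node 522 (BT.leaf cJ522) (BT.leaf cJ523)))) (BT.node 527 (BT.node 525 (BT.node 524 (BT.leaf cJ524) (BT.leaf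 cJ525)) (BT.node 526 (BT.leaf cJ526) (BT.leaf cJ527))) (BT.node 529 (BT.node 528 (BT.leaf cJ528) (BT.leaf cJ529)) (BT.node 530 (BT.leaf cJ530) (BT.leaf cJ531)))))))))) (BT.node 797 (BT.node 664 (BT.node 598 (BT.node 565 (BT.node 548 (BT.node 540 (BT.node 536 (BT.node 534 (BT.node 533 (BT.node 532 (BT.leaf cJ532) (BT.leaf cJ533)) (BT.leaf cJ534)) (BT.node 535 (BT.leaf cJ535) (BT.leaf cJ536))) (BT.node 538 (BT.node 537 (BT.leaf cJ537) (BT.leaf cJ538)) (BT.node 539 (BT.leaf cJ539) (BT.leaf cJ540)))) (BT.node 544 (BT.node 542 (BT.node 541 (BT.leaf cJ541) (BT.leaf cJ542)) (BT.node 543 (BT.leaf cJ543) (BT.leaf cJ544))) (BT.node 546 (BT.node 545 (BT.leaf cJ545) (BT.leaf cJ546)) (BT.node 547 (BT.leaf cJ547) (BT.leaf cJ548))))) (BT.node 557 (BT.node 553 (BT.node 551 (BT.node 550 (BT.node 549 (BT.leaf cJ549) (BT.leaf cJ550)) (BT.leaf cJ551)) (BT.node 552 (BT.leaf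 cJ552) (BT.leaf cJ553))) (BT.node 555 (BT.node 554 (BT.leaf cJ554) (BT.leaf cJ555)) (BT.node 556 (BT.leaf cJ556) (BT.leaf cJ557)))) (BT.node 561 (BT.node 559 (BT.node 558 (BT.leaf cJ558) (BT.leaf cJ559)) (BT.node 560 (BT.leaf cJ560) (BT.leaf cJ561))) (BT.node 563 (BT.node 562 (BT.leaf cJ562) (BT.leaf cJ563)) (BT.node 564 (BT.leaf cJ564) (BT.leaf cJ565)))))) (BT.node 582 (BT.node 574 (BT.node 570 (BT.node 568 (BT.node 567 (BT.node 566 (BT.leaf cJ566) (BT.leaf cJ567)) (BT.leaf cJ568)) (BT.node 569 (BT.leaf cJ569) (BT.leaf cJ570))) (BT.node 572 (BT.node 571 (BT.leaf cJ571) (BT.leaf cJ572)) (BT.node 573 (BT.leaf cJ573) (BT.leaf cJ574)))) (BT.node 578 (BT.node 576 (BT.node 575 (BT.leaf cJ575) (BT.leaf cJ576)) (BT.node 577 (BT.leaf cJ577) (BT.leaf cJ578))) (BT.node 580 (BT.node 579 (BT.leaf cJ579) (BT.leaf cJ580)) (BT.node 581 (BT.leaf cJ581) (BT.leaf cJ582)))))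 (BT.node 590 (BT.node 586 (BT.node 584 (BT.node 583 (BT.leaf cJ583) (BT.leaf cJ584)) (BT.node 585 (BT.leaf cJ585) (BT.leaf cJ586))) (BT.node 588 (BT.node 587 (BT.leaf cJ587) (BT.leaf cJ588)) (BT.node 589 (BT.leaf cJ589) (BT.leaf cJ590)))) (BT.node 594 (BT.node 592 (BT.node 591 (BT.leaf cJ591) (BT.leaf cJ592)) (BT.node 593 (BT.leaf cJ593) (BT.leaf cJ594))) (BT.node 596 (BT.node 595 (BT.leaf cJ595) (BT.leaf cJ596)) (BT.node 597 (BT.leaf cJ597) (BT.leaf cJ598))))))) (BT.node 631 (BT.node 615 (BT.node 607 (BT.node 603 (BT.node 601 (BT.node 600 (BT.node 599 (BT.leaf cJ599) (BT.leaf cJ600)) (BT.leaf cJ601)) (BT.node 602 (BT.leaf cJ602) (BT.leaf cJ603))) (BT.node 605 (BT.node 604 (BT.leaf cJ604) (BT.leaf cJ605)) (BT.node 606 (BT.leaf cJ606) (BT.leaf cJ607)))) (BT.node 611 (BT.node 609 (BT.node 608 (BT.leaf cJ608) (BT.leaf cJ609)) (BT.node 610 (BT.leaf cJ610)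 (BT.leaf cJ611))) (BT.node 613 (BT.node 612 (BT.leaf cJ612) (BT.leaf cJ613)) (BT.node 614 (BT.leaf cJ614) (BT.leaf cJ615))))) (BT.node 623 (BT.node 619 (BT.node 617 (BT.node 616 (BT.leaf cJ616) (BT.leaf cJ617)) (BT.node 618 (BT.leaf cJ618) (BT.leaf cJ619))) (BT.node 621 (BT.node 620 (BT.leaf cJ620) (BT.leaf cJ621)) (BT.node 622 (BT.leaf cJ622) (BT.leaf cJ623)))) (BT.node 627 (BT.node 625 (BT.node 624 (BT.leaf cJ624) (BT.leaf cJ625)) (BT.node 626 (BT.leaf cJ626) (BT.leaf cJ627))) (BT.node 629 (BT.node 628 (BT.leaf cJ628) (BT.leaf cJ629)) (BT.node 630 (BT.leaf cJ630) (BT.leaf cJ631)))))) (BT.node 648 (BT.node 640 (BT.node 636 (BT.node 634 (BT.node 633 (BT.node 632 (BT.leaf cJ632) (BT.leaf cJ633)) (BT.leaf cJ634)) (BT.node 635 (BT.leaf cJ635) (BT.leaf cJ636))) (BT.node 638 (BT.node 637 (BT.leaf cJ637) (BT.leaf cJ638)) (BT.node 639 (BT.leaf cJ639) (BT.leaf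 cJ640)))) (BT.node 644 (BT.node 642 (BT.node 641 (BT.leaf cJ641) (BT.leaf cJ642)) (BT.node 643 (BT.leaf cJ643) (BT.leaf cJ644))) (BT.node 646 (BT.node 645 (BT.leaf cJ645) (BT.leaf cJ646)) (BT.node 647 (BT.leaf cJ647) (BT.leaf cJ648))))) (BT.node 656 (BT.node 652 (BT.node 650 (BT.node 649 (BT.leaf cJ649) (BT.leaf cJ650)) (BT.node 651 (BT.leaf cJ651) (BT.leaf cJ652))) (BT.node 654 (BT.node 653 (BT.leaf cJ653) (BT.leaf cJ654)) (BT.node 655 (BT.leaf cJ655) (BT.leaf cJ656)))) (BT.node 660 (BT.node 658 (BT.node 657 (BT.leaf cJ657) (BT.leaf cJ658)) (BT.node 659 (BT.leaf cJ659) (BT.leaf cJ660))) (BT.node 662 (BT.node 661 (BT.leaf cJ661) (BT.leaf cJ662)) (BT.node 663 (BT.leaf cJ663) (BT.leaf cJ664)))))))) (BT.node 731 (BT.node 698 (BT.node 681 (BT.node 673 (BT.node 669 (BT.node 667 (BT.node 666 (BT.node 665 (BT.leaf cJ665) (BT.leaf cJ666)) (BT.leaf cJ667)) (BT.node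 668 (BT.leaf cJ668) (BT.leaf cJ669))) (BT.node 671 (BT.node 670 (BT.leaf cJ670) (BT.leaf cJ671)) (BT.node 672 (BT.leaf cJ672) (BT.leaf cJ673)))) (BT.node 677 (BT.node 675 (BT.node 674 (BT.leaf cJ674) (BT.leaf cJ675)) (BT.node 676 (BT.leaf cJ676) (BT.leaf cJ677))) (BT.node 679 (BT.node 678 (BT.leaf cJ678) (BT.leaf cJ679)) (BT.node 680 (BT.leaf cJ680) (BT.leaf cJ681))))) (BT.node 690 (BT.node 686 (BT.node 684 (BT.node 683 (BT.node 682 (BT.leaf cJ682) (BT.leaf cJ683)) (BT.leaf cJ684)) (BT.node 685 (BT.leaf cJ685) (BT.leaf cJ686))) (BT.node 688 (BT.node 687 (BT.leaf cJ687) (BT.leaf cJ688)) (BT.node 689 (BT.leaf cJ689) (BT.leaf cJ690)))) (BT.node 694 (BT.node 692 (BT.node 691 (BT.leaf cJ691) (BT.leaf cJ692)) (BT.node 693 (BT.leaf cJ693) (BT.leaf cJ694))) (BT.node 696 (BT.node 695 (BT.leaf cJ695) (BT.leaf cJ696)) (BT.node 697 (BT.leaf cJ697) (BT.leaf cJ698))))))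 (BT.node 715 (BT.node 707 (BT.node 703 (BT.node 701 (BT.node 700 (BT.node 699 (BT.leaf cJ699) (BT.leaf cJ700)) (BT.leaf cJ701)) (BT.node 702 (BT.leaf cJ702) (BT.leaf cJ703))) (BT.node 705 (BT.node 704 (BT.leaf cJ704) (BT.leaf cJ705)) (BT.node 706 (BT.leaf cJ706) (BT.leaf cJ707)))) (BT.node 711 (BT.node 709 (BT.node 708 (BT.leaf cJ708) (BT.leaf cJ709)) (BT.node 710 (BT.leaf cJ710) (BT.leaf cJ711))) (BT.node 713 (BT.node 712 (BT.leaf cJ712) (BT.leaf cJ713)) (BT.node 714 (BT.leaf cJ714) (BT.leaf cJ715))))) (BT.node 723 (BT.node 719 (BT.node 717 (BT.node 716 (BT.leaf cJ716) (BT.leaf cJ717)) (BT.node 718 (BT.leaf cJ718) (BT.leaf cJ719))) (BT.node 721 (BT.node 720 (BT.leaf cJ720) (BT.leaf cJ721)) (BT.node 722 (BT.leaf cJ722) (BT.leaf cJ723)))) (BT.node 727 (BT.node 725 (BT.node 724 (BT.leaf cJ724) (BT.leaf cJ725)) (BT.node 726 (BT.leaf cJ726) (BT.leaf cJ727)))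 (BT.node 729 (BT.node 728 (BT.leaf cJ728) (BT.leaf cJ729)) (BT.node 730 (BT.leaf cJ730) (BT.leaf cJ731))))))) (BT.node 764 (BT.node 748 (BT.node 740 (BT.node 736 (BT.node 734 (BT.node 733 (BT.node 732 (BT.leaf cJ732) (BT.leaf cJ733)) (BT.leaf cJ734)) (BT.node 735 (BT.leaf cJ735) (BT.leaf cJ736))) (BT.node 738 (BT.node 737 (BT.leaf cJ737) (BT.leaf cJ738)) (BT.node 739 (BT.leaf cJ739) (BT.leaf cJ740)))) (BT.node 744 (BT.node 742 (BT.node 741 (BT.leaf cJ741) (BT.leaf cJ742)) (BT.node 743 (BT.leaf cJ743) (BT.leaf cJ744))) (BT.node 746 (BT.node 745 (BT.leaf cJ745) (BT.leaf cJ746)) (BT.node 747 (BT.leaf cJ747) (BT.leaf cJ748))))) (BT.node 756 (BT.node 752 (BT.node 750 (BT.node 749 (BT.leaf cJ749) (BT.leaf cJ750)) (BT.node 751 (BT.leaf cJ751) (BT.leaf cJ752))) (BT.node 754 (BT.node 753 (BT.leaf cJ753) (BT.leaf cJ754)) (BT.node 755 (BT.leaf cJ755) (BT.leaf cJ756))))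 (BT.node 760 (BT.node 758 (BT.node 757 (BT.leaf cJ757) (BT.leaf cJ758)) (BT.node 759 (BT.leaf cJ759) (BT.leaf cJ760))) (BT.node 762 (BT.node 761 (BT.leaf cJ761) (BT.leaf cJ762)) (BT.node 763 (BT.leaf cJ763) (BT.leaf cJ764)))))) (BT.node 781 (BT.node 773 (BT.node 769 (BT.node 767 (BT.node 766 (BT.node 765 (BT.leaf cJ765) (BT.leaf cJ766)) (BT.leaf cJ767)) (BT.node 768 (BT.leaf cJ768) (BT.leaf cJ769))) (BT.node 771 (BT.node 770 (BT.leaf cJ770) (BT.leaf cJ771)) (BT.node 772 (BT.leaf cJ772) (BT.leaf cJ773)))) (BT.node 777 (BT.node 775 (BT.node 774 (BT.leaf cJ774) (BT.leaf cJ775)) (BT.node 776 (BT.leaf cJ776) (BT.leaf cJ777))) (BT.node 779 (BT.node 778 (BT.leaf cJ778) (BT.leaf cJ779)) (BT.node 780 (BT.leaf cJ780) (BT.leaf cJ781))))) (BT.node 789 (BT.node 785 (BT.node 783 (BT.node 782 (BT.leaf cJ782) (BT.leaf cJ783)) (BT.node 784 (BT.leaf cJ784) (BT.leaf cJ785)))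 (BT.node 787 (BT.node 786 (BT.leaf cJ786) (BT.leaf cJ787)) (BT.node 788 (BT.leaf cJ788) (BT.leaf cJ789)))) (BT.node 793 (BT.node 791 (BT.node 790 (BT.leaf cJ790) (BT.leaf cJ791)) (BT.node 792 (BT.leaf cJ792) (BT.leaf cJ793))) (BT.node 795 (BT.node 794 (BT.leaf cJ794) (BT.leaf cJ795)) (BT.node 796 (BT.leaf cJ796) (BT.leaf cJ797))))))))) (BT.node 930 (BT.node 864 (BT.node 831 (BT.node 814 (BT.node 806 (BT.node 802 (BT.node 800 (BT.node 799 (BT.node 798 (BT.leaf cJ798) (BT.leaf cJ799)) (BT.leaf cJ800)) (BT.node 801 (BT.leaf cJ801) (BT.leaf cJ802))) (BT.node 804 (BT.node 803 (BT.leaf cJ803) (BT.leaf cJ804)) (BT.node 805 (BT.leaf cJ805) (BT.leaf cJ806)))) (BT.node 810 (BT.node 808 (BT.node 807 (BT.leaf cJ807) (BT.leaf cJ808)) (BT.node 809 (BT.leaf cJ809) (BT.leaf cJ810))) (BT.node 812 (BT.node 811 (BT.leaf cJ811) (BT.leaf cJ812)) (BT.node 813 (BT.leaf cJ813)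 (BT.leaf cJ814))))) (BT.node 823 (BT.node 819 (BT.node 817 (BT.node 816 (BT.node 815 (BT.leaf cJ815) (BT.leaf cJ816)) (BT.leaf cJ817)) (BT.node 818 (BT.leaf cJ818) (BT.leaf cJ819))) (BT.node 821 (BT.node 820 (BT.leaf cJ820) (BT.leaf cJ821)) (BT.node 822 (BT.leaf cJ822) (BT.leaf cJ823)))) (BT.node 827 (BT.node 825 (BT.node 824 (BT.leaf cJ824) (BT.leaf cJ825)) (BT.node 826 (BT.leaf cJ826) (BT.leaf cJ827))) (BT.node 829 (BT.node 828 (BT.leaf cJ828) (BT.leaf cJ829)) (BT.node 830 (BT.leaf cJ830) (BT.leaf cJ831)))))) (BT.node 848 (BT.node 840 (BT.node 836 (BT.node 834 (BT.node 833 (BT.node 832 (BT.leaf cJ832) (BT.leaf cJ833)) (BT.leaf cJ834)) (BT.node 835 (BT.leaf cJ835) (BT.leaf cJ836))) (BT.node 838 (BT.node 837 (BT.leaf cJ837) (BT.leaf cJ838)) (BT.node 839 (BT.leaf cJ839) (BT.leaf cJ840)))) (BT.node 844 (BT.node 842 (BT.node 841 (BT.leaf cJ841) (BT.leaf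 cJ842)) (BT.node 843 (BT.leaf cJ843) (BT.leaf cJ844))) (BT.node 846 (BT.node 845 (BT.leaf cJ845) (BT.leaf cJ846)) (BT.node 847 (BT.leaf cJ847) (BT.leaf cJ848))))) (BT.node 856 (BT.node 852 (BT.node 850 (BT.node 849 (BT.leaf cJ849) (BT.leaf cJ850)) (BT.node 851 (BT.leaf cJ851) (BT.leaf cJ852))) (BT.node 854 (BT.node 853 (BT.leaf cJ853) (BT.leaf cJ854)) (BT.node 855 (BT.leaf cJ855) (BT.leaf cJ856)))) (BT.node 860 (BT.node 858 (BT.node 857 (BT.leaf cJ857) (BT.leaf cJ858)) (BT.node 859 (BT.leaf cJ859) (BT.leaf cJ860))) (BT.node 862 (BT.node 861 (BT.leaf cJ861) (BT.leaf cJ862)) (BT.node 863 (BT.leaf cJ863) (BT.leaf cJ864))))))) (BT.node 897 (BT.node 881 (BT.node 873 (BT.node 869 (BT.node 867 (BT.node 866 (BT.node 865 (BT.leaf cJ865) (BT.leaf cJ866)) (BT.leaf cJ867)) (BT.node 868 (BT.leaf cJ868) (BT.leaf cJ869))) (BT.node 871 (BT.node 870 (BT.leaf cJ870) (BT.leaf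 cJ871)) (BT.node 872 (BT.leaf cJ872) (BT.leaf cJ873)))) (BT.node 877 (BT.node 875 (BT.node 874 (BT.leaf cJ874) (BT.leaf cJ875)) (BT.node 876 (BT.leaf cJ876) (BT.leaf cJ877))) (BT.node 879 (BT.node 878 (BT.leaf cJ878) (BT.leaf cJ879)) (BT.node 880 (BT.leaf cJ880) (BT.leaf cJ881))))) (BT.node 889 (BT.node 885 (BT.node 883 (BT.node 882 (BT.leaf cJ882) (BT.leaf cJ883)) (BT.node 884 (BT.leaf cJ884) (BT.leaf cJ885))) (BT.node 887 (BT.node 886 (BT.leaf cJ886) (BT.leaf cJ887)) (BT.node 888 (BT.leaf cJ888) (BT.leaf cJ889)))) (BT.node 893 (BT.node 891 (BT.node 890 (BT.leaf cJ890) (BT.leaf cJ891)) (BT.node 892 (BT.leaf cJ892) (BT.leaf cJ893))) (BT.node 895 (BT.node 894 (BT.leaf cJ894) (BT.leaf cJ895)) (BT.node 896 (BT.leaf cJ896) (BT.leaf cJ897)))))) (BT.node 914 (BT.node 906 (BT.node 902 (BT.node 900 (BT.node 899 (BT.node 898 (BT.leaf cJ898) (BT.leaf cJ899)) (BT.leaf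 cJ900)) (BT.node 901 (BT.leaf cJ901) (BT.leaf cJ902))) (BT.node 904 (BT.node 903 (BT.leaf cJ903) (BT.leaf cJ904)) (BT.node 905 (BT.leaf cJ905) (BT.leaf cJ906)))) (BT.node 910 (BT.node 908 (BT.node 907 (BT.leaf cJ907) (BT.leaf cJ908)) (BT.node 909 (BT.leaf cJ909) (BT.leaf cJ910))) (BT.node 912 (BT.node 911 (BT.leaf cJ911) (BT.leaf cJ912)) (BT.node 913 (BT.leaf cJ913) (BT.leaf cJ914))))) (BT.node 922 (BT.node 918 (BT.node 916 (BT.node 915 (BT.leaf cJ915) (BT.leaf cJ916)) (BT.node 917 (BT.leaf cJ917) (BT.leaf cJ918))) (BT.node 920 (BT.node 919 (BT.leaf cJ919) (BT.leaf cJ920)) (BT.node 921 (BT.leaf cJ921) (BT.leaf cJ922)))) (BT.node 926 (BT.node 924 (BT.node 923 (BT.leaf cJ923) (BT.leaf cJ924)) (BT.node 925 (BT.leaf cJ925) (BT.leaf cJ926))) (BT.node 928 (BT.node 927 (BT.leaf cJ927) (BT.leaf cJ928)) (BT.node 929 (BT.leaf cJ929) (BT.leaf cJ930)))))))) (BT.node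 997 (BT.node 964 (BT.node 947 (BT.node 939 (BT.node 935 (BT.node 933 (BT.node 932 (BT.node 931 (BT.leaf cJ931) (BT.leaf cJ932)) (BT.leaf cJ933)) (BT.node 934 (BT.leaf cJ934) (BT.leaf cJ935))) (BT.node 937 (BT.node 936 (BT.leaf cJ936) (BT.leaf cJ937)) (BT.node 938 (BT.leaf cJ938) (BT.leaf cJ939)))) (BT.node 943 (BT.node 941 (BT.node 940 (BT.leaf cJ940) (BT.leaf cJ941)) (BT.node 942 (BT.leaf cJ942) (BT.leaf cJ943))) (BT.node 945 (BT.node 944 (BT.leaf cJ944) (BT.leaf cJ945)) (BT.node 946 (BT.leaf cJ946) (BT.leaf cJ947))))) (BT.node 956 (BT.node 952 (BT.node 950 (BT.node 949 (BT.node 948 (BT.leaf cJ948) (BT.leaf cJ949)) (BT.leaf cJ950)) (BT.node 951 (BT.leaf cJ951) (BT.leaf cJ952))) (BT.node 954 (BT.node 953 (BT.leaf cJ953) (BT.leaf cJ954)) (BT.node 955 (BT.leaf cJ955) (BT.leaf cJ956)))) (BT.node 960 (BT.node 958 (BT.node 957 (BT.leaf cJ957) (BT.leaf cJ958))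 (BT.node 959 (BT.leaf cJ959) (BT.leaf cJ960))) (BT.node 962 (BT.node 961 (BT.leaf cJ961) (BT.leaf cJ962)) (BT.node 963 (BT.leaf cJ963) (BT.leaf cJ964)))))) (BT.node 981 (BT.node 973 (BT.node 969 (BT.node 967 (BT.node 966 (BT.node 965 (BT.leaf cJ965) (BT.leaf cJ966)) (BT.leaf cJ967)) (BT.node 968 (BT.leaf cJ968) (BT.leaf cJ969))) (BT.node 971 (BT.node 970 (BT.leaf cJ970) (BT.leaf cJ971)) (BT.node 972 (BT.leaf cJ972) (BT.leaf cJ973)))) (BT.node 977 (BT.node 975 (BT.node 974 (BT.leaf cJ974) (BT.leaf cJ975)) (BT.node 976 (BT.leaf cJ976) (BT.leaf cJ977))) (BT.node 979 (BT.node 978 (BT.leaf cJ978) (BT.leaf cJ979)) (BT.node 980 (BT.leaf cJ980) (BT.leaf cJ981))))) (BT.node 989 (BT.node 985 (BT.node 983 (BT.node 982 (BT.leaf cJ982) (BT.leaf cJ983)) (BT.node 984 (BT.leaf cJ984) (BT.leaf cJ985))) (BT.node 987 (BT.node 986 (BT.leaf cJ986) (BT.leaf cJ987)) (BT.node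 988 (BT.leaf cJ988) (BT.leaf cJ989)))) (BT.node 993 (BT.node 991 (BT.node 990 (BT.leaf cJ990) (BT.leaf cJ991)) (BT.node 992 (BT.leaf cJ992) (BT.leaf cJ993))) (BT.node 995 (BT.node 994 (BT.leaf cJ994) (BT.leaf cJ995)) (BT.node 996 (BT.leaf cJ996) (BT.leaf cJ997))))))) (BT.node 1030 (BT.node 1014 (BT.node 1006 (BT.node 1002 (BT.node 1000 (BT.node 999 (BT.node 998 (BT.leaf cJ998) (BT.leaf cJ999)) (BT.leaf cJ1000)) (BT.node 1001 (BT.leaf cJ1001) (BT.leaf cJ1002))) (BT.node 1004 (BT.node 1003 (BT.leaf cJ1003) (BT.leaf cJ1004)) (BT.node 1005 (BT.leaf cJ1005) (BT.leaf cJ1006)))) (BT.node 1010 (BT.node 1008 (BT.node 1007 (BT.leaf cJ1007) (BT.leaf cJ1008)) (BT.node 1009 (BT.leaf cJ1009) (BT.leaf cJ1010))) (BT.node 1012 (BT.node 1011 (BT.leaf cJ1011) (BT.leaf cJ1012)) (BT.node 1013 (BT.leaf cJ1013) (BT.leaf cJ1014))))) (BT.node 1022 (BT.node 1018 (BT.node 1016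 (BT.node 1015 (BT.leaf cJ1015) (BT.leaf cJ1016)) (BT.node 1017 (BT.leaf cJ1017) (BT.leaf cJ1018))) (BT.node 1020 (BT.node 1019 (BT.leaf cJ1019) (BT.leaf cJ1020)) (BT.node 1021 (BT.leaf cJ1021) (BT.leaf cJ1022)))) (BT.node 1026 (BT.node 1024 (BT.node 1023 (BT.leaf cJ1023) (BT.leaf cJ1024)) (BT.node 1025 (BT.leaf cJ1025) (BT.leaf cJ1026))) (BT.node 1028 (BT.node 1027 (BT.leaf cJ1027) (BT.leaf cJ1028)) (BT.node 1029 (BT.leaf cJ1029) (BT.leaf cJ1030)))))) (BT.node 1047 (BT.node 1039 (BT.node 1035 (BT.node 1033 (BT.node 1032 (BT.node 1031 (BT.leaf cJ1031) (BT.leaf cJ1032)) (BT.leaf cJ1033)) (BT.node 1034 (BT.leaf cJ1034) (BT.leaf cJ1035))) (BT.node 1037 (BT.node 1036 (BT.leaf cJ1036) (BT.leaf cJ1037)) (BT.node 1038 (BT.leaf cJ1038) (BT.leaf cJ1039)))) (BT.node 1043 (BT.node 1041 (BT.node 1040 (BT.leaf cJ1040) (BT.leaf cJ1041)) (BT.node 1042 (BT.leaf cJ1042)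 (BT.leaf cJ1043))) (BT.node 1045 (BT.node 1044 (BT.leaf cJ1044) (BT.leaf cJ1045)) (BT.node 1046 (BT.leaf cJ1046) (BT.leaf cJ1047))))) (BT.node 1055 (BT.node 1051 (BT.node 1049 (BT.node 1048 (BT.leaf cJ1048) (BT.leaf cJ1049)) (BT.node 1050 (BT.leaf cJ1050) (BT.leaf cJ1051))) (BT.node 1053 (BT.node 1052 (BT.leaf cJ1052) (BT.leaf cJ1053)) (BT.node 1054 (BT.leaf cJ1054) (BT.leaf cJ1055)))) (BT.node 1059 (BT.node 1057 (BT.node 1056 (BT.leaf cJ1056) (BT.leaf cJ1057)) (BT.node 1058 (BT.leaf cJ1058) (BT.leaf cJ1059))) (BT.node 1061 (BT.node 1060 (BT.leaf cJ1060) (BT.leaf cJ1061)) (BT.node 1062 (BT.leaf cJ1062) (BT.leaf cJ1063)))))))))))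
/-- parent chunks -/
def parCT : BT ℕ := (BT.node 75 (BT.node 37 (BT.node 18 (BT.node 9 (BT.node 4 (BT.node 2 (BT.node 1 (BT.node 0 (BT.leaf cP0) (BT.leaf cP1)) (BT.leaf cP2)) (BT.node 3 (BT.leaf cP3) (BT.leaf cP4))) (BT.node 7 (BT.node 6 (BT.node 5 (BT.leaf cP5) (BT.leaf cP6)) (BT.leaf cP7)) (BT.node 8 (BT.leaf cP8) (BT.leaf cP9)))) (BT.node 14 (BT.node 12 (BT.node 11 (BT.node 10 (BT.leaf cP10) (BT.leaf cP11)) (BT.leaf cP12)) (BT.node 13 (BT.leaf cP13) (BT.leaf cP14))) (BT.node 16 (BT.node 15 (BT.leaf cP15) (BT.leaf cP16)) (BT.node 17 (BT.leaf cP17) (BT.leaf cP18))))) (BT.node 28 (BT.node 23 (BT.node 21 (BT.node 20 (BT.node 19 (BT.leaf cP19) (BT.leaf cP20)) (BT.leaf cP21)) (BT.node 22 (BT.leaf cP22) (BT.leaf cP23))) (BT.node 26 (BT.node 25 (BT.node 24 (BT.leaf cP24) (BT.leaf cP25)) (BT.leaf cP26)) (BT.node 27 (BT.leaf cP27) (BT.leaf cP28)))) (BT.node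 33 (BT.node 31 (BT.node 30 (BT.node 29 (BT.leaf cP29) (BT.leaf cP30)) (BT.leaf cP31)) (BT.node 32 (BT.leaf cP32) (BT.leaf cP33))) (BT.node 35 (BT.node 34 (BT.leaf cP34) (BT.leaf cP35)) (BT.node 36 (BT.leaf cP36) (BT.leaf cP37)))))) (BT.node 56 (BT.node 47 (BT.node 42 (BT.node 40 (BT.node 39 (BT.node 38 (BT.leaf cP38) (BT.leaf cP39)) (BT.leaf cP40)) (BT.node 41 (BT.leaf cP41) (BT.leaf cP42))) (BT.node 45 (BT.node 44 (BT.node 43 (BT.leaf cP43) (BT.leaf cP44)) (BT.leaf cP45)) (BT.node 46 (BT.leaf cP46) (BT.leaf cP47)))) (BT.node 52 (BT.node 50 (BT.node 49 (BT.node 48 (BT.leaf cP48) (BT.leaf cP49)) (BT.leaf cP50)) (BT.node 51 (BT.leaf cP51) (BT.leaf cP52))) (BT.node 54 (BT.node 53 (BT.leaf cP53) (BT.leaf cP54)) (BT.node 55 (BT.leaf cP55) (BT.leaf cP56))))) (BT.node 66 (BT.node 61 (BT.node 59 (BT.node 58 (BT.node 57 (BT.leaf cP57) (BT.leaf cP58)) (BT.leaf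 cP59)) (BT.node 60 (BT.leaf cP60) (BT.leaf cP61))) (BT.node 64 (BT.node 63 (BT.node 62 (BT.leaf cP62) (BT.leaf cP63)) (BT.leaf cP64)) (BT.node 65 (BT.leaf cP65) (BT.leaf cP66)))) (BT.node 71 (BT.node 69 (BT.node 68 (BT.node 67 (BT.leaf cP67) (BT.leaf cP68)) (BT.leaf cP69)) (BT.node 70 (BT.leaf cP70) (BT.leaf cP71))) (BT.node 73 (BT.node 72 (BT.leaf cP72) (BT.leaf cP73)) (BT.node 74 (BT.leaf cP74) (BT.leaf cP75))))))) (BT.node 113 (BT.node 94 (BT.node 85 (BT.node 80 (BT.node 78 (BT.node 77 (BT.node 76 (BT.leaf cP76) (BT.leaf cP77)) (BT.leaf cP78)) (BT.node 79 (BT.leaf cP79) (BT.leaf cP80))) (BT.node 83 (BT.node 82 (BT.node 81 (BT.leaf cP81) (BT.leaf cP82)) (BT.leaf cP83)) (BT.node 84 (BT.leaf cP84) (BT.leaf cP85)))) (BT.node 90 (BT.node 88 (BT.node 87 (BT.node 86 (BT.leaf cP86) (BT.leaf cP87)) (BT.leaf cP88)) (BT.node 89 (BT.leaf cP89) (BT.leaf cP90)))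 (BT.node 92 (BT.node 91 (BT.leaf cP91) (BT.leaf cP92)) (BT.node 93 (BT.leaf cP93) (BT.leaf cP94))))) (BT.node 104 (BT.node 99 (BT.node 97 (BT.node 96 (BT.node 95 (BT.leaf cP95) (BT.leaf cP96)) (BT.leaf cP97)) (BT.node 98 (BT.leaf cP98) (BT.leaf cP99))) (BT.node 102 (BT.node 101 (BT.node 100 (BT.leaf cP100) (BT.leaf cP101)) (BT.leaf cP102)) (BT.node 103 (BT.leaf cP103) (BT.leaf cP104)))) (BT.node 109 (BT.node 107 (BT.node 106 (BT.node 105 (BT.leaf cP105) (BT.leaf cP106)) (BT.leaf cP107)) (BT.node 108 (BT.leaf cP108) (BT.leaf cP109))) (BT.node 111 (BT.node 110 (BT.leaf cP110) (BT.leaf cP111)) (BT.node 112 (BT.leaf cP112) (BT.leaf cP113)))))) (BT.node 132 (BT.node 123 (BT.node 118 (BT.node 116 (BT.node 115 (BT.node 114 (BT.leaf cP114) (BT.leaf cP115)) (BT.leaf cP116)) (BT.node 117 (BT.leaf cP117) (BT.leaf cP118))) (BT.node 121 (BT.node 120 (BT.node 119 (BT.leaf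 cP119) (BT.leaf cP120)) (BT.leaf cP121)) (BT.node 122 (BT.leaf cP122) (BT.leaf cP123)))) (BT.node 128 (BT.node 126 (BT.node 125 (BT.node 124 (BT.leaf cP124) (BT.leaf cP125)) (BT.leaf cP126)) (BT.node 127 (BT.leaf cP127) (BT.leaf cP128))) (BT.node 130 (BT.node 129 (BT.leaf cP129) (BT.leaf cP130)) (BT.node 131 (BT.leaf cP131) (BT.leaf cP132))))) (BT.node 142 (BT.node 137 (BT.node 135 (BT.node 134 (BT.node 133 (BT.leaf cP133) (BT.leaf cP134)) (BT.leaf cP135)) (BT.node 136 (BT.leaf cP136) (BT.leaf cP137))) (BT.node 140 (BT.node 139 (BT.node 138 (BT.leaf cP138) (BT.leaf cP139)) (BT.leaf cP140)) (BT.node 141 (BT.leaf cP141) (BT.leaf cP142)))) (BT.node 147 (BT.node 145 (BT.node 144 (BT.node 143 (BT.leaf cP143) (BT.leaf cP144)) (BT.leaf cP145)) (BT.node 146 (BT.leaf cP146) (BT.leaf cP147))) (BT.node 149 (BT.node 148 (BT.leaf cP148) (BT.leaf cP149)) (BT.node 150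 (BT.leaf cP150) (BT.leaf cP151))))))))
/-- the certificate -/
def data : Data where
  k := 6
  N := 77547
  W := 35
  MW := 34359738368
  B := 131072
  CH := 512
  NCH := 152
  colE := colET
  JW := 64
  MJ := 18446744073709551616
  A := 1048576
  colJ := colJT
  PW := 27
  MP := 134217728
  parC := parCT
  inv := (BT.node 3 (BT.node 1 (BT.node 0 (BT.leaf 1) (BT.leaf 0)) (BT.node 2 (BT.leaf 3) (BT.leaf 2))) (BT.node 5 (BT.node 4 (BT.leaf 5) (BT.leaf 4)) (BT.leaf 6)))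
  rel := relT
  sub := subT
  fuel := 64

end Cfsg.Agent.Lib.Helper3.Cover.E22Data
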