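import Cfsg.Agent.Lib.Helper28.TC2Range
import Cfsg.Agent.Lib.Helper3.Cover.E22Data
import Cfsg.Agent.Lib.Helper3.Cover.E22Table
set_option autoImplicit false
set_option maxRecDepth 100000
set_option maxHeartbeats 0

namespace Cfsg.Agent.Lib.Helper3.Cover.E22M5
open Cfsg.Agent.Lib.Helper28.TC2Upper Cfsg.Agent.Lib.Helper28.TC2Lower Cfsg.Agent.Lib.Helper28.TC2Range Cfsg.Agent.Lib.Helper3.Cover.E22Data Cfsg.Agent.Lib.Helper3.Cover.E22Table

theorem cnt12 : Data.countFrom data 72000 5547 = 0 := by decide +kernel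
theorem prm0 : Table.permRange table 0 352 = true := by decide +kernel
theorem tre0 : Table.treeRange table 0 351 = true := by decide +kernel

end Cfsg.Agent.Lib.Helper3.Cover.E22M5
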