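import Cfsg.Agent.Lib.Helper3.Cover.E22Data
set_option autoImplicit false
set_option maxRecDepth 100000
set_option maxHeartbeats 0

namespace Cfsg.Agent.Lib.Helper3.Cover.E22U10
open Cfsg.Agent.Lib.Helper28.TC2Upper Cfsg.Agent.Lib.Helper3.Cover.E22Data

theorem chk50 : data.checkRange 73484 1949 = true := by decide +kernel
theorem chk51 : data.checkRange 75433 1947 = true := by decide +kernel
theorem chk52 : data.checkRange 77380 167 = true := by decide +kernel

end Cfsg.Agent.Lib.Helper3.Cover.E22U10
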