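import Cfsg.Agent.Lib.Helper3.Cover.E22Data
set_option autoImplicit false
set_option maxRecDepth 100000
set_option maxHeartbeats 0

namespace Cfsg.Agent.Lib.Helper3.Cover.E22U5
open Cfsg.Agent.Lib.Helper28.TC2Upper Cfsg.Agent.Lib.Helper3.Cover.E22Data

theorem chk25 : data.checkRange 32020 1401 = true := by decide +kernel
theorem chk26 : data.checkRange 33421 1375 = true := by decide +kernel
theorem chk27 : data.checkRange 34796 1520 = true := by decide +kernel
theorem chk28 : data.checkRange 36316 1527 = true := by decide +kernel
theorem chk29 : data.checkRange 37843 1600 = true := by decide +kernel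

end Cfsg.Agent.Lib.Helper3.Cover.E22U5
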