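import Cfsg.Agent.Lib.Helper3.Cover.E22Data
set_option autoImplicit false
set_option maxRecDepth 100000
set_option maxHeartbeats 0

namespace Cfsg.Agent.Lib.Helper3.Cover.E22U7
open Cfsg.Agent.Lib.Helper28.TC2Upper Cfsg.Agent.Lib.Helper3.Cover.E22Data

theorem chk35 : data.checkRange 47469 1637 = true := by decide +kernel
theorem chk36 : data.checkRange 49106 1558 = true := by decide +kernel
theorem chk37 : data.checkRange 50664 1577 = true := by decide +kernel
theorem chk38 : data.checkRange 52241 1595 = true := by decide +kernel
theorem chk39 : data.checkRange 53836 1700 = true := by decide +kernel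

end Cfsg.Agent.Lib.Helper3.Cover.E22U7
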