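import Cfsg.Agent.Lib.Helper28.TC2GlueOrb
import Cfsg.Agent.Lib.Helper28.TC2Range
import Cfsg.Agent.Lib.Helper3.Cover.E22Link
import Cfsg.Agent.Lib.Helper3.Cover.E22M
import Cfsg.Agent.Lib.Helper3.Cover.E22M0
import Cfsg.Agent.Lib.Helper3.Cover.E22M1
import Cfsg.Agent.Lib.Helper3.Cover.E22M2
import Cfsg.Agent.Lib.Helper3.Cover.E22M3
import Cfsg.Agent.Lib.Helper3.Cover.E22M4
import Cfsg.Agent.Lib.Helper3.Cover.E22M5
import Cfsg.Agent.Lib.Helper3.Cover.E22U0
import Cfsg.Agent.Lib.Helper3.Cover.E22U1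
import Cfsg.Agent.Lib.Helper3.Cover.E22U2
import Cfsg.Agent.Lib.Helper3.Cover.E22U3
import Cfsg.Agent.Lib.Helper3.Cover.E22U4
import Cfsg.Agent.Lib.Helper3.Cover.E22U5
import Cfsg.Agent.Lib.Helper3.Cover.E22U6
import Cfsg.Agent.Lib.Helper3.Cover.E22U7
import Cfsg.Agent.Lib.Helper3.Cover.E22U8
import Cfsg.Agent.Lib.Helper3.Cover.E22U9
import Cfsg.Agent.Lib.Helper3.Cover.E22U10
import Cfsg.Agent.Lib.Helper3.Cover.E22L0

set_option autoImplicit false
set_option maxRecDepth 100000
open Cfsg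

namespace Cfsg.Agent.Lib.Helper3.Cover.E22Main
open Cfsg.Agent.Lib.Helper28.TC2Upper Cfsg.Agent.Lib.Helper28.TC2Lower Cfsg.Agent.Lib.Helper28.TC2Glue Cfsg.Agent.Lib.Helper28.TC2GlueOrb Cfsg.Agent.Lib.Helper28.TC2Orbit Cfsg.Agent.Lib.Helper28.TC2Range
open Cfsg.Agent.Lib.Helper3.Cover.E22Data Cfsg.Agent.Lib.Helper3.Cover.E22Table Cfsg.Agent.Lib.Helper3.Cover.E22Link Cfsg.Agent.Lib.Helper3.Cover.E22M

theorem hchk : ∀ v, v < data.N → data.checkNode v = true := by
  intro v hv
  have hv' : v < 77547 := hv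
  rcases Nat.lt_or_ge v 846 with h0 | h0
  · exact (data.checkRange_iff 0 846).mp Cfsg.Agent.Lib.Helper3.Cover.E22U0.chk0 v (by omega) (by omega)
  rcases Nat.lt_or_ge v 1786 with h1 | h1
  · exact (data.checkRange_iff 846 940).mp Cfsg.Agent.Lib.Helper3.Cover.E22U0.chk1 v (by omega) (by omega)
  rcases Nat.lt_or_ge v 2834 with h2 | h2
  · exact (data.checkRange_iff 1786 1048).mp Cfsg.Agent.Lib.Helper3.Cover.E22U0.chk2 v (by omega) (by omega)
  rcases Nat.lt_or_ge v 3902 with h3 | h3
  · exact (data.checkRange_iff 2834 1068).mp Cfsg.Agent.Lib.Helper3.Cover.E22U0.chk3 v (by omega) (by omega)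
  rcases Nat.lt_or_ge v 5019 with h4 | h4
  · exact (data.checkRange_iff 3902 1117).mp Cfsg.Agent.Lib.Helper3.Cover.E22U0.chk4 v (by omega) (by omega)
  rcases Nat.lt_or_ge v 6200 with h5 | h5
  · exact (data.checkRange_iff 5019 1181).mp Cfsg.Agent.Lib.Helper3.Cover.E22U1.chk5 v (by omega) (by omega)
  rcases Nat.lt_or_ge v 7431 with h6 | h6
  · exact (data.checkRange_iff 6200 1231).mp Cfsg.Agent.Lib.Helper3.Cover.E22U1.chk6 v (by omega) (by omega)
  rcases Nat.lt_or_ge v 8700 with h7 | h7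
  · exact (data.checkRange_iff 7431 1269).mp Cfsg.Agent.Lib.Helper3.Cover.E22U1.chk7 v (by omega) (by omega)
  rcases Nat.lt_or_ge v 9854 with h8 | h8
  · exact (data.checkRange_iff 8700 1154).mp Cfsg.Agent.Lib.Helper3.Cover.E22U1.chk8 v (by omega) (by omega)
  rcases Nat.lt_or_ge v 11155 with h9 | h9
  · exact (data.checkRange_iff 9854 1301).mp Cfsg.Agent.Lib.Helper3.Cover.E22U1.chk9 v (by omega) (by omega)
  rcases Nat.lt_or_ge v 12411 with h10 | h10
  · exact (data.checkRange_iff 11155 1256).mp Cfsg.Agent.Lib.Helper3.Cover.E22U2.chk10 v (by omega) (by omega)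
  rcases Nat.lt_or_ge v 13796 with h11 | h11
  · exact (data.checkRange_iff 12411 1385).mp Cfsg.Agent.Lib.Helper3.Cover.E22U2.chk11 v (by omega) (by omega)
  rcases Nat.lt_or_ge v 15114 with h12 | h12
  · exact (data.checkRange_iff 13796 1318).mp Cfsg.Agent.Lib.Helper3.Cover.E22U2.chk12 v (by omega) (by omega)
  rcases Nat.lt_or_ge v 16494 with h13 | h13
  · exact (data.checkRange_iff 15114 1380).mp Cfsg.Agent.Lib.Helper3.Cover.E22U2.chk13 v (by omega) (by omega)
  rcases Nat.lt_or_ge v 17842 with h14 | h14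
  · exact (data.checkRange_iff 16494 1348).mp Cfsg.Agent.Lib.Helper3.Cover.E22U2.chk14 v (by omega) (by omega)
  rcases Nat.lt_or_ge v 19105 with h15 | h15
  · exact (data.checkRange_iff 17842 1263).mp Cfsg.Agent.Lib.Helper3.Cover.E22U3.chk15 v (by omega) (by omega)
  rcases Nat.lt_or_ge v 20418 with h16 | h16
  · exact (data.checkRange_iff 19105 1313).mp Cfsg.Agent.Lib.Helper3.Cover.E22U3.chk16 v (by omega) (by omega)
  rcases Nat.lt_or_ge v 21782 with h17 | h17
  · exact (data.checkRange_iff 20418 1364).mp Cfsg.Agent.Lib.Helper3.Cover.E22U3.chk17 v (by omega) (by omega)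
  rcases Nat.lt_or_ge v 23212 with h18 | h18
  · exact (data.checkRange_iff 21782 1430).mp Cfsg.Agent.Lib.Helper3.Cover.E22U3.chk18 v (by omega) (by omega)
  rcases Nat.lt_or_ge v 24628 with h19 | h19
  · exact (data.checkRange_iff 23212 1416).mp Cfsg.Agent.Lib.Helper3.Cover.E22U3.chk19 v (by omega) (by omega)
  rcases Nat.lt_or_ge v 26141 with h20 | h20
  · exact (data.checkRange_iff 24628 1513).mp Cfsg.Agent.Lib.Helper3.Cover.E22U4.chk20 v (by omega) (by omega)
  rcases Nat.lt_or_ge v 27620 with h21 | h21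
  · exact (data.checkRange_iff 26141 1479).mp Cfsg.Agent.Lib.Helper3.Cover.E22U4.chk21 v (by omega) (by omega)
  rcases Nat.lt_or_ge v 29077 with h22 | h22
  · exact (data.checkRange_iff 27620 1457).mp Cfsg.Agent.Lib.Helper3.Cover.E22U4.chk22 v (by omega) (by omega)
  rcases Nat.lt_or_ge v 30539 with h23 | h23
  · exact (data.checkRange_iff 29077 1462).mp Cfsg.Agent.Lib.Helper3.Cover.E22U4.chk23 v (by omega) (by omega)
  rcases Nat.lt_or_ge v 32020 with h24 | h24
  · exact (data.checkRange_iff 30539 1481).mp Cfsg.Agent.Lib.Helper3.Cover.E22U4.chk24 v (by omega) (by omega)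
  rcases Nat.lt_or_ge v 33421 with h25 | h25
  · exact (data.checkRange_iff 32020 1401).mp Cfsg.Agent.Lib.Helper3.Cover.E22U5.chk25 v (by omega) (by omega)
  rcases Nat.lt_or_ge v 34796 with h26 | h26
  · exact (data.checkRange_iff 33421 1375).mp Cfsg.Agent.Lib.Helper3.Cover.E22U5.chk26 v (by omega) (by omega)
  rcases Nat.lt_or_ge v 36316 with h27 | h27
  · exact (data.checkRange_iff 34796 1520).mp Cfsg.Agent.Lib.Helper3.Cover.E22U5.chk27 v (by omega) (by omega)
  rcases Nat.lt_or_ge v 37843 with h28 | h28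
  · exact (data.checkRange_iff 36316 1527).mp Cfsg.Agent.Lib.Helper3.Cover.E22U5.chk28 v (by omega) (by omega)
  rcases Nat.lt_or_ge v 39443 with h29 | h29
  · exact (data.checkRange_iff 37843 1600).mp Cfsg.Agent.Lib.Helper3.Cover.E22U5.chk29 v (by omega) (by omega)
  rcases Nat.lt_or_ge v 40959 with h30 | h30
  · exact (data.checkRange_iff 39443 1516).mp Cfsg.Agent.Lib.Helper3.Cover.E22U6.chk30 v (by omega) (by omega)
  rcases Nat.lt_or_ge v 42598 with h31 | h31
  · exact (data.checkRange_iff 40959 1639).mp Cfsg.Agent.Lib.Helper3.Cover.E22U6.chk31 v (by omega) (by omega)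
  rcases Nat.lt_or_ge v 44263 with h32 | h32
  · exact (data.checkRange_iff 42598 1665).mp Cfsg.Agent.Lib.Helper3.Cover.E22U6.chk32 v (by omega) (by omega)
  rcases Nat.lt_or_ge v 45861 with h33 | h33
  · exact (data.checkRange_iff 44263 1598).mp Cfsg.Agent.Lib.Helper3.Cover.E22U6.chk33 v (by omega) (by omega)
  rcases Nat.lt_or_ge v 47469 with h34 | h34
  · exact (data.checkRange_iff 45861 1608).mp Cfsg.Agent.Lib.Helper3.Cover.E22U6.chk34 v (by omega) (by omega)
  rcases Nat.lt_or_ge v 49106 with h35 | h35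
  · exact (data.checkRange_iff 47469 1637).mp Cfsg.Agent.Lib.Helper3.Cover.E22U7.chk35 v (by omega) (by omega)
  rcases Nat.lt_or_ge v 50664 with h36 | h36
  · exact (data.checkRange_iff 49106 1558).mp Cfsg.Agent.Lib.Helper3.Cover.E22U7.chk36 v (by omega) (by omega)
  rcases Nat.lt_or_ge v 52241 with h37 | h37
  · exact (data.checkRange_iff 50664 1577).mp Cfsg.Agent.Lib.Helper3.Cover.E22U7.chk37 v (by omega) (by omega)
  rcases Nat.lt_or_ge v 53836 with h38 | h38
  · exact (data.checkRange_iff 52241 1595).mp Cfsg.Agent.Lib.Helper3.Cover.E22U7.chk38 v (by omega) (by omega)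
  rcases Nat.lt_or_ge v 55536 with h39 | h39
  · exact (data.checkRange_iff 53836 1700).mp Cfsg.Agent.Lib.Helper3.Cover.E22U7.chk39 v (by omega) (by omega)
  rcases Nat.lt_or_ge v 57266 with h40 | h40
  · exact (data.checkRange_iff 55536 1730).mp Cfsg.Agent.Lib.Helper3.Cover.E22U8.chk40 v (by omega) (by omega)
  rcases Nat.lt_or_ge v 59010 with h41 | h41
  · exact (data.checkRange_iff 57266 1744).mp Cfsg.Agent.Lib.Helper3.Cover.E22U8.chk41 v (by omega) (by omega)
  rcases Nat.lt_or_ge v 60766 with h42 | h42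
  · exact (data.checkRange_iff 59010 1756).mp Cfsg.Agent.Lib.Helper3.Cover.E22U8.chk42 v (by omega) (by omega)
  rcases Nat.lt_or_ge v 62525 with h43 | h43
  · exact (data.checkRange_iff 60766 1759).mp Cfsg.Agent.Lib.Helper3.Cover.E22U8.chk43 v (by omega) (by omega)
  rcases Nat.lt_or_ge v 64309 with h44 | h44
  · exact (data.checkRange_iff 62525 1784).mp Cfsg.Agent.Lib.Helper3.Cover.E22U8.chk44 v (by omega) (by omega)
  rcases Nat.lt_or_ge v 66084 with h45 | h45
  · exact (data.checkRange_iff 64309 1775).mp Cfsg.Agent.Lib.Helper3.Cover.E22U9.chk45 v (by omega) (by omega)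
  rcases Nat.lt_or_ge v 67873 with h46 | h46
  · exact (data.checkRange_iff 66084 1789).mp Cfsg.Agent.Lib.Helper3.Cover.E22U9.chk46 v (by omega) (by omega)
  rcases Nat.lt_or_ge v 69648 with h47 | h47
  · exact (data.checkRange_iff 67873 1775).mp Cfsg.Agent.Lib.Helper3.Cover.E22U9.chk47 v (by omega) (by omega)
  rcases Nat.lt_or_ge v 71572 with h48 | h48
  · exact (data.checkRange_iff 69648 1924).mp Cfsg.Agent.Lib.Helper3.Cover.E22U9.chk48 v (by omega) (by omega)
  rcases Nat.lt_or_ge v 73484 with h49 | h49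
  · exact (data.checkRange_iff 71572 1912).mp Cfsg.Agent.Lib.Helper3.Cover.E22U9.chk49 v (by omega) (by omega)
  rcases Nat.lt_or_ge v 75433 with h50 | h50
  · exact (data.checkRange_iff 73484 1949).mp Cfsg.Agent.Lib.Helper3.Cover.E22U10.chk50 v (by omega) (by omega)
  rcases Nat.lt_or_ge v 77380 with h51 | h51
  · exact (data.checkRange_iff 75433 1947).mp Cfsg.Agent.Lib.Helper3.Cover.E22U10.chk51 v (by omega) (by omega)
  exact (data.checkRange_iff 77380 167).mp Cfsg.Agent.Lib.Helper3.Cover.E22U10.chk52 v (by omega) (by omega)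

theorem hrows : ∀ v, v < data.N → Data.rowOK data v = true := by
  intro v hv
  have hv' : v < 77547 := hv
  rcases Nat.lt_or_ge v 6000 with h0 | h0
  · exact (Data.finalRange_iff data 0 6000).mp Cfsg.Agent.Lib.Helper3.Cover.E22M0.fin0 v (by omega) (by omega)
  rcases Nat.lt_or_ge v 12000 with h1 | h1
  · exact (Data.finalRange_iff data 6000 6000).mp Cfsg.Agent.Lib.Helper3.Cover.E22M0.fin1 v (by omega) (by omega)
  rcases Nat.lt_or_ge v 18000 with h2 | h2
  · exact (Data.finalRange_iff data 12000 6000).mp Cfsg.Agent.Lib.Helper3.Cover.E22M0.fin2 v (by omega) (by omega)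
  rcases Nat.lt_or_ge v 24000 with h3 | h3
  · exact (Data.finalRange_iff data 18000 6000).mp Cfsg.Agent.Lib.Helper3.Cover.E22M0.fin3 v (by omega) (by omega)
  rcases Nat.lt_or_ge v 30000 with h4 | h4
  · exact (Data.finalRange_iff data 24000 6000).mp Cfsg.Agent.Lib.Helper3.Cover.E22M0.fin4 v (by omega) (by omega)
  rcases Nat.lt_or_ge v 36000 with h5 | h5
  · exact (Data.finalRange_iff data 30000 6000).mp Cfsg.Agent.Lib.Helper3.Cover.E22M1.fin5 v (by omega) (by omega)
  rcases Nat.lt_or_ge v 42000 with h6 | h6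
  · exact (Data.finalRange_iff data 36000 6000).mp Cfsg.Agent.Lib.Helper3.Cover.E22M1.fin6 v (by omega) (by omega)
  rcases Nat.lt_or_ge v 48000 with h7 | h7
  · exact (Data.finalRange_iff data 42000 6000).mp Cfsg.Agent.Lib.Helper3.Cover.E22M1.fin7 v (by omega) (by omega)
  rcases Nat.lt_or_ge v 54000 with h8 | h8
  · exact (Data.finalRange_iff data 48000 6000).mp Cfsg.Agent.Lib.Helper3.Cover.E22M1.fin8 v (by omega) (by omega)
  rcases Nat.lt_or_ge v 60000 with h9 | h9
  · exact (Data.finalRange_iff data 54000 6000).mp Cfsg.Agent.Lib.Helper3.Cover.E22M1.fin9 v (by omega) (by omega)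
  rcases Nat.lt_or_ge v 66000 with h10 | h10
  · exact (Data.finalRange_iff data 60000 6000).mp Cfsg.Agent.Lib.Helper3.Cover.E22M2.fin10 v (by omega) (by omega)
  rcases Nat.lt_or_ge v 72000 with h11 | h11
  · exact (Data.finalRange_iff data 66000 6000).mp Cfsg.Agent.Lib.Helper3.Cover.E22M2.fin11 v (by omega) (by omega)
  exact (Data.finalRange_iff data 72000 5547).mp Cfsg.Agent.Lib.Helper3.Cover.E22M2.fin12 v (by omega) (by omega)

theorem hfin : data.finalOK = true := Data.finalOK_of_rows data hlive0 (by decide) hrows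

theorem pc0 : Data.countFrom data 0 6000 = 317 := Cfsg.Agent.Lib.Helper3.Cover.E22M2.cnt0
theorem pc1 : Data.countFrom data 0 12000 = 345 := Data.countFrom_step data pc0 Cfsg.Agent.Lib.Helper3.Cover.E22M2.cnt1 (by norm_num) (by norm_num)
theorem pc2 : Data.countFrom data 0 18000 = 352 := Data.countFrom_step data pc1 Cfsg.Agent.Lib.Helper3.Cover.E22M3.cnt2 (by norm_num) (by norm_num)
theorem pc3 : Data.countFrom data 0 24000 = 352 := Data.countFrom_step data pc2 Cfsg.Agent.Lib.Helper3.Cover.E22M3.cnt3 (by norm_num) (by norm_num)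
theorem pc4 : Data.countFrom data 0 30000 = 352 := Data.countFrom_step data pc3 Cfsg.Agent.Lib.Helper3.Cover.E22M3.cnt4 (by norm_num) (by norm_num)
theorem pc5 : Data.countFrom data 0 36000 = 352 := Data.countFrom_step data pc4 Cfsg.Agent.Lib.Helper3.Cover.E22M3.cnt5 (by norm_num) (by norm_num)
theorem pc6 : Data.countFrom data 0 42000 = 352 := Data.countFrom_step data pc5 Cfsg.Agent.Lib.Helper3.Cover.E22M3.cnt6 (by norm_num) (by norm_num)
theorem pc7 : Data.countFrom data 0 48000 = 352 := Data.countFrom_step data pc6 Cfsg.Agent.Lib.Helper3.Cover.E22M4.cnt7 (by norm_num) (by norm_num)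
theorem pc8 : Data.countFrom data 0 54000 = 352 := Data.countFrom_step data pc7 Cfsg.Agent.Lib.Helper3.Cover.E22M4.cnt8 (by norm_num) (by norm_num)
theorem pc9 : Data.countFrom data 0 60000 = 352 := Data.countFrom_step data pc8 Cfsg.Agent.Lib.Helper3.Cover.E22M4.cnt9 (by norm_num) (by norm_num)
theorem pc10 : Data.countFrom data 0 66000 = 352 := Data.countFrom_step data pc9 Cfsg.Agent.Lib.Helper3.Cover.E22M4.cnt10 (by norm_num) (by norm_num)
theorem pc11 : Data.countFrom data 0 72000 = 352 := Data.countFrom_step data pc10 Cfsg.Agent.Lib.Helper3.Cover.E22M4.cnt11 (by norm_num) (by norm_num)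
theorem pc12 : Data.countFrom data 0 77547 = 352 := Data.countFrom_step data pc11 Cfsg.Agent.Lib.Helper3.Cover.E22M5.cnt12 (by norm_num) (by norm_num)

theorem hcount : data.countLive = table.n := by
  rw [Data.countLive_eq]
  exact pc12

theorem hpermAll : ∀ p, p < table.n → Table.permRow table p = true := by
  intro p hv
  have hv' : p < 352 := hv
  exact (Table.permRange_iff table 0 352).mp Cfsg.Agent.Lib.Helper3.Cover.E22M5.prm0 p (by omega) (by omega)

theorem hT : table.OK := Table.ok_of_rows table hinvOK hpermAll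

theorem htreeAll : ∀ i, i < Nat.pred table.n → Table.treeRow table i = true := by
  intro p hv
  have hv' : p < 351 := hv
  exact (Table.treeRange_iff table 0 351).mp Cfsg.Agent.Lib.Helper3.Cover.E22M5.tre0 p (by omega) (by omega)

theorem htree : table.treeOK = true := Table.treeOK_of_rows table htreeAll

theorem hchkT : ∀ P ∈ chkPaths, ∀ p, p < table.n → table.walkT P p = p := by
  intro P hm p hv
  have hv' : p < 352 := hv
  exact (Table.relOK_iff chkPaths 0 352).mp Cfsg.Agent.Lib.Helper3.Cover.E22L0.rel0 p (by omega) (by omega) _ hm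

theorem hrelT : ∀ L ∈ relWords, ∀ p, p < table.n → table.walkT (pathOf lw L) p = p :=
  fun L hL => Table.fix_of_covered hT chkPaths hchkT _ (hcov _ (hrelmem L hL)).1 (hcov _ (hrelmem L hL)).2

theorem hsubT : ∀ L ∈ subWords, table.walkT (pathOf lw L) 0 = 0 :=
  fun L hL => (Table.subOK_iff subPaths).mp hsub0 _ (hsubmem L hL)

theorem hn : 0 < table.n := by decide

theorem main : ((Subgroup.closure S).map (PresentedGroup.mk rels)).index = table.n ∧
    ∃ φ : PresentedGroup rels →* Equiv.Perm (Fin table.n),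
      (∀ x, φ (PresentedGroup.of x) = Table.sigma hT (lw (x, true))) ∧
      ∃ f : PresentedGroup rels ⧸ (Subgroup.closure S).map (PresentedGroup.mk rels) → Fin table.n,
        Function.Bijective f ∧ (∀ g q, f (g • q) = φ g (f q)) ∧ f (QuotientGroup.mk 1) = ⟨0, hn⟩ :=
  index_eq link hchk hfin hcount hT hn hrelT hsubT htree

end Cfsg.Agent.Lib.Helper3.Cover.E22Main
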