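import Cfsg.Agent.Lib.Helper28.TC2Upper
import Cfsg.Agent.Lib.Helper3.Cover.E7DataC0
import Cfsg.Agent.Lib.Helper3.Cover.E7DataC1
set_option autoImplicit false
set_option maxRecDepth 100000

namespace Cfsg.Agent.Lib.Helper3.Cover.E7Data
open Cfsg.Agent.Lib.Helper28.TC2Upper

/-- relators -/
def relT : BT (ℕ × List ℕ × List ℕ) := (BT.node 5 (BT.node 2 (BT.node 1 (BT.node 0 (BT.leaf (8, [1, 1, 1, 1, 0, 0, 0, 0], [1, 1, 1, 1, 0, 0, 0, 0])) (BT.leaf (8, [3, 1, 1, 1, 2, 0, 0, 0], [1, 1, 1, 3, 0, 0, 0, 2]))) (BT.leaf (12, [1, 3, 3, 3, 3, 3, 0, 2, 2, 2, 2, 2], [3, 3, 3, 3, 3, 1, 2, 2, 2, 2, 2, 0]))) (BT.node 4 (BT.node 3 (BT.leaf (12, [3, 3, 3, 3, 3, 3, 2, 2, 2, 2, 2, 2], [3, 3, 3, 3, 3, 3, 2, 2, 2, 2, 2, 2])) (BT.leaf (30, [1, 1, 3, 1, 3, 1, 3, 1, 3, 1, 3, 1, 3, 1, 3, 0, 2, 0, 2, 0, 2, 0, 2, 0, 2, 0, 2, 0, 2, 0], [1, 3, 1, 3, 1, 3, 1, 3, 1, 3, 1, 3, 1, 3, 1, 2, 0,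 2, 0, 2, 0, 2, 0, 2, 0, 2, 0, 2, 0, 0]))) (BT.leaf (30, [3, 1, 3, 1, 3, 1, 3, 1, 3, 1, 3, 1, 3, 1, 3, 2, 2, 0, 2, 0, 2, 0, 2, 0, 2, 0, 2, 0, 2, 0], [1, 3, 1, 3, 1, 3, 1, 3, 1, 3, 1, 3, 1, 3, 3, 2, 0, 2, 0, 2, 0, 2, 0, 2, 0, 2, 0, 2, 0, 2])))) (BT.node 8 (BT.node 7 (BT.node 6 (BT.leaf (18, [1, 1, 2, 1, 3, 1, 2, 1, 3, 0, 2, 0, 3, 0, 2, 0, 3, 0], [1, 2, 1, 3, 1, 2, 1, 3, 1, 2, 0, 3, 0, 2, 0, 3, 0, 0])) (BT.leaf (18, [3, 1, 2, 1, 3, 1, 2, 1, 3, 2, 2, 0, 3, 0, 2, 0, 3, 0], [1, 2, 1, 3, 1, 2, 1, 3, 3, 2, 0, 3, 0, 2, 0, 3, 0, 2]))) (BT.leaf (26, [1, 1, 2, 2, 1, 3, 3, 1, 2, 2, 1, 3, 3, 0, 2, 2, 0, 3, 3, 0, 2, 2, 0, 3, 3, 0], [1, 2, 2, 1, 3, 3, 1, 2, 2, 1, 3, 3, 1, 2, 2, 0, 3, 3, 0, 2, 2, 0, 3, 3, 0, 0]))) (BT.node 10 (BT.node 9 (BT.leaf (26, [3, 1, 2, 2, 1, 3, 3, 1, 2, 2, 1, 3, 3, 2, 2, 2, 0, 3, 3, 0, 2, 2, 0, 3, 3, 0], [1, 2, 2, 1, 3, 3, 1, 2, 2, 1, 3, 3, 3, 2, 2,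 0, 3, 3, 0, 2, 2, 0, 3, 3, 0, 2])) (BT.leaf (11, [2, 0, 3, 0, 2, 0, 3, 0, 1, 1, 1], [0, 0, 0, 1, 2, 1, 3, 1, 2, 1, 3]))) (BT.leaf (65, [2, 0, 3, 0, 2, 0, 3, 0, 2, 0, 3, 0, 2, 0, 3, 0, 1, 3, 1, 3, 1, 3, 1, 3, 1, 3, 1, 3, 1, 3, 1, 3, 1, 3, 1, 3, 1, 3, 1, 3, 1, 3, 1, 3, 2, 2, 2, 2, 2, 2, 2, 2, 2, 2, 2, 2, 2, 2, 2, 0, 0, 0, 0, 0, 0], [1, 1, 1, 1, 1, 1, 3, 3, 3, 3, 3, 3, 3, 3, 3, 3, 3, 3, 3, 3, 3, 2, 0, 2, 0, 2, 0, 2, 0, 2, 0, 2, 0, 2, 0, 2, 0, 2, 0, 2, 0, 2, 0, 2, 0, 2, 0, 2, 0, 1, 2, 1, 3, 1, 2, 1, 3, 1, 2, 1, 3, 1, 2, 1, 3])))))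
/-- subgroup generators -/
def subT : BT (ℕ × List ℕ × List ℕ) := (BT.leaf (0, [], []))
/-- fact chunks -/
def colET : BT ℕ := (BT.node 347 (BT.node 173 (BT.node 86 (BT.node 43 (BT.node 21 (BT.node 10 (BT.node 5 (BT.node 2 (BT.node 1 (BT.node 0 (BT.leaf cE0) (BT.leaf cE1)) (BT.leaf cE2)) (BT.node 4 (BT.node 3 (BT.leaf cE3) (BT.leaf cE4)) (BT.leaf cE5))) (BT.node 8 (BT.node 7 (BT.node 6 (BT.leaf cE6) (BT.leaf cE7)) (BT.leaf cE8)) (BT.node 9 (BT.leaf cE9) (BT.leaf cE10)))) (BT.node 16 (BT.node 13 (BT.node 12 (BT.node 11 (BT.leaf cE11) (BT.leaf cE12)) (BT.leaf cE13)) (BT.node 15 (BT.node 14 (BT.leaf cE14) (BT.leaf cE15)) (BT.leaf cE16))) (BT.node 19 (BT.node 18 (BT.node 17 (BT.leaf cE17) (BT.leaf cE18)) (BT.leaf cE19)) (BT.node 20 (BT.leaf cE20) (BT.leaf cE21))))) (BT.node 32 (BT.node 27 (BT.node 24 (BT.node 23 (BT.node 22 (BT.leaf cE22) (BT.leaf cE23)) (BT.leaf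 cE24)) (BT.node 26 (BT.node 25 (BT.leaf cE25) (BT.leaf cE26)) (BT.leaf cE27))) (BT.node 30 (BT.node 29 (BT.node 28 (BT.leaf cE28) (BT.leaf cE29)) (BT.leaf cE30)) (BT.node 31 (BT.leaf cE31) (BT.leaf cE32)))) (BT.node 38 (BT.node 35 (BT.node 34 (BT.node 33 (BT.leaf cE33) (BT.leaf cE34)) (BT.leaf cE35)) (BT.node 37 (BT.node 36 (BT.leaf cE36) (BT.leaf cE37)) (BT.leaf cE38))) (BT.node 41 (BT.node 40 (BT.node 39 (BT.leaf cE39) (BT.leaf cE40)) (BT.leaf cE41)) (BT.node 42 (BT.leaf cE42) (BT.leaf cE43)))))) (BT.node 65 (BT.node 54 (BT.node 49 (BT.node 46 (BT.node 45 (BT.node 44 (BT.leaf cE44) (BT.leaf cE45)) (BT.leaf cE46)) (BT.node 48 (BT.node 47 (BT.leaf cE47) (BT.leaf cE48)) (BT.leaf cE49))) (BT.node 52 (BT.node 51 (BT.node 50 (BT.leaf cE50) (BT.leaf cE51)) (BT.leaf cE52)) (BT.node 53 (BT.leaf cE53) (BT.leaf cE54)))) (BT.node 60 (BT.node 57 (BT.node 56 (BT.node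 55 (BT.leaf cE55) (BT.leaf cE56)) (BT.leaf cE57)) (BT.node 59 (BT.node 58 (BT.leaf cE58) (BT.leaf cE59)) (BT.leaf cE60))) (BT.node 63 (BT.node 62 (BT.node 61 (BT.leaf cE61) (BT.leaf cE62)) (BT.leaf cE63)) (BT.node 64 (BT.leaf cE64) (BT.leaf cE65))))) (BT.node 76 (BT.node 71 (BT.node 68 (BT.node 67 (BT.node 66 (BT.leaf cE66) (BT.leaf cE67)) (BT.leaf cE68)) (BT.node 70 (BT.node 69 (BT.leaf cE69) (BT.leaf cE70)) (BT.leaf cE71))) (BT.node 74 (BT.node 73 (BT.node 72 (BT.leaf cE72) (BT.leaf cE73)) (BT.leaf cE74)) (BT.node 75 (BT.leaf cE75) (BT.leaf cE76)))) (BT.node 81 (BT.node 79 (BT.node 78 (BT.node 77 (BT.leaf cE77) (BT.leaf cE78)) (BT.leaf cE79)) (BT.node 80 (BT.leaf cE80) (BT.leaf cE81))) (BT.node 84 (BT.node 83 (BT.node 82 (BT.leaf cE82) (BT.leaf cE83)) (BT.leaf cE84)) (BT.node 85 (BT.leaf cE85) (BT.leaf cE86))))))) (BT.node 130 (BT.node 108 (BT.node 97 (BT.node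 92 (BT.node 89 (BT.node 88 (BT.node 87 (BT.leaf cE87) (BT.leaf cE88)) (BT.leaf cE89)) (BT.node 91 (BT.node 90 (BT.leaf cE90) (BT.leaf cE91)) (BT.leaf cE92))) (BT.node 95 (BT.node 94 (BT.node 93 (BT.leaf cE93) (BT.leaf cE94)) (BT.leaf cE95)) (BT.node 96 (BT.leaf cE96) (BT.leaf cE97)))) (BT.node 103 (BT.node 100 (BT.node 99 (BT.node 98 (BT.leaf cE98) (BT.leaf cE99)) (BT.leaf cE100)) (BT.node 102 (BT.node 101 (BT.leaf cE101) (BT.leaf cE102)) (BT.leaf cE103))) (BT.node 106 (BT.node 105 (BT.node 104 (BT.leaf cE104) (BT.leaf cE105)) (BT.leaf cE106)) (BT.node 107 (BT.leaf cE107) (BT.leaf cE108))))) (BT.node 119 (BT.node 114 (BT.node 111 (BT.node 110 (BT.node 109 (BT.leaf cE109) (BT.leaf cE110)) (BT.leaf cE111)) (BT.node 113 (BT.node 112 (BT.leaf cE112) (BT.leaf cE113)) (BT.leaf cE114))) (BT.node 117 (BT.node 116 (BT.node 115 (BT.leaf cE115) (BT.leaf cE116)) (BT.leaf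 cE117)) (BT.node 118 (BT.leaf cE118) (BT.leaf cE119)))) (BT.node 125 (BT.node 122 (BT.node 121 (BT.node 120 (BT.leaf cE120) (BT.leaf cE121)) (BT.leaf cE122)) (BT.node 124 (BT.node 123 (BT.leaf cE123) (BT.leaf cE124)) (BT.leaf cE125))) (BT.node 128 (BT.node 127 (BT.node 126 (BT.leaf cE126) (BT.leaf cE127)) (BT.leaf cE128)) (BT.node 129 (BT.leaf cE129) (BT.leaf cE130)))))) (BT.node 152 (BT.node 141 (BT.node 136 (BT.node 133 (BT.node 132 (BT.node 131 (BT.leaf cE131) (BT.leaf cE132)) (BT.leaf cE133)) (BT.node 135 (BT.node 134 (BT.leaf cE134) (BT.leaf cE135)) (BT.leaf cE136))) (BT.node 139 (BT.node 138 (BT.node 137 (BT.leaf cE137) (BT.leaf cE138)) (BT.leaf cE139)) (BT.node 140 (BT.leaf cE140) (BT.leaf cE141)))) (BT.node 147 (BT.node 144 (BT.node 143 (BT.node 142 (BT.leaf cE142) (BT.leaf cE143)) (BT.leaf cE144)) (BT.node 146 (BT.node 145 (BT.leaf cE145) (BT.leaf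 cE146)) (BT.leaf cE147))) (BT.node 150 (BT.node 149 (BT.node 148 (BT.leaf cE148) (BT.leaf cE149)) (BT.leaf cE150)) (BT.node 151 (BT.leaf cE151) (BT.leaf cE152))))) (BT.node 163 (BT.node 158 (BT.node 155 (BT.node 154 (BT.node 153 (BT.leaf cE153) (BT.leaf cE154)) (BT.leaf cE155)) (BT.node 157 (BT.node 156 (BT.leaf cE156) (BT.leaf cE157)) (BT.leaf cE158))) (BT.node 161 (BT.node 160 (BT.node 159 (BT.leaf cE159) (BT.leaf cE160)) (BT.leaf cE161)) (BT.node 162 (BT.leaf cE162) (BT.leaf cE163)))) (BT.node 168 (BT.node 166 (BT.node 165 (BT.node 164 (BT.leaf cE164) (BT.leaf cE165)) (BT.leaf cE166)) (BT.node 167 (BT.leaf cE167) (BT.leaf cE168))) (BT.node 171 (BT.node 170 (BT.node 169 (BT.leaf cE169) (BT.leaf cE170)) (BT.leaf cE171)) (BT.node 172 (BT.leaf cE172) (BT.leaf cE173)))))))) (BT.node 260 (BT.node 217 (BT.node 195 (BT.node 184 (BT.node 179 (BT.node 176 (BT.node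 175 (BT.node 174 (BT.leaf cE174) (BT.leaf cE175)) (BT.leaf cE176)) (BT.node 178 (BT.node 177 (BT.leaf cE177) (BT.leaf cE178)) (BT.leaf cE179))) (BT.node 182 (BT.node 181 (BT.node 180 (BT.leaf cE180) (BT.leaf cE181)) (BT.leaf cE182)) (BT.node 183 (BT.leaf cE183) (BT.leaf cE184)))) (BT.node 190 (BT.node 187 (BT.node 186 (BT.node 185 (BT.leaf cE185) (BT.leaf cE186)) (BT.leaf cE187)) (BT.node 189 (BT.node 188 (BT.leaf cE188) (BT.leaf cE189)) (BT.leaf cE190))) (BT.node 193 (BT.node 192 (BT.node 191 (BT.leaf cE191) (BT.leaf cE192)) (BT.leaf cE193)) (BT.node 194 (BT.leaf cE194) (BT.leaf cE195))))) (BT.node 206 (BT.node 201 (BT.node 198 (BT.node 197 (BT.node 196 (BT.leaf cE196) (BT.leaf cE197)) (BT.leaf cE198)) (BT.node 200 (BT.node 199 (BT.leaf cE199) (BT.leaf cE200)) (BT.leaf cE201))) (BT.node 204 (BT.node 203 (BT.node 202 (BT.leaf cE202) (BT.leaf cE203)) (BT.leaf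 cE204)) (BT.node 205 (BT.leaf cE205) (BT.leaf cE206)))) (BT.node 212 (BT.node 209 (BT.node 208 (BT.node 207 (BT.leaf cE207) (BT.leaf cE208)) (BT.leaf cE209)) (BT.node 211 (BT.node 210 (BT.leaf cE210) (BT.leaf cE211)) (BT.leaf cE212))) (BT.node 215 (BT.node 214 (BT.node 213 (BT.leaf cE213) (BT.leaf cE214)) (BT.leaf cE215)) (BT.node 216 (BT.leaf cE216) (BT.leaf cE217)))))) (BT.node 239 (BT.node 228 (BT.node 223 (BT.node 220 (BT.node 219 (BT.node 218 (BT.leaf cE218) (BT.leaf cE219)) (BT.leaf cE220)) (BT.node 222 (BT.node 221 (BT.leaf cE221) (BT.leaf cE222)) (BT.leaf cE223))) (BT.node 226 (BT.node 225 (BT.node 224 (BT.leaf cE224) (BT.leaf cE225)) (BT.leaf cE226)) (BT.node 227 (BT.leaf cE227) (BT.leaf cE228)))) (BT.node 234 (BT.node 231 (BT.node 230 (BT.node 229 (BT.leaf cE229) (BT.leaf cE230)) (BT.leaf cE231)) (BT.node 233 (BT.node 232 (BT.leaf cE232) (BT.leaf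 cE233)) (BT.leaf cE234))) (BT.node 237 (BT.node 236 (BT.node 235 (BT.leaf cE235) (BT.leaf cE236)) (BT.leaf cE237)) (BT.node 238 (BT.leaf cE238) (BT.leaf cE239))))) (BT.node 250 (BT.node 245 (BT.node 242 (BT.node 241 (BT.node 240 (BT.leaf cE240) (BT.leaf cE241)) (BT.leaf cE242)) (BT.node 244 (BT.node 243 (BT.leaf cE243) (BT.leaf cE244)) (BT.leaf cE245))) (BT.node 248 (BT.node 247 (BT.node 246 (BT.leaf cE246) (BT.leaf cE247)) (BT.leaf cE248)) (BT.node 249 (BT.leaf cE249) (BT.leaf cE250)))) (BT.node 255 (BT.node 253 (BT.node 252 (BT.node 251 (BT.leaf cE251) (BT.leaf cE252)) (BT.leaf cE253)) (BT.node 254 (BT.leaf cE254) (BT.leaf cE255))) (BT.node 258 (BT.node 257 (BT.node 256 (BT.leaf cE256) (BT.leaf cE257)) (BT.leaf cE258)) (BT.node 259 (BT.leaf cE259) (BT.leaf cE260))))))) (BT.node 304 (BT.node 282 (BT.node 271 (BT.node 266 (BT.node 263 (BT.node 262 (BT.node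 261 (BT.leaf cE261) (BT.leaf cE262)) (BT.leaf cE263)) (BT.node 265 (BT.node 264 (BT.leaf cE264) (BT.leaf cE265)) (BT.leaf cE266))) (BT.node 269 (BT.node 268 (BT.node 267 (BT.leaf cE267) (BT.leaf cE268)) (BT.leaf cE269)) (BT.node 270 (BT.leaf cE270) (BT.leaf cE271)))) (BT.node 277 (BT.node 274 (BT.node 273 (BT.node 272 (BT.leaf cE272) (BT.leaf cE273)) (BT.leaf cE274)) (BT.node 276 (BT.node 275 (BT.leaf cE275) (BT.leaf cE276)) (BT.leaf cE277))) (BT.node 280 (BT.node 279 (BT.node 278 (BT.leaf cE278) (BT.leaf cE279)) (BT.leaf cE280)) (BT.node 281 (BT.leaf cE281) (BT.leaf cE282))))) (BT.node 293 (BT.node 288 (BT.node 285 (BT.node 284 (BT.node 283 (BT.leaf cE283) (BT.leaf cE284)) (BT.leaf cE285)) (BT.node 287 (BT.node 286 (BT.leaf cE286) (BT.leaf cE287)) (BT.leaf cE288))) (BT.node 291 (BT.node 290 (BT.node 289 (BT.leaf cE289) (BT.leaf cE290)) (BT.leaf cE291)) (BT.node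 292 (BT.leaf cE292) (BT.leaf cE293)))) (BT.node 299 (BT.node 296 (BT.node 295 (BT.node 294 (BT.leaf cE294) (BT.leaf cE295)) (BT.leaf cE296)) (BT.node 298 (BT.node 297 (BT.leaf cE297) (BT.leaf cE298)) (BT.leaf cE299))) (BT.node 302 (BT.node 301 (BT.node 300 (BT.leaf cE300) (BT.leaf cE301)) (BT.leaf cE302)) (BT.node 303 (BT.leaf cE303) (BT.leaf cE304)))))) (BT.node 326 (BT.node 315 (BT.node 310 (BT.node 307 (BT.node 306 (BT.node 305 (BT.leaf cE305) (BT.leaf cE306)) (BT.leaf cE307)) (BT.node 309 (BT.node 308 (BT.leaf cE308) (BT.leaf cE309)) (BT.leaf cE310))) (BT.node 313 (BT.node 312 (BT.node 311 (BT.leaf cE311) (BT.leaf cE312)) (BT.leaf cE313)) (BT.node 314 (BT.leaf cE314) (BT.leaf cE315)))) (BT.node 321 (BT.node 318 (BT.node 317 (BT.node 316 (BT.leaf cE316) (BT.leaf cE317)) (BT.leaf cE318)) (BT.node 320 (BT.node 319 (BT.leaf cE319) (BT.leaf cE320)) (BT.leaf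 cE321))) (BT.node 324 (BT.node 323 (BT.node 322 (BT.leaf cE322) (BT.leaf cE323)) (BT.leaf cE324)) (BT.node 325 (BT.leaf cE325) (BT.leaf cE326))))) (BT.node 337 (BT.node 332 (BT.node 329 (BT.node 328 (BT.node 327 (BT.leaf cE327) (BT.leaf cE328)) (BT.leaf cE329)) (BT.node 331 (BT.node 330 (BT.leaf cE330) (BT.leaf cE331)) (BT.leaf cE332))) (BT.node 335 (BT.node 334 (BT.node 333 (BT.leaf cE333) (BT.leaf cE334)) (BT.leaf cE335)) (BT.node 336 (BT.leaf cE336) (BT.leaf cE337)))) (BT.node 342 (BT.node 340 (BT.node 339 (BT.node 338 (BT.leaf cE338) (BT.leaf cE339)) (BT.leaf cE340)) (BT.node 341 (BT.leaf cE341) (BT.leaf cE342))) (BT.node 345 (BT.node 344 (BT.node 343 (BT.leaf cE343) (BT.leaf cE344)) (BT.leaf cE345)) (BT.node 346 (BT.leaf cE346) (BT.leaf cE347))))))))) (BT.node 521 (BT.node 434 (BT.node 391 (BT.node 369 (BT.node 358 (BT.node 353 (BT.node 350 (BT.node 349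 (BT.node 348 (BT.leaf cE348) (BT.leaf cE349)) (BT.leaf cE350)) (BT.node 352 (BT.node 351 (BT.leaf cE351) (BT.leaf cE352)) (BT.leaf cE353))) (BT.node 356 (BT.node 355 (BT.node 354 (BT.leaf cE354) (BT.leaf cE355)) (BT.leaf cE356)) (BT.node 357 (BT.leaf cE357) (BT.leaf cE358)))) (BT.node 364 (BT.node 361 (BT.node 360 (BT.node 359 (BT.leaf cE359) (BT.leaf cE360)) (BT.leaf cE361)) (BT.node 363 (BT.node 362 (BT.leaf cE362) (BT.leaf cE363)) (BT.leaf cE364))) (BT.node 367 (BT.node 366 (BT.node 365 (BT.leaf cE365) (BT.leaf cE366)) (BT.leaf cE367)) (BT.node 368 (BT.leaf cE368) (BT.leaf cE369))))) (BT.node 380 (BT.node 375 (BT.node 372 (BT.node 371 (BT.node 370 (BT.leaf cE370) (BT.leaf cE371)) (BT.leaf cE372)) (BT.node 374 (BT.node 373 (BT.leaf cE373) (BT.leaf cE374)) (BT.leaf cE375))) (BT.node 378 (BT.node 377 (BT.node 376 (BT.leaf cE376) (BT.leaf cE377)) (BT.leaf cE378))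 (BT.node 379 (BT.leaf cE379) (BT.leaf cE380)))) (BT.node 386 (BT.node 383 (BT.node 382 (BT.node 381 (BT.leaf cE381) (BT.leaf cE382)) (BT.leaf cE383)) (BT.node 385 (BT.node 384 (BT.leaf cE384) (BT.leaf cE385)) (BT.leaf cE386))) (BT.node 389 (BT.node 388 (BT.node 387 (BT.leaf cE387) (BT.leaf cE388)) (BT.leaf cE389)) (BT.node 390 (BT.leaf cE390) (BT.leaf cE391)))))) (BT.node 413 (BT.node 402 (BT.node 397 (BT.node 394 (BT.node 393 (BT.node 392 (BT.leaf cE392) (BT.leaf cE393)) (BT.leaf cE394)) (BT.node 396 (BT.node 395 (BT.leaf cE395) (BT.leaf cE396)) (BT.leaf cE397))) (BT.node 400 (BT.node 399 (BT.node 398 (BT.leaf cE398) (BT.leaf cE399)) (BT.leaf cE400)) (BT.node 401 (BT.leaf cE401) (BT.leaf cE402)))) (BT.node 408 (BT.node 405 (BT.node 404 (BT.node 403 (BT.leaf cE403) (BT.leaf cE404)) (BT.leaf cE405)) (BT.node 407 (BT.node 406 (BT.leaf cE406) (BT.leaf cE407))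 (BT.leaf cE408))) (BT.node 411 (BT.node 410 (BT.node 409 (BT.leaf cE409) (BT.leaf cE410)) (BT.leaf cE411)) (BT.node 412 (BT.leaf cE412) (BT.leaf cE413))))) (BT.node 424 (BT.node 419 (BT.node 416 (BT.node 415 (BT.node 414 (BT.leaf cE414) (BT.leaf cE415)) (BT.leaf cE416)) (BT.node 418 (BT.node 417 (BT.leaf cE417) (BT.leaf cE418)) (BT.leaf cE419))) (BT.node 422 (BT.node 421 (BT.node 420 (BT.leaf cE420) (BT.leaf cE421)) (BT.leaf cE422)) (BT.node 423 (BT.leaf cE423) (BT.leaf cE424)))) (BT.node 429 (BT.node 427 (BT.node 426 (BT.node 425 (BT.leaf cE425) (BT.leaf cE426)) (BT.leaf cE427)) (BT.node 428 (BT.leaf cE428) (BT.leaf cE429))) (BT.node 432 (BT.node 431 (BT.node 430 (BT.leaf cE430) (BT.leaf cE431)) (BT.leaf cE432)) (BT.node 433 (BT.leaf cE433) (BT.leaf cE434))))))) (BT.node 478 (BT.node 456 (BT.node 445 (BT.node 440 (BT.node 437 (BT.node 436 (BT.node 435 (BT.leaf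 cE435) (BT.leaf cE436)) (BT.leaf cE437)) (BT.node 439 (BT.node 438 (BT.leaf cE438) (BT.leaf cE439)) (BT.leaf cE440))) (BT.node 443 (BT.node 442 (BT.node 441 (BT.leaf cE441) (BT.leaf cE442)) (BT.leaf cE443)) (BT.node 444 (BT.leaf cE444) (BT.leaf cE445)))) (BT.node 451 (BT.node 448 (BT.node 447 (BT.node 446 (BT.leaf cE446) (BT.leaf cE447)) (BT.leaf cE448)) (BT.node 450 (BT.node 449 (BT.leaf cE449) (BT.leaf cE450)) (BT.leaf cE451))) (BT.node 454 (BT.node 453 (BT.node 452 (BT.leaf cE452) (BT.leaf cE453)) (BT.leaf cE454)) (BT.node 455 (BT.leaf cE455) (BT.leaf cE456))))) (BT.node 467 (BT.node 462 (BT.node 459 (BT.node 458 (BT.node 457 (BT.leaf cE457) (BT.leaf cE458)) (BT.leaf cE459)) (BT.node 461 (BT.node 460 (BT.leaf cE460) (BT.leaf cE461)) (BT.leaf cE462))) (BT.node 465 (BT.node 464 (BT.node 463 (BT.leaf cE463) (BT.leaf cE464)) (BT.leaf cE465)) (BT.node 466 (BT.leaf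 cE466) (BT.leaf cE467)))) (BT.node 473 (BT.node 470 (BT.node 469 (BT.node 468 (BT.leaf cE468) (BT.leaf cE469)) (BT.leaf cE470)) (BT.node 472 (BT.node 471 (BT.leaf cE471) (BT.leaf cE472)) (BT.leaf cE473))) (BT.node 476 (BT.node 475 (BT.node 474 (BT.leaf cE474) (BT.leaf cE475)) (BT.leaf cE476)) (BT.node 477 (BT.leaf cE477) (BT.leaf cE478)))))) (BT.node 500 (BT.node 489 (BT.node 484 (BT.node 481 (BT.node 480 (BT.node 479 (BT.leaf cE479) (BT.leaf cE480)) (BT.leaf cE481)) (BT.node 483 (BT.node 482 (BT.leaf cE482) (BT.leaf cE483)) (BT.leaf cE484))) (BT.node 487 (BT.node 486 (BT.node 485 (BT.leaf cE485) (BT.leaf cE486)) (BT.leaf cE487)) (BT.node 488 (BT.leaf cE488) (BT.leaf cE489)))) (BT.node 495 (BT.node 492 (BT.node 491 (BT.node 490 (BT.leaf cE490) (BT.leaf cE491)) (BT.leaf cE492)) (BT.node 494 (BT.node 493 (BT.leaf cE493) (BT.leaf cE494)) (BT.leaf cE495))) (BT.node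 498 (BT.node 497 (BT.node 496 (BT.leaf cE496) (BT.leaf cE497)) (BT.leaf cE498)) (BT.node 499 (BT.leaf cE499) (BT.leaf cE500))))) (BT.node 511 (BT.node 506 (BT.node 503 (BT.node 502 (BT.node 501 (BT.leaf cE501) (BT.leaf cE502)) (BT.leaf cE503)) (BT.node 505 (BT.node 504 (BT.leaf cE504) (BT.leaf cE505)) (BT.leaf cE506))) (BT.node 509 (BT.node 508 (BT.node 507 (BT.leaf cE507) (BT.leaf cE508)) (BT.leaf cE509)) (BT.node 510 (BT.leaf cE510) (BT.leaf cE511)))) (BT.node 516 (BT.node 514 (BT.node 513 (BT.node 512 (BT.leaf cE512) (BT.leaf cE513)) (BT.leaf cE514)) (BT.node 515 (BT.leaf cE515) (BT.leaf cE516))) (BT.node 519 (BT.node 518 (BT.node 517 (BT.leaf cE517) (BT.leaf cE518)) (BT.leaf cE519)) (BT.node 520 (BT.leaf cE520) (BT.leaf cE521)))))))) (BT.node 608 (BT.node 565 (BT.node 543 (BT.node 532 (BT.node 527 (BT.node 524 (BT.node 523 (BT.node 522 (BT.leaf cE522)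 (BT.leaf cE523)) (BT.leaf cE524)) (BT.node 526 (BT.node 525 (BT.leaf cE525) (BT.leaf cE526)) (BT.leaf cE527))) (BT.node 530 (BT.node 529 (BT.node 528 (BT.leaf cE528) (BT.leaf cE529)) (BT.leaf cE530)) (BT.node 531 (BT.leaf cE531) (BT.leaf cE532)))) (BT.node 538 (BT.node 535 (BT.node 534 (BT.node 533 (BT.leaf cE533) (BT.leaf cE534)) (BT.leaf cE535)) (BT.node 537 (BT.node 536 (BT.leaf cE536) (BT.leaf cE537)) (BT.leaf cE538))) (BT.node 541 (BT.node 540 (BT.node 539 (BT.leaf cE539) (BT.leaf cE540)) (BT.leaf cE541)) (BT.node 542 (BT.leaf cE542) (BT.leaf cE543))))) (BT.node 554 (BT.node 549 (BT.node 546 (BT.node 545 (BT.node 544 (BT.leaf cE544) (BT.leaf cE545)) (BT.leaf cE546)) (BT.node 548 (BT.node 547 (BT.leaf cE547) (BT.leaf cE548)) (BT.leaf cE549))) (BT.node 552 (BT.node 551 (BT.node 550 (BT.leaf cE550) (BT.leaf cE551)) (BT.leaf cE552)) (BT.node 553 (BT.leaf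 cE553) (BT.leaf cE554)))) (BT.node 560 (BT.node 557 (BT.node 556 (BT.node 555 (BT.leaf cE555) (BT.leaf cE556)) (BT.leaf cE557)) (BT.node 559 (BT.node 558 (BT.leaf cE558) (BT.leaf cE559)) (BT.leaf cE560))) (BT.node 563 (BT.node 562 (BT.node 561 (BT.leaf cE561) (BT.leaf cE562)) (BT.leaf cE563)) (BT.node 564 (BT.leaf cE564) (BT.leaf cE565)))))) (BT.node 587 (BT.node 576 (BT.node 571 (BT.node 568 (BT.node 567 (BT.node 566 (BT.leaf cE566) (BT.leaf cE567)) (BT.leaf cE568)) (BT.node 570 (BT.node 569 (BT.leaf cE569) (BT.leaf cE570)) (BT.leaf cE571))) (BT.node 574 (BT.node 573 (BT.node 572 (BT.leaf cE572) (BT.leaf cE573)) (BT.leaf cE574)) (BT.node 575 (BT.leaf cE575) (BT.leaf cE576)))) (BT.node 582 (BT.node 579 (BT.node 578 (BT.node 577 (BT.leaf cE577) (BT.leaf cE578)) (BT.leaf cE579)) (BT.node 581 (BT.node 580 (BT.leaf cE580) (BT.leaf cE581)) (BT.leaf cE582))) (BT.node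 585 (BT.node 584 (BT.node 583 (BT.leaf cE583) (BT.leaf cE584)) (BT.leaf cE585)) (BT.node 586 (BT.leaf cE586) (BT.leaf cE587))))) (BT.node 598 (BT.node 593 (BT.node 590 (BT.node 589 (BT.node 588 (BT.leaf cE588) (BT.leaf cE589)) (BT.leaf cE590)) (BT.node 592 (BT.node 591 (BT.leaf cE591) (BT.leaf cE592)) (BT.leaf cE593))) (BT.node 596 (BT.node 595 (BT.node 594 (BT.leaf cE594) (BT.leaf cE595)) (BT.leaf cE596)) (BT.node 597 (BT.leaf cE597) (BT.leaf cE598)))) (BT.node 603 (BT.node 601 (BT.node 600 (BT.node 599 (BT.leaf cE599) (BT.leaf cE600)) (BT.leaf cE601)) (BT.node 602 (BT.leaf cE602) (BT.leaf cE603))) (BT.node 606 (BT.node 605 (BT.node 604 (BT.leaf cE604) (BT.leaf cE605)) (BT.leaf cE606)) (BT.node 607 (BT.leaf cE607) (BT.leaf cE608))))))) (BT.node 651 (BT.node 630 (BT.node 619 (BT.node 614 (BT.node 611 (BT.node 610 (BT.node 609 (BT.leaf cE609) (BT.leaf cE610))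 (BT.leaf cE611)) (BT.node 613 (BT.node 612 (BT.leaf cE612) (BT.leaf cE613)) (BT.leaf cE614))) (BT.node 617 (BT.node 616 (BT.node 615 (BT.leaf cE615) (BT.leaf cE616)) (BT.leaf cE617)) (BT.node 618 (BT.leaf cE618) (BT.leaf cE619)))) (BT.node 625 (BT.node 622 (BT.node 621 (BT.node 620 (BT.leaf cE620) (BT.leaf cE621)) (BT.leaf cE622)) (BT.node 624 (BT.node 623 (BT.leaf cE623) (BT.leaf cE624)) (BT.leaf cE625))) (BT.node 628 (BT.node 627 (BT.node 626 (BT.leaf cE626) (BT.leaf cE627)) (BT.leaf cE628)) (BT.node 629 (BT.leaf cE629) (BT.leaf cE630))))) (BT.node 641 (BT.node 636 (BT.node 633 (BT.node 632 (BT.node 631 (BT.leaf cE631) (BT.leaf cE632)) (BT.leaf cE633)) (BT.node 635 (BT.node 634 (BT.leaf cE634) (BT.leaf cE635)) (BT.leaf cE636))) (BT.node 639 (BT.node 638 (BT.node 637 (BT.leaf cE637) (BT.leaf cE638)) (BT.leaf cE639)) (BT.node 640 (BT.leaf cE640) (BT.leaf cE641))))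 (BT.node 646 (BT.node 644 (BT.node 643 (BT.node 642 (BT.leaf cE642) (BT.leaf cE643)) (BT.leaf cE644)) (BT.node 645 (BT.leaf cE645) (BT.leaf cE646))) (BT.node 649 (BT.node 648 (BT.node 647 (BT.leaf cE647) (BT.leaf cE648)) (BT.leaf cE649)) (BT.node 650 (BT.leaf cE650) (BT.leaf cE651)))))) (BT.node 673 (BT.node 662 (BT.node 657 (BT.node 654 (BT.node 653 (BT.node 652 (BT.leaf cE652) (BT.leaf cE653)) (BT.leaf cE654)) (BT.node 656 (BT.node 655 (BT.leaf cE655) (BT.leaf cE656)) (BT.leaf cE657))) (BT.node 660 (BT.node 659 (BT.node 658 (BT.leaf cE658) (BT.leaf cE659)) (BT.leaf cE660)) (BT.node 661 (BT.leaf cE661) (BT.leaf cE662)))) (BT.node 668 (BT.node 665 (BT.node 664 (BT.node 663 (BT.leaf cE663) (BT.leaf cE664)) (BT.leaf cE665)) (BT.node 667 (BT.node 666 (BT.leaf cE666) (BT.leaf cE667)) (BT.leaf cE668))) (BT.node 671 (BT.node 670 (BT.node 669 (BT.leaf cE669) (BT.leaf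 cE670)) (BT.leaf cE671)) (BT.node 672 (BT.leaf cE672) (BT.leaf cE673))))) (BT.node 684 (BT.node 679 (BT.node 676 (BT.node 675 (BT.node 674 (BT.leaf cE674) (BT.leaf cE675)) (BT.leaf cE676)) (BT.node 678 (BT.node 677 (BT.leaf cE677) (BT.leaf cE678)) (BT.leaf cE679))) (BT.node 682 (BT.node 681 (BT.node 680 (BT.leaf cE680) (BT.leaf cE681)) (BT.leaf cE682)) (BT.node 683 (BT.leaf cE683) (BT.leaf cE684)))) (BT.node 689 (BT.node 687 (BT.node 686 (BT.node 685 (BT.leaf cE685) (BT.leaf cE686)) (BT.leaf cE687)) (BT.node 688 (BT.leaf cE688) (BT.leaf cE689))) (BT.node 692 (BT.node 691 (BT.node 690 (BT.leaf cE690) (BT.leaf cE691)) (BT.leaf cE692)) (BT.node 693 (BT.leaf cE693) (BT.leaf cE694))))))))))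
/-- justification chunks -/
def colJT : BT ℕ := (BT.node 347 (BT.node 173 (BT.node 86 (BT.node 43 (BT.node 21 (BT.node 10 (BT.node 5 (BT.node 2 (BT.node 1 (BT.node 0 (BT.leaf cJ0) (BT.leaf cJ1)) (BT.leaf cJ2)) (BT.node 4 (BT.node 3 (BT.leaf cJ3) (BT.leaf cJ4)) (BT.leaf cJ5))) (BT.node 8 (BT.node 7 (BT.node 6 (BT.leaf cJ6) (BT.leaf cJ7)) (BT.leaf cJ8)) (BT.node 9 (BT.leaf cJ9) (BT.leaf cJ10)))) (BT.node 16 (BT.node 13 (BT.node 12 (BT.node 11 (BT.leaf cJ11) (BT.leaf cJ12)) (BT.leaf cJ13)) (BT.node 15 (BT.node 14 (BT.leaf cJ14) (BT.leaf cJ15)) (BT.leaf cJ16))) (BT.node 19 (BT.node 18 (BT.node 17 (BT.leaf cJ17) (BT.leaf cJ18)) (BT.leaf cJ19)) (BT.node 20 (BT.leaf cJ20) (BT.leaf cJ21))))) (BT.node 32 (BT.node 27 (BT.node 24 (BT.node 23 (BT.node 22 (BT.leaf cJ22) (BT.leaf cJ23)) (BT.leaf cJ24)) (BT.node 26 (BT.node 25 (BT.leaf cJ25) (BT.leaf cJ26)) (BT.leaf cJ27)))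 (BT.node 30 (BT.node 29 (BT.node 28 (BT.leaf cJ28) (BT.leaf cJ29)) (BT.leaf cJ30)) (BT.node 31 (BT.leaf cJ31) (BT.leaf cJ32)))) (BT.node 38 (BT.node 35 (BT.node 34 (BT.node 33 (BT.leaf cJ33) (BT.leaf cJ34)) (BT.leaf cJ35)) (BT.node 37 (BT.node 36 (BT.leaf cJ36) (BT.leaf cJ37)) (BT.leaf cJ38))) (BT.node 41 (BT.node 40 (BT.node 39 (BT.leaf cJ39) (BT.leaf cJ40)) (BT.leaf cJ41)) (BT.node 42 (BT.leaf cJ42) (BT.leaf cJ43)))))) (BT.node 65 (BT.node 54 (BT.node 49 (BT.node 46 (BT.node 45 (BT.node 44 (BT.leaf cJ44) (BT.leaf cJ45)) (BT.leaf cJ46)) (BT.node 48 (BT.node 47 (BT.leaf cJ47) (BT.leaf cJ48)) (BT.leaf cJ49))) (BT.node 52 (BT.node 51 (BT.node 50 (BT.leaf cJ50) (BT.leaf cJ51)) (BT.leaf cJ52)) (BT.node 53 (BT.leaf cJ53) (BT.leaf cJ54)))) (BT.node 60 (BT.node 57 (BT.node 56 (BT.node 55 (BT.leaf cJ55) (BT.leaf cJ56)) (BT.leaf cJ57)) (BT.node 59 (BT.node 58 (BT.leaf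 cJ58) (BT.leaf cJ59)) (BT.leaf cJ60))) (BT.node 63 (BT.node 62 (BT.node 61 (BT.leaf cJ61) (BT.leaf cJ62)) (BT.leaf cJ63)) (BT.node 64 (BT.leaf cJ64) (BT.leaf cJ65))))) (BT.node 76 (BT.node 71 (BT.node 68 (BT.node 67 (BT.node 66 (BT.leaf cJ66) (BT.leaf cJ67)) (BT.leaf cJ68)) (BT.node 70 (BT.node 69 (BT.leaf cJ69) (BT.leaf cJ70)) (BT.leaf cJ71))) (BT.node 74 (BT.node 73 (BT.node 72 (BT.leaf cJ72) (BT.leaf cJ73)) (BT.leaf cJ74)) (BT.node 75 (BT.leaf cJ75) (BT.leaf cJ76)))) (BT.node 81 (BT.node 79 (BT.node 78 (BT.node 77 (BT.leaf cJ77) (BT.leaf cJ78)) (BT.leaf cJ79)) (BT.node 80 (BT.leaf cJ80) (BT.leaf cJ81))) (BT.node 84 (BT.node 83 (BT.node 82 (BT.leaf cJ82) (BT.leaf cJ83)) (BT.leaf cJ84)) (BT.node 85 (BT.leaf cJ85) (BT.leaf cJ86))))))) (BT.node 130 (BT.node 108 (BT.node 97 (BT.node 92 (BT.node 89 (BT.node 88 (BT.node 87 (BT.leaf cJ87) (BT.leaf cJ88)) (BT.leaf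 cJ89)) (BT.node 91 (BT.node 90 (BT.leaf cJ90) (BT.leaf cJ91)) (BT.leaf cJ92))) (BT.node 95 (BT.node 94 (BT.node 93 (BT.leaf cJ93) (BT.leaf cJ94)) (BT.leaf cJ95)) (BT.node 96 (BT.leaf cJ96) (BT.leaf cJ97)))) (BT.node 103 (BT.node 100 (BT.node 99 (BT.node 98 (BT.leaf cJ98) (BT.leaf cJ99)) (BT.leaf cJ100)) (BT.node 102 (BT.node 101 (BT.leaf cJ101) (BT.leaf cJ102)) (BT.leaf cJ103))) (BT.node 106 (BT.node 105 (BT.node 104 (BT.leaf cJ104) (BT.leaf cJ105)) (BT.leaf cJ106)) (BT.node 107 (BT.leaf cJ107) (BT.leaf cJ108))))) (BT.node 119 (BT.node 114 (BT.node 111 (BT.node 110 (BT.node 109 (BT.leaf cJ109) (BT.leaf cJ110)) (BT.leaf cJ111)) (BT.node 113 (BT.node 112 (BT.leaf cJ112) (BT.leaf cJ113)) (BT.leaf cJ114))) (BT.node 117 (BT.node 116 (BT.node 115 (BT.leaf cJ115) (BT.leaf cJ116)) (BT.leaf cJ117)) (BT.node 118 (BT.leaf cJ118) (BT.leaf cJ119)))) (BT.node 125 (BT.node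 122 (BT.node 121 (BT.node 120 (BT.leaf cJ120) (BT.leaf cJ121)) (BT.leaf cJ122)) (BT.node 124 (BT.node 123 (BT.leaf cJ123) (BT.leaf cJ124)) (BT.leaf cJ125))) (BT.node 128 (BT.node 127 (BT.node 126 (BT.leaf cJ126) (BT.leaf cJ127)) (BT.leaf cJ128)) (BT.node 129 (BT.leaf cJ129) (BT.leaf cJ130)))))) (BT.node 152 (BT.node 141 (BT.node 136 (BT.node 133 (BT.node 132 (BT.node 131 (BT.leaf cJ131) (BT.leaf cJ132)) (BT.leaf cJ133)) (BT.node 135 (BT.node 134 (BT.leaf cJ134) (BT.leaf cJ135)) (BT.leaf cJ136))) (BT.node 139 (BT.node 138 (BT.node 137 (BT.leaf cJ137) (BT.leaf cJ138)) (BT.leaf cJ139)) (BT.node 140 (BT.leaf cJ140) (BT.leaf cJ141)))) (BT.node 147 (BT.node 144 (BT.node 143 (BT.node 142 (BT.leaf cJ142) (BT.leaf cJ143)) (BT.leaf cJ144)) (BT.node 146 (BT.node 145 (BT.leaf cJ145) (BT.leaf cJ146)) (BT.leaf cJ147))) (BT.node 150 (BT.node 149 (BT.node 148 (BT.leaf cJ148)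 (BT.leaf cJ149)) (BT.leaf cJ150)) (BT.node 151 (BT.leaf cJ151) (BT.leaf cJ152))))) (BT.node 163 (BT.node 158 (BT.node 155 (BT.node 154 (BT.node 153 (BT.leaf cJ153) (BT.leaf cJ154)) (BT.leaf cJ155)) (BT.node 157 (BT.node 156 (BT.leaf cJ156) (BT.leaf cJ157)) (BT.leaf cJ158))) (BT.node 161 (BT.node 160 (BT.node 159 (BT.leaf cJ159) (BT.leaf cJ160)) (BT.leaf cJ161)) (BT.node 162 (BT.leaf cJ162) (BT.leaf cJ163)))) (BT.node 168 (BT.node 166 (BT.node 165 (BT.node 164 (BT.leaf cJ164) (BT.leaf cJ165)) (BT.leaf cJ166)) (BT.node 167 (BT.leaf cJ167) (BT.leaf cJ168))) (BT.node 171 (BT.node 170 (BT.node 169 (BT.leaf cJ169) (BT.leaf cJ170)) (BT.leaf cJ171)) (BT.node 172 (BT.leaf cJ172) (BT.leaf cJ173)))))))) (BT.node 260 (BT.node 217 (BT.node 195 (BT.node 184 (BT.node 179 (BT.node 176 (BT.node 175 (BT.node 174 (BT.leaf cJ174) (BT.leaf cJ175)) (BT.leaf cJ176)) (BT.node 178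 (BT.node 177 (BT.leaf cJ177) (BT.leaf cJ178)) (BT.leaf cJ179))) (BT.node 182 (BT.node 181 (BT.node 180 (BT.leaf cJ180) (BT.leaf cJ181)) (BT.leaf cJ182)) (BT.node 183 (BT.leaf cJ183) (BT.leaf cJ184)))) (BT.node 190 (BT.node 187 (BT.node 186 (BT.node 185 (BT.leaf cJ185) (BT.leaf cJ186)) (BT.leaf cJ187)) (BT.node 189 (BT.node 188 (BT.leaf cJ188) (BT.leaf cJ189)) (BT.leaf cJ190))) (BT.node 193 (BT.node 192 (BT.node 191 (BT.leaf cJ191) (BT.leaf cJ192)) (BT.leaf cJ193)) (BT.node 194 (BT.leaf cJ194) (BT.leaf cJ195))))) (BT.node 206 (BT.node 201 (BT.node 198 (BT.node 197 (BT.node 196 (BT.leaf cJ196) (BT.leaf cJ197)) (BT.leaf cJ198)) (BT.node 200 (BT.node 199 (BT.leaf cJ199) (BT.leaf cJ200)) (BT.leaf cJ201))) (BT.node 204 (BT.node 203 (BT.node 202 (BT.leaf cJ202) (BT.leaf cJ203)) (BT.leaf cJ204)) (BT.node 205 (BT.leaf cJ205) (BT.leaf cJ206)))) (BT.node 212 (BT.node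 209 (BT.node 208 (BT.node 207 (BT.leaf cJ207) (BT.leaf cJ208)) (BT.leaf cJ209)) (BT.node 211 (BT.node 210 (BT.leaf cJ210) (BT.leaf cJ211)) (BT.leaf cJ212))) (BT.node 215 (BT.node 214 (BT.node 213 (BT.leaf cJ213) (BT.leaf cJ214)) (BT.leaf cJ215)) (BT.node 216 (BT.leaf cJ216) (BT.leaf cJ217)))))) (BT.node 239 (BT.node 228 (BT.node 223 (BT.node 220 (BT.node 219 (BT.node 218 (BT.leaf cJ218) (BT.leaf cJ219)) (BT.leaf cJ220)) (BT.node 222 (BT.node 221 (BT.leaf cJ221) (BT.leaf cJ222)) (BT.leaf cJ223))) (BT.node 226 (BT.node 225 (BT.node 224 (BT.leaf cJ224) (BT.leaf cJ225)) (BT.leaf cJ226)) (BT.node 227 (BT.leaf cJ227) (BT.leaf cJ228)))) (BT.node 234 (BT.node 231 (BT.node 230 (BT.node 229 (BT.leaf cJ229) (BT.leaf cJ230)) (BT.leaf cJ231)) (BT.node 233 (BT.node 232 (BT.leaf cJ232) (BT.leaf cJ233)) (BT.leaf cJ234))) (BT.node 237 (BT.node 236 (BT.node 235 (BT.leaf cJ235)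 (BT.leaf cJ236)) (BT.leaf cJ237)) (BT.node 238 (BT.leaf cJ238) (BT.leaf cJ239))))) (BT.node 250 (BT.node 245 (BT.node 242 (BT.node 241 (BT.node 240 (BT.leaf cJ240) (BT.leaf cJ241)) (BT.leaf cJ242)) (BT.node 244 (BT.node 243 (BT.leaf cJ243) (BT.leaf cJ244)) (BT.leaf cJ245))) (BT.node 248 (BT.node 247 (BT.node 246 (BT.leaf cJ246) (BT.leaf cJ247)) (BT.leaf cJ248)) (BT.node 249 (BT.leaf cJ249) (BT.leaf cJ250)))) (BT.node 255 (BT.node 253 (BT.node 252 (BT.node 251 (BT.leaf cJ251) (BT.leaf cJ252)) (BT.leaf cJ253)) (BT.node 254 (BT.leaf cJ254) (BT.leaf cJ255))) (BT.node 258 (BT.node 257 (BT.node 256 (BT.leaf cJ256) (BT.leaf cJ257)) (BT.leaf cJ258)) (BT.node 259 (BT.leaf cJ259) (BT.leaf cJ260))))))) (BT.node 304 (BT.node 282 (BT.node 271 (BT.node 266 (BT.node 263 (BT.node 262 (BT.node 261 (BT.leaf cJ261) (BT.leaf cJ262)) (BT.leaf cJ263)) (BT.node 265 (BT.node 264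 (BT.leaf cJ264) (BT.leaf cJ265)) (BT.leaf cJ266))) (BT.node 269 (BT.node 268 (BT.node 267 (BT.leaf cJ267) (BT.leaf cJ268)) (BT.leaf cJ269)) (BT.node 270 (BT.leaf cJ270) (BT.leaf cJ271)))) (BT.node 277 (BT.node 274 (BT.node 273 (BT.node 272 (BT.leaf cJ272) (BT.leaf cJ273)) (BT.leaf cJ274)) (BT.node 276 (BT.node 275 (BT.leaf cJ275) (BT.leaf cJ276)) (BT.leaf cJ277))) (BT.node 280 (BT.node 279 (BT.node 278 (BT.leaf cJ278) (BT.leaf cJ279)) (BT.leaf cJ280)) (BT.node 281 (BT.leaf cJ281) (BT.leaf cJ282))))) (BT.node 293 (BT.node 288 (BT.node 285 (BT.node 284 (BT.node 283 (BT.leaf cJ283) (BT.leaf cJ284)) (BT.leaf cJ285)) (BT.node 287 (BT.node 286 (BT.leaf cJ286) (BT.leaf cJ287)) (BT.leaf cJ288))) (BT.node 291 (BT.node 290 (BT.node 289 (BT.leaf cJ289) (BT.leaf cJ290)) (BT.leaf cJ291)) (BT.node 292 (BT.leaf cJ292) (BT.leaf cJ293)))) (BT.node 299 (BT.node 296 (BT.node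 295 (BT.node 294 (BT.leaf cJ294) (BT.leaf cJ295)) (BT.leaf cJ296)) (BT.node 298 (BT.node 297 (BT.leaf cJ297) (BT.leaf cJ298)) (BT.leaf cJ299))) (BT.node 302 (BT.node 301 (BT.node 300 (BT.leaf cJ300) (BT.leaf cJ301)) (BT.leaf cJ302)) (BT.node 303 (BT.leaf cJ303) (BT.leaf cJ304)))))) (BT.node 326 (BT.node 315 (BT.node 310 (BT.node 307 (BT.node 306 (BT.node 305 (BT.leaf cJ305) (BT.leaf cJ306)) (BT.leaf cJ307)) (BT.node 309 (BT.node 308 (BT.leaf cJ308) (BT.leaf cJ309)) (BT.leaf cJ310))) (BT.node 313 (BT.node 312 (BT.node 311 (BT.leaf cJ311) (BT.leaf cJ312)) (BT.leaf cJ313)) (BT.node 314 (BT.leaf cJ314) (BT.leaf cJ315)))) (BT.node 321 (BT.node 318 (BT.node 317 (BT.node 316 (BT.leaf cJ316) (BT.leaf cJ317)) (BT.leaf cJ318)) (BT.node 320 (BT.node 319 (BT.leaf cJ319) (BT.leaf cJ320)) (BT.leaf cJ321))) (BT.node 324 (BT.node 323 (BT.node 322 (BT.leaf cJ322) (BT.leaf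 cJ323)) (BT.leaf cJ324)) (BT.node 325 (BT.leaf cJ325) (BT.leaf cJ326))))) (BT.node 337 (BT.node 332 (BT.node 329 (BT.node 328 (BT.node 327 (BT.leaf cJ327) (BT.leaf cJ328)) (BT.leaf cJ329)) (BT.node 331 (BT.node 330 (BT.leaf cJ330) (BT.leaf cJ331)) (BT.leaf cJ332))) (BT.node 335 (BT.node 334 (BT.node 333 (BT.leaf cJ333) (BT.leaf cJ334)) (BT.leaf cJ335)) (BT.node 336 (BT.leaf cJ336) (BT.leaf cJ337)))) (BT.node 342 (BT.node 340 (BT.node 339 (BT.node 338 (BT.leaf cJ338) (BT.leaf cJ339)) (BT.leaf cJ340)) (BT.node 341 (BT.leaf cJ341) (BT.leaf cJ342))) (BT.node 345 (BT.node 344 (BT.node 343 (BT.leaf cJ343) (BT.leaf cJ344)) (BT.leaf cJ345)) (BT.node 346 (BT.leaf cJ346) (BT.leaf cJ347))))))))) (BT.node 521 (BT.node 434 (BT.node 391 (BT.node 369 (BT.node 358 (BT.node 353 (BT.node 350 (BT.node 349 (BT.node 348 (BT.leaf cJ348) (BT.leaf cJ349)) (BT.leaf cJ350)) (BT.node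 352 (BT.node 351 (BT.leaf cJ351) (BT.leaf cJ352)) (BT.leaf cJ353))) (BT.node 356 (BT.node 355 (BT.node 354 (BT.leaf cJ354) (BT.leaf cJ355)) (BT.leaf cJ356)) (BT.node 357 (BT.leaf cJ357) (BT.leaf cJ358)))) (BT.node 364 (BT.node 361 (BT.node 360 (BT.node 359 (BT.leaf cJ359) (BT.leaf cJ360)) (BT.leaf cJ361)) (BT.node 363 (BT.node 362 (BT.leaf cJ362) (BT.leaf cJ363)) (BT.leaf cJ364))) (BT.node 367 (BT.node 366 (BT.node 365 (BT.leaf cJ365) (BT.leaf cJ366)) (BT.leaf cJ367)) (BT.node 368 (BT.leaf cJ368) (BT.leaf cJ369))))) (BT.node 380 (BT.node 375 (BT.node 372 (BT.node 371 (BT.node 370 (BT.leaf cJ370) (BT.leaf cJ371)) (BT.leaf cJ372)) (BT.node 374 (BT.node 373 (BT.leaf cJ373) (BT.leaf cJ374)) (BT.leaf cJ375))) (BT.node 378 (BT.node 377 (BT.node 376 (BT.leaf cJ376) (BT.leaf cJ377)) (BT.leaf cJ378)) (BT.node 379 (BT.leaf cJ379) (BT.leaf cJ380)))) (BT.node 386 (BT.node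 383 (BT.node 382 (BT.node 381 (BT.leaf cJ381) (BT.leaf cJ382)) (BT.leaf cJ383)) (BT.node 385 (BT.node 384 (BT.leaf cJ384) (BT.leaf cJ385)) (BT.leaf cJ386))) (BT.node 389 (BT.node 388 (BT.node 387 (BT.leaf cJ387) (BT.leaf cJ388)) (BT.leaf cJ389)) (BT.node 390 (BT.leaf cJ390) (BT.leaf cJ391)))))) (BT.node 413 (BT.node 402 (BT.node 397 (BT.node 394 (BT.node 393 (BT.node 392 (BT.leaf cJ392) (BT.leaf cJ393)) (BT.leaf cJ394)) (BT.node 396 (BT.node 395 (BT.leaf cJ395) (BT.leaf cJ396)) (BT.leaf cJ397))) (BT.node 400 (BT.node 399 (BT.node 398 (BT.leaf cJ398) (BT.leaf cJ399)) (BT.leaf cJ400)) (BT.node 401 (BT.leaf cJ401) (BT.leaf cJ402)))) (BT.node 408 (BT.node 405 (BT.node 404 (BT.node 403 (BT.leaf cJ403) (BT.leaf cJ404)) (BT.leaf cJ405)) (BT.node 407 (BT.node 406 (BT.leaf cJ406) (BT.leaf cJ407)) (BT.leaf cJ408))) (BT.node 411 (BT.node 410 (BT.node 409 (BT.leaf cJ409)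 (BT.leaf cJ410)) (BT.leaf cJ411)) (BT.node 412 (BT.leaf cJ412) (BT.leaf cJ413))))) (BT.node 424 (BT.node 419 (BT.node 416 (BT.node 415 (BT.node 414 (BT.leaf cJ414) (BT.leaf cJ415)) (BT.leaf cJ416)) (BT.node 418 (BT.node 417 (BT.leaf cJ417) (BT.leaf cJ418)) (BT.leaf cJ419))) (BT.node 422 (BT.node 421 (BT.node 420 (BT.leaf cJ420) (BT.leaf cJ421)) (BT.leaf cJ422)) (BT.node 423 (BT.leaf cJ423) (BT.leaf cJ424)))) (BT.node 429 (BT.node 427 (BT.node 426 (BT.node 425 (BT.leaf cJ425) (BT.leaf cJ426)) (BT.leaf cJ427)) (BT.node 428 (BT.leaf cJ428) (BT.leaf cJ429))) (BT.node 432 (BT.node 431 (BT.node 430 (BT.leaf cJ430) (BT.leaf cJ431)) (BT.leaf cJ432)) (BT.node 433 (BT.leaf cJ433) (BT.leaf cJ434))))))) (BT.node 478 (BT.node 456 (BT.node 445 (BT.node 440 (BT.node 437 (BT.node 436 (BT.node 435 (BT.leaf cJ435) (BT.leaf cJ436)) (BT.leaf cJ437)) (BT.node 439 (BT.node 438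 (BT.leaf cJ438) (BT.leaf cJ439)) (BT.leaf cJ440))) (BT.node 443 (BT.node 442 (BT.node 441 (BT.leaf cJ441) (BT.leaf cJ442)) (BT.leaf cJ443)) (BT.node 444 (BT.leaf cJ444) (BT.leaf cJ445)))) (BT.node 451 (BT.node 448 (BT.node 447 (BT.node 446 (BT.leaf cJ446) (BT.leaf cJ447)) (BT.leaf cJ448)) (BT.node 450 (BT.node 449 (BT.leaf cJ449) (BT.leaf cJ450)) (BT.leaf cJ451))) (BT.node 454 (BT.node 453 (BT.node 452 (BT.leaf cJ452) (BT.leaf cJ453)) (BT.leaf cJ454)) (BT.node 455 (BT.leaf cJ455) (BT.leaf cJ456))))) (BT.node 467 (BT.node 462 (BT.node 459 (BT.node 458 (BT.node 457 (BT.leaf cJ457) (BT.leaf cJ458)) (BT.leaf cJ459)) (BT.node 461 (BT.node 460 (BT.leaf cJ460) (BT.leaf cJ461)) (BT.leaf cJ462))) (BT.node 465 (BT.node 464 (BT.node 463 (BT.leaf cJ463) (BT.leaf cJ464)) (BT.leaf cJ465)) (BT.node 466 (BT.leaf cJ466) (BT.leaf cJ467)))) (BT.node 473 (BT.node 470 (BT.node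 469 (BT.node 468 (BT.leaf cJ468) (BT.leaf cJ469)) (BT.leaf cJ470)) (BT.node 472 (BT.node 471 (BT.leaf cJ471) (BT.leaf cJ472)) (BT.leaf cJ473))) (BT.node 476 (BT.node 475 (BT.node 474 (BT.leaf cJ474) (BT.leaf cJ475)) (BT.leaf cJ476)) (BT.node 477 (BT.leaf cJ477) (BT.leaf cJ478)))))) (BT.node 500 (BT.node 489 (BT.node 484 (BT.node 481 (BT.node 480 (BT.node 479 (BT.leaf cJ479) (BT.leaf cJ480)) (BT.leaf cJ481)) (BT.node 483 (BT.node 482 (BT.leaf cJ482) (BT.leaf cJ483)) (BT.leaf cJ484))) (BT.node 487 (BT.node 486 (BT.node 485 (BT.leaf cJ485) (BT.leaf cJ486)) (BT.leaf cJ487)) (BT.node 488 (BT.leaf cJ488) (BT.leaf cJ489)))) (BT.node 495 (BT.node 492 (BT.node 491 (BT.node 490 (BT.leaf cJ490) (BT.leaf cJ491)) (BT.leaf cJ492)) (BT.node 494 (BT.node 493 (BT.leaf cJ493) (BT.leaf cJ494)) (BT.leaf cJ495))) (BT.node 498 (BT.node 497 (BT.node 496 (BT.leaf cJ496) (BT.leaf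 cJ497)) (BT.leaf cJ498)) (BT.node 499 (BT.leaf cJ499) (BT.leaf cJ500))))) (BT.node 511 (BT.node 506 (BT.node 503 (BT.node 502 (BT.node 501 (BT.leaf cJ501) (BT.leaf cJ502)) (BT.leaf cJ503)) (BT.node 505 (BT.node 504 (BT.leaf cJ504) (BT.leaf cJ505)) (BT.leaf cJ506))) (BT.node 509 (BT.node 508 (BT.node 507 (BT.leaf cJ507) (BT.leaf cJ508)) (BT.leaf cJ509)) (BT.node 510 (BT.leaf cJ510) (BT.leaf cJ511)))) (BT.node 516 (BT.node 514 (BT.node 513 (BT.node 512 (BT.leaf cJ512) (BT.leaf cJ513)) (BT.leaf cJ514)) (BT.node 515 (BT.leaf cJ515) (BT.leaf cJ516))) (BT.node 519 (BT.node 518 (BT.node 517 (BT.leaf cJ517) (BT.leaf cJ518)) (BT.leaf cJ519)) (BT.node 520 (BT.leaf cJ520) (BT.leaf cJ521)))))))) (BT.node 608 (BT.node 565 (BT.node 543 (BT.node 532 (BT.node 527 (BT.node 524 (BT.node 523 (BT.node 522 (BT.leaf cJ522) (BT.leaf cJ523)) (BT.leaf cJ524)) (BT.node 526 (BT.node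 525 (BT.leaf cJ525) (BT.leaf cJ526)) (BT.leaf cJ527))) (BT.node 530 (BT.node 529 (BT.node 528 (BT.leaf cJ528) (BT.leaf cJ529)) (BT.leaf cJ530)) (BT.node 531 (BT.leaf cJ531) (BT.leaf cJ532)))) (BT.node 538 (BT.node 535 (BT.node 534 (BT.node 533 (BT.leaf cJ533) (BT.leaf cJ534)) (BT.leaf cJ535)) (BT.node 537 (BT.node 536 (BT.leaf cJ536) (BT.leaf cJ537)) (BT.leaf cJ538))) (BT.node 541 (BT.node 540 (BT.node 539 (BT.leaf cJ539) (BT.leaf cJ540)) (BT.leaf cJ541)) (BT.node 542 (BT.leaf cJ542) (BT.leaf cJ543))))) (BT.node 554 (BT.node 549 (BT.node 546 (BT.node 545 (BT.node 544 (BT.leaf cJ544) (BT.leaf cJ545)) (BT.leaf cJ546)) (BT.node 548 (BT.node 547 (BT.leaf cJ547) (BT.leaf cJ548)) (BT.leaf cJ549))) (BT.node 552 (BT.node 551 (BT.node 550 (BT.leaf cJ550) (BT.leaf cJ551)) (BT.leaf cJ552)) (BT.node 553 (BT.leaf cJ553) (BT.leaf cJ554)))) (BT.node 560 (BT.node 557 (BT.node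 556 (BT.node 555 (BT.leaf cJ555) (BT.leaf cJ556)) (BT.leaf cJ557)) (BT.node 559 (BT.node 558 (BT.leaf cJ558) (BT.leaf cJ559)) (BT.leaf cJ560))) (BT.node 563 (BT.node 562 (BT.node 561 (BT.leaf cJ561) (BT.leaf cJ562)) (BT.leaf cJ563)) (BT.node 564 (BT.leaf cJ564) (BT.leaf cJ565)))))) (BT.node 587 (BT.node 576 (BT.node 571 (BT.node 568 (BT.node 567 (BT.node 566 (BT.leaf cJ566) (BT.leaf cJ567)) (BT.leaf cJ568)) (BT.node 570 (BT.node 569 (BT.leaf cJ569) (BT.leaf cJ570)) (BT.leaf cJ571))) (BT.node 574 (BT.node 573 (BT.node 572 (BT.leaf cJ572) (BT.leaf cJ573)) (BT.leaf cJ574)) (BT.node 575 (BT.leaf cJ575) (BT.leaf cJ576)))) (BT.node 582 (BT.node 579 (BT.node 578 (BT.node 577 (BT.leaf cJ577) (BT.leaf cJ578)) (BT.leaf cJ579)) (BT.node 581 (BT.node 580 (BT.leaf cJ580) (BT.leaf cJ581)) (BT.leaf cJ582))) (BT.node 585 (BT.node 584 (BT.node 583 (BT.leaf cJ583) (BT.leaf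 cJ584)) (BT.leaf cJ585)) (BT.node 586 (BT.leaf cJ586) (BT.leaf cJ587))))) (BT.node 598 (BT.node 593 (BT.node 590 (BT.node 589 (BT.node 588 (BT.leaf cJ588) (BT.leaf cJ589)) (BT.leaf cJ590)) (BT.node 592 (BT.node 591 (BT.leaf cJ591) (BT.leaf cJ592)) (BT.leaf cJ593))) (BT.node 596 (BT.node 595 (BT.node 594 (BT.leaf cJ594) (BT.leaf cJ595)) (BT.leaf cJ596)) (BT.node 597 (BT.leaf cJ597) (BT.leaf cJ598)))) (BT.node 603 (BT.node 601 (BT.node 600 (BT.node 599 (BT.leaf cJ599) (BT.leaf cJ600)) (BT.leaf cJ601)) (BT.node 602 (BT.leaf cJ602) (BT.leaf cJ603))) (BT.node 606 (BT.node 605 (BT.node 604 (BT.leaf cJ604) (BT.leaf cJ605)) (BT.leaf cJ606)) (BT.node 607 (BT.leaf cJ607) (BT.leaf cJ608))))))) (BT.node 651 (BT.node 630 (BT.node 619 (BT.node 614 (BT.node 611 (BT.node 610 (BT.node 609 (BT.leaf cJ609) (BT.leaf cJ610)) (BT.leaf cJ611)) (BT.node 613 (BT.node 612 (BT.leaf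 cJ612) (BT.leaf cJ613)) (BT.leaf cJ614))) (BT.node 617 (BT.node 616 (BT.node 615 (BT.leaf cJ615) (BT.leaf cJ616)) (BT.leaf cJ617)) (BT.node 618 (BT.leaf cJ618) (BT.leaf cJ619)))) (BT.node 625 (BT.node 622 (BT.node 621 (BT.node 620 (BT.leaf cJ620) (BT.leaf cJ621)) (BT.leaf cJ622)) (BT.node 624 (BT.node 623 (BT.leaf cJ623) (BT.leaf cJ624)) (BT.leaf cJ625))) (BT.node 628 (BT.node 627 (BT.node 626 (BT.leaf cJ626) (BT.leaf cJ627)) (BT.leaf cJ628)) (BT.node 629 (BT.leaf cJ629) (BT.leaf cJ630))))) (BT.node 641 (BT.node 636 (BT.node 633 (BT.node 632 (BT.node 631 (BT.leaf cJ631) (BT.leaf cJ632)) (BT.leaf cJ633)) (BT.node 635 (BT.node 634 (BT.leaf cJ634) (BT.leaf cJ635)) (BT.leaf cJ636))) (BT.node 639 (BT.node 638 (BT.node 637 (BT.leaf cJ637) (BT.leaf cJ638)) (BT.leaf cJ639)) (BT.node 640 (BT.leaf cJ640) (BT.leaf cJ641)))) (BT.node 646 (BT.node 644 (BT.node 643 (BT.node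 642 (BT.leaf cJ642) (BT.leaf cJ643)) (BT.leaf cJ644)) (BT.node 645 (BT.leaf cJ645) (BT.leaf cJ646))) (BT.node 649 (BT.node 648 (BT.node 647 (BT.leaf cJ647) (BT.leaf cJ648)) (BT.leaf cJ649)) (BT.node 650 (BT.leaf cJ650) (BT.leaf cJ651)))))) (BT.node 673 (BT.node 662 (BT.node 657 (BT.node 654 (BT.node 653 (BT.node 652 (BT.leaf cJ652) (BT.leaf cJ653)) (BT.leaf cJ654)) (BT.node 656 (BT.node 655 (BT.leaf cJ655) (BT.leaf cJ656)) (BT.leaf cJ657))) (BT.node 660 (BT.node 659 (BT.node 658 (BT.leaf cJ658) (BT.leaf cJ659)) (BT.leaf cJ660)) (BT.node 661 (BT.leaf cJ661) (BT.leaf cJ662)))) (BT.node 668 (BT.node 665 (BT.node 664 (BT.node 663 (BT.leaf cJ663) (BT.leaf cJ664)) (BT.leaf cJ665)) (BT.node 667 (BT.node 666 (BT.leaf cJ666) (BT.leaf cJ667)) (BT.leaf cJ668))) (BT.node 671 (BT.node 670 (BT.node 669 (BT.leaf cJ669) (BT.leaf cJ670)) (BT.leaf cJ671)) (BT.node 672 (BT.leaf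 cJ672) (BT.leaf cJ673))))) (BT.node 684 (BT.node 679 (BT.node 676 (BT.node 675 (BT.node 674 (BT.leaf cJ674) (BT.leaf cJ675)) (BT.leaf cJ676)) (BT.node 678 (BT.node 677 (BT.leaf cJ677) (BT.leaf cJ678)) (BT.leaf cJ679))) (BT.node 682 (BT.node 681 (BT.node 680 (BT.leaf cJ680) (BT.leaf cJ681)) (BT.leaf cJ682)) (BT.node 683 (BT.leaf cJ683) (BT.leaf cJ684)))) (BT.node 689 (BT.node 687 (BT.node 686 (BT.node 685 (BT.leaf cJ685) (BT.leaf cJ686)) (BT.leaf cJ687)) (BT.node 688 (BT.leaf cJ688) (BT.leaf cJ689))) (BT.node 692 (BT.node 691 (BT.node 690 (BT.leaf cJ690) (BT.leaf cJ691)) (BT.leaf cJ692)) (BT.node 693 (BT.leaf cJ693) (BT.leaf cJ694))))))))))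
/-- parent chunks -/
def parCT : BT ℕ := (BT.node 69 (BT.node 34 (BT.node 17 (BT.node 8 (BT.node 4 (BT.node 2 (BT.node 1 (BT.node 0 (BT.leaf cP0) (BT.leaf cP1)) (BT.leaf cP2)) (BT.node 3 (BT.leaf cP3) (BT.leaf cP4))) (BT.node 6 (BT.node 5 (BT.leaf cP5) (BT.leaf cP6)) (BT.node 7 (BT.leaf cP7) (BT.leaf cP8)))) (BT.node 13 (BT.node 11 (BT.node 10 (BT.node 9 (BT.leaf cP9) (BT.leaf cP10)) (BT.leaf cP11)) (BT.node 12 (BT.leaf cP12) (BT.leaf cP13))) (BT.node 15 (BT.node 14 (BT.leaf cP14) (BT.leaf cP15)) (BT.node 16 (BT.leaf cP16) (BT.leaf cP17))))) (BT.node 26 (BT.node 22 (BT.node 20 (BT.node 19 (BT.node 18 (BT.leaf cP18) (BT.leaf cP19)) (BT.leaf cP20)) (BT.node 21 (BT.leaf cP21) (BT.leaf cP22))) (BT.node 24 (BT.node 23 (BT.leaf cP23) (BT.leaf cP24)) (BT.node 25 (BT.leaf cP25) (BT.leaf cP26)))) (BT.node 30 (BT.node 28 (BT.node 27 (BT.leaf cP27) (BT.leaf cP28)) (BT.node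 29 (BT.leaf cP29) (BT.leaf cP30))) (BT.node 32 (BT.node 31 (BT.leaf cP31) (BT.leaf cP32)) (BT.node 33 (BT.leaf cP33) (BT.leaf cP34)))))) (BT.node 52 (BT.node 43 (BT.node 39 (BT.node 37 (BT.node 36 (BT.node 35 (BT.leaf cP35) (BT.leaf cP36)) (BT.leaf cP37)) (BT.node 38 (BT.leaf cP38) (BT.leaf cP39))) (BT.node 41 (BT.node 40 (BT.leaf cP40) (BT.leaf cP41)) (BT.node 42 (BT.leaf cP42) (BT.leaf cP43)))) (BT.node 48 (BT.node 46 (BT.node 45 (BT.node 44 (BT.leaf cP44) (BT.leaf cP45)) (BT.leaf cP46)) (BT.node 47 (BT.leaf cP47) (BT.leaf cP48))) (BT.node 50 (BT.node 49 (BT.leaf cP49) (BT.leaf cP50)) (BT.node 51 (BT.leaf cP51) (BT.leaf cP52))))) (BT.node 61 (BT.node 57 (BT.node 55 (BT.node 54 (BT.node 53 (BT.leaf cP53) (BT.leaf cP54)) (BT.leaf cP55)) (BT.node 56 (BT.leaf cP56) (BT.leaf cP57))) (BT.node 59 (BT.node 58 (BT.leaf cP58) (BT.leaf cP59)) (BT.node 60 (BT.leaf cP60)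 (BT.leaf cP61)))) (BT.node 65 (BT.node 63 (BT.node 62 (BT.leaf cP62) (BT.leaf cP63)) (BT.node 64 (BT.leaf cP64) (BT.leaf cP65))) (BT.node 67 (BT.node 66 (BT.leaf cP66) (BT.leaf cP67)) (BT.node 68 (BT.leaf cP68) (BT.leaf cP69))))))) (BT.node 104 (BT.node 87 (BT.node 78 (BT.node 74 (BT.node 72 (BT.node 71 (BT.node 70 (BT.leaf cP70) (BT.leaf cP71)) (BT.leaf cP72)) (BT.node 73 (BT.leaf cP73) (BT.leaf cP74))) (BT.node 76 (BT.node 75 (BT.leaf cP75) (BT.leaf cP76)) (BT.node 77 (BT.leaf cP77) (BT.leaf cP78)))) (BT.node 83 (BT.node 81 (BT.node 80 (BT.node 79 (BT.leaf cP79) (BT.leaf cP80)) (BT.leaf cP81)) (BT.node 82 (BT.leaf cP82) (BT.leaf cP83))) (BT.node 85 (BT.node 84 (BT.leaf cP84) (BT.leaf cP85)) (BT.node 86 (BT.leaf cP86) (BT.leaf cP87))))) (BT.node 96 (BT.node 92 (BT.node 90 (BT.node 89 (BT.node 88 (BT.leaf cP88) (BT.leaf cP89)) (BT.leaf cP90)) (BT.node 91 (BT.leaf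 cP91) (BT.leaf cP92))) (BT.node 94 (BT.node 93 (BT.leaf cP93) (BT.leaf cP94)) (BT.node 95 (BT.leaf cP95) (BT.leaf cP96)))) (BT.node 100 (BT.node 98 (BT.node 97 (BT.leaf cP97) (BT.leaf cP98)) (BT.node 99 (BT.leaf cP99) (BT.leaf cP100))) (BT.node 102 (BT.node 101 (BT.leaf cP101) (BT.leaf cP102)) (BT.node 103 (BT.leaf cP103) (BT.leaf cP104)))))) (BT.node 121 (BT.node 113 (BT.node 109 (BT.node 107 (BT.node 106 (BT.node 105 (BT.leaf cP105) (BT.leaf cP106)) (BT.leaf cP107)) (BT.node 108 (BT.leaf cP108) (BT.leaf cP109))) (BT.node 111 (BT.node 110 (BT.leaf cP110) (BT.leaf cP111)) (BT.node 112 (BT.leaf cP112) (BT.leaf cP113)))) (BT.node 117 (BT.node 115 (BT.node 114 (BT.leaf cP114) (BT.leaf cP115)) (BT.node 116 (BT.leaf cP116) (BT.leaf cP117))) (BT.node 119 (BT.node 118 (BT.leaf cP118) (BT.leaf cP119)) (BT.node 120 (BT.leaf cP120) (BT.leaf cP121))))) (BT.node 130 (BT.node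 126 (BT.node 124 (BT.node 123 (BT.node 122 (BT.leaf cP122) (BT.leaf cP123)) (BT.leaf cP124)) (BT.node 125 (BT.leaf cP125) (BT.leaf cP126))) (BT.node 128 (BT.node 127 (BT.leaf cP127) (BT.leaf cP128)) (BT.node 129 (BT.leaf cP129) (BT.leaf cP130)))) (BT.node 134 (BT.node 132 (BT.node 131 (BT.leaf cP131) (BT.leaf cP132)) (BT.node 133 (BT.leaf cP133) (BT.leaf cP134))) (BT.node 136 (BT.node 135 (BT.leaf cP135) (BT.leaf cP136)) (BT.node 137 (BT.leaf cP137) (BT.leaf cP138))))))))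
/-- the certificate -/
def data : Data where
  k := 4
  N := 71144
  W := 35
  MW := 34359738368
  B := 131072
  CH := 512
  NCH := 139
  colE := colET
  JW := 64
  MJ := 18446744073709551616
  A := 1048576
  colJ := colJT
  PW := 27
  MP := 134217728
  parC := parCT
  inv := (BT.node 2 (BT.node 1 (BT.node 0 (BT.leaf 1) (BT.leaf 0)) (BT.leaf 3)) (BT.node 3 (BT.leaf 2) (BT.leaf 4)))
  rel := relT
  sub := subT
  fuel := 64

end Cfsg.Agent.Lib.Helper3.Cover.E7Data
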