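import Cfsg.Agent.Lib.Helper28.TC2GlueOrb
import Cfsg.Agent.Lib.Helper28.TC2Range
import Cfsg.Agent.Lib.Helper3.Cover.E7Link
import Cfsg.Agent.Lib.Helper3.Cover.E7M
import Cfsg.Agent.Lib.Helper3.Cover.E7M0
import Cfsg.Agent.Lib.Helper3.Cover.E7M1
import Cfsg.Agent.Lib.Helper3.Cover.E7M2
import Cfsg.Agent.Lib.Helper3.Cover.E7M3
import Cfsg.Agent.Lib.Helper3.Cover.E7M4
import Cfsg.Agent.Lib.Helper3.Cover.E7M5
import Cfsg.Agent.Lib.Helper3.Cover.E7U0
import Cfsg.Agent.Lib.Helper3.Cover.E7U1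
import Cfsg.Agent.Lib.Helper3.Cover.E7U2
import Cfsg.Agent.Lib.Helper3.Cover.E7U3
import Cfsg.Agent.Lib.Helper3.Cover.E7U4
import Cfsg.Agent.Lib.Helper3.Cover.E7U5
import Cfsg.Agent.Lib.Helper3.Cover.E7U6
import Cfsg.Agent.Lib.Helper3.Cover.E7U7
import Cfsg.Agent.Lib.Helper3.Cover.E7U8
import Cfsg.Agent.Lib.Helper3.Cover.E7U9
import Cfsg.Agent.Lib.Helper3.Cover.E7U10
import Cfsg.Agent.Lib.Helper3.Cover.E7L0
import Cfsg.Agent.Lib.Helper3.Cover.E7L1

set_option autoImplicit false
set_option maxRecDepth 100000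
open Cfsg

namespace Cfsg.Agent.Lib.Helper3.Cover.E7Main
open Cfsg.Agent.Lib.Helper28.TC2Upper Cfsg.Agent.Lib.Helper28.TC2Lower Cfsg.Agent.Lib.Helper28.TC2Glue Cfsg.Agent.Lib.Helper28.TC2GlueOrb Cfsg.Agent.Lib.Helper28.TC2Orbit Cfsg.Agent.Lib.Helper28.TC2Range
open Cfsg.Agent.Lib.Helper3.Cover.E7Data Cfsg.Agent.Lib.Helper3.Cover.E7Table Cfsg.Agent.Lib.Helper3.Cover.E7Link Cfsg.Agent.Lib.Helper3.Cover.E7M

theorem hchk : ∀ v, v < data.N → data.checkNode v = true := by
  intro v hv
  have hv' : v < 71144 := hv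
  rcases Nat.lt_or_ge v 1224 with h0 | h0
  · exact (data.checkRange_iff 0 1224).mp Cfsg.Agent.Lib.Helper3.Cover.E7U0.chk0 v (by omega) (by omega)
  rcases Nat.lt_or_ge v 2410 with h1 | h1
  · exact (data.checkRange_iff 1224 1186).mp Cfsg.Agent.Lib.Helper3.Cover.E7U0.chk1 v (by omega) (by omega)
  rcases Nat.lt_or_ge v 3579 with h2 | h2
  · exact (data.checkRange_iff 2410 1169).mp Cfsg.Agent.Lib.Helper3.Cover.E7U0.chk2 v (by omega) (by omega)
  rcases Nat.lt_or_ge v 4746 with h3 | h3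
  · exact (data.checkRange_iff 3579 1167).mp Cfsg.Agent.Lib.Helper3.Cover.E7U0.chk3 v (by omega) (by omega)
  rcases Nat.lt_or_ge v 5909 with h4 | h4
  · exact (data.checkRange_iff 4746 1163).mp Cfsg.Agent.Lib.Helper3.Cover.E7U0.chk4 v (by omega) (by omega)
  rcases Nat.lt_or_ge v 7082 with h5 | h5
  · exact (data.checkRange_iff 5909 1173).mp Cfsg.Agent.Lib.Helper3.Cover.E7U1.chk5 v (by omega) (by omega)
  rcases Nat.lt_or_ge v 8244 with h6 | h6
  · exact (data.checkRange_iff 7082 1162).mp Cfsg.Agent.Lib.Helper3.Cover.E7U1.chk6 v (by omega) (by omega)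
  rcases Nat.lt_or_ge v 9413 with h7 | h7
  · exact (data.checkRange_iff 8244 1169).mp Cfsg.Agent.Lib.Helper3.Cover.E7U1.chk7 v (by omega) (by omega)
  rcases Nat.lt_or_ge v 10580 with h8 | h8
  · exact (data.checkRange_iff 9413 1167).mp Cfsg.Agent.Lib.Helper3.Cover.E7U1.chk8 v (by omega) (by omega)
  rcases Nat.lt_or_ge v 11740 with h9 | h9
  · exact (data.checkRange_iff 10580 1160).mp Cfsg.Agent.Lib.Helper3.Cover.E7U1.chk9 v (by omega) (by omega)
  rcases Nat.lt_or_ge v 12910 with h10 | h10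
  · exact (data.checkRange_iff 11740 1170).mp Cfsg.Agent.Lib.Helper3.Cover.E7U2.chk10 v (by omega) (by omega)
  rcases Nat.lt_or_ge v 14110 with h11 | h11
  · exact (data.checkRange_iff 12910 1200).mp Cfsg.Agent.Lib.Helper3.Cover.E7U2.chk11 v (by omega) (by omega)
  rcases Nat.lt_or_ge v 15319 with h12 | h12
  · exact (data.checkRange_iff 14110 1209).mp Cfsg.Agent.Lib.Helper3.Cover.E7U2.chk12 v (by omega) (by omega)
  rcases Nat.lt_or_ge v 16530 with h13 | h13
  · exact (data.checkRange_iff 15319 1211).mp Cfsg.Agent.Lib.Helper3.Cover.E7U2.chk13 v (by omega) (by omega)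
  rcases Nat.lt_or_ge v 17739 with h14 | h14
  · exact (data.checkRange_iff 16530 1209).mp Cfsg.Agent.Lib.Helper3.Cover.E7U2.chk14 v (by omega) (by omega)
  rcases Nat.lt_or_ge v 18944 with h15 | h15
  · exact (data.checkRange_iff 17739 1205).mp Cfsg.Agent.Lib.Helper3.Cover.E7U3.chk15 v (by omega) (by omega)
  rcases Nat.lt_or_ge v 20166 with h16 | h16
  · exact (data.checkRange_iff 18944 1222).mp Cfsg.Agent.Lib.Helper3.Cover.E7U3.chk16 v (by omega) (by omega)
  rcases Nat.lt_or_ge v 21417 with h17 | h17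
  · exact (data.checkRange_iff 20166 1251).mp Cfsg.Agent.Lib.Helper3.Cover.E7U3.chk17 v (by omega) (by omega)
  rcases Nat.lt_or_ge v 22660 with h18 | h18
  · exact (data.checkRange_iff 21417 1243).mp Cfsg.Agent.Lib.Helper3.Cover.E7U3.chk18 v (by omega) (by omega)
  rcases Nat.lt_or_ge v 23888 with h19 | h19
  · exact (data.checkRange_iff 22660 1228).mp Cfsg.Agent.Lib.Helper3.Cover.E7U3.chk19 v (by omega) (by omega)
  rcases Nat.lt_or_ge v 25117 with h20 | h20
  · exact (data.checkRange_iff 23888 1229).mp Cfsg.Agent.Lib.Helper3.Cover.E7U4.chk20 v (by omega) (by omega)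
  rcases Nat.lt_or_ge v 26363 with h21 | h21
  · exact (data.checkRange_iff 25117 1246).mp Cfsg.Agent.Lib.Helper3.Cover.E7U4.chk21 v (by omega) (by omega)
  rcases Nat.lt_or_ge v 27645 with h22 | h22
  · exact (data.checkRange_iff 26363 1282).mp Cfsg.Agent.Lib.Helper3.Cover.E7U4.chk22 v (by omega) (by omega)
  rcases Nat.lt_or_ge v 29016 with h23 | h23
  · exact (data.checkRange_iff 27645 1371).mp Cfsg.Agent.Lib.Helper3.Cover.E7U4.chk23 v (by omega) (by omega)
  rcases Nat.lt_or_ge v 30382 with h24 | h24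
  · exact (data.checkRange_iff 29016 1366).mp Cfsg.Agent.Lib.Helper3.Cover.E7U4.chk24 v (by omega) (by omega)
  rcases Nat.lt_or_ge v 31764 with h25 | h25
  · exact (data.checkRange_iff 30382 1382).mp Cfsg.Agent.Lib.Helper3.Cover.E7U5.chk25 v (by omega) (by omega)
  rcases Nat.lt_or_ge v 33154 with h26 | h26
  · exact (data.checkRange_iff 31764 1390).mp Cfsg.Agent.Lib.Helper3.Cover.E7U5.chk26 v (by omega) (by omega)
  rcases Nat.lt_or_ge v 34580 with h27 | h27
  · exact (data.checkRange_iff 33154 1426).mp Cfsg.Agent.Lib.Helper3.Cover.E7U5.chk27 v (by omega) (by omega)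
  rcases Nat.lt_or_ge v 35985 with h28 | h28
  · exact (data.checkRange_iff 34580 1405).mp Cfsg.Agent.Lib.Helper3.Cover.E7U5.chk28 v (by omega) (by omega)
  rcases Nat.lt_or_ge v 37399 with h29 | h29
  · exact (data.checkRange_iff 35985 1414).mp Cfsg.Agent.Lib.Helper3.Cover.E7U5.chk29 v (by omega) (by omega)
  rcases Nat.lt_or_ge v 38821 with h30 | h30
  · exact (data.checkRange_iff 37399 1422).mp Cfsg.Agent.Lib.Helper3.Cover.E7U6.chk30 v (by omega) (by omega)
  rcases Nat.lt_or_ge v 40267 with h31 | h31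
  · exact (data.checkRange_iff 38821 1446).mp Cfsg.Agent.Lib.Helper3.Cover.E7U6.chk31 v (by omega) (by omega)
  rcases Nat.lt_or_ge v 41720 with h32 | h32
  · exact (data.checkRange_iff 40267 1453).mp Cfsg.Agent.Lib.Helper3.Cover.E7U6.chk32 v (by omega) (by omega)
  rcases Nat.lt_or_ge v 43221 with h33 | h33
  · exact (data.checkRange_iff 41720 1501).mp Cfsg.Agent.Lib.Helper3.Cover.E7U6.chk33 v (by omega) (by omega)
  rcases Nat.lt_or_ge v 44724 with h34 | h34
  · exact (data.checkRange_iff 43221 1503).mp Cfsg.Agent.Lib.Helper3.Cover.E7U6.chk34 v (by omega) (by omega)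
  rcases Nat.lt_or_ge v 46169 with h35 | h35
  · exact (data.checkRange_iff 44724 1445).mp Cfsg.Agent.Lib.Helper3.Cover.E7U7.chk35 v (by omega) (by omega)
  rcases Nat.lt_or_ge v 47617 with h36 | h36
  · exact (data.checkRange_iff 46169 1448).mp Cfsg.Agent.Lib.Helper3.Cover.E7U7.chk36 v (by omega) (by omega)
  rcases Nat.lt_or_ge v 49043 with h37 | h37
  · exact (data.checkRange_iff 47617 1426).mp Cfsg.Agent.Lib.Helper3.Cover.E7U7.chk37 v (by omega) (by omega)
  rcases Nat.lt_or_ge v 50511 with h38 | h38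
  · exact (data.checkRange_iff 49043 1468).mp Cfsg.Agent.Lib.Helper3.Cover.E7U7.chk38 v (by omega) (by omega)
  rcases Nat.lt_or_ge v 52008 with h39 | h39
  · exact (data.checkRange_iff 50511 1497).mp Cfsg.Agent.Lib.Helper3.Cover.E7U7.chk39 v (by omega) (by omega)
  rcases Nat.lt_or_ge v 53719 with h40 | h40
  · exact (data.checkRange_iff 52008 1711).mp Cfsg.Agent.Lib.Helper3.Cover.E7U8.chk40 v (by omega) (by omega)
  rcases Nat.lt_or_ge v 55408 with h41 | h41
  · exact (data.checkRange_iff 53719 1689).mp Cfsg.Agent.Lib.Helper3.Cover.E7U8.chk41 v (by omega) (by omega)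
  rcases Nat.lt_or_ge v 57114 with h42 | h42
  · exact (data.checkRange_iff 55408 1706).mp Cfsg.Agent.Lib.Helper3.Cover.E7U8.chk42 v (by omega) (by omega)
  rcases Nat.lt_or_ge v 58831 with h43 | h43
  · exact (data.checkRange_iff 57114 1717).mp Cfsg.Agent.Lib.Helper3.Cover.E7U8.chk43 v (by omega) (by omega)
  rcases Nat.lt_or_ge v 60571 with h44 | h44
  · exact (data.checkRange_iff 58831 1740).mp Cfsg.Agent.Lib.Helper3.Cover.E7U8.chk44 v (by omega) (by omega)
  rcases Nat.lt_or_ge v 62318 with h45 | h45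
  · exact (data.checkRange_iff 60571 1747).mp Cfsg.Agent.Lib.Helper3.Cover.E7U9.chk45 v (by omega) (by omega)
  rcases Nat.lt_or_ge v 64072 with h46 | h46
  · exact (data.checkRange_iff 62318 1754).mp Cfsg.Agent.Lib.Helper3.Cover.E7U9.chk46 v (by omega) (by omega)
  rcases Nat.lt_or_ge v 65887 with h47 | h47
  · exact (data.checkRange_iff 64072 1815).mp Cfsg.Agent.Lib.Helper3.Cover.E7U9.chk47 v (by omega) (by omega)
  rcases Nat.lt_or_ge v 67655 with h48 | h48
  · exact (data.checkRange_iff 65887 1768).mp Cfsg.Agent.Lib.Helper3.Cover.E7U9.chk48 v (by omega) (by omega)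
  rcases Nat.lt_or_ge v 69419 with h49 | h49
  · exact (data.checkRange_iff 67655 1764).mp Cfsg.Agent.Lib.Helper3.Cover.E7U9.chk49 v (by omega) (by omega)
  exact (data.checkRange_iff 69419 1725).mp Cfsg.Agent.Lib.Helper3.Cover.E7U10.chk50 v (by omega) (by omega)

theorem hrows : ∀ v, v < data.N → Data.rowOK data v = true := by
  intro v hv
  have hv' : v < 71144 := hv
  rcases Nat.lt_or_ge v 6000 with h0 | h0
  · exact (Data.finalRange_iff data 0 6000).mp Cfsg.Agent.Lib.Helper3.Cover.E7M0.fin0 v (by omega) (by omega)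
  rcases Nat.lt_or_ge v 12000 with h1 | h1
  · exact (Data.finalRange_iff data 6000 6000).mp Cfsg.Agent.Lib.Helper3.Cover.E7M0.fin1 v (by omega) (by omega)
  rcases Nat.lt_or_ge v 18000 with h2 | h2
  · exact (Data.finalRange_iff data 12000 6000).mp Cfsg.Agent.Lib.Helper3.Cover.E7M0.fin2 v (by omega) (by omega)
  rcases Nat.lt_or_ge v 24000 with h3 | h3
  · exact (Data.finalRange_iff data 18000 6000).mp Cfsg.Agent.Lib.Helper3.Cover.E7M0.fin3 v (by omega) (by omega)
  rcases Nat.lt_or_ge v 30000 with h4 | h4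
  · exact (Data.finalRange_iff data 24000 6000).mp Cfsg.Agent.Lib.Helper3.Cover.E7M0.fin4 v (by omega) (by omega)
  rcases Nat.lt_or_ge v 36000 with h5 | h5
  · exact (Data.finalRange_iff data 30000 6000).mp Cfsg.Agent.Lib.Helper3.Cover.E7M1.fin5 v (by omega) (by omega)
  rcases Nat.lt_or_ge v 42000 with h6 | h6
  · exact (Data.finalRange_iff data 36000 6000).mp Cfsg.Agent.Lib.Helper3.Cover.E7M1.fin6 v (by omega) (by omega)
  rcases Nat.lt_or_ge v 48000 with h7 | h7
  · exact (Data.finalRange_iff data 42000 6000).mp Cfsg.Agent.Lib.Helper3.Cover.E7M1.fin7 v (by omega) (by omega)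
  rcases Nat.lt_or_ge v 54000 with h8 | h8
  · exact (Data.finalRange_iff data 48000 6000).mp Cfsg.Agent.Lib.Helper3.Cover.E7M1.fin8 v (by omega) (by omega)
  rcases Nat.lt_or_ge v 60000 with h9 | h9
  · exact (Data.finalRange_iff data 54000 6000).mp Cfsg.Agent.Lib.Helper3.Cover.E7M1.fin9 v (by omega) (by omega)
  rcases Nat.lt_or_ge v 66000 with h10 | h10
  · exact (Data.finalRange_iff data 60000 6000).mp Cfsg.Agent.Lib.Helper3.Cover.E7M2.fin10 v (by omega) (by omega)
  exact (Data.finalRange_iff data 66000 5144).mp Cfsg.Agent.Lib.Helper3.Cover.E7M2.fin11 v (by omega) (by omega)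

theorem hfin : data.finalOK = true := Data.finalOK_of_rows data hlive0 (by decide) hrows

theorem pc0 : Data.countFrom data 0 6000 = 5015 := Cfsg.Agent.Lib.Helper3.Cover.E7M2.cnt0
theorem pc1 : Data.countFrom data 0 12000 = 8540 := Data.countFrom_step data pc0 Cfsg.Agent.Lib.Helper3.Cover.E7M2.cnt1 (by norm_num) (by norm_num)
theorem pc2 : Data.countFrom data 0 18000 = 10960 := Data.countFrom_step data pc1 Cfsg.Agent.Lib.Helper3.Cover.E7M2.cnt2 (by norm_num) (by norm_num)
theorem pc3 : Data.countFrom data 0 24000 = 12558 := Data.countFrom_step data pc2 Cfsg.Agent.Lib.Helper3.Cover.E7M3.cnt3 (by norm_num) (by norm_num)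
theorem pc4 : Data.countFrom data 0 30000 = 13583 := Data.countFrom_step data pc3 Cfsg.Agent.Lib.Helper3.Cover.E7M3.cnt4 (by norm_num) (by norm_num)
theorem pc5 : Data.countFrom data 0 36000 = 14171 := Data.countFrom_step data pc4 Cfsg.Agent.Lib.Helper3.Cover.E7M3.cnt5 (by norm_num) (by norm_num)
theorem pc6 : Data.countFrom data 0 42000 = 14547 := Data.countFrom_step data pc5 Cfsg.Agent.Lib.Helper3.Cover.E7M3.cnt6 (by norm_num) (by norm_num)
theorem pc7 : Data.countFrom data 0 48000 = 14754 := Data.countFrom_step data pc6 Cfsg.Agent.Lib.Helper3.Cover.E7M3.cnt7 (by norm_num) (by norm_num)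
theorem pc8 : Data.countFrom data 0 54000 = 14905 := Data.countFrom_step data pc7 Cfsg.Agent.Lib.Helper3.Cover.E7M4.cnt8 (by norm_num) (by norm_num)
theorem pc9 : Data.countFrom data 0 60000 = 15029 := Data.countFrom_step data pc8 Cfsg.Agent.Lib.Helper3.Cover.E7M4.cnt9 (by norm_num) (by norm_num)
theorem pc10 : Data.countFrom data 0 66000 = 15074 := Data.countFrom_step data pc9 Cfsg.Agent.Lib.Helper3.Cover.E7M4.cnt10 (by norm_num) (by norm_num)
theorem pc11 : Data.countFrom data 0 71144 = 15120 := Data.countFrom_step data pc10 Cfsg.Agent.Lib.Helper3.Cover.E7M4.cnt11 (by norm_num) (by norm_num)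

theorem hcount : data.countLive = table.n := by
  rw [Data.countLive_eq]
  exact pc11

theorem hpermAll : ∀ p, p < table.n → Table.permRow table p = true := by
  intro p hv
  have hv' : p < 15120 := hv
  rcases Nat.lt_or_ge p 6000 with h0 | h0
  · exact (Table.permRange_iff table 0 6000).mp Cfsg.Agent.Lib.Helper3.Cover.E7M4.prm0 p (by omega) (by omega)
  rcases Nat.lt_or_ge p 12000 with h1 | h1
  · exact (Table.permRange_iff table 6000 6000).mp Cfsg.Agent.Lib.Helper3.Cover.E7M5.prm1 p (by omega) (by omega)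
  exact (Table.permRange_iff table 12000 3120).mp Cfsg.Agent.Lib.Helper3.Cover.E7M5.prm2 p (by omega) (by omega)

theorem hT : table.OK := Table.ok_of_rows table hinvOK hpermAll

theorem htreeAll : ∀ i, i < Nat.pred table.n → Table.treeRow table i = true := by
  intro p hv
  have hv' : p < 15119 := hv
  rcases Nat.lt_or_ge p 6000 with h0 | h0
  · exact (Table.treeRange_iff table 0 6000).mp Cfsg.Agent.Lib.Helper3.Cover.E7M5.tre0 p (by omega) (by omega)
  rcases Nat.lt_or_ge p 12000 with h1 | h1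
  · exact (Table.treeRange_iff table 6000 6000).mp Cfsg.Agent.Lib.Helper3.Cover.E7M5.tre1 p (by omega) (by omega)
  exact (Table.treeRange_iff table 12000 3119).mp Cfsg.Agent.Lib.Helper3.Cover.E7M5.tre2 p (by omega) (by omega)

theorem htree : table.treeOK = true := Table.treeOK_of_rows table htreeAll

theorem hchkT : ∀ P ∈ chkPaths, ∀ p, p < table.n → table.walkT P p = p := by
  intro P hm p hv
  have hv' : p < 15120 := hv
  rcases Nat.lt_or_ge p 2000 with h0 | h0
  · exact (Table.relOK_iff chkPaths 0 2000).mp Cfsg.Agent.Lib.Helper3.Cover.E7L0.rel0 p (by omega) (by omega) _ hm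
  rcases Nat.lt_or_ge p 4000 with h1 | h1
  · exact (Table.relOK_iff chkPaths 2000 2000).mp Cfsg.Agent.Lib.Helper3.Cover.E7L0.rel1 p (by omega) (by omega) _ hm
  rcases Nat.lt_or_ge p 6000 with h2 | h2
  · exact (Table.relOK_iff chkPaths 4000 2000).mp Cfsg.Agent.Lib.Helper3.Cover.E7L0.rel2 p (by omega) (by omega) _ hm
  rcases Nat.lt_or_ge p 8000 with h3 | h3
  · exact (Table.relOK_iff chkPaths 6000 2000).mp Cfsg.Agent.Lib.Helper3.Cover.E7L0.rel3 p (by omega) (by omega) _ hm
  rcases Nat.lt_or_ge p 10000 with h4 | h4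
  · exact (Table.relOK_iff chkPaths 8000 2000).mp Cfsg.Agent.Lib.Helper3.Cover.E7L0.rel4 p (by omega) (by omega) _ hm
  rcases Nat.lt_or_ge p 12000 with h5 | h5
  · exact (Table.relOK_iff chkPaths 10000 2000).mp Cfsg.Agent.Lib.Helper3.Cover.E7L1.rel5 p (by omega) (by omega) _ hm
  rcases Nat.lt_or_ge p 14000 with h6 | h6
  · exact (Table.relOK_iff chkPaths 12000 2000).mp Cfsg.Agent.Lib.Helper3.Cover.E7L1.rel6 p (by omega) (by omega) _ hm
  exact (Table.relOK_iff chkPaths 14000 1120).mp Cfsg.Agent.Lib.Helper3.Cover.E7L1.rel7 p (by omega) (by omega) _ hm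

theorem hrelT : ∀ L ∈ relWords, ∀ p, p < table.n → table.walkT (pathOf lw L) p = p :=
  fun L hL => Table.fix_of_covered hT chkPaths hchkT _ (hcov _ (hrelmem L hL)).1 (hcov _ (hrelmem L hL)).2

theorem hsubT : ∀ L ∈ subWords, table.walkT (pathOf lw L) 0 = 0 :=
  fun L hL => (Table.subOK_iff subPaths).mp hsub0 _ (hsubmem L hL)

theorem hn : 0 < table.n := by decide

theorem main : ((Subgroup.closure S).map (PresentedGroup.mk rels)).index = table.n ∧
    ∃ φ : PresentedGroup rels →* Equiv.Perm (Fin table.n),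
      (∀ x, φ (PresentedGroup.of x) = Table.sigma hT (lw (x, true))) ∧
      ∃ f : PresentedGroup rels ⧸ (Subgroup.closure S).map (PresentedGroup.mk rels) → Fin table.n,
        Function.Bijective f ∧ (∀ g q, f (g • q) = φ g (f q)) ∧ f (QuotientGroup.mk 1) = ⟨0, hn⟩ :=
  index_eq link hchk hfin hcount hT hn hrelT hsubT htree

end Cfsg.Agent.Lib.Helper3.Cover.E7Main
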