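import Cfsg.Agent.Lib.Helper28.TC2Upper
import Cfsg.Agent.Lib.Helper3.Cover.EO8DataC0
set_option autoImplicit false
set_option maxRecDepth 100000

namespace Cfsg.Agent.Lib.Helper3.Cover.EO8Data
open Cfsg.Agent.Lib.Helper28.TC2Upper

/-- relators -/
def relT : BT (ℕ × List ℕ × List ℕ) := (BT.node 33 (BT.node 16 (BT.node 8 (BT.node 4 (BT.node 2 (BT.node 1 (BT.node 0 (BT.leaf (6, [1, 1, 1, 0, 0, 0], [1, 1, 1, 0, 0, 0])) (BT.leaf (6, [3, 1, 1, 2, 0, 0], [1, 1, 3, 0, 0, 2]))) (BT.leaf (6, [5, 1, 1, 4, 0, 0], [1, 1, 5, 0, 0, 4]))) (BT.node 3 (BT.leaf (6, [7, 1, 1, 6, 0, 0], [1, 1, 7, 0, 0, 6])) (BT.leaf (14, [1, 3, 3, 3, 3, 3, 3, 0, 2, 2, 2, 2, 2, 2], [3, 3, 3, 3, 3, 3, 1, 2, 2, 2, 2, 2, 2, 0])))) (BT.node 6 (BT.node 5 (BT.leaf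 (14, [3, 3, 3, 3, 3, 3, 3, 2, 2, 2, 2, 2, 2, 2], [3, 3, 3, 3, 3, 3, 3, 2, 2, 2, 2, 2, 2, 2])) (BT.leaf (14, [5, 3, 3, 3, 3, 3, 3, 4, 2, 2, 2, 2, 2, 2], [3, 3, 3, 3, 3, 3, 5, 2, 2, 2, 2, 2, 2, 4]))) (BT.node 7 (BT.leaf (14, [7, 3, 3, 3, 3, 3, 3, 6, 2, 2, 2, 2, 2, 2], [3, 3, 3, 3, 3, 3, 7, 2, 2, 2, 2, 2, 2, 6])) (BT.leaf (30, [1, 1, 3, 1, 3, 1, 3, 1, 3, 1, 3, 1, 3, 1, 3, 0, 2, 0, 2, 0, 2, 0, 2, 0, 2, 0, 2, 0, 2, 0], [1, 3, 1, 3, 1, 3, 1, 3, 1, 3, 1, 3, 1, 3, 1, 2, 0, 2, 0, 2, 0, 2, 0, 2, 0, 2, 0, 2, 0, 0]))))) (BT.node 12 (BT.node 10 (BT.node 9 (BT.leaf (30, [3, 1, 3, 1, 3, 1, 3, 1, 3, 1, 3, 1, 3, 1, 3, 2, 2, 0, 2, 0, 2, 0, 2, 0, 2, 0, 2, 0, 2, 0], [1, 3, 1, 3, 1, 3, 1, 3, 1, 3, 1, 3, 1, 3, 3, 2, 0, 2, 0, 2, 0, 2, 0, 2,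 0, 2, 0, 2, 0, 2])) (BT.leaf (30, [5, 1, 3, 1, 3, 1, 3, 1, 3, 1, 3, 1, 3, 1, 3, 4, 2, 0, 2, 0, 2, 0, 2, 0, 2, 0, 2, 0, 2, 0], [1, 3, 1, 3, 1, 3, 1, 3, 1, 3, 1, 3, 1, 3, 5, 2, 0, 2, 0, 2, 0, 2, 0, 2, 0, 2, 0, 2, 0, 4]))) (BT.node 11 (BT.leaf (30, [7, 1, 3, 1, 3, 1, 3, 1, 3, 1, 3, 1, 3, 1, 3, 6, 2, 0, 2, 0, 2, 0, 2, 0, 2, 0, 2, 0, 2, 0], [1, 3, 1, 3, 1, 3, 1, 3, 1, 3, 1, 3, 1, 3, 7, 2, 0, 2, 0, 2, 0, 2, 0, 2, 0, 2, 0, 2, 0, 6])) (BT.leaf (38, [1, 2, 2, 1, 2, 2, 1, 2, 2, 1, 3, 3, 1, 3, 3, 1, 3, 3, 1, 0, 0, 2, 2, 0, 2, 2, 0, 2, 2, 0, 3, 3, 0, 3, 3, 0, 3, 3], [2, 2, 1, 2, 2, 1, 2, 2, 1, 3, 3, 1, 3, 3, 1, 3, 3, 1, 1, 0, 2, 2, 0, 2, 2, 0, 2, 2, 0, 3, 3, 0, 3, 3, 0, 3, 3, 0])))) (BT.node 14 (BT.node 13 (BT.leaf (38, [3, 2, 2,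 1, 2, 2, 1, 2, 2, 1, 3, 3, 1, 3, 3, 1, 3, 3, 1, 2, 0, 2, 2, 0, 2, 2, 0, 2, 2, 0, 3, 3, 0, 3, 3, 0, 3, 3], [2, 2, 1, 2, 2, 1, 2, 2, 1, 3, 3, 1, 3, 3, 1, 3, 3, 1, 3, 0, 2, 2, 0, 2, 2, 0, 2, 2, 0, 3, 3, 0, 3, 3, 0, 3, 3, 2])) (BT.leaf (38, [5, 2, 2, 1, 2, 2, 1, 2, 2, 1, 3, 3, 1, 3, 3, 1, 3, 3, 1, 4, 0, 2, 2, 0, 2, 2, 0, 2, 2, 0, 3, 3, 0, 3, 3, 0, 3, 3], [2, 2, 1, 2, 2, 1, 2, 2, 1, 3, 3, 1, 3, 3, 1, 3, 3, 1, 5, 0, 2, 2, 0, 2, 2, 0, 2, 2, 0, 3, 3, 0, 3, 3, 0, 3, 3, 4]))) (BT.node 15 (BT.leaf (38, [7, 2, 2, 1, 2, 2, 1, 2, 2, 1, 3, 3, 1, 3, 3, 1, 3, 3, 1, 6, 0, 2, 2, 0, 2, 2, 0, 2, 2, 0, 3, 3, 0, 3, 3, 0, 3, 3], [2, 2, 1, 2, 2, 1, 2, 2, 1, 3, 3, 1, 3, 3, 1, 3, 3, 1, 7, 0, 2, 2, 0, 2, 2, 0, 2, 2, 0, 3, 3, 0, 3, 3, 0, 3, 3, 6]))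 (BT.leaf (44, [1, 2, 2, 1, 3, 1, 2, 2, 1, 3, 1, 2, 2, 1, 3, 1, 2, 1, 2, 1, 3, 1, 0, 0, 2, 0, 3, 0, 3, 0, 2, 0, 3, 3, 0, 2, 0, 3, 3, 0, 2, 0, 3, 3], [2, 2, 1, 3, 1, 2, 2, 1, 3, 1, 2, 2, 1, 3, 1, 2, 1, 2, 1, 3, 1, 1, 0, 2, 0, 3, 0, 3, 0, 2, 0, 3, 3, 0, 2, 0, 3, 3, 0, 2, 0, 3, 3, 0])))))) (BT.node 25 (BT.node 21 (BT.node 19 (BT.node 18 (BT.node 17 (BT.leaf (44, [3, 2, 2, 1, 3, 1, 2, 2, 1, 3, 1, 2, 2, 1, 3, 1, 2, 1, 2, 1, 3, 1, 2, 0, 2, 0, 3, 0, 3, 0, 2, 0, 3, 3, 0, 2, 0, 3, 3, 0, 2, 0, 3, 3], [2, 2, 1, 3, 1, 2, 2, 1, 3, 1, 2, 2, 1, 3, 1, 2, 1, 2, 1, 3, 1, 3, 0, 2, 0, 3, 0, 3, 0, 2, 0, 3, 3, 0, 2, 0, 3, 3, 0, 2, 0, 3, 3, 2])) (BT.leaf (44, [5, 2, 2, 1, 3, 1, 2, 2, 1, 3, 1, 2, 2, 1, 3, 1, 2, 1, 2, 1, 3, 1, 4, 0, 2, 0, 3, 0,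 3, 0, 2, 0, 3, 3, 0, 2, 0, 3, 3, 0, 2, 0, 3, 3], [2, 2, 1, 3, 1, 2, 2, 1, 3, 1, 2, 2, 1, 3, 1, 2, 1, 2, 1, 3, 1, 5, 0, 2, 0, 3, 0, 3, 0, 2, 0, 3, 3, 0, 2, 0, 3, 3, 0, 2, 0, 3, 3, 4]))) (BT.leaf (44, [7, 2, 2, 1, 3, 1, 2, 2, 1, 3, 1, 2, 2, 1, 3, 1, 2, 1, 2, 1, 3, 1, 6, 0, 2, 0, 3, 0, 3, 0, 2, 0, 3, 3, 0, 2, 0, 3, 3, 0, 2, 0, 3, 3], [2, 2, 1, 3, 1, 2, 2, 1, 3, 1, 2, 2, 1, 3, 1, 2, 1, 2, 1, 3, 1, 7, 0, 2, 0, 3, 0, 3, 0, 2, 0, 3, 3, 0, 2, 0, 3, 3, 0, 2, 0, 3, 3, 6]))) (BT.node 20 (BT.leaf (6, [1, 5, 5, 0, 4, 4], [5, 5, 1, 4, 4, 0])) (BT.leaf (6, [3, 5, 5, 2, 4, 4], [5, 5, 3, 4, 4, 2])))) (BT.node 23 (BT.node 22 (BT.leaf (6, [5, 5, 5, 4, 4, 4], [5, 5, 5, 4, 4, 4])) (BT.leaf (6, [7, 5, 5, 6, 4, 4], [5, 5, 7, 4, 4, 6]))) (BT.node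 24 (BT.leaf (18, [1, 2, 5, 2, 5, 3, 5, 3, 5, 0, 4, 2, 4, 2, 4, 3, 4, 3], [2, 5, 2, 5, 3, 5, 3, 5, 1, 4, 2, 4, 2, 4, 3, 4, 3, 0])) (BT.leaf (18, [3, 2, 5, 2, 5, 3, 5, 3, 5, 2, 4, 2, 4, 2, 4, 3, 4, 3], [2, 5, 2, 5, 3, 5, 3, 5, 3, 4, 2, 4, 2, 4, 3, 4, 3, 2]))))) (BT.node 29 (BT.node 27 (BT.node 26 (BT.leaf (18, [5, 2, 5, 2, 5, 3, 5, 3, 5, 4, 4, 2, 4, 2, 4, 3, 4, 3], [2, 5, 2, 5, 3, 5, 3, 5, 5, 4, 2, 4, 2, 4, 3, 4, 3, 4])) (BT.leaf (18, [7, 2, 5, 2, 5, 3, 5, 3, 5, 6, 4, 2, 4, 2, 4, 3, 4, 3], [2, 5, 2, 5, 3, 5, 3, 5, 7, 4, 2, 4, 2, 4, 3, 4, 3, 6]))) (BT.node 28 (BT.leaf (18, [1, 1, 5, 1, 5, 1, 5, 1, 5, 0, 4, 0, 4, 0, 4, 0, 4, 0], [1, 5, 1, 5, 1, 5, 1, 5, 1, 4, 0, 4, 0, 4, 0, 4, 0, 0])) (BT.leaf (18, [3, 1, 5, 1, 5, 1, 5, 1,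 5, 2, 4, 0, 4, 0, 4, 0, 4, 0], [1, 5, 1, 5, 1, 5, 1, 5, 3, 4, 0, 4, 0, 4, 0, 4, 0, 2])))) (BT.node 31 (BT.node 30 (BT.leaf (18, [5, 1, 5, 1, 5, 1, 5, 1, 5, 4, 4, 0, 4, 0, 4, 0, 4, 0], [1, 5, 1, 5, 1, 5, 1, 5, 5, 4, 0, 4, 0, 4, 0, 4, 0, 4])) (BT.leaf (18, [7, 1, 5, 1, 5, 1, 5, 1, 5, 6, 4, 0, 4, 0, 4, 0, 4, 0], [1, 5, 1, 5, 1, 5, 1, 5, 7, 4, 0, 4, 0, 4, 0, 4, 0, 6]))) (BT.node 32 (BT.leaf (26, [1, 2, 1, 5, 1, 2, 1, 5, 1, 2, 1, 5, 1, 0, 0, 4, 0, 3, 0, 4, 0, 3, 0, 4, 0, 3], [2, 1, 5, 1, 2, 1, 5, 1, 2, 1, 5, 1, 1, 0, 4, 0, 3, 0, 4, 0, 3, 0, 4, 0, 3, 0])) (BT.leaf (26, [3, 2, 1, 5, 1, 2, 1, 5, 1, 2, 1, 5, 1, 2, 0, 4, 0, 3, 0, 4, 0, 3, 0, 4, 0, 3], [2, 1, 5, 1, 2, 1, 5, 1, 2, 1, 5, 1, 3, 0, 4, 0, 3, 0, 4, 0, 3, 0, 4, 0, 3, 2])))))))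 (BT.node 50 (BT.node 42 (BT.node 38 (BT.node 36 (BT.node 35 (BT.node 34 (BT.leaf (26, [5, 2, 1, 5, 1, 2, 1, 5, 1, 2, 1, 5, 1, 4, 0, 4, 0, 3, 0, 4, 0, 3, 0, 4, 0, 3], [2, 1, 5, 1, 2, 1, 5, 1, 2, 1, 5, 1, 5, 0, 4, 0, 3, 0, 4, 0, 3, 0, 4, 0, 3, 4])) (BT.leaf (26, [7, 2, 1, 5, 1, 2, 1, 5, 1, 2, 1, 5, 1, 6, 0, 4, 0, 3, 0, 4, 0, 3, 0, 4, 0, 3], [2, 1, 5, 1, 2, 1, 5, 1, 2, 1, 5, 1, 7, 0, 4, 0, 3, 0, 4, 0, 3, 0, 4, 0, 3, 6]))) (BT.leaf (26, [1, 2, 1, 5, 1, 3, 1, 2, 1, 5, 1, 3, 1, 0, 0, 2, 0, 4, 0, 3, 0, 2, 0, 4, 0, 3], [2, 1, 5, 1, 3, 1, 2, 1, 5, 1, 3, 1, 1, 0, 2, 0, 4, 0, 3, 0, 2, 0, 4, 0, 3, 0]))) (BT.node 37 (BT.leaf (26, [3, 2, 1, 5, 1, 3, 1, 2, 1, 5, 1, 3, 1, 2, 0, 2, 0, 4, 0, 3, 0, 2, 0, 4, 0, 3], [2, 1, 5, 1, 3, 1, 2,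 1, 5, 1, 3, 1, 3, 0, 2, 0, 4, 0, 3, 0, 2, 0, 4, 0, 3, 2])) (BT.leaf (26, [5, 2, 1, 5, 1, 3, 1, 2, 1, 5, 1, 3, 1, 4, 0, 2, 0, 4, 0, 3, 0, 2, 0, 4, 0, 3], [2, 1, 5, 1, 3, 1, 2, 1, 5, 1, 3, 1, 5, 0, 2, 0, 4, 0, 3, 0, 2, 0, 4, 0, 3, 4])))) (BT.node 40 (BT.node 39 (BT.leaf (26, [7, 2, 1, 5, 1, 3, 1, 2, 1, 5, 1, 3, 1, 6, 0, 2, 0, 4, 0, 3, 0, 2, 0, 4, 0, 3], [2, 1, 5, 1, 3, 1, 2, 1, 5, 1, 3, 1, 7, 0, 2, 0, 4, 0, 3, 0, 2, 0, 4, 0, 3, 6])) (BT.leaf (6, [1, 7, 7, 0, 6, 6], [7, 7, 1, 6, 6, 0]))) (BT.node 41 (BT.leaf (6, [3, 7, 7, 2, 6, 6], [7, 7, 3, 6, 6, 2])) (BT.leaf (6, [5, 7, 7, 4, 6, 6], [7, 7, 5, 6, 6, 4]))))) (BT.node 46 (BT.node 44 (BT.node 43 (BT.leaf (6, [7, 7, 7, 6, 6, 6], [7, 7, 7, 6, 6, 6])) (BT.leaf (14, [1, 2, 5,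 7, 3, 7, 5, 0, 4, 6, 2, 6, 4, 3], [2, 5, 7, 3, 7, 5, 1, 4, 6, 2, 6, 4, 3, 0]))) (BT.node 45 (BT.leaf (14, [3, 2, 5, 7, 3, 7, 5, 2, 4, 6, 2, 6, 4, 3], [2, 5, 7, 3, 7, 5, 3, 4, 6, 2, 6, 4, 3, 2])) (BT.leaf (14, [5, 2, 5, 7, 3, 7, 5, 4, 4, 6, 2, 6, 4, 3], [2, 5, 7, 3, 7, 5, 5, 4, 6, 2, 6, 4, 3, 4])))) (BT.node 48 (BT.node 47 (BT.leaf (14, [7, 2, 5, 7, 3, 7, 5, 6, 4, 6, 2, 6, 4, 3], [2, 5, 7, 3, 7, 5, 7, 4, 6, 2, 6, 4, 3, 6])) (BT.leaf (30, [1, 2, 5, 3, 1, 5, 7, 5, 1, 2, 5, 3, 1, 7, 1, 0, 0, 6, 0, 2, 4, 3, 0, 4, 6, 4, 0, 2, 4, 3], [2, 5, 3, 1, 5, 7, 5, 1, 2, 5, 3, 1, 7, 1, 1, 0, 6, 0, 2, 4, 3, 0, 4, 6, 4, 0, 2, 4, 3, 0]))) (BT.node 49 (BT.leaf (30, [3, 2, 5, 3, 1, 5, 7, 5, 1, 2, 5, 3, 1, 7, 1, 2, 0, 6, 0, 2, 4, 3, 0, 4, 6,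 4, 0, 2, 4, 3], [2, 5, 3, 1, 5, 7, 5, 1, 2, 5, 3, 1, 7, 1, 3, 0, 6, 0, 2, 4, 3, 0, 4, 6, 4, 0, 2, 4, 3, 2])) (BT.leaf (30, [5, 2, 5, 3, 1, 5, 7, 5, 1, 2, 5, 3, 1, 7, 1, 4, 0, 6, 0, 2, 4, 3, 0, 4, 6, 4, 0, 2, 4, 3], [2, 5, 3, 1, 5, 7, 5, 1, 2, 5, 3, 1, 7, 1, 5, 0, 6, 0, 2, 4, 3, 0, 4, 6, 4, 0, 2, 4, 3, 4])))))) (BT.node 59 (BT.node 55 (BT.node 53 (BT.node 52 (BT.node 51 (BT.leaf (30, [7, 2, 5, 3, 1, 5, 7, 5, 1, 2, 5, 3, 1, 7, 1, 6, 0, 6, 0, 2, 4, 3, 0, 4, 6, 4, 0, 2, 4, 3], [2, 5, 3, 1, 5, 7, 5, 1, 2, 5, 3, 1, 7, 1, 7, 0, 6, 0, 2, 4, 3, 0, 4, 6, 4, 0, 2, 4, 3, 6])) (BT.leaf (34, [1, 2, 2, 1, 2, 2, 1, 7, 1, 2, 1, 5, 3, 3, 1, 7, 1, 0, 0, 6, 0, 2, 2, 4, 0, 3, 0, 6, 0, 3, 3, 0, 3, 3], [2, 2, 1, 2, 2, 1, 7, 1, 2, 1, 5, 3, 3,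 1, 7, 1, 1, 0, 6, 0, 2, 2, 4, 0, 3, 0, 6, 0, 3, 3, 0, 3, 3, 0]))) (BT.leaf (34, [3, 2, 2, 1, 2, 2, 1, 7, 1, 2, 1, 5, 3, 3, 1, 7, 1, 2, 0, 6, 0, 2, 2, 4, 0, 3, 0, 6, 0, 3, 3, 0, 3, 3], [2, 2, 1, 2, 2, 1, 7, 1, 2, 1, 5, 3, 3, 1, 7, 1, 3, 0, 6, 0, 2, 2, 4, 0, 3, 0, 6, 0, 3, 3, 0, 3, 3, 2]))) (BT.node 54 (BT.leaf (34, [5, 2, 2, 1, 2, 2, 1, 7, 1, 2, 1, 5, 3, 3, 1, 7, 1, 4, 0, 6, 0, 2, 2, 4, 0, 3, 0, 6, 0, 3, 3, 0, 3, 3], [2, 2, 1, 2, 2, 1, 7, 1, 2, 1, 5, 3, 3, 1, 7, 1, 5, 0, 6, 0, 2, 2, 4, 0, 3, 0, 6, 0, 3, 3, 0, 3, 3, 4])) (BT.leaf (34, [7, 2, 2, 1, 2, 2, 1, 7, 1, 2, 1, 5, 3, 3, 1, 7, 1, 6, 0, 6, 0, 2, 2, 4, 0, 3, 0, 6, 0, 3, 3, 0, 3, 3], [2, 2, 1, 2, 2, 1, 7, 1, 2, 1, 5, 3, 3, 1, 7, 1, 7, 0, 6, 0, 2, 2, 4, 0, 3, 0, 6, 0,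 3, 3, 0, 3, 3, 6])))) (BT.node 57 (BT.node 56 (BT.leaf (14, [1, 5, 7, 5, 7, 5, 7, 0, 6, 4, 6, 4, 6, 4], [5, 7, 5, 7, 5, 7, 1, 6, 4, 6, 4, 6, 4, 0])) (BT.leaf (14, [3, 5, 7, 5, 7, 5, 7, 2, 6, 4, 6, 4, 6, 4], [5, 7, 5, 7, 5, 7, 3, 6, 4, 6, 4, 6, 4, 2]))) (BT.node 58 (BT.leaf (14, [5, 5, 7, 5, 7, 5, 7, 4, 6, 4, 6, 4, 6, 4], [5, 7, 5, 7, 5, 7, 5, 6, 4, 6, 4, 6, 4, 4])) (BT.leaf (14, [7, 5, 7, 5, 7, 5, 7, 6, 6, 4, 6, 4, 6, 4], [5, 7, 5, 7, 5, 7, 7, 6, 4, 6, 4, 6, 4, 6]))))) (BT.node 63 (BT.node 61 (BT.node 60 (BT.leaf (44, [1, 2, 2, 1, 2, 5, 3, 1, 3, 3, 1, 3, 5, 7, 1, 5, 7, 1, 2, 5, 7, 1, 0, 0, 6, 4, 3, 0, 6, 4, 0, 6, 4, 2, 0, 2, 2, 0, 2, 4, 3, 0, 3, 3], [2, 2, 1, 2, 5, 3, 1, 3, 3, 1, 3, 5, 7, 1, 5, 7, 1, 2, 5, 7, 1, 1, 0,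 6, 4, 3, 0, 6, 4, 0, 6, 4, 2, 0, 2, 2, 0, 2, 4, 3, 0, 3, 3, 0])) (BT.leaf (44, [3, 2, 2, 1, 2, 5, 3, 1, 3, 3, 1, 3, 5, 7, 1, 5, 7, 1, 2, 5, 7, 1, 2, 0, 6, 4, 3, 0, 6, 4, 0, 6, 4, 2, 0, 2, 2, 0, 2, 4, 3, 0, 3, 3], [2, 2, 1, 2, 5, 3, 1, 3, 3, 1, 3, 5, 7, 1, 5, 7, 1, 2, 5, 7, 1, 3, 0, 6, 4, 3, 0, 6, 4, 0, 6, 4, 2, 0, 2, 2, 0, 2, 4, 3, 0, 3, 3, 2]))) (BT.node 62 (BT.leaf (44, [5, 2, 2, 1, 2, 5, 3, 1, 3, 3, 1, 3, 5, 7, 1, 5, 7, 1, 2, 5, 7, 1, 4, 0, 6, 4, 3, 0, 6, 4, 0, 6, 4, 2, 0, 2, 2, 0, 2, 4, 3, 0, 3, 3], [2, 2, 1, 2, 5, 3, 1, 3, 3, 1, 3, 5, 7, 1, 5, 7, 1, 2, 5, 7, 1, 5, 0, 6, 4, 3, 0, 6, 4, 0, 6, 4, 2, 0, 2, 2, 0, 2, 4, 3, 0, 3, 3, 4])) (BT.leaf (44, [7, 2, 2, 1, 2, 5, 3, 1, 3, 3, 1, 3, 5, 7, 1, 5, 7, 1, 2, 5, 7, 1, 6,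 0, 6, 4, 3, 0, 6, 4, 0, 6, 4, 2, 0, 2, 2, 0, 2, 4, 3, 0, 3, 3], [2, 2, 1, 2, 5, 3, 1, 3, 3, 1, 3, 5, 7, 1, 5, 7, 1, 2, 5, 7, 1, 7, 0, 6, 4, 3, 0, 6, 4, 0, 6, 4, 2, 0, 2, 2, 0, 2, 4, 3, 0, 3, 3, 6])))) (BT.node 65 (BT.node 64 (BT.leaf (85, [0, 2, 0, 3, 0, 3, 0, 2, 0, 3, 3, 0, 2, 0, 3, 3, 0, 2, 0, 3, 3, 0, 2, 2, 0, 2, 2, 0, 2, 2, 0, 3, 3, 0, 3, 3, 0, 3, 3, 1, 3, 1, 3, 1, 3, 1, 3, 1, 3, 1, 3, 1, 3, 1, 3, 1, 3, 1, 3, 1, 3, 1, 3, 1, 3, 1, 3, 2, 2, 2, 2, 2, 2, 2, 2, 2, 2, 2, 2, 2, 2, 2, 2, 2, 2], [3, 3, 3, 3, 3, 3, 3, 3, 3, 3, 3, 3, 3, 3, 3, 3, 3, 3, 2, 0, 2, 0, 2, 0, 2, 0, 2, 0, 2, 0, 2, 0, 2, 0, 2, 0, 2, 0, 2, 0, 2, 0, 2, 0, 2, 0, 2, 2, 1, 2, 2, 1, 2, 2, 1, 3, 3, 1, 3, 3, 1, 3, 3, 1, 2, 2, 1, 3, 1, 2, 2, 1, 3, 1, 2, 2, 1,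 3, 1, 2, 1, 2, 1, 3, 1])) (BT.leaf (49, [0, 2, 0, 3, 0, 3, 0, 2, 0, 3, 3, 0, 2, 0, 3, 3, 0, 2, 0, 3, 3, 1, 3, 1, 3, 1, 3, 1, 3, 1, 3, 1, 3, 1, 3, 2, 2, 2, 2, 2, 2, 2, 2, 2, 2, 2, 2, 1, 1], [0, 0, 3, 3, 3, 3, 3, 3, 3, 3, 3, 3, 3, 3, 2, 0, 2, 0, 2, 0, 2, 0, 2, 0, 2, 0, 2, 0, 2, 2, 1, 3, 1, 2, 2, 1, 3, 1, 2, 2, 1, 3, 1, 2, 1, 2, 1, 3, 1]))) (BT.node 66 (BT.leaf (107, [0, 2, 0, 3, 0, 3, 0, 2, 0, 3, 3, 0, 2, 0, 3, 3, 0, 2, 0, 3, 3, 2, 2, 1, 2, 2, 1, 2, 2, 1, 3, 3, 1, 3, 3, 1, 3, 3, 1, 2, 2, 1, 2, 2, 1, 2, 2, 1, 3, 3, 1, 3, 3, 1, 3, 3, 1, 2, 2, 1, 2, 2, 1, 2, 2, 1, 3, 3, 1, 3, 3, 1, 3, 3, 1, 2, 0, 2, 0, 2, 0, 2, 0, 2, 0, 2, 0, 2, 0, 1, 1, 1, 1, 5, 5, 0, 4, 0, 3, 0, 4, 0, 3, 0, 4, 0, 3], [2, 1, 5, 1, 2, 1, 5, 1, 2, 1, 5, 1,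 4, 4, 0, 0, 0, 0, 1, 3, 1, 3, 1, 3, 1, 3, 1, 3, 1, 3, 1, 3, 0, 2, 2, 0, 2, 2, 0, 2, 2, 0, 3, 3, 0, 3, 3, 0, 3, 3, 0, 2, 2, 0, 2, 2, 0, 2, 2, 0, 3, 3, 0, 3, 3, 0, 3, 3, 0, 2, 2, 0, 2, 2, 0, 2, 2, 0, 3, 3, 0, 3, 3, 0, 3, 3, 2, 2, 1, 3, 1, 2, 2, 1, 3, 1, 2, 2, 1, 3, 1, 2, 1, 2, 1, 3, 1])) (BT.leaf (117, [2, 1, 5, 1, 2, 1, 5, 1, 2, 1, 5, 1, 4, 4, 0, 0, 0, 0, 1, 3, 1, 3, 1, 3, 1, 3, 1, 3, 1, 3, 1, 3, 0, 2, 2, 0, 2, 2, 0, 2, 2, 0, 3, 3, 0, 3, 3, 0, 3, 3, 0, 2, 2, 0, 2, 2, 0, 2, 2, 0, 3, 3, 0, 3, 3, 0, 3, 3, 0, 2, 2, 0, 2, 2, 0, 2, 2, 0, 3, 3, 0, 3, 3, 0, 3, 3, 2, 2, 1, 3, 1, 2, 2, 1, 3, 1, 2, 2, 1, 3, 1, 2, 1, 2, 1, 3, 1, 5, 5, 7, 7, 6, 4, 6, 4, 6, 4], [5, 7, 5, 7, 5, 7, 6, 6, 4, 4, 0, 2, 0, 3, 0, 3, 0, 2, 0, 3, 3, 0, 2, 0,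 3, 3, 0, 2, 0, 3, 3, 2, 2, 1, 2, 2, 1, 2, 2, 1, 3, 3, 1, 3, 3, 1, 3, 3, 1, 2, 2, 1, 2, 2, 1, 2, 2, 1, 3, 3, 1, 3, 3, 1, 3, 3, 1, 2, 2, 1, 2, 2, 1, 2, 2, 1, 3, 3, 1, 3, 3, 1, 3, 3, 1, 2, 0, 2, 0, 2, 0, 2, 0, 2, 0, 2, 0, 2, 0, 1, 1, 1, 1, 5, 5, 0, 4, 0, 3, 0, 4, 0, 3, 0, 4, 0, 3]))))))))
/-- subgroup generators -/
def subT : BT (ℕ × List ℕ × List ℕ) := (BT.node 1 (BT.node 0 (BT.leaf (1, [0], [1])) (BT.leaf (1, [2], [3]))) (BT.leaf (1, [4], [5])))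
/-- fact chunks -/
def colET : BT ℕ := (BT.node 85 (BT.node 42 (BT.node 21 (BT.node 10 (BT.node 5 (BT.node 2 (BT.node 1 (BT.node 0 (BT.leaf cE0) (BT.leaf cE1)) (BT.leaf cE2)) (BT.node 4 (BT.node 3 (BT.leaf cE3) (BT.leaf cE4)) (BT.leaf cE5))) (BT.node 8 (BT.node 7 (BT.node 6 (BT.leaf cE6) (BT.leaf cE7)) (BT.leaf cE8)) (BT.node 9 (BT.leaf cE9) (BT.leaf cE10)))) (BT.node 16 (BT.node 13 (BT.node 12 (BT.node 11 (BT.leaf cE11) (BT.leaf cE12)) (BT.leaf cE13)) (BT.node 15 (BT.node 14 (BT.leaf cE14) (BT.leaf cE15)) (BT.leaf cE16))) (BT.node 19 (BT.node 18 (BT.node 17 (BT.leaf cE17) (BT.leaf cE18)) (BT.leaf cE19)) (BT.node 20 (BT.leaf cE20) (BT.leaf cE21))))) (BT.node 32 (BT.node 27 (BT.node 24 (BT.node 23 (BT.node 22 (BT.leaf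 cE22) (BT.leaf cE23)) (BT.leaf cE24)) (BT.node 26 (BT.node 25 (BT.leaf cE25) (BT.leaf cE26)) (BT.leaf cE27))) (BT.node 30 (BT.node 29 (BT.node 28 (BT.leaf cE28) (BT.leaf cE29)) (BT.leaf cE30)) (BT.node 31 (BT.leaf cE31) (BT.leaf cE32)))) (BT.node 37 (BT.node 35 (BT.node 34 (BT.node 33 (BT.leaf cE33) (BT.leaf cE34)) (BT.leaf cE35)) (BT.node 36 (BT.leaf cE36) (BT.leaf cE37))) (BT.node 40 (BT.node 39 (BT.node 38 (BT.leaf cE38) (BT.leaf cE39)) (BT.leaf cE40)) (BT.node 41 (BT.leaf cE41) (BT.leaf cE42)))))) (BT.node 64 (BT.node 53 (BT.node 48 (BT.node 45 (BT.node 44 (BT.node 43 (BT.leaf cE43) (BT.leaf cE44)) (BT.leaf cE45)) (BT.node 47 (BT.node 46 (BT.leaf cE46) (BT.leaf cE47)) (BT.leaf cE48))) (BT.node 51 (BT.node 50 (BT.node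 49 (BT.leaf cE49) (BT.leaf cE50)) (BT.leaf cE51)) (BT.node 52 (BT.leaf cE52) (BT.leaf cE53)))) (BT.node 59 (BT.node 56 (BT.node 55 (BT.node 54 (BT.leaf cE54) (BT.leaf cE55)) (BT.leaf cE56)) (BT.node 58 (BT.node 57 (BT.leaf cE57) (BT.leaf cE58)) (BT.leaf cE59))) (BT.node 62 (BT.node 61 (BT.node 60 (BT.leaf cE60) (BT.leaf cE61)) (BT.leaf cE62)) (BT.node 63 (BT.leaf cE63) (BT.leaf cE64))))) (BT.node 75 (BT.node 70 (BT.node 67 (BT.node 66 (BT.node 65 (BT.leaf cE65) (BT.leaf cE66)) (BT.leaf cE67)) (BT.node 69 (BT.node 68 (BT.leaf cE68) (BT.leaf cE69)) (BT.leaf cE70))) (BT.node 73 (BT.node 72 (BT.node 71 (BT.leaf cE71) (BT.leaf cE72)) (BT.leaf cE73)) (BT.node 74 (BT.leaf cE74) (BT.leaf cE75)))) (BT.node 80 (BT.node 78 (BT.node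 77 (BT.node 76 (BT.leaf cE76) (BT.leaf cE77)) (BT.leaf cE78)) (BT.node 79 (BT.leaf cE79) (BT.leaf cE80))) (BT.node 83 (BT.node 82 (BT.node 81 (BT.leaf cE81) (BT.leaf cE82)) (BT.leaf cE83)) (BT.node 84 (BT.leaf cE84) (BT.leaf cE85))))))) (BT.node 128 (BT.node 107 (BT.node 96 (BT.node 91 (BT.node 88 (BT.node 87 (BT.node 86 (BT.leaf cE86) (BT.leaf cE87)) (BT.leaf cE88)) (BT.node 90 (BT.node 89 (BT.leaf cE89) (BT.leaf cE90)) (BT.leaf cE91))) (BT.node 94 (BT.node 93 (BT.node 92 (BT.leaf cE92) (BT.leaf cE93)) (BT.leaf cE94)) (BT.node 95 (BT.leaf cE95) (BT.leaf cE96)))) (BT.node 102 (BT.node 99 (BT.node 98 (BT.node 97 (BT.leaf cE97) (BT.leaf cE98)) (BT.leaf cE99)) (BT.node 101 (BT.node 100 (BT.leaf cE100) (BT.leaf cE101)) (BT.leaf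 cE102))) (BT.node 105 (BT.node 104 (BT.node 103 (BT.leaf cE103) (BT.leaf cE104)) (BT.leaf cE105)) (BT.node 106 (BT.leaf cE106) (BT.leaf cE107))))) (BT.node 118 (BT.node 113 (BT.node 110 (BT.node 109 (BT.node 108 (BT.leaf cE108) (BT.leaf cE109)) (BT.leaf cE110)) (BT.node 112 (BT.node 111 (BT.leaf cE111) (BT.leaf cE112)) (BT.leaf cE113))) (BT.node 116 (BT.node 115 (BT.node 114 (BT.leaf cE114) (BT.leaf cE115)) (BT.leaf cE116)) (BT.node 117 (BT.leaf cE117) (BT.leaf cE118)))) (BT.node 123 (BT.node 121 (BT.node 120 (BT.node 119 (BT.leaf cE119) (BT.leaf cE120)) (BT.leaf cE121)) (BT.node 122 (BT.leaf cE122) (BT.leaf cE123))) (BT.node 126 (BT.node 125 (BT.node 124 (BT.leaf cE124) (BT.leaf cE125)) (BT.leaf cE126)) (BT.node 127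 (BT.leaf cE127) (BT.leaf cE128)))))) (BT.node 149 (BT.node 139 (BT.node 134 (BT.node 131 (BT.node 130 (BT.node 129 (BT.leaf cE129) (BT.leaf cE130)) (BT.leaf cE131)) (BT.node 133 (BT.node 132 (BT.leaf cE132) (BT.leaf cE133)) (BT.leaf cE134))) (BT.node 137 (BT.node 136 (BT.node 135 (BT.leaf cE135) (BT.leaf cE136)) (BT.leaf cE137)) (BT.node 138 (BT.leaf cE138) (BT.leaf cE139)))) (BT.node 144 (BT.node 142 (BT.node 141 (BT.node 140 (BT.leaf cE140) (BT.leaf cE141)) (BT.leaf cE142)) (BT.node 143 (BT.leaf cE143) (BT.leaf cE144))) (BT.node 147 (BT.node 146 (BT.node 145 (BT.leaf cE145) (BT.leaf cE146)) (BT.leaf cE147)) (BT.node 148 (BT.leaf cE148) (BT.leaf cE149))))) (BT.node 160 (BT.node 155 (BT.node 152 (BT.node 151 (BT.node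 150 (BT.leaf cE150) (BT.leaf cE151)) (BT.leaf cE152)) (BT.node 154 (BT.node 153 (BT.leaf cE153) (BT.leaf cE154)) (BT.leaf cE155))) (BT.node 158 (BT.node 157 (BT.node 156 (BT.leaf cE156) (BT.leaf cE157)) (BT.leaf cE158)) (BT.node 159 (BT.leaf cE159) (BT.leaf cE160)))) (BT.node 165 (BT.node 163 (BT.node 162 (BT.node 161 (BT.leaf cE161) (BT.leaf cE162)) (BT.leaf cE163)) (BT.node 164 (BT.leaf cE164) (BT.leaf cE165))) (BT.node 168 (BT.node 167 (BT.node 166 (BT.leaf cE166) (BT.leaf cE167)) (BT.leaf cE168)) (BT.node 169 (BT.leaf cE169) (BT.leaf cE170))))))))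
/-- justification chunks -/
def colJT : BT ℕ := (BT.node 85 (BT.node 42 (BT.node 21 (BT.node 10 (BT.node 5 (BT.node 2 (BT.node 1 (BT.node 0 (BT.leaf cJ0) (BT.leaf cJ1)) (BT.leaf cJ2)) (BT.node 4 (BT.node 3 (BT.leaf cJ3) (BT.leaf cJ4)) (BT.leaf cJ5))) (BT.node 8 (BT.node 7 (BT.node 6 (BT.leaf cJ6) (BT.leaf cJ7)) (BT.leaf cJ8)) (BT.node 9 (BT.leaf cJ9) (BT.leaf cJ10)))) (BT.node 16 (BT.node 13 (BT.node 12 (BT.node 11 (BT.leaf cJ11) (BT.leaf cJ12)) (BT.leaf cJ13)) (BT.node 15 (BT.node 14 (BT.leaf cJ14) (BT.leaf cJ15)) (BT.leaf cJ16))) (BT.node 19 (BT.node 18 (BT.node 17 (BT.leaf cJ17) (BT.leaf cJ18)) (BT.leaf cJ19)) (BT.node 20 (BT.leaf cJ20) (BT.leaf cJ21))))) (BT.node 32 (BT.node 27 (BT.node 24 (BT.node 23 (BT.node 22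 (BT.leaf cJ22) (BT.leaf cJ23)) (BT.leaf cJ24)) (BT.node 26 (BT.node 25 (BT.leaf cJ25) (BT.leaf cJ26)) (BT.leaf cJ27))) (BT.node 30 (BT.node 29 (BT.node 28 (BT.leaf cJ28) (BT.leaf cJ29)) (BT.leaf cJ30)) (BT.node 31 (BT.leaf cJ31) (BT.leaf cJ32)))) (BT.node 37 (BT.node 35 (BT.node 34 (BT.node 33 (BT.leaf cJ33) (BT.leaf cJ34)) (BT.leaf cJ35)) (BT.node 36 (BT.leaf cJ36) (BT.leaf cJ37))) (BT.node 40 (BT.node 39 (BT.node 38 (BT.leaf cJ38) (BT.leaf cJ39)) (BT.leaf cJ40)) (BT.node 41 (BT.leaf cJ41) (BT.leaf cJ42)))))) (BT.node 64 (BT.node 53 (BT.node 48 (BT.node 45 (BT.node 44 (BT.node 43 (BT.leaf cJ43) (BT.leaf cJ44)) (BT.leaf cJ45)) (BT.node 47 (BT.node 46 (BT.leaf cJ46) (BT.leaf cJ47)) (BT.leaf cJ48))) (BT.node 51 (BT.node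 50 (BT.node 49 (BT.leaf cJ49) (BT.leaf cJ50)) (BT.leaf cJ51)) (BT.node 52 (BT.leaf cJ52) (BT.leaf cJ53)))) (BT.node 59 (BT.node 56 (BT.node 55 (BT.node 54 (BT.leaf cJ54) (BT.leaf cJ55)) (BT.leaf cJ56)) (BT.node 58 (BT.node 57 (BT.leaf cJ57) (BT.leaf cJ58)) (BT.leaf cJ59))) (BT.node 62 (BT.node 61 (BT.node 60 (BT.leaf cJ60) (BT.leaf cJ61)) (BT.leaf cJ62)) (BT.node 63 (BT.leaf cJ63) (BT.leaf cJ64))))) (BT.node 75 (BT.node 70 (BT.node 67 (BT.node 66 (BT.node 65 (BT.leaf cJ65) (BT.leaf cJ66)) (BT.leaf cJ67)) (BT.node 69 (BT.node 68 (BT.leaf cJ68) (BT.leaf cJ69)) (BT.leaf cJ70))) (BT.node 73 (BT.node 72 (BT.node 71 (BT.leaf cJ71) (BT.leaf cJ72)) (BT.leaf cJ73)) (BT.node 74 (BT.leaf cJ74) (BT.leaf cJ75)))) (BT.node 80 (BT.node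 78 (BT.node 77 (BT.node 76 (BT.leaf cJ76) (BT.leaf cJ77)) (BT.leaf cJ78)) (BT.node 79 (BT.leaf cJ79) (BT.leaf cJ80))) (BT.node 83 (BT.node 82 (BT.node 81 (BT.leaf cJ81) (BT.leaf cJ82)) (BT.leaf cJ83)) (BT.node 84 (BT.leaf cJ84) (BT.leaf cJ85))))))) (BT.node 128 (BT.node 107 (BT.node 96 (BT.node 91 (BT.node 88 (BT.node 87 (BT.node 86 (BT.leaf cJ86) (BT.leaf cJ87)) (BT.leaf cJ88)) (BT.node 90 (BT.node 89 (BT.leaf cJ89) (BT.leaf cJ90)) (BT.leaf cJ91))) (BT.node 94 (BT.node 93 (BT.node 92 (BT.leaf cJ92) (BT.leaf cJ93)) (BT.leaf cJ94)) (BT.node 95 (BT.leaf cJ95) (BT.leaf cJ96)))) (BT.node 102 (BT.node 99 (BT.node 98 (BT.node 97 (BT.leaf cJ97) (BT.leaf cJ98)) (BT.leaf cJ99)) (BT.node 101 (BT.node 100 (BT.leaf cJ100) (BT.leaf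 cJ101)) (BT.leaf cJ102))) (BT.node 105 (BT.node 104 (BT.node 103 (BT.leaf cJ103) (BT.leaf cJ104)) (BT.leaf cJ105)) (BT.node 106 (BT.leaf cJ106) (BT.leaf cJ107))))) (BT.node 118 (BT.node 113 (BT.node 110 (BT.node 109 (BT.node 108 (BT.leaf cJ108) (BT.leaf cJ109)) (BT.leaf cJ110)) (BT.node 112 (BT.node 111 (BT.leaf cJ111) (BT.leaf cJ112)) (BT.leaf cJ113))) (BT.node 116 (BT.node 115 (BT.node 114 (BT.leaf cJ114) (BT.leaf cJ115)) (BT.leaf cJ116)) (BT.node 117 (BT.leaf cJ117) (BT.leaf cJ118)))) (BT.node 123 (BT.node 121 (BT.node 120 (BT.node 119 (BT.leaf cJ119) (BT.leaf cJ120)) (BT.leaf cJ121)) (BT.node 122 (BT.leaf cJ122) (BT.leaf cJ123))) (BT.node 126 (BT.node 125 (BT.node 124 (BT.leaf cJ124) (BT.leaf cJ125)) (BT.leaf cJ126))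 (BT.node 127 (BT.leaf cJ127) (BT.leaf cJ128)))))) (BT.node 149 (BT.node 139 (BT.node 134 (BT.node 131 (BT.node 130 (BT.node 129 (BT.leaf cJ129) (BT.leaf cJ130)) (BT.leaf cJ131)) (BT.node 133 (BT.node 132 (BT.leaf cJ132) (BT.leaf cJ133)) (BT.leaf cJ134))) (BT.node 137 (BT.node 136 (BT.node 135 (BT.leaf cJ135) (BT.leaf cJ136)) (BT.leaf cJ137)) (BT.node 138 (BT.leaf cJ138) (BT.leaf cJ139)))) (BT.node 144 (BT.node 142 (BT.node 141 (BT.node 140 (BT.leaf cJ140) (BT.leaf cJ141)) (BT.leaf cJ142)) (BT.node 143 (BT.leaf cJ143) (BT.leaf cJ144))) (BT.node 147 (BT.node 146 (BT.node 145 (BT.leaf cJ145) (BT.leaf cJ146)) (BT.leaf cJ147)) (BT.node 148 (BT.leaf cJ148) (BT.leaf cJ149))))) (BT.node 160 (BT.node 155 (BT.node 152 (BT.node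 151 (BT.node 150 (BT.leaf cJ150) (BT.leaf cJ151)) (BT.leaf cJ152)) (BT.node 154 (BT.node 153 (BT.leaf cJ153) (BT.leaf cJ154)) (BT.leaf cJ155))) (BT.node 158 (BT.node 157 (BT.node 156 (BT.leaf cJ156) (BT.leaf cJ157)) (BT.leaf cJ158)) (BT.node 159 (BT.leaf cJ159) (BT.leaf cJ160)))) (BT.node 165 (BT.node 163 (BT.node 162 (BT.node 161 (BT.leaf cJ161) (BT.leaf cJ162)) (BT.leaf cJ163)) (BT.node 164 (BT.leaf cJ164) (BT.leaf cJ165))) (BT.node 168 (BT.node 167 (BT.node 166 (BT.leaf cJ166) (BT.leaf cJ167)) (BT.leaf cJ168)) (BT.node 169 (BT.leaf cJ169) (BT.leaf cJ170))))))))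
/-- parent chunks -/
def parCT : BT ℕ := (BT.node 9 (BT.node 4 (BT.node 2 (BT.node 1 (BT.node 0 (BT.leaf cP0) (BT.leaf cP1)) (BT.leaf cP2)) (BT.node 3 (BT.leaf cP3) (BT.leaf cP4))) (BT.node 7 (BT.node 6 (BT.node 5 (BT.leaf cP5) (BT.leaf cP6)) (BT.leaf cP7)) (BT.node 8 (BT.leaf cP8) (BT.leaf cP9)))) (BT.node 14 (BT.node 12 (BT.node 11 (BT.node 10 (BT.leaf cP10) (BT.leaf cP11)) (BT.leaf cP12)) (BT.node 13 (BT.leaf cP13) (BT.leaf cP14))) (BT.node 16 (BT.node 15 (BT.leaf cP15) (BT.leaf cP16)) (BT.node 17 (BT.leaf cP17) (BT.leaf cP18)))))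
/-- the certificate -/
def data : Data where
  k := 8
  N := 9453
  W := 30
  MW := 1073741824
  B := 16384
  CH := 512
  NCH := 19
  colE := colET
  JW := 64
  MJ := 18446744073709551616
  A := 1048576
  colJ := colJT
  PW := 24
  MP := 16777216
  parC := parCT
  inv := (BT.node 4 (BT.node 2 (BT.node 1 (BT.node 0 (BT.leaf 1) (BT.leaf 0)) (BT.leaf 3)) (BT.node 3 (BT.leaf 2) (BT.leaf 5))) (BT.node 6 (BT.node 5 (BT.leaf 4) (BT.leaf 7)) (BT.node 7 (BT.leaf 6) (BT.leaf 8))))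
  rel := relT
  sub := subT
  fuel := 64

end Cfsg.Agent.Lib.Helper3.Cover.EO8Data
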