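import Cfsg.Agent.Lib.Helper3.Cover.EO8Data
set_option autoImplicit false
set_option maxRecDepth 100000
set_option maxHeartbeats 0

namespace Cfsg.Agent.Lib.Helper3.Cover.EO8U0
open Cfsg.Agent.Lib.Helper28.TC2Upper Cfsg.Agent.Lib.Helper3.Cover.EO8Data

theorem chk0 : data.checkRange 0 688 = true := by decide +kernel
theorem chk1 : data.checkRange 688 831 = true := by decide +kernel
theorem chk2 : data.checkRange 1519 986 = true := by decide +kernel
theorem chk3 : data.checkRange 2505 1100 = true := by decide +kernel
theorem chk4 : data.checkRange 3605 1155 = true := by decide +kernel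

end Cfsg.Agent.Lib.Helper3.Cover.EO8U0
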