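import Cfsg.Agent.Lib.Helper3.Cover.EO8Data
set_option autoImplicit false
set_option maxRecDepth 100000
set_option maxHeartbeats 0

namespace Cfsg.Agent.Lib.Helper3.Cover.EO8U1
open Cfsg.Agent.Lib.Helper28.TC2Upper Cfsg.Agent.Lib.Helper3.Cover.EO8Data

theorem chk5 : data.checkRange 4760 1422 = true := by decide +kernel
theorem chk6 : data.checkRange 6182 1459 = true := by decide +kernel
theorem chk7 : data.checkRange 7641 1714 = true := by decide +kernel
theorem chk8 : data.checkRange 9355 98 = true := by decide +kernel

end Cfsg.Agent.Lib.Helper3.Cover.EO8U1
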