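import Cfsg.Agent.Lib.Helper3.Cover.Basic
set_option autoImplicit false
set_option maxRecDepth 100000

namespace Cfsg.Agent.Lib.Helper3.Cover.ESzDef

/-- the generators -/
inductive Gen
  | j
  | y
  deriving DecidableEq

instance : Fintype Gen := ⟨⟨(([Gen.j, Gen.y] : List Gen) : Multiset Gen), by decide⟩, by intro x; cases x <;> decide⟩

open Cfsg.Agent.Lib.Helper3.Cover

/-- the relators of the group -/
def R : List (List (Gen × Bool)) := [
  [(.j, true), (.j, true)],
  [(.y, false), (.y, false), (.y, false), (.y, false), (.y, false), (.y, false), (.y, false)],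
  [(.y, false), (.j, true), (.y, false), (.j, true), (.y, false), (.j, true), (.y, false), (.j, true), (.y, false), (.j, true)],
  [(.y, false), (.y, false), (.j, true), (.y, true), (.j, true), (.y, false), (.j, true), (.y, true), (.y, true), (.j, true), (.y, false), (.j, true), (.y, false), (.y, false), (.j, true), (.y, true), (.y, true), (.j, true), (.y, true), (.j, true)],
  [(.y, false), (.y, false), (.y, false), (.j, true), (.y, false), (.y, false), (.y, false), (.j, true), (.y, false), (.j, true), (.y, false), (.y, false), (.j, true), (.y, true), (.j, true), (.y, true), (.y, true), (.y, true), (.j, true), (.y, false), (.y, false), (.j, true), (.y, true), (.y, true), (.y, true), (.j, true)] ]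

/-- the normalising word of `j` -/
def nrm_j : List (Gen × Bool) := combWord [(R.getD 1 [], 1), (R.getD 2 [], -3), (R.getD 4 [], 2)]
/-- the normalising word of `y` -/
def nrm_y : List (Gen × Bool) := combWord [(R.getD 0 [], -1), (R.getD 1 [], -1), (R.getD 2 [], 2), (R.getD 4 [], -1)]

/-- the normalising words -/
def nrm : Gen → List (Gen × Bool)
  | .j => nrm_j
  | .y => nrm_y

theorem hR : ∀ L ∈ R, PresentedGroup.mk (relSet R) (FreeGroup.mk L) = 1 :=
  fun L hL => PresentedGroup.one_of_mem ⟨L, hL, rfl⟩

theorem hn_j : PresentedGroup.mk (relSet R) (FreeGroup.mk nrm_j) = 1 :=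
  map_combWord_eq_one _ _ (by
    intro p hp
    simp only [List.mem_cons, List.not_mem_nil, or_false] at hp
    rcases hp with rfl | rfl | rfl
    · exact hR _ (by decide)
    · exact hR _ (by decide)
    · exact hR _ (by decide))

theorem hn_y : PresentedGroup.mk (relSet R) (FreeGroup.mk nrm_y) = 1 :=
  map_combWord_eq_one _ _ (by
    intro p hp
    simp only [List.mem_cons, List.not_mem_nil, or_false] at hp
    rcases hp with rfl | rfl | rfl | rfl
    · exact hR _ (by decide)
    · exact hR _ (by decide)
    · exact hR _ (by decide)
    · exact hR _ (by decide))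

/-- the covering presentation -/
def cover : CoverData Gen where
  R := R
  gens := [.j, .y]
  nrm := nrm
  norms := [nrm_j, nrm_y]
  hgens := by intro x; cases x <;> decide
  hnorms := by intro x; cases x <;> simp [nrm]
  hnorms' := by
    intro L hL
    simp only [List.mem_cons, List.not_mem_nil, or_false] at hL
    rcases hL with rfl | rfl
    · exact ⟨.j, rfl⟩
    · exact ⟨.y, rfl⟩
  hnrm := by
    intro x
    cases x
    · exact hn_j
    · exact hn_y
  hexp := by intro x y; cases x <;> cases y <;> decide +kernel

/-- the relators of the covering group in list form -/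
abbrev relWords : List (List (Gen × Bool)) := coverWords cover.R cover.gens cover.norms

end Cfsg.Agent.Lib.Helper3.Cover.ESzDef
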