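import Cfsg.Agent.Lib.Helper3.Cover.EU3Table
set_option autoImplicit false
set_option maxRecDepth 100000
set_option maxHeartbeats 0

namespace Cfsg.Agent.Lib.Helper3.Cover.EU3L0
open Cfsg.Agent.Lib.Helper28.TC2Upper Cfsg.Agent.Lib.Helper28.TC2Lower Cfsg.Agent.Lib.Helper3.Cover.EU3Table

theorem rel0 : table.relOK chkPaths 0 2000 = true := by decide +kernel
theorem rel1 : table.relOK chkPaths 2000 2000 = true := by decide +kernel
theorem rel2 : table.relOK chkPaths 4000 2000 = true := by decide +kernel
theorem rel3 : table.relOK chkPaths 6000 48 = true := by decide +kernel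

end Cfsg.Agent.Lib.Helper3.Cover.EU3L0
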