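import Cfsg.Agent.Lib.Helper28.TC2Upper
import Cfsg.Agent.Lib.Helper3.Cover.EU4DataC0
import Cfsg.Agent.Lib.Helper3.Cover.EU4DataC1
import Cfsg.Agent.Lib.Helper3.Cover.EU4DataC2
set_option autoImplicit false
set_option maxRecDepth 100000

namespace Cfsg.Agent.Lib.Helper3.Cover.EU4Data
open Cfsg.Agent.Lib.Helper28.TC2Upper

/-- relators -/
def relT : BT (ℕ × List ℕ × List ℕ) := (BT.node 16 (BT.node 8 (BT.node 4 (BT.node 2 (BT.node 1 (BT.node 0 (BT.leaf (6, [1, 1, 1, 0, 0, 0], [1, 1, 1, 0, 0, 0])) (BT.leaf (6, [3, 1, 1, 2, 0, 0], [1, 1, 3, 0, 0, 2]))) (BT.leaf (6, [5, 1, 1, 4, 0, 0], [1, 1, 5, 0, 0, 4]))) (BT.node 3 (BT.leaf (14, [1, 3, 3, 3, 3, 3, 3, 0, 2, 2, 2, 2, 2, 2], [3, 3, 3, 3, 3, 3, 1, 2, 2, 2, 2, 2, 2, 0])) (BT.leaf (14, [3, 3, 3, 3, 3, 3, 3, 2, 2, 2, 2, 2, 2, 2], [3, 3, 3, 3, 3, 3, 3, 2, 2, 2, 2, 2, 2, 2])))) (BT.node 6 (BT.node 5 (BT.leaf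 (14, [5, 3, 3, 3, 3, 3, 3, 4, 2, 2, 2, 2, 2, 2], [3, 3, 3, 3, 3, 3, 5, 2, 2, 2, 2, 2, 2, 4])) (BT.leaf (30, [1, 1, 3, 1, 3, 1, 3, 1, 3, 1, 3, 1, 3, 1, 3, 0, 2, 0, 2, 0, 2, 0, 2, 0, 2, 0, 2, 0, 2, 0], [1, 3, 1, 3, 1, 3, 1, 3, 1, 3, 1, 3, 1, 3, 1, 2, 0, 2, 0, 2, 0, 2, 0, 2, 0, 2, 0, 2, 0, 0]))) (BT.node 7 (BT.leaf (30, [3, 1, 3, 1, 3, 1, 3, 1, 3, 1, 3, 1, 3, 1, 3, 2, 2, 0, 2, 0, 2, 0, 2, 0, 2, 0, 2, 0, 2, 0], [1, 3, 1, 3, 1, 3, 1, 3, 1, 3, 1, 3, 1, 3, 3, 2, 0, 2, 0, 2, 0, 2, 0, 2, 0, 2, 0, 2, 0, 2])) (BT.leaf (30, [5, 1, 3, 1, 3, 1, 3, 1, 3, 1, 3, 1, 3, 1, 3, 4, 2, 0, 2, 0, 2, 0, 2, 0, 2, 0, 2, 0, 2, 0], [1, 3, 1, 3, 1, 3, 1, 3, 1, 3, 1, 3, 1, 3, 5, 2, 0, 2, 0, 2, 0, 2, 0, 2, 0, 2, 0, 2, 0, 4]))))) (BT.node 12 (BT.node 10 (BT.node 9 (BT.leaf (38, [1, 2, 2, 1, 2, 2, 1, 2, 2, 1, 3, 3, 1, 3, 3, 1, 3, 3, 1, 0, 0, 2, 2, 0, 2, 2, 0, 2, 2, 0, 3, 3, 0,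 3, 3, 0, 3, 3], [2, 2, 1, 2, 2, 1, 2, 2, 1, 3, 3, 1, 3, 3, 1, 3, 3, 1, 1, 0, 2, 2, 0, 2, 2, 0, 2, 2, 0, 3, 3, 0, 3, 3, 0, 3, 3, 0])) (BT.leaf (38, [3, 2, 2, 1, 2, 2, 1, 2, 2, 1, 3, 3, 1, 3, 3, 1, 3, 3, 1, 2, 0, 2, 2, 0, 2, 2, 0, 2, 2, 0, 3, 3, 0, 3, 3, 0, 3, 3], [2, 2, 1, 2, 2, 1, 2, 2, 1, 3, 3, 1, 3, 3, 1, 3, 3, 1, 3, 0, 2, 2, 0, 2, 2, 0, 2, 2, 0, 3, 3, 0, 3, 3, 0, 3, 3, 2]))) (BT.node 11 (BT.leaf (38, [5, 2, 2, 1, 2, 2, 1, 2, 2, 1, 3, 3, 1, 3, 3, 1, 3, 3, 1, 4, 0, 2, 2, 0, 2, 2, 0, 2, 2, 0, 3, 3, 0, 3, 3, 0, 3, 3], [2, 2, 1, 2, 2, 1, 2, 2, 1, 3, 3, 1, 3, 3, 1, 3, 3, 1, 5, 0, 2, 2, 0, 2, 2, 0, 2, 2, 0, 3, 3, 0, 3, 3, 0, 3, 3, 4])) (BT.leaf (44, [1, 2, 2, 1, 3, 1, 2, 2, 1, 3, 1, 2, 2, 1, 3, 1, 2, 1, 2, 1, 3, 1, 0, 0, 2, 0, 3, 0, 3, 0, 2, 0, 3, 3, 0, 2, 0, 3, 3, 0, 2, 0, 3, 3], [2, 2, 1, 3, 1, 2, 2, 1, 3, 1, 2, 2, 1, 3, 1, 2, 1, 2, 1, 3, 1, 1,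 0, 2, 0, 3, 0, 3, 0, 2, 0, 3, 3, 0, 2, 0, 3, 3, 0, 2, 0, 3, 3, 0])))) (BT.node 14 (BT.node 13 (BT.leaf (44, [3, 2, 2, 1, 3, 1, 2, 2, 1, 3, 1, 2, 2, 1, 3, 1, 2, 1, 2, 1, 3, 1, 2, 0, 2, 0, 3, 0, 3, 0, 2, 0, 3, 3, 0, 2, 0, 3, 3, 0, 2, 0, 3, 3], [2, 2, 1, 3, 1, 2, 2, 1, 3, 1, 2, 2, 1, 3, 1, 2, 1, 2, 1, 3, 1, 3, 0, 2, 0, 3, 0, 3, 0, 2, 0, 3, 3, 0, 2, 0, 3, 3, 0, 2, 0, 3, 3, 2])) (BT.leaf (44, [5, 2, 2, 1, 3, 1, 2, 2, 1, 3, 1, 2, 2, 1, 3, 1, 2, 1, 2, 1, 3, 1, 4, 0, 2, 0, 3, 0, 3, 0, 2, 0, 3, 3, 0, 2, 0, 3, 3, 0, 2, 0, 3, 3], [2, 2, 1, 3, 1, 2, 2, 1, 3, 1, 2, 2, 1, 3, 1, 2, 1, 2, 1, 3, 1, 5, 0, 2, 0, 3, 0, 3, 0, 2, 0, 3, 3, 0, 2, 0, 3, 3, 0, 2, 0, 3, 3, 4]))) (BT.node 15 (BT.leaf (6, [1, 5, 5, 0, 4, 4], [5, 5, 1, 4, 4, 0])) (BT.leaf (6, [3, 5, 5, 2, 4, 4], [5, 5, 3, 4, 4, 2])))))) (BT.node 24 (BT.node 20 (BT.node 18 (BT.node 17 (BT.leaf (6, [5, 5, 5,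 4, 4, 4], [5, 5, 5, 4, 4, 4])) (BT.leaf (18, [1, 2, 2, 1, 5, 3, 3, 5, 1, 0, 0, 4, 2, 2, 4, 0, 3, 3], [2, 2, 1, 5, 3, 3, 5, 1, 1, 0, 4, 2, 2, 4, 0, 3, 3, 0]))) (BT.node 19 (BT.leaf (18, [3, 2, 2, 1, 5, 3, 3, 5, 1, 2, 0, 4, 2, 2, 4, 0, 3, 3], [2, 2, 1, 5, 3, 3, 5, 1, 3, 0, 4, 2, 2, 4, 0, 3, 3, 2])) (BT.leaf (18, [5, 2, 2, 1, 5, 3, 3, 5, 1, 4, 0, 4, 2, 2, 4, 0, 3, 3], [2, 2, 1, 5, 3, 3, 5, 1, 5, 0, 4, 2, 2, 4, 0, 3, 3, 4])))) (BT.node 22 (BT.node 21 (BT.leaf (32, [1, 2, 1, 2, 1, 5, 3, 1, 2, 1, 5, 3, 1, 3, 1, 5, 0, 4, 0, 2, 0, 2, 4, 0, 3, 0, 2, 4, 0, 3, 0, 3], [2, 1, 2, 1, 5, 3, 1, 2, 1, 5, 3, 1, 3, 1, 5, 1, 4, 0, 2, 0, 2, 4, 0, 3, 0, 2, 4, 0, 3, 0, 3, 0])) (BT.leaf (32, [3, 2, 1, 2, 1, 5, 3, 1, 2, 1, 5, 3, 1, 3, 1, 5, 2, 4, 0, 2, 0, 2, 4, 0, 3, 0, 2, 4, 0, 3, 0, 3], [2, 1, 2, 1, 5, 3, 1, 2, 1, 5, 3, 1, 3, 1, 5, 3, 4, 0, 2, 0, 2, 4, 0, 3, 0, 2, 4,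 0, 3, 0, 3, 2]))) (BT.node 23 (BT.leaf (32, [5, 2, 1, 2, 1, 5, 3, 1, 2, 1, 5, 3, 1, 3, 1, 5, 4, 4, 0, 2, 0, 2, 4, 0, 3, 0, 2, 4, 0, 3, 0, 3], [2, 1, 2, 1, 5, 3, 1, 2, 1, 5, 3, 1, 3, 1, 5, 5, 4, 0, 2, 0, 2, 4, 0, 3, 0, 2, 4, 0, 3, 0, 3, 4])) (BT.leaf (38, [1, 2, 2, 1, 2, 5, 2, 5, 2, 5, 2, 5, 2, 5, 2, 5, 3, 5, 1, 0, 0, 4, 2, 4, 3, 4, 3, 4, 3, 4, 3, 4, 3, 4, 3, 0, 3, 3], [2, 2, 1, 2, 5, 2, 5, 2, 5, 2, 5, 2, 5, 2, 5, 3, 5, 1, 1, 0, 4, 2, 4, 3, 4, 3, 4, 3, 4, 3, 4, 3, 4, 3, 0, 3, 3, 0]))))) (BT.node 28 (BT.node 26 (BT.node 25 (BT.leaf (38, [3, 2, 2, 1, 2, 5, 2, 5, 2, 5, 2, 5, 2, 5, 2, 5, 3, 5, 1, 2, 0, 4, 2, 4, 3, 4, 3, 4, 3, 4, 3, 4, 3, 4, 3, 0, 3, 3], [2, 2, 1, 2, 5, 2, 5, 2, 5, 2, 5, 2, 5, 2, 5, 3, 5, 1, 3, 0, 4, 2, 4, 3, 4, 3, 4, 3, 4, 3, 4, 3, 4, 3, 0, 3, 3, 2])) (BT.leaf (38, [5, 2, 2, 1, 2, 5, 2, 5, 2, 5, 2, 5, 2, 5, 2, 5, 3, 5, 1, 4, 0, 4,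 2, 4, 3, 4, 3, 4, 3, 4, 3, 4, 3, 4, 3, 0, 3, 3], [2, 2, 1, 2, 5, 2, 5, 2, 5, 2, 5, 2, 5, 2, 5, 3, 5, 1, 5, 0, 4, 2, 4, 3, 4, 3, 4, 3, 4, 3, 4, 3, 4, 3, 0, 3, 3, 4]))) (BT.node 27 (BT.leaf (42, [1, 2, 2, 1, 3, 1, 5, 2, 1, 5, 3, 1, 5, 3, 5, 2, 2, 1, 3, 3, 1, 0, 0, 2, 2, 0, 3, 3, 4, 2, 4, 0, 2, 4, 0, 3, 4, 0, 2, 0, 3, 3], [2, 2, 1, 3, 1, 5, 2, 1, 5, 3, 1, 5, 3, 5, 2, 2, 1, 3, 3, 1, 1, 0, 2, 2, 0, 3, 3, 4, 2, 4, 0, 2, 4, 0, 3, 4, 0, 2, 0, 3, 3, 0])) (BT.leaf (42, [3, 2, 2, 1, 3, 1, 5, 2, 1, 5, 3, 1, 5, 3, 5, 2, 2, 1, 3, 3, 1, 2, 0, 2, 2, 0, 3, 3, 4, 2, 4, 0, 2, 4, 0, 3, 4, 0, 2, 0, 3, 3], [2, 2, 1, 3, 1, 5, 2, 1, 5, 3, 1, 5, 3, 5, 2, 2, 1, 3, 3, 1, 3, 0, 2, 2, 0, 3, 3, 4, 2, 4, 0, 2, 4, 0, 3, 4, 0, 2, 0, 3, 3, 2])))) (BT.node 30 (BT.node 29 (BT.leaf (42, [5, 2, 2, 1, 3, 1, 5, 2, 1, 5, 3, 1, 5, 3, 5, 2, 2, 1, 3, 3, 1, 4, 0, 2, 2, 0, 3, 3, 4, 2, 4,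 0, 2, 4, 0, 3, 4, 0, 2, 0, 3, 3], [2, 2, 1, 3, 1, 5, 2, 1, 5, 3, 1, 5, 3, 5, 2, 2, 1, 3, 3, 1, 5, 0, 2, 2, 0, 3, 3, 4, 2, 4, 0, 2, 4, 0, 3, 4, 0, 2, 0, 3, 3, 4])) (BT.leaf (85, [0, 2, 0, 3, 0, 3, 0, 2, 0, 3, 3, 0, 2, 0, 3, 3, 0, 2, 0, 3, 3, 0, 2, 2, 0, 2, 2, 0, 2, 2, 0, 3, 3, 0, 3, 3, 0, 3, 3, 1, 3, 1, 3, 1, 3, 1, 3, 1, 3, 1, 3, 1, 3, 1, 3, 1, 3, 1, 3, 1, 3, 1, 3, 1, 3, 1, 3, 2, 2, 2, 2, 2, 2, 2, 2, 2, 2, 2, 2, 2, 2, 2, 2, 2, 2], [3, 3, 3, 3, 3, 3, 3, 3, 3, 3, 3, 3, 3, 3, 3, 3, 3, 3, 2, 0, 2, 0, 2, 0, 2, 0, 2, 0, 2, 0, 2, 0, 2, 0, 2, 0, 2, 0, 2, 0, 2, 0, 2, 0, 2, 0, 2, 2, 1, 2, 2, 1, 2, 2, 1, 3, 3, 1, 3, 3, 1, 3, 3, 1, 2, 2, 1, 3, 1, 2, 2, 1, 3, 1, 2, 2, 1, 3, 1, 2, 1, 2, 1, 3, 1]))) (BT.node 31 (BT.leaf (49, [0, 2, 0, 3, 0, 3, 0, 2, 0, 3, 3, 0, 2, 0, 3, 3, 0, 2, 0, 3, 3, 1, 3, 1, 3, 1, 3, 1, 3, 1, 3, 1, 3, 1, 3, 2, 2, 2, 2, 2, 2, 2, 2, 2, 2,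 2, 2, 1, 1], [0, 0, 3, 3, 3, 3, 3, 3, 3, 3, 3, 3, 3, 3, 2, 0, 2, 0, 2, 0, 2, 0, 2, 0, 2, 0, 2, 0, 2, 2, 1, 3, 1, 2, 2, 1, 3, 1, 2, 2, 1, 3, 1, 2, 1, 2, 1, 3, 1])) (BT.leaf (35, [2, 2, 1, 2, 2, 1, 2, 2, 1, 3, 3, 1, 3, 3, 1, 3, 3, 1, 5, 5, 4, 0, 2, 0, 2, 4, 0, 3, 0, 2, 4, 0, 3, 0, 3], [2, 1, 2, 1, 5, 3, 1, 2, 1, 5, 3, 1, 3, 1, 5, 4, 4, 0, 2, 2, 0, 2, 2, 0, 2, 2, 0, 3, 3, 0, 3, 3, 0, 3, 3])))))))
/-- subgroup generators -/
def subT : BT (ℕ × List ℕ × List ℕ) := (BT.node 0 (BT.leaf (1, [0], [1])) (BT.leaf (1, [2], [3])))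
/-- fact chunks -/
def colET : BT ℕ := (BT.node 552 (BT.node 276 (BT.node 138 (BT.node 69 (BT.node 34 (BT.node 17 (BT.node 8 (BT.node 4 (BT.node 2 (BT.node 1 (BT.node 0 (BT.leaf cE0) (BT.leaf cE1)) (BT.leaf cE2)) (BT.node 3 (BT.leaf cE3) (BT.leaf cE4))) (BT.node 6 (BT.node 5 (BT.leaf cE5) (BT.leaf cE6)) (BT.node 7 (BT.leaf cE7) (BT.leaf cE8)))) (BT.node 13 (BT.node 11 (BT.node 10 (BT.node 9 (BT.leaf cE9) (BT.leaf cE10)) (BT.leaf cE11)) (BT.node 12 (BT.leaf cE12) (BT.leaf cE13))) (BT.node 15 (BT.node 14 (BT.leaf cE14) (BT.leaf cE15)) (BT.node 16 (BT.leaf cE16) (BT.leaf cE17))))) (BT.node 26 (BT.node 22 (BT.node 20 (BT.node 19 (BT.node 18 (BT.leaf cE18) (BT.leaf cE19)) (BT.leaf cE20)) (BT.node 21 (BT.leaf cE21) (BT.leaf cE22))) (BT.node 24 (BT.node 23 (BT.leaf cE23) (BT.leaf cE24)) (BT.node 25 (BT.leaf cE25) (BT.leaf cE26)))) (BT.node 30 (BT.node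 28 (BT.node 27 (BT.leaf cE27) (BT.leaf cE28)) (BT.node 29 (BT.leaf cE29) (BT.leaf cE30))) (BT.node 32 (BT.node 31 (BT.leaf cE31) (BT.leaf cE32)) (BT.node 33 (BT.leaf cE33) (BT.leaf cE34)))))) (BT.node 52 (BT.node 43 (BT.node 39 (BT.node 37 (BT.node 36 (BT.node 35 (BT.leaf cE35) (BT.leaf cE36)) (BT.leaf cE37)) (BT.node 38 (BT.leaf cE38) (BT.leaf cE39))) (BT.node 41 (BT.node 40 (BT.leaf cE40) (BT.leaf cE41)) (BT.node 42 (BT.leaf cE42) (BT.leaf cE43)))) (BT.node 48 (BT.node 46 (BT.node 45 (BT.node 44 (BT.leaf cE44) (BT.leaf cE45)) (BT.leaf cE46)) (BT.node 47 (BT.leaf cE47) (BT.leaf cE48))) (BT.node 50 (BT.node 49 (BT.leaf cE49) (BT.leaf cE50)) (BT.node 51 (BT.leaf cE51) (BT.leaf cE52))))) (BT.node 61 (BT.node 57 (BT.node 55 (BT.node 54 (BT.node 53 (BT.leaf cE53) (BT.leaf cE54)) (BT.leaf cE55)) (BT.node 56 (BT.leaf cE56) (BT.leaf cE57))) (BT.node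 59 (BT.node 58 (BT.leaf cE58) (BT.leaf cE59)) (BT.node 60 (BT.leaf cE60) (BT.leaf cE61)))) (BT.node 65 (BT.node 63 (BT.node 62 (BT.leaf cE62) (BT.leaf cE63)) (BT.node 64 (BT.leaf cE64) (BT.leaf cE65))) (BT.node 67 (BT.node 66 (BT.leaf cE66) (BT.leaf cE67)) (BT.node 68 (BT.leaf cE68) (BT.leaf cE69))))))) (BT.node 104 (BT.node 87 (BT.node 78 (BT.node 74 (BT.node 72 (BT.node 71 (BT.node 70 (BT.leaf cE70) (BT.leaf cE71)) (BT.leaf cE72)) (BT.node 73 (BT.leaf cE73) (BT.leaf cE74))) (BT.node 76 (BT.node 75 (BT.leaf cE75) (BT.leaf cE76)) (BT.node 77 (BT.leaf cE77) (BT.leaf cE78)))) (BT.node 83 (BT.node 81 (BT.node 80 (BT.node 79 (BT.leaf cE79) (BT.leaf cE80)) (BT.leaf cE81)) (BT.node 82 (BT.leaf cE82) (BT.leaf cE83))) (BT.node 85 (BT.node 84 (BT.leaf cE84) (BT.leaf cE85)) (BT.node 86 (BT.leaf cE86) (BT.leaf cE87))))) (BT.node 96 (BT.node 92 (BT.node 90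 (BT.node 89 (BT.node 88 (BT.leaf cE88) (BT.leaf cE89)) (BT.leaf cE90)) (BT.node 91 (BT.leaf cE91) (BT.leaf cE92))) (BT.node 94 (BT.node 93 (BT.leaf cE93) (BT.leaf cE94)) (BT.node 95 (BT.leaf cE95) (BT.leaf cE96)))) (BT.node 100 (BT.node 98 (BT.node 97 (BT.leaf cE97) (BT.leaf cE98)) (BT.node 99 (BT.leaf cE99) (BT.leaf cE100))) (BT.node 102 (BT.node 101 (BT.leaf cE101) (BT.leaf cE102)) (BT.node 103 (BT.leaf cE103) (BT.leaf cE104)))))) (BT.node 121 (BT.node 113 (BT.node 109 (BT.node 107 (BT.node 106 (BT.node 105 (BT.leaf cE105) (BT.leaf cE106)) (BT.leaf cE107)) (BT.node 108 (BT.leaf cE108) (BT.leaf cE109))) (BT.node 111 (BT.node 110 (BT.leaf cE110) (BT.leaf cE111)) (BT.node 112 (BT.leaf cE112) (BT.leaf cE113)))) (BT.node 117 (BT.node 115 (BT.node 114 (BT.leaf cE114) (BT.leaf cE115)) (BT.node 116 (BT.leaf cE116) (BT.leaf cE117))) (BT.node 119 (BT.node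 118 (BT.leaf cE118) (BT.leaf cE119)) (BT.node 120 (BT.leaf cE120) (BT.leaf cE121))))) (BT.node 130 (BT.node 126 (BT.node 124 (BT.node 123 (BT.node 122 (BT.leaf cE122) (BT.leaf cE123)) (BT.leaf cE124)) (BT.node 125 (BT.leaf cE125) (BT.leaf cE126))) (BT.node 128 (BT.node 127 (BT.leaf cE127) (BT.leaf cE128)) (BT.node 129 (BT.leaf cE129) (BT.leaf cE130)))) (BT.node 134 (BT.node 132 (BT.node 131 (BT.leaf cE131) (BT.leaf cE132)) (BT.node 133 (BT.leaf cE133) (BT.leaf cE134))) (BT.node 136 (BT.node 135 (BT.leaf cE135) (BT.leaf cE136)) (BT.node 137 (BT.leaf cE137) (BT.leaf cE138)))))))) (BT.node 207 (BT.node 173 (BT.node 156 (BT.node 147 (BT.node 143 (BT.node 141 (BT.node 140 (BT.node 139 (BT.leaf cE139) (BT.leaf cE140)) (BT.leaf cE141)) (BT.node 142 (BT.leaf cE142) (BT.leaf cE143))) (BT.node 145 (BT.node 144 (BT.leaf cE144) (BT.leaf cE145)) (BT.node 146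 (BT.leaf cE146) (BT.leaf cE147)))) (BT.node 152 (BT.node 150 (BT.node 149 (BT.node 148 (BT.leaf cE148) (BT.leaf cE149)) (BT.leaf cE150)) (BT.node 151 (BT.leaf cE151) (BT.leaf cE152))) (BT.node 154 (BT.node 153 (BT.leaf cE153) (BT.leaf cE154)) (BT.node 155 (BT.leaf cE155) (BT.leaf cE156))))) (BT.node 165 (BT.node 161 (BT.node 159 (BT.node 158 (BT.node 157 (BT.leaf cE157) (BT.leaf cE158)) (BT.leaf cE159)) (BT.node 160 (BT.leaf cE160) (BT.leaf cE161))) (BT.node 163 (BT.node 162 (BT.leaf cE162) (BT.leaf cE163)) (BT.node 164 (BT.leaf cE164) (BT.leaf cE165)))) (BT.node 169 (BT.node 167 (BT.node 166 (BT.leaf cE166) (BT.leaf cE167)) (BT.node 168 (BT.leaf cE168) (BT.leaf cE169))) (BT.node 171 (BT.node 170 (BT.leaf cE170) (BT.leaf cE171)) (BT.node 172 (BT.leaf cE172) (BT.leaf cE173)))))) (BT.node 190 (BT.node 182 (BT.node 178 (BT.node 176 (BT.node 175 (BT.node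 174 (BT.leaf cE174) (BT.leaf cE175)) (BT.leaf cE176)) (BT.node 177 (BT.leaf cE177) (BT.leaf cE178))) (BT.node 180 (BT.node 179 (BT.leaf cE179) (BT.leaf cE180)) (BT.node 181 (BT.leaf cE181) (BT.leaf cE182)))) (BT.node 186 (BT.node 184 (BT.node 183 (BT.leaf cE183) (BT.leaf cE184)) (BT.node 185 (BT.leaf cE185) (BT.leaf cE186))) (BT.node 188 (BT.node 187 (BT.leaf cE187) (BT.leaf cE188)) (BT.node 189 (BT.leaf cE189) (BT.leaf cE190))))) (BT.node 199 (BT.node 195 (BT.node 193 (BT.node 192 (BT.node 191 (BT.leaf cE191) (BT.leaf cE192)) (BT.leaf cE193)) (BT.node 194 (BT.leaf cE194) (BT.leaf cE195))) (BT.node 197 (BT.node 196 (BT.leaf cE196) (BT.leaf cE197)) (BT.node 198 (BT.leaf cE198) (BT.leaf cE199)))) (BT.node 203 (BT.node 201 (BT.node 200 (BT.leaf cE200) (BT.leaf cE201)) (BT.node 202 (BT.leaf cE202) (BT.leaf cE203))) (BT.node 205 (BT.node 204 (BT.leaf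 cE204) (BT.leaf cE205)) (BT.node 206 (BT.leaf cE206) (BT.leaf cE207))))))) (BT.node 242 (BT.node 225 (BT.node 216 (BT.node 212 (BT.node 210 (BT.node 209 (BT.node 208 (BT.leaf cE208) (BT.leaf cE209)) (BT.leaf cE210)) (BT.node 211 (BT.leaf cE211) (BT.leaf cE212))) (BT.node 214 (BT.node 213 (BT.leaf cE213) (BT.leaf cE214)) (BT.node 215 (BT.leaf cE215) (BT.leaf cE216)))) (BT.node 221 (BT.node 219 (BT.node 218 (BT.node 217 (BT.leaf cE217) (BT.leaf cE218)) (BT.leaf cE219)) (BT.node 220 (BT.leaf cE220) (BT.leaf cE221))) (BT.node 223 (BT.node 222 (BT.leaf cE222) (BT.leaf cE223)) (BT.node 224 (BT.leaf cE224) (BT.leaf cE225))))) (BT.node 234 (BT.node 230 (BT.node 228 (BT.node 227 (BT.node 226 (BT.leaf cE226) (BT.leaf cE227)) (BT.leaf cE228)) (BT.node 229 (BT.leaf cE229) (BT.leaf cE230))) (BT.node 232 (BT.node 231 (BT.leaf cE231) (BT.leaf cE232)) (BT.node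 233 (BT.leaf cE233) (BT.leaf cE234)))) (BT.node 238 (BT.node 236 (BT.node 235 (BT.leaf cE235) (BT.leaf cE236)) (BT.node 237 (BT.leaf cE237) (BT.leaf cE238))) (BT.node 240 (BT.node 239 (BT.leaf cE239) (BT.leaf cE240)) (BT.node 241 (BT.leaf cE241) (BT.leaf cE242)))))) (BT.node 259 (BT.node 251 (BT.node 247 (BT.node 245 (BT.node 244 (BT.node 243 (BT.leaf cE243) (BT.leaf cE244)) (BT.leaf cE245)) (BT.node 246 (BT.leaf cE246) (BT.leaf cE247))) (BT.node 249 (BT.node 248 (BT.leaf cE248) (BT.leaf cE249)) (BT.node 250 (BT.leaf cE250) (BT.leaf cE251)))) (BT.node 255 (BT.node 253 (BT.node 252 (BT.leaf cE252) (BT.leaf cE253)) (BT.node 254 (BT.leaf cE254) (BT.leaf cE255))) (BT.node 257 (BT.node 256 (BT.leaf cE256) (BT.leaf cE257)) (BT.node 258 (BT.leaf cE258) (BT.leaf cE259))))) (BT.node 268 (BT.node 264 (BT.node 262 (BT.node 261 (BT.node 260 (BT.leaf cE260)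 (BT.leaf cE261)) (BT.leaf cE262)) (BT.node 263 (BT.leaf cE263) (BT.leaf cE264))) (BT.node 266 (BT.node 265 (BT.leaf cE265) (BT.leaf cE266)) (BT.node 267 (BT.leaf cE267) (BT.leaf cE268)))) (BT.node 272 (BT.node 270 (BT.node 269 (BT.leaf cE269) (BT.leaf cE270)) (BT.node 271 (BT.leaf cE271) (BT.leaf cE272))) (BT.node 274 (BT.node 273 (BT.leaf cE273) (BT.leaf cE274)) (BT.node 275 (BT.leaf cE275) (BT.leaf cE276))))))))) (BT.node 414 (BT.node 345 (BT.node 311 (BT.node 294 (BT.node 285 (BT.node 281 (BT.node 279 (BT.node 278 (BT.node 277 (BT.leaf cE277) (BT.leaf cE278)) (BT.leaf cE279)) (BT.node 280 (BT.leaf cE280) (BT.leaf cE281))) (BT.node 283 (BT.node 282 (BT.leaf cE282) (BT.leaf cE283)) (BT.node 284 (BT.leaf cE284) (BT.leaf cE285)))) (BT.node 290 (BT.node 288 (BT.node 287 (BT.node 286 (BT.leaf cE286) (BT.leaf cE287)) (BT.leaf cE288)) (BT.node 289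 (BT.leaf cE289) (BT.leaf cE290))) (BT.node 292 (BT.node 291 (BT.leaf cE291) (BT.leaf cE292)) (BT.node 293 (BT.leaf cE293) (BT.leaf cE294))))) (BT.node 303 (BT.node 299 (BT.node 297 (BT.node 296 (BT.node 295 (BT.leaf cE295) (BT.leaf cE296)) (BT.leaf cE297)) (BT.node 298 (BT.leaf cE298) (BT.leaf cE299))) (BT.node 301 (BT.node 300 (BT.leaf cE300) (BT.leaf cE301)) (BT.node 302 (BT.leaf cE302) (BT.leaf cE303)))) (BT.node 307 (BT.node 305 (BT.node 304 (BT.leaf cE304) (BT.leaf cE305)) (BT.node 306 (BT.leaf cE306) (BT.leaf cE307))) (BT.node 309 (BT.node 308 (BT.leaf cE308) (BT.leaf cE309)) (BT.node 310 (BT.leaf cE310) (BT.leaf cE311)))))) (BT.node 328 (BT.node 320 (BT.node 316 (BT.node 314 (BT.node 313 (BT.node 312 (BT.leaf cE312) (BT.leaf cE313)) (BT.leaf cE314)) (BT.node 315 (BT.leaf cE315) (BT.leaf cE316))) (BT.node 318 (BT.node 317 (BT.leaf cE317)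 (BT.leaf cE318)) (BT.node 319 (BT.leaf cE319) (BT.leaf cE320)))) (BT.node 324 (BT.node 322 (BT.node 321 (BT.leaf cE321) (BT.leaf cE322)) (BT.node 323 (BT.leaf cE323) (BT.leaf cE324))) (BT.node 326 (BT.node 325 (BT.leaf cE325) (BT.leaf cE326)) (BT.node 327 (BT.leaf cE327) (BT.leaf cE328))))) (BT.node 337 (BT.node 333 (BT.node 331 (BT.node 330 (BT.node 329 (BT.leaf cE329) (BT.leaf cE330)) (BT.leaf cE331)) (BT.node 332 (BT.leaf cE332) (BT.leaf cE333))) (BT.node 335 (BT.node 334 (BT.leaf cE334) (BT.leaf cE335)) (BT.node 336 (BT.leaf cE336) (BT.leaf cE337)))) (BT.node 341 (BT.node 339 (BT.node 338 (BT.leaf cE338) (BT.leaf cE339)) (BT.node 340 (BT.leaf cE340) (BT.leaf cE341))) (BT.node 343 (BT.node 342 (BT.leaf cE342) (BT.leaf cE343)) (BT.node 344 (BT.leaf cE344) (BT.leaf cE345))))))) (BT.node 380 (BT.node 363 (BT.node 354 (BT.node 350 (BT.node 348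 (BT.node 347 (BT.node 346 (BT.leaf cE346) (BT.leaf cE347)) (BT.leaf cE348)) (BT.node 349 (BT.leaf cE349) (BT.leaf cE350))) (BT.node 352 (BT.node 351 (BT.leaf cE351) (BT.leaf cE352)) (BT.node 353 (BT.leaf cE353) (BT.leaf cE354)))) (BT.node 359 (BT.node 357 (BT.node 356 (BT.node 355 (BT.leaf cE355) (BT.leaf cE356)) (BT.leaf cE357)) (BT.node 358 (BT.leaf cE358) (BT.leaf cE359))) (BT.node 361 (BT.node 360 (BT.leaf cE360) (BT.leaf cE361)) (BT.node 362 (BT.leaf cE362) (BT.leaf cE363))))) (BT.node 372 (BT.node 368 (BT.node 366 (BT.node 365 (BT.node 364 (BT.leaf cE364) (BT.leaf cE365)) (BT.leaf cE366)) (BT.node 367 (BT.leaf cE367) (BT.leaf cE368))) (BT.node 370 (BT.node 369 (BT.leaf cE369) (BT.leaf cE370)) (BT.node 371 (BT.leaf cE371) (BT.leaf cE372)))) (BT.node 376 (BT.node 374 (BT.node 373 (BT.leaf cE373) (BT.leaf cE374)) (BT.node 375 (BT.leaf cE375)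 (BT.leaf cE376))) (BT.node 378 (BT.node 377 (BT.leaf cE377) (BT.leaf cE378)) (BT.node 379 (BT.leaf cE379) (BT.leaf cE380)))))) (BT.node 397 (BT.node 389 (BT.node 385 (BT.node 383 (BT.node 382 (BT.node 381 (BT.leaf cE381) (BT.leaf cE382)) (BT.leaf cE383)) (BT.node 384 (BT.leaf cE384) (BT.leaf cE385))) (BT.node 387 (BT.node 386 (BT.leaf cE386) (BT.leaf cE387)) (BT.node 388 (BT.leaf cE388) (BT.leaf cE389)))) (BT.node 393 (BT.node 391 (BT.node 390 (BT.leaf cE390) (BT.leaf cE391)) (BT.node 392 (BT.leaf cE392) (BT.leaf cE393))) (BT.node 395 (BT.node 394 (BT.leaf cE394) (BT.leaf cE395)) (BT.node 396 (BT.leaf cE396) (BT.leaf cE397))))) (BT.node 406 (BT.node 402 (BT.node 400 (BT.node 399 (BT.node 398 (BT.leaf cE398) (BT.leaf cE399)) (BT.leaf cE400)) (BT.node 401 (BT.leaf cE401) (BT.leaf cE402))) (BT.node 404 (BT.node 403 (BT.leaf cE403) (BT.leaf cE404))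 (BT.node 405 (BT.leaf cE405) (BT.leaf cE406)))) (BT.node 410 (BT.node 408 (BT.node 407 (BT.leaf cE407) (BT.leaf cE408)) (BT.node 409 (BT.leaf cE409) (BT.leaf cE410))) (BT.node 412 (BT.node 411 (BT.leaf cE411) (BT.leaf cE412)) (BT.node 413 (BT.leaf cE413) (BT.leaf cE414)))))))) (BT.node 483 (BT.node 449 (BT.node 432 (BT.node 423 (BT.node 419 (BT.node 417 (BT.node 416 (BT.node 415 (BT.leaf cE415) (BT.leaf cE416)) (BT.leaf cE417)) (BT.node 418 (BT.leaf cE418) (BT.leaf cE419))) (BT.node 421 (BT.node 420 (BT.leaf cE420) (BT.leaf cE421)) (BT.node 422 (BT.leaf cE422) (BT.leaf cE423)))) (BT.node 428 (BT.node 426 (BT.node 425 (BT.node 424 (BT.leaf cE424) (BT.leaf cE425)) (BT.leaf cE426)) (BT.node 427 (BT.leaf cE427) (BT.leaf cE428))) (BT.node 430 (BT.node 429 (BT.leaf cE429) (BT.leaf cE430)) (BT.node 431 (BT.leaf cE431) (BT.leaf cE432))))) (BT.node 441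 (BT.node 437 (BT.node 435 (BT.node 434 (BT.node 433 (BT.leaf cE433) (BT.leaf cE434)) (BT.leaf cE435)) (BT.node 436 (BT.leaf cE436) (BT.leaf cE437))) (BT.node 439 (BT.node 438 (BT.leaf cE438) (BT.leaf cE439)) (BT.node 440 (BT.leaf cE440) (BT.leaf cE441)))) (BT.node 445 (BT.node 443 (BT.node 442 (BT.leaf cE442) (BT.leaf cE443)) (BT.node 444 (BT.leaf cE444) (BT.leaf cE445))) (BT.node 447 (BT.node 446 (BT.leaf cE446) (BT.leaf cE447)) (BT.node 448 (BT.leaf cE448) (BT.leaf cE449)))))) (BT.node 466 (BT.node 458 (BT.node 454 (BT.node 452 (BT.node 451 (BT.node 450 (BT.leaf cE450) (BT.leaf cE451)) (BT.leaf cE452)) (BT.node 453 (BT.leaf cE453) (BT.leaf cE454))) (BT.node 456 (BT.node 455 (BT.leaf cE455) (BT.leaf cE456)) (BT.node 457 (BT.leaf cE457) (BT.leaf cE458)))) (BT.node 462 (BT.node 460 (BT.node 459 (BT.leaf cE459) (BT.leaf cE460)) (BT.node 461 (BT.leaf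 cE461) (BT.leaf cE462))) (BT.node 464 (BT.node 463 (BT.leaf cE463) (BT.leaf cE464)) (BT.node 465 (BT.leaf cE465) (BT.leaf cE466))))) (BT.node 475 (BT.node 471 (BT.node 469 (BT.node 468 (BT.node 467 (BT.leaf cE467) (BT.leaf cE468)) (BT.leaf cE469)) (BT.node 470 (BT.leaf cE470) (BT.leaf cE471))) (BT.node 473 (BT.node 472 (BT.leaf cE472) (BT.leaf cE473)) (BT.node 474 (BT.leaf cE474) (BT.leaf cE475)))) (BT.node 479 (BT.node 477 (BT.node 476 (BT.leaf cE476) (BT.leaf cE477)) (BT.node 478 (BT.leaf cE478) (BT.leaf cE479))) (BT.node 481 (BT.node 480 (BT.leaf cE480) (BT.leaf cE481)) (BT.node 482 (BT.leaf cE482) (BT.leaf cE483))))))) (BT.node 518 (BT.node 501 (BT.node 492 (BT.node 488 (BT.node 486 (BT.node 485 (BT.node 484 (BT.leaf cE484) (BT.leaf cE485)) (BT.leaf cE486)) (BT.node 487 (BT.leaf cE487) (BT.leaf cE488))) (BT.node 490 (BT.node 489 (BT.leaf cE489)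 (BT.leaf cE490)) (BT.node 491 (BT.leaf cE491) (BT.leaf cE492)))) (BT.node 497 (BT.node 495 (BT.node 494 (BT.node 493 (BT.leaf cE493) (BT.leaf cE494)) (BT.leaf cE495)) (BT.node 496 (BT.leaf cE496) (BT.leaf cE497))) (BT.node 499 (BT.node 498 (BT.leaf cE498) (BT.leaf cE499)) (BT.node 500 (BT.leaf cE500) (BT.leaf cE501))))) (BT.node 510 (BT.node 506 (BT.node 504 (BT.node 503 (BT.node 502 (BT.leaf cE502) (BT.leaf cE503)) (BT.leaf cE504)) (BT.node 505 (BT.leaf cE505) (BT.leaf cE506))) (BT.node 508 (BT.node 507 (BT.leaf cE507) (BT.leaf cE508)) (BT.node 509 (BT.leaf cE509) (BT.leaf cE510)))) (BT.node 514 (BT.node 512 (BT.node 511 (BT.leaf cE511) (BT.leaf cE512)) (BT.node 513 (BT.leaf cE513) (BT.leaf cE514))) (BT.node 516 (BT.node 515 (BT.leaf cE515) (BT.leaf cE516)) (BT.node 517 (BT.leaf cE517) (BT.leaf cE518)))))) (BT.node 535 (BT.node 527 (BT.node 523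 (BT.node 521 (BT.node 520 (BT.node 519 (BT.leaf cE519) (BT.leaf cE520)) (BT.leaf cE521)) (BT.node 522 (BT.leaf cE522) (BT.leaf cE523))) (BT.node 525 (BT.node 524 (BT.leaf cE524) (BT.leaf cE525)) (BT.node 526 (BT.leaf cE526) (BT.leaf cE527)))) (BT.node 531 (BT.node 529 (BT.node 528 (BT.leaf cE528) (BT.leaf cE529)) (BT.node 530 (BT.leaf cE530) (BT.leaf cE531))) (BT.node 533 (BT.node 532 (BT.leaf cE532) (BT.leaf cE533)) (BT.node 534 (BT.leaf cE534) (BT.leaf cE535))))) (BT.node 544 (BT.node 540 (BT.node 538 (BT.node 537 (BT.node 536 (BT.leaf cE536) (BT.leaf cE537)) (BT.leaf cE538)) (BT.node 539 (BT.leaf cE539) (BT.leaf cE540))) (BT.node 542 (BT.node 541 (BT.leaf cE541) (BT.leaf cE542)) (BT.node 543 (BT.leaf cE543) (BT.leaf cE544)))) (BT.node 548 (BT.node 546 (BT.node 545 (BT.leaf cE545) (BT.leaf cE546)) (BT.node 547 (BT.leaf cE547) (BT.leaf cE548)))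 (BT.node 550 (BT.node 549 (BT.leaf cE549) (BT.leaf cE550)) (BT.node 551 (BT.leaf cE551) (BT.leaf cE552)))))))))) (BT.node 829 (BT.node 691 (BT.node 622 (BT.node 587 (BT.node 570 (BT.node 561 (BT.node 557 (BT.node 555 (BT.node 554 (BT.node 553 (BT.leaf cE553) (BT.leaf cE554)) (BT.leaf cE555)) (BT.node 556 (BT.leaf cE556) (BT.leaf cE557))) (BT.node 559 (BT.node 558 (BT.leaf cE558) (BT.leaf cE559)) (BT.node 560 (BT.leaf cE560) (BT.leaf cE561)))) (BT.node 566 (BT.node 564 (BT.node 563 (BT.node 562 (BT.leaf cE562) (BT.leaf cE563)) (BT.leaf cE564)) (BT.node 565 (BT.leaf cE565) (BT.leaf cE566))) (BT.node 568 (BT.node 567 (BT.leaf cE567) (BT.leaf cE568)) (BT.node 569 (BT.leaf cE569) (BT.leaf cE570))))) (BT.node 579 (BT.node 575 (BT.node 573 (BT.node 572 (BT.node 571 (BT.leaf cE571) (BT.leaf cE572)) (BT.leaf cE573)) (BT.node 574 (BT.leaf cE574) (BT.leaf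 cE575))) (BT.node 577 (BT.node 576 (BT.leaf cE576) (BT.leaf cE577)) (BT.node 578 (BT.leaf cE578) (BT.leaf cE579)))) (BT.node 583 (BT.node 581 (BT.node 580 (BT.leaf cE580) (BT.leaf cE581)) (BT.node 582 (BT.leaf cE582) (BT.leaf cE583))) (BT.node 585 (BT.node 584 (BT.leaf cE584) (BT.leaf cE585)) (BT.node 586 (BT.leaf cE586) (BT.leaf cE587)))))) (BT.node 605 (BT.node 596 (BT.node 592 (BT.node 590 (BT.node 589 (BT.node 588 (BT.leaf cE588) (BT.leaf cE589)) (BT.leaf cE590)) (BT.node 591 (BT.leaf cE591) (BT.leaf cE592))) (BT.node 594 (BT.node 593 (BT.leaf cE593) (BT.leaf cE594)) (BT.node 595 (BT.leaf cE595) (BT.leaf cE596)))) (BT.node 601 (BT.node 599 (BT.node 598 (BT.node 597 (BT.leaf cE597) (BT.leaf cE598)) (BT.leaf cE599)) (BT.node 600 (BT.leaf cE600) (BT.leaf cE601))) (BT.node 603 (BT.node 602 (BT.leaf cE602) (BT.leaf cE603)) (BT.node 604 (BT.leaf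 cE604) (BT.leaf cE605))))) (BT.node 614 (BT.node 610 (BT.node 608 (BT.node 607 (BT.node 606 (BT.leaf cE606) (BT.leaf cE607)) (BT.leaf cE608)) (BT.node 609 (BT.leaf cE609) (BT.leaf cE610))) (BT.node 612 (BT.node 611 (BT.leaf cE611) (BT.leaf cE612)) (BT.node 613 (BT.leaf cE613) (BT.leaf cE614)))) (BT.node 618 (BT.node 616 (BT.node 615 (BT.leaf cE615) (BT.leaf cE616)) (BT.node 617 (BT.leaf cE617) (BT.leaf cE618))) (BT.node 620 (BT.node 619 (BT.leaf cE619) (BT.leaf cE620)) (BT.node 621 (BT.leaf cE621) (BT.leaf cE622))))))) (BT.node 657 (BT.node 640 (BT.node 631 (BT.node 627 (BT.node 625 (BT.node 624 (BT.node 623 (BT.leaf cE623) (BT.leaf cE624)) (BT.leaf cE625)) (BT.node 626 (BT.leaf cE626) (BT.leaf cE627))) (BT.node 629 (BT.node 628 (BT.leaf cE628) (BT.leaf cE629)) (BT.node 630 (BT.leaf cE630) (BT.leaf cE631)))) (BT.node 636 (BT.node 634 (BT.node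 633 (BT.node 632 (BT.leaf cE632) (BT.leaf cE633)) (BT.leaf cE634)) (BT.node 635 (BT.leaf cE635) (BT.leaf cE636))) (BT.node 638 (BT.node 637 (BT.leaf cE637) (BT.leaf cE638)) (BT.node 639 (BT.leaf cE639) (BT.leaf cE640))))) (BT.node 649 (BT.node 645 (BT.node 643 (BT.node 642 (BT.node 641 (BT.leaf cE641) (BT.leaf cE642)) (BT.leaf cE643)) (BT.node 644 (BT.leaf cE644) (BT.leaf cE645))) (BT.node 647 (BT.node 646 (BT.leaf cE646) (BT.leaf cE647)) (BT.node 648 (BT.leaf cE648) (BT.leaf cE649)))) (BT.node 653 (BT.node 651 (BT.node 650 (BT.leaf cE650) (BT.leaf cE651)) (BT.node 652 (BT.leaf cE652) (BT.leaf cE653))) (BT.node 655 (BT.node 654 (BT.leaf cE654) (BT.leaf cE655)) (BT.node 656 (BT.leaf cE656) (BT.leaf cE657)))))) (BT.node 674 (BT.node 666 (BT.node 662 (BT.node 660 (BT.node 659 (BT.node 658 (BT.leaf cE658) (BT.leaf cE659)) (BT.leaf cE660)) (BT.node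 661 (BT.leaf cE661) (BT.leaf cE662))) (BT.node 664 (BT.node 663 (BT.leaf cE663) (BT.leaf cE664)) (BT.node 665 (BT.leaf cE665) (BT.leaf cE666)))) (BT.node 670 (BT.node 668 (BT.node 667 (BT.leaf cE667) (BT.leaf cE668)) (BT.node 669 (BT.leaf cE669) (BT.leaf cE670))) (BT.node 672 (BT.node 671 (BT.leaf cE671) (BT.leaf cE672)) (BT.node 673 (BT.leaf cE673) (BT.leaf cE674))))) (BT.node 683 (BT.node 679 (BT.node 677 (BT.node 676 (BT.node 675 (BT.leaf cE675) (BT.leaf cE676)) (BT.leaf cE677)) (BT.node 678 (BT.leaf cE678) (BT.leaf cE679))) (BT.node 681 (BT.node 680 (BT.leaf cE680) (BT.leaf cE681)) (BT.node 682 (BT.leaf cE682) (BT.leaf cE683)))) (BT.node 687 (BT.node 685 (BT.node 684 (BT.leaf cE684) (BT.leaf cE685)) (BT.node 686 (BT.leaf cE686) (BT.leaf cE687))) (BT.node 689 (BT.node 688 (BT.leaf cE688) (BT.leaf cE689)) (BT.node 690 (BT.leaf cE690) (BT.leaf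 cE691)))))))) (BT.node 760 (BT.node 726 (BT.node 709 (BT.node 700 (BT.node 696 (BT.node 694 (BT.node 693 (BT.node 692 (BT.leaf cE692) (BT.leaf cE693)) (BT.leaf cE694)) (BT.node 695 (BT.leaf cE695) (BT.leaf cE696))) (BT.node 698 (BT.node 697 (BT.leaf cE697) (BT.leaf cE698)) (BT.node 699 (BT.leaf cE699) (BT.leaf cE700)))) (BT.node 705 (BT.node 703 (BT.node 702 (BT.node 701 (BT.leaf cE701) (BT.leaf cE702)) (BT.leaf cE703)) (BT.node 704 (BT.leaf cE704) (BT.leaf cE705))) (BT.node 707 (BT.node 706 (BT.leaf cE706) (BT.leaf cE707)) (BT.node 708 (BT.leaf cE708) (BT.leaf cE709))))) (BT.node 718 (BT.node 714 (BT.node 712 (BT.node 711 (BT.node 710 (BT.leaf cE710) (BT.leaf cE711)) (BT.leaf cE712)) (BT.node 713 (BT.leaf cE713) (BT.leaf cE714))) (BT.node 716 (BT.node 715 (BT.leaf cE715) (BT.leaf cE716)) (BT.node 717 (BT.leaf cE717) (BT.leaf cE718)))) (BT.node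 722 (BT.node 720 (BT.node 719 (BT.leaf cE719) (BT.leaf cE720)) (BT.node 721 (BT.leaf cE721) (BT.leaf cE722))) (BT.node 724 (BT.node 723 (BT.leaf cE723) (BT.leaf cE724)) (BT.node 725 (BT.leaf cE725) (BT.leaf cE726)))))) (BT.node 743 (BT.node 735 (BT.node 731 (BT.node 729 (BT.node 728 (BT.node 727 (BT.leaf cE727) (BT.leaf cE728)) (BT.leaf cE729)) (BT.node 730 (BT.leaf cE730) (BT.leaf cE731))) (BT.node 733 (BT.node 732 (BT.leaf cE732) (BT.leaf cE733)) (BT.node 734 (BT.leaf cE734) (BT.leaf cE735)))) (BT.node 739 (BT.node 737 (BT.node 736 (BT.leaf cE736) (BT.leaf cE737)) (BT.node 738 (BT.leaf cE738) (BT.leaf cE739))) (BT.node 741 (BT.node 740 (BT.leaf cE740) (BT.leaf cE741)) (BT.node 742 (BT.leaf cE742) (BT.leaf cE743))))) (BT.node 752 (BT.node 748 (BT.node 746 (BT.node 745 (BT.node 744 (BT.leaf cE744) (BT.leaf cE745)) (BT.leaf cE746)) (BT.node 747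 (BT.leaf cE747) (BT.leaf cE748))) (BT.node 750 (BT.node 749 (BT.leaf cE749) (BT.leaf cE750)) (BT.node 751 (BT.leaf cE751) (BT.leaf cE752)))) (BT.node 756 (BT.node 754 (BT.node 753 (BT.leaf cE753) (BT.leaf cE754)) (BT.node 755 (BT.leaf cE755) (BT.leaf cE756))) (BT.node 758 (BT.node 757 (BT.leaf cE757) (BT.leaf cE758)) (BT.node 759 (BT.leaf cE759) (BT.leaf cE760))))))) (BT.node 795 (BT.node 778 (BT.node 769 (BT.node 765 (BT.node 763 (BT.node 762 (BT.node 761 (BT.leaf cE761) (BT.leaf cE762)) (BT.leaf cE763)) (BT.node 764 (BT.leaf cE764) (BT.leaf cE765))) (BT.node 767 (BT.node 766 (BT.leaf cE766) (BT.leaf cE767)) (BT.node 768 (BT.leaf cE768) (BT.leaf cE769)))) (BT.node 774 (BT.node 772 (BT.node 771 (BT.node 770 (BT.leaf cE770) (BT.leaf cE771)) (BT.leaf cE772)) (BT.node 773 (BT.leaf cE773) (BT.leaf cE774))) (BT.node 776 (BT.node 775 (BT.leaf cE775)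 (BT.leaf cE776)) (BT.node 777 (BT.leaf cE777) (BT.leaf cE778))))) (BT.node 787 (BT.node 783 (BT.node 781 (BT.node 780 (BT.node 779 (BT.leaf cE779) (BT.leaf cE780)) (BT.leaf cE781)) (BT.node 782 (BT.leaf cE782) (BT.leaf cE783))) (BT.node 785 (BT.node 784 (BT.leaf cE784) (BT.leaf cE785)) (BT.node 786 (BT.leaf cE786) (BT.leaf cE787)))) (BT.node 791 (BT.node 789 (BT.node 788 (BT.leaf cE788) (BT.leaf cE789)) (BT.node 790 (BT.leaf cE790) (BT.leaf cE791))) (BT.node 793 (BT.node 792 (BT.leaf cE792) (BT.leaf cE793)) (BT.node 794 (BT.leaf cE794) (BT.leaf cE795)))))) (BT.node 812 (BT.node 804 (BT.node 800 (BT.node 798 (BT.node 797 (BT.node 796 (BT.leaf cE796) (BT.leaf cE797)) (BT.leaf cE798)) (BT.node 799 (BT.leaf cE799) (BT.leaf cE800))) (BT.node 802 (BT.node 801 (BT.leaf cE801) (BT.leaf cE802)) (BT.node 803 (BT.leaf cE803) (BT.leaf cE804)))) (BT.node 808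 (BT.node 806 (BT.node 805 (BT.leaf cE805) (BT.leaf cE806)) (BT.node 807 (BT.leaf cE807) (BT.leaf cE808))) (BT.node 810 (BT.node 809 (BT.leaf cE809) (BT.leaf cE810)) (BT.node 811 (BT.leaf cE811) (BT.leaf cE812))))) (BT.node 821 (BT.node 817 (BT.node 815 (BT.node 814 (BT.node 813 (BT.leaf cE813) (BT.leaf cE814)) (BT.leaf cE815)) (BT.node 816 (BT.leaf cE816) (BT.leaf cE817))) (BT.node 819 (BT.node 818 (BT.leaf cE818) (BT.leaf cE819)) (BT.node 820 (BT.leaf cE820) (BT.leaf cE821)))) (BT.node 825 (BT.node 823 (BT.node 822 (BT.leaf cE822) (BT.leaf cE823)) (BT.node 824 (BT.leaf cE824) (BT.leaf cE825))) (BT.node 827 (BT.node 826 (BT.leaf cE826) (BT.leaf cE827)) (BT.node 828 (BT.leaf cE828) (BT.leaf cE829))))))))) (BT.node 967 (BT.node 898 (BT.node 864 (BT.node 847 (BT.node 838 (BT.node 834 (BT.node 832 (BT.node 831 (BT.node 830 (BT.leaf cE830) (BT.leaf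 cE831)) (BT.leaf cE832)) (BT.node 833 (BT.leaf cE833) (BT.leaf cE834))) (BT.node 836 (BT.node 835 (BT.leaf cE835) (BT.leaf cE836)) (BT.node 837 (BT.leaf cE837) (BT.leaf cE838)))) (BT.node 843 (BT.node 841 (BT.node 840 (BT.node 839 (BT.leaf cE839) (BT.leaf cE840)) (BT.leaf cE841)) (BT.node 842 (BT.leaf cE842) (BT.leaf cE843))) (BT.node 845 (BT.node 844 (BT.leaf cE844) (BT.leaf cE845)) (BT.node 846 (BT.leaf cE846) (BT.leaf cE847))))) (BT.node 856 (BT.node 852 (BT.node 850 (BT.node 849 (BT.node 848 (BT.leaf cE848) (BT.leaf cE849)) (BT.leaf cE850)) (BT.node 851 (BT.leaf cE851) (BT.leaf cE852))) (BT.node 854 (BT.node 853 (BT.leaf cE853) (BT.leaf cE854)) (BT.node 855 (BT.leaf cE855) (BT.leaf cE856)))) (BT.node 860 (BT.node 858 (BT.node 857 (BT.leaf cE857) (BT.leaf cE858)) (BT.node 859 (BT.leaf cE859) (BT.leaf cE860))) (BT.node 862 (BT.node 861 (BT.leaf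 cE861) (BT.leaf cE862)) (BT.node 863 (BT.leaf cE863) (BT.leaf cE864)))))) (BT.node 881 (BT.node 873 (BT.node 869 (BT.node 867 (BT.node 866 (BT.node 865 (BT.leaf cE865) (BT.leaf cE866)) (BT.leaf cE867)) (BT.node 868 (BT.leaf cE868) (BT.leaf cE869))) (BT.node 871 (BT.node 870 (BT.leaf cE870) (BT.leaf cE871)) (BT.node 872 (BT.leaf cE872) (BT.leaf cE873)))) (BT.node 877 (BT.node 875 (BT.node 874 (BT.leaf cE874) (BT.leaf cE875)) (BT.node 876 (BT.leaf cE876) (BT.leaf cE877))) (BT.node 879 (BT.node 878 (BT.leaf cE878) (BT.leaf cE879)) (BT.node 880 (BT.leaf cE880) (BT.leaf cE881))))) (BT.node 890 (BT.node 886 (BT.node 884 (BT.node 883 (BT.node 882 (BT.leaf cE882) (BT.leaf cE883)) (BT.leaf cE884)) (BT.node 885 (BT.leaf cE885) (BT.leaf cE886))) (BT.node 888 (BT.node 887 (BT.leaf cE887) (BT.leaf cE888)) (BT.node 889 (BT.leaf cE889) (BT.leaf cE890)))) (BT.node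 894 (BT.node 892 (BT.node 891 (BT.leaf cE891) (BT.leaf cE892)) (BT.node 893 (BT.leaf cE893) (BT.leaf cE894))) (BT.node 896 (BT.node 895 (BT.leaf cE895) (BT.leaf cE896)) (BT.node 897 (BT.leaf cE897) (BT.leaf cE898))))))) (BT.node 933 (BT.node 916 (BT.node 907 (BT.node 903 (BT.node 901 (BT.node 900 (BT.node 899 (BT.leaf cE899) (BT.leaf cE900)) (BT.leaf cE901)) (BT.node 902 (BT.leaf cE902) (BT.leaf cE903))) (BT.node 905 (BT.node 904 (BT.leaf cE904) (BT.leaf cE905)) (BT.node 906 (BT.leaf cE906) (BT.leaf cE907)))) (BT.node 912 (BT.node 910 (BT.node 909 (BT.node 908 (BT.leaf cE908) (BT.leaf cE909)) (BT.leaf cE910)) (BT.node 911 (BT.leaf cE911) (BT.leaf cE912))) (BT.node 914 (BT.node 913 (BT.leaf cE913) (BT.leaf cE914)) (BT.node 915 (BT.leaf cE915) (BT.leaf cE916))))) (BT.node 925 (BT.node 921 (BT.node 919 (BT.node 918 (BT.node 917 (BT.leaf cE917) (BT.leaf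 cE918)) (BT.leaf cE919)) (BT.node 920 (BT.leaf cE920) (BT.leaf cE921))) (BT.node 923 (BT.node 922 (BT.leaf cE922) (BT.leaf cE923)) (BT.node 924 (BT.leaf cE924) (BT.leaf cE925)))) (BT.node 929 (BT.node 927 (BT.node 926 (BT.leaf cE926) (BT.leaf cE927)) (BT.node 928 (BT.leaf cE928) (BT.leaf cE929))) (BT.node 931 (BT.node 930 (BT.leaf cE930) (BT.leaf cE931)) (BT.node 932 (BT.leaf cE932) (BT.leaf cE933)))))) (BT.node 950 (BT.node 942 (BT.node 938 (BT.node 936 (BT.node 935 (BT.node 934 (BT.leaf cE934) (BT.leaf cE935)) (BT.leaf cE936)) (BT.node 937 (BT.leaf cE937) (BT.leaf cE938))) (BT.node 940 (BT.node 939 (BT.leaf cE939) (BT.leaf cE940)) (BT.node 941 (BT.leaf cE941) (BT.leaf cE942)))) (BT.node 946 (BT.node 944 (BT.node 943 (BT.leaf cE943) (BT.leaf cE944)) (BT.node 945 (BT.leaf cE945) (BT.leaf cE946))) (BT.node 948 (BT.node 947 (BT.leaf cE947) (BT.leaf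 cE948)) (BT.node 949 (BT.leaf cE949) (BT.leaf cE950))))) (BT.node 959 (BT.node 955 (BT.node 953 (BT.node 952 (BT.node 951 (BT.leaf cE951) (BT.leaf cE952)) (BT.leaf cE953)) (BT.node 954 (BT.leaf cE954) (BT.leaf cE955))) (BT.node 957 (BT.node 956 (BT.leaf cE956) (BT.leaf cE957)) (BT.node 958 (BT.leaf cE958) (BT.leaf cE959)))) (BT.node 963 (BT.node 961 (BT.node 960 (BT.leaf cE960) (BT.leaf cE961)) (BT.node 962 (BT.leaf cE962) (BT.leaf cE963))) (BT.node 965 (BT.node 964 (BT.leaf cE964) (BT.leaf cE965)) (BT.node 966 (BT.leaf cE966) (BT.leaf cE967)))))))) (BT.node 1036 (BT.node 1002 (BT.node 985 (BT.node 976 (BT.node 972 (BT.node 970 (BT.node 969 (BT.node 968 (BT.leaf cE968) (BT.leaf cE969)) (BT.leaf cE970)) (BT.node 971 (BT.leaf cE971) (BT.leaf cE972))) (BT.node 974 (BT.node 973 (BT.leaf cE973) (BT.leaf cE974)) (BT.node 975 (BT.leaf cE975) (BT.leaf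 cE976)))) (BT.node 981 (BT.node 979 (BT.node 978 (BT.node 977 (BT.leaf cE977) (BT.leaf cE978)) (BT.leaf cE979)) (BT.node 980 (BT.leaf cE980) (BT.leaf cE981))) (BT.node 983 (BT.node 982 (BT.leaf cE982) (BT.leaf cE983)) (BT.node 984 (BT.leaf cE984) (BT.leaf cE985))))) (BT.node 994 (BT.node 990 (BT.node 988 (BT.node 987 (BT.node 986 (BT.leaf cE986) (BT.leaf cE987)) (BT.leaf cE988)) (BT.node 989 (BT.leaf cE989) (BT.leaf cE990))) (BT.node 992 (BT.node 991 (BT.leaf cE991) (BT.leaf cE992)) (BT.node 993 (BT.leaf cE993) (BT.leaf cE994)))) (BT.node 998 (BT.node 996 (BT.node 995 (BT.leaf cE995) (BT.leaf cE996)) (BT.node 997 (BT.leaf cE997) (BT.leaf cE998))) (BT.node 1000 (BT.node 999 (BT.leaf cE999) (BT.leaf cE1000)) (BT.node 1001 (BT.leaf cE1001) (BT.leaf cE1002)))))) (BT.node 1019 (BT.node 1011 (BT.node 1007 (BT.node 1005 (BT.node 1004 (BT.node 1003 (BT.leaf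 cE1003) (BT.leaf cE1004)) (BT.leaf cE1005)) (BT.node 1006 (BT.leaf cE1006) (BT.leaf cE1007))) (BT.node 1009 (BT.node 1008 (BT.leaf cE1008) (BT.leaf cE1009)) (BT.node 1010 (BT.leaf cE1010) (BT.leaf cE1011)))) (BT.node 1015 (BT.node 1013 (BT.node 1012 (BT.leaf cE1012) (BT.leaf cE1013)) (BT.node 1014 (BT.leaf cE1014) (BT.leaf cE1015))) (BT.node 1017 (BT.node 1016 (BT.leaf cE1016) (BT.leaf cE1017)) (BT.node 1018 (BT.leaf cE1018) (BT.leaf cE1019))))) (BT.node 1028 (BT.node 1024 (BT.node 1022 (BT.node 1021 (BT.node 1020 (BT.leaf cE1020) (BT.leaf cE1021)) (BT.leaf cE1022)) (BT.node 1023 (BT.leaf cE1023) (BT.leaf cE1024))) (BT.node 1026 (BT.node 1025 (BT.leaf cE1025) (BT.leaf cE1026)) (BT.node 1027 (BT.leaf cE1027) (BT.leaf cE1028)))) (BT.node 1032 (BT.node 1030 (BT.node 1029 (BT.leaf cE1029) (BT.leaf cE1030)) (BT.node 1031 (BT.leaf cE1031) (BT.leaf cE1032)))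 (BT.node 1034 (BT.node 1033 (BT.leaf cE1033) (BT.leaf cE1034)) (BT.node 1035 (BT.leaf cE1035) (BT.leaf cE1036))))))) (BT.node 1071 (BT.node 1054 (BT.node 1045 (BT.node 1041 (BT.node 1039 (BT.node 1038 (BT.node 1037 (BT.leaf cE1037) (BT.leaf cE1038)) (BT.leaf cE1039)) (BT.node 1040 (BT.leaf cE1040) (BT.leaf cE1041))) (BT.node 1043 (BT.node 1042 (BT.leaf cE1042) (BT.leaf cE1043)) (BT.node 1044 (BT.leaf cE1044) (BT.leaf cE1045)))) (BT.node 1050 (BT.node 1048 (BT.node 1047 (BT.node 1046 (BT.leaf cE1046) (BT.leaf cE1047)) (BT.leaf cE1048)) (BT.node 1049 (BT.leaf cE1049) (BT.leaf cE1050))) (BT.node 1052 (BT.node 1051 (BT.leaf cE1051) (BT.leaf cE1052)) (BT.node 1053 (BT.leaf cE1053) (BT.leaf cE1054))))) (BT.node 1063 (BT.node 1059 (BT.node 1057 (BT.node 1056 (BT.node 1055 (BT.leaf cE1055) (BT.leaf cE1056)) (BT.leaf cE1057)) (BT.node 1058 (BT.leaf cE1058)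 (BT.leaf cE1059))) (BT.node 1061 (BT.node 1060 (BT.leaf cE1060) (BT.leaf cE1061)) (BT.node 1062 (BT.leaf cE1062) (BT.leaf cE1063)))) (BT.node 1067 (BT.node 1065 (BT.node 1064 (BT.leaf cE1064) (BT.leaf cE1065)) (BT.node 1066 (BT.leaf cE1066) (BT.leaf cE1067))) (BT.node 1069 (BT.node 1068 (BT.leaf cE1068) (BT.leaf cE1069)) (BT.node 1070 (BT.leaf cE1070) (BT.leaf cE1071)))))) (BT.node 1088 (BT.node 1080 (BT.node 1076 (BT.node 1074 (BT.node 1073 (BT.node 1072 (BT.leaf cE1072) (BT.leaf cE1073)) (BT.leaf cE1074)) (BT.node 1075 (BT.leaf cE1075) (BT.leaf cE1076))) (BT.node 1078 (BT.node 1077 (BT.leaf cE1077) (BT.leaf cE1078)) (BT.node 1079 (BT.leaf cE1079) (BT.leaf cE1080)))) (BT.node 1084 (BT.node 1082 (BT.node 1081 (BT.leaf cE1081) (BT.leaf cE1082)) (BT.node 1083 (BT.leaf cE1083) (BT.leaf cE1084))) (BT.node 1086 (BT.node 1085 (BT.leaf cE1085) (BT.leaf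 cE1086)) (BT.node 1087 (BT.leaf cE1087) (BT.leaf cE1088))))) (BT.node 1097 (BT.node 1093 (BT.node 1091 (BT.node 1090 (BT.node 1089 (BT.leaf cE1089) (BT.leaf cE1090)) (BT.leaf cE1091)) (BT.node 1092 (BT.leaf cE1092) (BT.leaf cE1093))) (BT.node 1095 (BT.node 1094 (BT.leaf cE1094) (BT.leaf cE1095)) (BT.node 1096 (BT.leaf cE1096) (BT.leaf cE1097)))) (BT.node 1101 (BT.node 1099 (BT.node 1098 (BT.leaf cE1098) (BT.leaf cE1099)) (BT.node 1100 (BT.leaf cE1100) (BT.leaf cE1101))) (BT.node 1103 (BT.node 1102 (BT.leaf cE1102) (BT.leaf cE1103)) (BT.node 1104 (BT.leaf cE1104) (BT.leaf cE1105)))))))))))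
/-- justification chunks -/
def colJT : BT ℕ := (BT.node 552 (BT.node 276 (BT.node 138 (BT.node 69 (BT.node 34 (BT.node 17 (BT.node 8 (BT.node 4 (BT.node 2 (BT.node 1 (BT.node 0 (BT.leaf cJ0) (BT.leaf cJ1)) (BT.leaf cJ2)) (BT.node 3 (BT.leaf cJ3) (BT.leaf cJ4))) (BT.node 6 (BT.node 5 (BT.leaf cJ5) (BT.leaf cJ6)) (BT.node 7 (BT.leaf cJ7) (BT.leaf cJ8)))) (BT.node 13 (BT.node 11 (BT.node 10 (BT.node 9 (BT.leaf cJ9) (BT.leaf cJ10)) (BT.leaf cJ11)) (BT.node 12 (BT.leaf cJ12) (BT.leaf cJ13))) (BT.node 15 (BT.node 14 (BT.leaf cJ14) (BT.leaf cJ15)) (BT.node 16 (BT.leaf cJ16) (BT.leaf cJ17))))) (BT.node 26 (BT.node 22 (BT.node 20 (BT.node 19 (BT.node 18 (BT.leaf cJ18) (BT.leaf cJ19)) (BT.leaf cJ20)) (BT.node 21 (BT.leaf cJ21) (BT.leaf cJ22))) (BT.node 24 (BT.node 23 (BT.leaf cJ23) (BT.leaf cJ24)) (BT.node 25 (BT.leaf cJ25) (BT.leaf cJ26)))) (BT.node 30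 (BT.node 28 (BT.node 27 (BT.leaf cJ27) (BT.leaf cJ28)) (BT.node 29 (BT.leaf cJ29) (BT.leaf cJ30))) (BT.node 32 (BT.node 31 (BT.leaf cJ31) (BT.leaf cJ32)) (BT.node 33 (BT.leaf cJ33) (BT.leaf cJ34)))))) (BT.node 52 (BT.node 43 (BT.node 39 (BT.node 37 (BT.node 36 (BT.node 35 (BT.leaf cJ35) (BT.leaf cJ36)) (BT.leaf cJ37)) (BT.node 38 (BT.leaf cJ38) (BT.leaf cJ39))) (BT.node 41 (BT.node 40 (BT.leaf cJ40) (BT.leaf cJ41)) (BT.node 42 (BT.leaf cJ42) (BT.leaf cJ43)))) (BT.node 48 (BT.node 46 (BT.node 45 (BT.node 44 (BT.leaf cJ44) (BT.leaf cJ45)) (BT.leaf cJ46)) (BT.node 47 (BT.leaf cJ47) (BT.leaf cJ48))) (BT.node 50 (BT.node 49 (BT.leaf cJ49) (BT.leaf cJ50)) (BT.node 51 (BT.leaf cJ51) (BT.leaf cJ52))))) (BT.node 61 (BT.node 57 (BT.node 55 (BT.node 54 (BT.node 53 (BT.leaf cJ53) (BT.leaf cJ54)) (BT.leaf cJ55)) (BT.node 56 (BT.leaf cJ56) (BT.leaf cJ57)))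 (BT.node 59 (BT.node 58 (BT.leaf cJ58) (BT.leaf cJ59)) (BT.node 60 (BT.leaf cJ60) (BT.leaf cJ61)))) (BT.node 65 (BT.node 63 (BT.node 62 (BT.leaf cJ62) (BT.leaf cJ63)) (BT.node 64 (BT.leaf cJ64) (BT.leaf cJ65))) (BT.node 67 (BT.node 66 (BT.leaf cJ66) (BT.leaf cJ67)) (BT.node 68 (BT.leaf cJ68) (BT.leaf cJ69))))))) (BT.node 104 (BT.node 87 (BT.node 78 (BT.node 74 (BT.node 72 (BT.node 71 (BT.node 70 (BT.leaf cJ70) (BT.leaf cJ71)) (BT.leaf cJ72)) (BT.node 73 (BT.leaf cJ73) (BT.leaf cJ74))) (BT.node 76 (BT.node 75 (BT.leaf cJ75) (BT.leaf cJ76)) (BT.node 77 (BT.leaf cJ77) (BT.leaf cJ78)))) (BT.node 83 (BT.node 81 (BT.node 80 (BT.node 79 (BT.leaf cJ79) (BT.leaf cJ80)) (BT.leaf cJ81)) (BT.node 82 (BT.leaf cJ82) (BT.leaf cJ83))) (BT.node 85 (BT.node 84 (BT.leaf cJ84) (BT.leaf cJ85)) (BT.node 86 (BT.leaf cJ86) (BT.leaf cJ87))))) (BT.node 96 (BT.node 92 (BT.node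 90 (BT.node 89 (BT.node 88 (BT.leaf cJ88) (BT.leaf cJ89)) (BT.leaf cJ90)) (BT.node 91 (BT.leaf cJ91) (BT.leaf cJ92))) (BT.node 94 (BT.node 93 (BT.leaf cJ93) (BT.leaf cJ94)) (BT.node 95 (BT.leaf cJ95) (BT.leaf cJ96)))) (BT.node 100 (BT.node 98 (BT.node 97 (BT.leaf cJ97) (BT.leaf cJ98)) (BT.node 99 (BT.leaf cJ99) (BT.leaf cJ100))) (BT.node 102 (BT.node 101 (BT.leaf cJ101) (BT.leaf cJ102)) (BT.node 103 (BT.leaf cJ103) (BT.leaf cJ104)))))) (BT.node 121 (BT.node 113 (BT.node 109 (BT.node 107 (BT.node 106 (BT.node 105 (BT.leaf cJ105) (BT.leaf cJ106)) (BT.leaf cJ107)) (BT.node 108 (BT.leaf cJ108) (BT.leaf cJ109))) (BT.node 111 (BT.node 110 (BT.leaf cJ110) (BT.leaf cJ111)) (BT.node 112 (BT.leaf cJ112) (BT.leaf cJ113)))) (BT.node 117 (BT.node 115 (BT.node 114 (BT.leaf cJ114) (BT.leaf cJ115)) (BT.node 116 (BT.leaf cJ116) (BT.leaf cJ117))) (BT.node 119 (BT.node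 118 (BT.leaf cJ118) (BT.leaf cJ119)) (BT.node 120 (BT.leaf cJ120) (BT.leaf cJ121))))) (BT.node 130 (BT.node 126 (BT.node 124 (BT.node 123 (BT.node 122 (BT.leaf cJ122) (BT.leaf cJ123)) (BT.leaf cJ124)) (BT.node 125 (BT.leaf cJ125) (BT.leaf cJ126))) (BT.node 128 (BT.node 127 (BT.leaf cJ127) (BT.leaf cJ128)) (BT.node 129 (BT.leaf cJ129) (BT.leaf cJ130)))) (BT.node 134 (BT.node 132 (BT.node 131 (BT.leaf cJ131) (BT.leaf cJ132)) (BT.node 133 (BT.leaf cJ133) (BT.leaf cJ134))) (BT.node 136 (BT.node 135 (BT.leaf cJ135) (BT.leaf cJ136)) (BT.node 137 (BT.leaf cJ137) (BT.leaf cJ138)))))))) (BT.node 207 (BT.node 173 (BT.node 156 (BT.node 147 (BT.node 143 (BT.node 141 (BT.node 140 (BT.node 139 (BT.leaf cJ139) (BT.leaf cJ140)) (BT.leaf cJ141)) (BT.node 142 (BT.leaf cJ142) (BT.leaf cJ143))) (BT.node 145 (BT.node 144 (BT.leaf cJ144) (BT.leaf cJ145)) (BT.node 146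 (BT.leaf cJ146) (BT.leaf cJ147)))) (BT.node 152 (BT.node 150 (BT.node 149 (BT.node 148 (BT.leaf cJ148) (BT.leaf cJ149)) (BT.leaf cJ150)) (BT.node 151 (BT.leaf cJ151) (BT.leaf cJ152))) (BT.node 154 (BT.node 153 (BT.leaf cJ153) (BT.leaf cJ154)) (BT.node 155 (BT.leaf cJ155) (BT.leaf cJ156))))) (BT.node 165 (BT.node 161 (BT.node 159 (BT.node 158 (BT.node 157 (BT.leaf cJ157) (BT.leaf cJ158)) (BT.leaf cJ159)) (BT.node 160 (BT.leaf cJ160) (BT.leaf cJ161))) (BT.node 163 (BT.node 162 (BT.leaf cJ162) (BT.leaf cJ163)) (BT.node 164 (BT.leaf cJ164) (BT.leaf cJ165)))) (BT.node 169 (BT.node 167 (BT.node 166 (BT.leaf cJ166) (BT.leaf cJ167)) (BT.node 168 (BT.leaf cJ168) (BT.leaf cJ169))) (BT.node 171 (BT.node 170 (BT.leaf cJ170) (BT.leaf cJ171)) (BT.node 172 (BT.leaf cJ172) (BT.leaf cJ173)))))) (BT.node 190 (BT.node 182 (BT.node 178 (BT.node 176 (BT.node 175 (BT.node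 174 (BT.leaf cJ174) (BT.leaf cJ175)) (BT.leaf cJ176)) (BT.node 177 (BT.leaf cJ177) (BT.leaf cJ178))) (BT.node 180 (BT.node 179 (BT.leaf cJ179) (BT.leaf cJ180)) (BT.node 181 (BT.leaf cJ181) (BT.leaf cJ182)))) (BT.node 186 (BT.node 184 (BT.node 183 (BT.leaf cJ183) (BT.leaf cJ184)) (BT.node 185 (BT.leaf cJ185) (BT.leaf cJ186))) (BT.node 188 (BT.node 187 (BT.leaf cJ187) (BT.leaf cJ188)) (BT.node 189 (BT.leaf cJ189) (BT.leaf cJ190))))) (BT.node 199 (BT.node 195 (BT.node 193 (BT.node 192 (BT.node 191 (BT.leaf cJ191) (BT.leaf cJ192)) (BT.leaf cJ193)) (BT.node 194 (BT.leaf cJ194) (BT.leaf cJ195))) (BT.node 197 (BT.node 196 (BT.leaf cJ196) (BT.leaf cJ197)) (BT.node 198 (BT.leaf cJ198) (BT.leaf cJ199)))) (BT.node 203 (BT.node 201 (BT.node 200 (BT.leaf cJ200) (BT.leaf cJ201)) (BT.node 202 (BT.leaf cJ202) (BT.leaf cJ203))) (BT.node 205 (BT.node 204 (BT.leaf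 cJ204) (BT.leaf cJ205)) (BT.node 206 (BT.leaf cJ206) (BT.leaf cJ207))))))) (BT.node 242 (BT.node 225 (BT.node 216 (BT.node 212 (BT.node 210 (BT.node 209 (BT.node 208 (BT.leaf cJ208) (BT.leaf cJ209)) (BT.leaf cJ210)) (BT.node 211 (BT.leaf cJ211) (BT.leaf cJ212))) (BT.node 214 (BT.node 213 (BT.leaf cJ213) (BT.leaf cJ214)) (BT.node 215 (BT.leaf cJ215) (BT.leaf cJ216)))) (BT.node 221 (BT.node 219 (BT.node 218 (BT.node 217 (BT.leaf cJ217) (BT.leaf cJ218)) (BT.leaf cJ219)) (BT.node 220 (BT.leaf cJ220) (BT.leaf cJ221))) (BT.node 223 (BT.node 222 (BT.leaf cJ222) (BT.leaf cJ223)) (BT.node 224 (BT.leaf cJ224) (BT.leaf cJ225))))) (BT.node 234 (BT.node 230 (BT.node 228 (BT.node 227 (BT.node 226 (BT.leaf cJ226) (BT.leaf cJ227)) (BT.leaf cJ228)) (BT.node 229 (BT.leaf cJ229) (BT.leaf cJ230))) (BT.node 232 (BT.node 231 (BT.leaf cJ231) (BT.leaf cJ232)) (BT.node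 233 (BT.leaf cJ233) (BT.leaf cJ234)))) (BT.node 238 (BT.node 236 (BT.node 235 (BT.leaf cJ235) (BT.leaf cJ236)) (BT.node 237 (BT.leaf cJ237) (BT.leaf cJ238))) (BT.node 240 (BT.node 239 (BT.leaf cJ239) (BT.leaf cJ240)) (BT.node 241 (BT.leaf cJ241) (BT.leaf cJ242)))))) (BT.node 259 (BT.node 251 (BT.node 247 (BT.node 245 (BT.node 244 (BT.node 243 (BT.leaf cJ243) (BT.leaf cJ244)) (BT.leaf cJ245)) (BT.node 246 (BT.leaf cJ246) (BT.leaf cJ247))) (BT.node 249 (BT.node 248 (BT.leaf cJ248) (BT.leaf cJ249)) (BT.node 250 (BT.leaf cJ250) (BT.leaf cJ251)))) (BT.node 255 (BT.node 253 (BT.node 252 (BT.leaf cJ252) (BT.leaf cJ253)) (BT.node 254 (BT.leaf cJ254) (BT.leaf cJ255))) (BT.node 257 (BT.node 256 (BT.leaf cJ256) (BT.leaf cJ257)) (BT.node 258 (BT.leaf cJ258) (BT.leaf cJ259))))) (BT.node 268 (BT.node 264 (BT.node 262 (BT.node 261 (BT.node 260 (BT.leaf cJ260)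 (BT.leaf cJ261)) (BT.leaf cJ262)) (BT.node 263 (BT.leaf cJ263) (BT.leaf cJ264))) (BT.node 266 (BT.node 265 (BT.leaf cJ265) (BT.leaf cJ266)) (BT.node 267 (BT.leaf cJ267) (BT.leaf cJ268)))) (BT.node 272 (BT.node 270 (BT.node 269 (BT.leaf cJ269) (BT.leaf cJ270)) (BT.node 271 (BT.leaf cJ271) (BT.leaf cJ272))) (BT.node 274 (BT.node 273 (BT.leaf cJ273) (BT.leaf cJ274)) (BT.node 275 (BT.leaf cJ275) (BT.leaf cJ276))))))))) (BT.node 414 (BT.node 345 (BT.node 311 (BT.node 294 (BT.node 285 (BT.node 281 (BT.node 279 (BT.node 278 (BT.node 277 (BT.leaf cJ277) (BT.leaf cJ278)) (BT.leaf cJ279)) (BT.node 280 (BT.leaf cJ280) (BT.leaf cJ281))) (BT.node 283 (BT.node 282 (BT.leaf cJ282) (BT.leaf cJ283)) (BT.node 284 (BT.leaf cJ284) (BT.leaf cJ285)))) (BT.node 290 (BT.node 288 (BT.node 287 (BT.node 286 (BT.leaf cJ286) (BT.leaf cJ287)) (BT.leaf cJ288)) (BT.node 289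 (BT.leaf cJ289) (BT.leaf cJ290))) (BT.node 292 (BT.node 291 (BT.leaf cJ291) (BT.leaf cJ292)) (BT.node 293 (BT.leaf cJ293) (BT.leaf cJ294))))) (BT.node 303 (BT.node 299 (BT.node 297 (BT.node 296 (BT.node 295 (BT.leaf cJ295) (BT.leaf cJ296)) (BT.leaf cJ297)) (BT.node 298 (BT.leaf cJ298) (BT.leaf cJ299))) (BT.node 301 (BT.node 300 (BT.leaf cJ300) (BT.leaf cJ301)) (BT.node 302 (BT.leaf cJ302) (BT.leaf cJ303)))) (BT.node 307 (BT.node 305 (BT.node 304 (BT.leaf cJ304) (BT.leaf cJ305)) (BT.node 306 (BT.leaf cJ306) (BT.leaf cJ307))) (BT.node 309 (BT.node 308 (BT.leaf cJ308) (BT.leaf cJ309)) (BT.node 310 (BT.leaf cJ310) (BT.leaf cJ311)))))) (BT.node 328 (BT.node 320 (BT.node 316 (BT.node 314 (BT.node 313 (BT.node 312 (BT.leaf cJ312) (BT.leaf cJ313)) (BT.leaf cJ314)) (BT.node 315 (BT.leaf cJ315) (BT.leaf cJ316))) (BT.node 318 (BT.node 317 (BT.leaf cJ317)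 (BT.leaf cJ318)) (BT.node 319 (BT.leaf cJ319) (BT.leaf cJ320)))) (BT.node 324 (BT.node 322 (BT.node 321 (BT.leaf cJ321) (BT.leaf cJ322)) (BT.node 323 (BT.leaf cJ323) (BT.leaf cJ324))) (BT.node 326 (BT.node 325 (BT.leaf cJ325) (BT.leaf cJ326)) (BT.node 327 (BT.leaf cJ327) (BT.leaf cJ328))))) (BT.node 337 (BT.node 333 (BT.node 331 (BT.node 330 (BT.node 329 (BT.leaf cJ329) (BT.leaf cJ330)) (BT.leaf cJ331)) (BT.node 332 (BT.leaf cJ332) (BT.leaf cJ333))) (BT.node 335 (BT.node 334 (BT.leaf cJ334) (BT.leaf cJ335)) (BT.node 336 (BT.leaf cJ336) (BT.leaf cJ337)))) (BT.node 341 (BT.node 339 (BT.node 338 (BT.leaf cJ338) (BT.leaf cJ339)) (BT.node 340 (BT.leaf cJ340) (BT.leaf cJ341))) (BT.node 343 (BT.node 342 (BT.leaf cJ342) (BT.leaf cJ343)) (BT.node 344 (BT.leaf cJ344) (BT.leaf cJ345))))))) (BT.node 380 (BT.node 363 (BT.node 354 (BT.node 350 (BT.node 348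 (BT.node 347 (BT.node 346 (BT.leaf cJ346) (BT.leaf cJ347)) (BT.leaf cJ348)) (BT.node 349 (BT.leaf cJ349) (BT.leaf cJ350))) (BT.node 352 (BT.node 351 (BT.leaf cJ351) (BT.leaf cJ352)) (BT.node 353 (BT.leaf cJ353) (BT.leaf cJ354)))) (BT.node 359 (BT.node 357 (BT.node 356 (BT.node 355 (BT.leaf cJ355) (BT.leaf cJ356)) (BT.leaf cJ357)) (BT.node 358 (BT.leaf cJ358) (BT.leaf cJ359))) (BT.node 361 (BT.node 360 (BT.leaf cJ360) (BT.leaf cJ361)) (BT.node 362 (BT.leaf cJ362) (BT.leaf cJ363))))) (BT.node 372 (BT.node 368 (BT.node 366 (BT.node 365 (BT.node 364 (BT.leaf cJ364) (BT.leaf cJ365)) (BT.leaf cJ366)) (BT.node 367 (BT.leaf cJ367) (BT.leaf cJ368))) (BT.node 370 (BT.node 369 (BT.leaf cJ369) (BT.leaf cJ370)) (BT.node 371 (BT.leaf cJ371) (BT.leaf cJ372)))) (BT.node 376 (BT.node 374 (BT.node 373 (BT.leaf cJ373) (BT.leaf cJ374)) (BT.node 375 (BT.leaf cJ375)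 (BT.leaf cJ376))) (BT.node 378 (BT.node 377 (BT.leaf cJ377) (BT.leaf cJ378)) (BT.node 379 (BT.leaf cJ379) (BT.leaf cJ380)))))) (BT.node 397 (BT.node 389 (BT.node 385 (BT.node 383 (BT.node 382 (BT.node 381 (BT.leaf cJ381) (BT.leaf cJ382)) (BT.leaf cJ383)) (BT.node 384 (BT.leaf cJ384) (BT.leaf cJ385))) (BT.node 387 (BT.node 386 (BT.leaf cJ386) (BT.leaf cJ387)) (BT.node 388 (BT.leaf cJ388) (BT.leaf cJ389)))) (BT.node 393 (BT.node 391 (BT.node 390 (BT.leaf cJ390) (BT.leaf cJ391)) (BT.node 392 (BT.leaf cJ392) (BT.leaf cJ393))) (BT.node 395 (BT.node 394 (BT.leaf cJ394) (BT.leaf cJ395)) (BT.node 396 (BT.leaf cJ396) (BT.leaf cJ397))))) (BT.node 406 (BT.node 402 (BT.node 400 (BT.node 399 (BT.node 398 (BT.leaf cJ398) (BT.leaf cJ399)) (BT.leaf cJ400)) (BT.node 401 (BT.leaf cJ401) (BT.leaf cJ402))) (BT.node 404 (BT.node 403 (BT.leaf cJ403) (BT.leaf cJ404))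 (BT.node 405 (BT.leaf cJ405) (BT.leaf cJ406)))) (BT.node 410 (BT.node 408 (BT.node 407 (BT.leaf cJ407) (BT.leaf cJ408)) (BT.node 409 (BT.leaf cJ409) (BT.leaf cJ410))) (BT.node 412 (BT.node 411 (BT.leaf cJ411) (BT.leaf cJ412)) (BT.node 413 (BT.leaf cJ413) (BT.leaf cJ414)))))))) (BT.node 483 (BT.node 449 (BT.node 432 (BT.node 423 (BT.node 419 (BT.node 417 (BT.node 416 (BT.node 415 (BT.leaf cJ415) (BT.leaf cJ416)) (BT.leaf cJ417)) (BT.node 418 (BT.leaf cJ418) (BT.leaf cJ419))) (BT.node 421 (BT.node 420 (BT.leaf cJ420) (BT.leaf cJ421)) (BT.node 422 (BT.leaf cJ422) (BT.leaf cJ423)))) (BT.node 428 (BT.node 426 (BT.node 425 (BT.node 424 (BT.leaf cJ424) (BT.leaf cJ425)) (BT.leaf cJ426)) (BT.node 427 (BT.leaf cJ427) (BT.leaf cJ428))) (BT.node 430 (BT.node 429 (BT.leaf cJ429) (BT.leaf cJ430)) (BT.node 431 (BT.leaf cJ431) (BT.leaf cJ432))))) (BT.node 441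 (BT.node 437 (BT.node 435 (BT.node 434 (BT.node 433 (BT.leaf cJ433) (BT.leaf cJ434)) (BT.leaf cJ435)) (BT.node 436 (BT.leaf cJ436) (BT.leaf cJ437))) (BT.node 439 (BT.node 438 (BT.leaf cJ438) (BT.leaf cJ439)) (BT.node 440 (BT.leaf cJ440) (BT.leaf cJ441)))) (BT.node 445 (BT.node 443 (BT.node 442 (BT.leaf cJ442) (BT.leaf cJ443)) (BT.node 444 (BT.leaf cJ444) (BT.leaf cJ445))) (BT.node 447 (BT.node 446 (BT.leaf cJ446) (BT.leaf cJ447)) (BT.node 448 (BT.leaf cJ448) (BT.leaf cJ449)))))) (BT.node 466 (BT.node 458 (BT.node 454 (BT.node 452 (BT.node 451 (BT.node 450 (BT.leaf cJ450) (BT.leaf cJ451)) (BT.leaf cJ452)) (BT.node 453 (BT.leaf cJ453) (BT.leaf cJ454))) (BT.node 456 (BT.node 455 (BT.leaf cJ455) (BT.leaf cJ456)) (BT.node 457 (BT.leaf cJ457) (BT.leaf cJ458)))) (BT.node 462 (BT.node 460 (BT.node 459 (BT.leaf cJ459) (BT.leaf cJ460)) (BT.node 461 (BT.leaf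 cJ461) (BT.leaf cJ462))) (BT.node 464 (BT.node 463 (BT.leaf cJ463) (BT.leaf cJ464)) (BT.node 465 (BT.leaf cJ465) (BT.leaf cJ466))))) (BT.node 475 (BT.node 471 (BT.node 469 (BT.node 468 (BT.node 467 (BT.leaf cJ467) (BT.leaf cJ468)) (BT.leaf cJ469)) (BT.node 470 (BT.leaf cJ470) (BT.leaf cJ471))) (BT.node 473 (BT.node 472 (BT.leaf cJ472) (BT.leaf cJ473)) (BT.node 474 (BT.leaf cJ474) (BT.leaf cJ475)))) (BT.node 479 (BT.node 477 (BT.node 476 (BT.leaf cJ476) (BT.leaf cJ477)) (BT.node 478 (BT.leaf cJ478) (BT.leaf cJ479))) (BT.node 481 (BT.node 480 (BT.leaf cJ480) (BT.leaf cJ481)) (BT.node 482 (BT.leaf cJ482) (BT.leaf cJ483))))))) (BT.node 518 (BT.node 501 (BT.node 492 (BT.node 488 (BT.node 486 (BT.node 485 (BT.node 484 (BT.leaf cJ484) (BT.leaf cJ485)) (BT.leaf cJ486)) (BT.node 487 (BT.leaf cJ487) (BT.leaf cJ488))) (BT.node 490 (BT.node 489 (BT.leaf cJ489)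 (BT.leaf cJ490)) (BT.node 491 (BT.leaf cJ491) (BT.leaf cJ492)))) (BT.node 497 (BT.node 495 (BT.node 494 (BT.node 493 (BT.leaf cJ493) (BT.leaf cJ494)) (BT.leaf cJ495)) (BT.node 496 (BT.leaf cJ496) (BT.leaf cJ497))) (BT.node 499 (BT.node 498 (BT.leaf cJ498) (BT.leaf cJ499)) (BT.node 500 (BT.leaf cJ500) (BT.leaf cJ501))))) (BT.node 510 (BT.node 506 (BT.node 504 (BT.node 503 (BT.node 502 (BT.leaf cJ502) (BT.leaf cJ503)) (BT.leaf cJ504)) (BT.node 505 (BT.leaf cJ505) (BT.leaf cJ506))) (BT.node 508 (BT.node 507 (BT.leaf cJ507) (BT.leaf cJ508)) (BT.node 509 (BT.leaf cJ509) (BT.leaf cJ510)))) (BT.node 514 (BT.node 512 (BT.node 511 (BT.leaf cJ511) (BT.leaf cJ512)) (BT.node 513 (BT.leaf cJ513) (BT.leaf cJ514))) (BT.node 516 (BT.node 515 (BT.leaf cJ515) (BT.leaf cJ516)) (BT.node 517 (BT.leaf cJ517) (BT.leaf cJ518)))))) (BT.node 535 (BT.node 527 (BT.node 523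 (BT.node 521 (BT.node 520 (BT.node 519 (BT.leaf cJ519) (BT.leaf cJ520)) (BT.leaf cJ521)) (BT.node 522 (BT.leaf cJ522) (BT.leaf cJ523))) (BT.node 525 (BT.node 524 (BT.leaf cJ524) (BT.leaf cJ525)) (BT.node 526 (BT.leaf cJ526) (BT.leaf cJ527)))) (BT.node 531 (BT.node 529 (BT.node 528 (BT.leaf cJ528) (BT.leaf cJ529)) (BT.node 530 (BT.leaf cJ530) (BT.leaf cJ531))) (BT.node 533 (BT.node 532 (BT.leaf cJ532) (BT.leaf cJ533)) (BT.node 534 (BT.leaf cJ534) (BT.leaf cJ535))))) (BT.node 544 (BT.node 540 (BT.node 538 (BT.node 537 (BT.node 536 (BT.leaf cJ536) (BT.leaf cJ537)) (BT.leaf cJ538)) (BT.node 539 (BT.leaf cJ539) (BT.leaf cJ540))) (BT.node 542 (BT.node 541 (BT.leaf cJ541) (BT.leaf cJ542)) (BT.node 543 (BT.leaf cJ543) (BT.leaf cJ544)))) (BT.node 548 (BT.node 546 (BT.node 545 (BT.leaf cJ545) (BT.leaf cJ546)) (BT.node 547 (BT.leaf cJ547) (BT.leaf cJ548)))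 (BT.node 550 (BT.node 549 (BT.leaf cJ549) (BT.leaf cJ550)) (BT.node 551 (BT.leaf cJ551) (BT.leaf cJ552)))))))))) (BT.node 829 (BT.node 691 (BT.node 622 (BT.node 587 (BT.node 570 (BT.node 561 (BT.node 557 (BT.node 555 (BT.node 554 (BT.node 553 (BT.leaf cJ553) (BT.leaf cJ554)) (BT.leaf cJ555)) (BT.node 556 (BT.leaf cJ556) (BT.leaf cJ557))) (BT.node 559 (BT.node 558 (BT.leaf cJ558) (BT.leaf cJ559)) (BT.node 560 (BT.leaf cJ560) (BT.leaf cJ561)))) (BT.node 566 (BT.node 564 (BT.node 563 (BT.node 562 (BT.leaf cJ562) (BT.leaf cJ563)) (BT.leaf cJ564)) (BT.node 565 (BT.leaf cJ565) (BT.leaf cJ566))) (BT.node 568 (BT.node 567 (BT.leaf cJ567) (BT.leaf cJ568)) (BT.node 569 (BT.leaf cJ569) (BT.leaf cJ570))))) (BT.node 579 (BT.node 575 (BT.node 573 (BT.node 572 (BT.node 571 (BT.leaf cJ571) (BT.leaf cJ572)) (BT.leaf cJ573)) (BT.node 574 (BT.leaf cJ574) (BT.leaf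 cJ575))) (BT.node 577 (BT.node 576 (BT.leaf cJ576) (BT.leaf cJ577)) (BT.node 578 (BT.leaf cJ578) (BT.leaf cJ579)))) (BT.node 583 (BT.node 581 (BT.node 580 (BT.leaf cJ580) (BT.leaf cJ581)) (BT.node 582 (BT.leaf cJ582) (BT.leaf cJ583))) (BT.node 585 (BT.node 584 (BT.leaf cJ584) (BT.leaf cJ585)) (BT.node 586 (BT.leaf cJ586) (BT.leaf cJ587)))))) (BT.node 605 (BT.node 596 (BT.node 592 (BT.node 590 (BT.node 589 (BT.node 588 (BT.leaf cJ588) (BT.leaf cJ589)) (BT.leaf cJ590)) (BT.node 591 (BT.leaf cJ591) (BT.leaf cJ592))) (BT.node 594 (BT.node 593 (BT.leaf cJ593) (BT.leaf cJ594)) (BT.node 595 (BT.leaf cJ595) (BT.leaf cJ596)))) (BT.node 601 (BT.node 599 (BT.node 598 (BT.node 597 (BT.leaf cJ597) (BT.leaf cJ598)) (BT.leaf cJ599)) (BT.node 600 (BT.leaf cJ600) (BT.leaf cJ601))) (BT.node 603 (BT.node 602 (BT.leaf cJ602) (BT.leaf cJ603)) (BT.node 604 (BT.leaf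 cJ604) (BT.leaf cJ605))))) (BT.node 614 (BT.node 610 (BT.node 608 (BT.node 607 (BT.node 606 (BT.leaf cJ606) (BT.leaf cJ607)) (BT.leaf cJ608)) (BT.node 609 (BT.leaf cJ609) (BT.leaf cJ610))) (BT.node 612 (BT.node 611 (BT.leaf cJ611) (BT.leaf cJ612)) (BT.node 613 (BT.leaf cJ613) (BT.leaf cJ614)))) (BT.node 618 (BT.node 616 (BT.node 615 (BT.leaf cJ615) (BT.leaf cJ616)) (BT.node 617 (BT.leaf cJ617) (BT.leaf cJ618))) (BT.node 620 (BT.node 619 (BT.leaf cJ619) (BT.leaf cJ620)) (BT.node 621 (BT.leaf cJ621) (BT.leaf cJ622))))))) (BT.node 657 (BT.node 640 (BT.node 631 (BT.node 627 (BT.node 625 (BT.node 624 (BT.node 623 (BT.leaf cJ623) (BT.leaf cJ624)) (BT.leaf cJ625)) (BT.node 626 (BT.leaf cJ626) (BT.leaf cJ627))) (BT.node 629 (BT.node 628 (BT.leaf cJ628) (BT.leaf cJ629)) (BT.node 630 (BT.leaf cJ630) (BT.leaf cJ631)))) (BT.node 636 (BT.node 634 (BT.node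 633 (BT.node 632 (BT.leaf cJ632) (BT.leaf cJ633)) (BT.leaf cJ634)) (BT.node 635 (BT.leaf cJ635) (BT.leaf cJ636))) (BT.node 638 (BT.node 637 (BT.leaf cJ637) (BT.leaf cJ638)) (BT.node 639 (BT.leaf cJ639) (BT.leaf cJ640))))) (BT.node 649 (BT.node 645 (BT.node 643 (BT.node 642 (BT.node 641 (BT.leaf cJ641) (BT.leaf cJ642)) (BT.leaf cJ643)) (BT.node 644 (BT.leaf cJ644) (BT.leaf cJ645))) (BT.node 647 (BT.node 646 (BT.leaf cJ646) (BT.leaf cJ647)) (BT.node 648 (BT.leaf cJ648) (BT.leaf cJ649)))) (BT.node 653 (BT.node 651 (BT.node 650 (BT.leaf cJ650) (BT.leaf cJ651)) (BT.node 652 (BT.leaf cJ652) (BT.leaf cJ653))) (BT.node 655 (BT.node 654 (BT.leaf cJ654) (BT.leaf cJ655)) (BT.node 656 (BT.leaf cJ656) (BT.leaf cJ657)))))) (BT.node 674 (BT.node 666 (BT.node 662 (BT.node 660 (BT.node 659 (BT.node 658 (BT.leaf cJ658) (BT.leaf cJ659)) (BT.leaf cJ660)) (BT.node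 661 (BT.leaf cJ661) (BT.leaf cJ662))) (BT.node 664 (BT.node 663 (BT.leaf cJ663) (BT.leaf cJ664)) (BT.node 665 (BT.leaf cJ665) (BT.leaf cJ666)))) (BT.node 670 (BT.node 668 (BT.node 667 (BT.leaf cJ667) (BT.leaf cJ668)) (BT.node 669 (BT.leaf cJ669) (BT.leaf cJ670))) (BT.node 672 (BT.node 671 (BT.leaf cJ671) (BT.leaf cJ672)) (BT.node 673 (BT.leaf cJ673) (BT.leaf cJ674))))) (BT.node 683 (BT.node 679 (BT.node 677 (BT.node 676 (BT.node 675 (BT.leaf cJ675) (BT.leaf cJ676)) (BT.leaf cJ677)) (BT.node 678 (BT.leaf cJ678) (BT.leaf cJ679))) (BT.node 681 (BT.node 680 (BT.leaf cJ680) (BT.leaf cJ681)) (BT.node 682 (BT.leaf cJ682) (BT.leaf cJ683)))) (BT.node 687 (BT.node 685 (BT.node 684 (BT.leaf cJ684) (BT.leaf cJ685)) (BT.node 686 (BT.leaf cJ686) (BT.leaf cJ687))) (BT.node 689 (BT.node 688 (BT.leaf cJ688) (BT.leaf cJ689)) (BT.node 690 (BT.leaf cJ690) (BT.leaf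 cJ691)))))))) (BT.node 760 (BT.node 726 (BT.node 709 (BT.node 700 (BT.node 696 (BT.node 694 (BT.node 693 (BT.node 692 (BT.leaf cJ692) (BT.leaf cJ693)) (BT.leaf cJ694)) (BT.node 695 (BT.leaf cJ695) (BT.leaf cJ696))) (BT.node 698 (BT.node 697 (BT.leaf cJ697) (BT.leaf cJ698)) (BT.node 699 (BT.leaf cJ699) (BT.leaf cJ700)))) (BT.node 705 (BT.node 703 (BT.node 702 (BT.node 701 (BT.leaf cJ701) (BT.leaf cJ702)) (BT.leaf cJ703)) (BT.node 704 (BT.leaf cJ704) (BT.leaf cJ705))) (BT.node 707 (BT.node 706 (BT.leaf cJ706) (BT.leaf cJ707)) (BT.node 708 (BT.leaf cJ708) (BT.leaf cJ709))))) (BT.node 718 (BT.node 714 (BT.node 712 (BT.node 711 (BT.node 710 (BT.leaf cJ710) (BT.leaf cJ711)) (BT.leaf cJ712)) (BT.node 713 (BT.leaf cJ713) (BT.leaf cJ714))) (BT.node 716 (BT.node 715 (BT.leaf cJ715) (BT.leaf cJ716)) (BT.node 717 (BT.leaf cJ717) (BT.leaf cJ718)))) (BT.node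 722 (BT.node 720 (BT.node 719 (BT.leaf cJ719) (BT.leaf cJ720)) (BT.node 721 (BT.leaf cJ721) (BT.leaf cJ722))) (BT.node 724 (BT.node 723 (BT.leaf cJ723) (BT.leaf cJ724)) (BT.node 725 (BT.leaf cJ725) (BT.leaf cJ726)))))) (BT.node 743 (BT.node 735 (BT.node 731 (BT.node 729 (BT.node 728 (BT.node 727 (BT.leaf cJ727) (BT.leaf cJ728)) (BT.leaf cJ729)) (BT.node 730 (BT.leaf cJ730) (BT.leaf cJ731))) (BT.node 733 (BT.node 732 (BT.leaf cJ732) (BT.leaf cJ733)) (BT.node 734 (BT.leaf cJ734) (BT.leaf cJ735)))) (BT.node 739 (BT.node 737 (BT.node 736 (BT.leaf cJ736) (BT.leaf cJ737)) (BT.node 738 (BT.leaf cJ738) (BT.leaf cJ739))) (BT.node 741 (BT.node 740 (BT.leaf cJ740) (BT.leaf cJ741)) (BT.node 742 (BT.leaf cJ742) (BT.leaf cJ743))))) (BT.node 752 (BT.node 748 (BT.node 746 (BT.node 745 (BT.node 744 (BT.leaf cJ744) (BT.leaf cJ745)) (BT.leaf cJ746)) (BT.node 747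 (BT.leaf cJ747) (BT.leaf cJ748))) (BT.node 750 (BT.node 749 (BT.leaf cJ749) (BT.leaf cJ750)) (BT.node 751 (BT.leaf cJ751) (BT.leaf cJ752)))) (BT.node 756 (BT.node 754 (BT.node 753 (BT.leaf cJ753) (BT.leaf cJ754)) (BT.node 755 (BT.leaf cJ755) (BT.leaf cJ756))) (BT.node 758 (BT.node 757 (BT.leaf cJ757) (BT.leaf cJ758)) (BT.node 759 (BT.leaf cJ759) (BT.leaf cJ760))))))) (BT.node 795 (BT.node 778 (BT.node 769 (BT.node 765 (BT.node 763 (BT.node 762 (BT.node 761 (BT.leaf cJ761) (BT.leaf cJ762)) (BT.leaf cJ763)) (BT.node 764 (BT.leaf cJ764) (BT.leaf cJ765))) (BT.node 767 (BT.node 766 (BT.leaf cJ766) (BT.leaf cJ767)) (BT.node 768 (BT.leaf cJ768) (BT.leaf cJ769)))) (BT.node 774 (BT.node 772 (BT.node 771 (BT.node 770 (BT.leaf cJ770) (BT.leaf cJ771)) (BT.leaf cJ772)) (BT.node 773 (BT.leaf cJ773) (BT.leaf cJ774))) (BT.node 776 (BT.node 775 (BT.leaf cJ775)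 (BT.leaf cJ776)) (BT.node 777 (BT.leaf cJ777) (BT.leaf cJ778))))) (BT.node 787 (BT.node 783 (BT.node 781 (BT.node 780 (BT.node 779 (BT.leaf cJ779) (BT.leaf cJ780)) (BT.leaf cJ781)) (BT.node 782 (BT.leaf cJ782) (BT.leaf cJ783))) (BT.node 785 (BT.node 784 (BT.leaf cJ784) (BT.leaf cJ785)) (BT.node 786 (BT.leaf cJ786) (BT.leaf cJ787)))) (BT.node 791 (BT.node 789 (BT.node 788 (BT.leaf cJ788) (BT.leaf cJ789)) (BT.node 790 (BT.leaf cJ790) (BT.leaf cJ791))) (BT.node 793 (BT.node 792 (BT.leaf cJ792) (BT.leaf cJ793)) (BT.node 794 (BT.leaf cJ794) (BT.leaf cJ795)))))) (BT.node 812 (BT.node 804 (BT.node 800 (BT.node 798 (BT.node 797 (BT.node 796 (BT.leaf cJ796) (BT.leaf cJ797)) (BT.leaf cJ798)) (BT.node 799 (BT.leaf cJ799) (BT.leaf cJ800))) (BT.node 802 (BT.node 801 (BT.leaf cJ801) (BT.leaf cJ802)) (BT.node 803 (BT.leaf cJ803) (BT.leaf cJ804)))) (BT.node 808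 (BT.node 806 (BT.node 805 (BT.leaf cJ805) (BT.leaf cJ806)) (BT.node 807 (BT.leaf cJ807) (BT.leaf cJ808))) (BT.node 810 (BT.node 809 (BT.leaf cJ809) (BT.leaf cJ810)) (BT.node 811 (BT.leaf cJ811) (BT.leaf cJ812))))) (BT.node 821 (BT.node 817 (BT.node 815 (BT.node 814 (BT.node 813 (BT.leaf cJ813) (BT.leaf cJ814)) (BT.leaf cJ815)) (BT.node 816 (BT.leaf cJ816) (BT.leaf cJ817))) (BT.node 819 (BT.node 818 (BT.leaf cJ818) (BT.leaf cJ819)) (BT.node 820 (BT.leaf cJ820) (BT.leaf cJ821)))) (BT.node 825 (BT.node 823 (BT.node 822 (BT.leaf cJ822) (BT.leaf cJ823)) (BT.node 824 (BT.leaf cJ824) (BT.leaf cJ825))) (BT.node 827 (BT.node 826 (BT.leaf cJ826) (BT.leaf cJ827)) (BT.node 828 (BT.leaf cJ828) (BT.leaf cJ829))))))))) (BT.node 967 (BT.node 898 (BT.node 864 (BT.node 847 (BT.node 838 (BT.node 834 (BT.node 832 (BT.node 831 (BT.node 830 (BT.leaf cJ830) (BT.leaf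 cJ831)) (BT.leaf cJ832)) (BT.node 833 (BT.leaf cJ833) (BT.leaf cJ834))) (BT.node 836 (BT.node 835 (BT.leaf cJ835) (BT.leaf cJ836)) (BT.node 837 (BT.leaf cJ837) (BT.leaf cJ838)))) (BT.node 843 (BT.node 841 (BT.node 840 (BT.node 839 (BT.leaf cJ839) (BT.leaf cJ840)) (BT.leaf cJ841)) (BT.node 842 (BT.leaf cJ842) (BT.leaf cJ843))) (BT.node 845 (BT.node 844 (BT.leaf cJ844) (BT.leaf cJ845)) (BT.node 846 (BT.leaf cJ846) (BT.leaf cJ847))))) (BT.node 856 (BT.node 852 (BT.node 850 (BT.node 849 (BT.node 848 (BT.leaf cJ848) (BT.leaf cJ849)) (BT.leaf cJ850)) (BT.node 851 (BT.leaf cJ851) (BT.leaf cJ852))) (BT.node 854 (BT.node 853 (BT.leaf cJ853) (BT.leaf cJ854)) (BT.node 855 (BT.leaf cJ855) (BT.leaf cJ856)))) (BT.node 860 (BT.node 858 (BT.node 857 (BT.leaf cJ857) (BT.leaf cJ858)) (BT.node 859 (BT.leaf cJ859) (BT.leaf cJ860))) (BT.node 862 (BT.node 861 (BT.leaf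 cJ861) (BT.leaf cJ862)) (BT.node 863 (BT.leaf cJ863) (BT.leaf cJ864)))))) (BT.node 881 (BT.node 873 (BT.node 869 (BT.node 867 (BT.node 866 (BT.node 865 (BT.leaf cJ865) (BT.leaf cJ866)) (BT.leaf cJ867)) (BT.node 868 (BT.leaf cJ868) (BT.leaf cJ869))) (BT.node 871 (BT.node 870 (BT.leaf cJ870) (BT.leaf cJ871)) (BT.node 872 (BT.leaf cJ872) (BT.leaf cJ873)))) (BT.node 877 (BT.node 875 (BT.node 874 (BT.leaf cJ874) (BT.leaf cJ875)) (BT.node 876 (BT.leaf cJ876) (BT.leaf cJ877))) (BT.node 879 (BT.node 878 (BT.leaf cJ878) (BT.leaf cJ879)) (BT.node 880 (BT.leaf cJ880) (BT.leaf cJ881))))) (BT.node 890 (BT.node 886 (BT.node 884 (BT.node 883 (BT.node 882 (BT.leaf cJ882) (BT.leaf cJ883)) (BT.leaf cJ884)) (BT.node 885 (BT.leaf cJ885) (BT.leaf cJ886))) (BT.node 888 (BT.node 887 (BT.leaf cJ887) (BT.leaf cJ888)) (BT.node 889 (BT.leaf cJ889) (BT.leaf cJ890)))) (BT.node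 894 (BT.node 892 (BT.node 891 (BT.leaf cJ891) (BT.leaf cJ892)) (BT.node 893 (BT.leaf cJ893) (BT.leaf cJ894))) (BT.node 896 (BT.node 895 (BT.leaf cJ895) (BT.leaf cJ896)) (BT.node 897 (BT.leaf cJ897) (BT.leaf cJ898))))))) (BT.node 933 (BT.node 916 (BT.node 907 (BT.node 903 (BT.node 901 (BT.node 900 (BT.node 899 (BT.leaf cJ899) (BT.leaf cJ900)) (BT.leaf cJ901)) (BT.node 902 (BT.leaf cJ902) (BT.leaf cJ903))) (BT.node 905 (BT.node 904 (BT.leaf cJ904) (BT.leaf cJ905)) (BT.node 906 (BT.leaf cJ906) (BT.leaf cJ907)))) (BT.node 912 (BT.node 910 (BT.node 909 (BT.node 908 (BT.leaf cJ908) (BT.leaf cJ909)) (BT.leaf cJ910)) (BT.node 911 (BT.leaf cJ911) (BT.leaf cJ912))) (BT.node 914 (BT.node 913 (BT.leaf cJ913) (BT.leaf cJ914)) (BT.node 915 (BT.leaf cJ915) (BT.leaf cJ916))))) (BT.node 925 (BT.node 921 (BT.node 919 (BT.node 918 (BT.node 917 (BT.leaf cJ917) (BT.leaf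 cJ918)) (BT.leaf cJ919)) (BT.node 920 (BT.leaf cJ920) (BT.leaf cJ921))) (BT.node 923 (BT.node 922 (BT.leaf cJ922) (BT.leaf cJ923)) (BT.node 924 (BT.leaf cJ924) (BT.leaf cJ925)))) (BT.node 929 (BT.node 927 (BT.node 926 (BT.leaf cJ926) (BT.leaf cJ927)) (BT.node 928 (BT.leaf cJ928) (BT.leaf cJ929))) (BT.node 931 (BT.node 930 (BT.leaf cJ930) (BT.leaf cJ931)) (BT.node 932 (BT.leaf cJ932) (BT.leaf cJ933)))))) (BT.node 950 (BT.node 942 (BT.node 938 (BT.node 936 (BT.node 935 (BT.node 934 (BT.leaf cJ934) (BT.leaf cJ935)) (BT.leaf cJ936)) (BT.node 937 (BT.leaf cJ937) (BT.leaf cJ938))) (BT.node 940 (BT.node 939 (BT.leaf cJ939) (BT.leaf cJ940)) (BT.node 941 (BT.leaf cJ941) (BT.leaf cJ942)))) (BT.node 946 (BT.node 944 (BT.node 943 (BT.leaf cJ943) (BT.leaf cJ944)) (BT.node 945 (BT.leaf cJ945) (BT.leaf cJ946))) (BT.node 948 (BT.node 947 (BT.leaf cJ947) (BT.leaf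 cJ948)) (BT.node 949 (BT.leaf cJ949) (BT.leaf cJ950))))) (BT.node 959 (BT.node 955 (BT.node 953 (BT.node 952 (BT.node 951 (BT.leaf cJ951) (BT.leaf cJ952)) (BT.leaf cJ953)) (BT.node 954 (BT.leaf cJ954) (BT.leaf cJ955))) (BT.node 957 (BT.node 956 (BT.leaf cJ956) (BT.leaf cJ957)) (BT.node 958 (BT.leaf cJ958) (BT.leaf cJ959)))) (BT.node 963 (BT.node 961 (BT.node 960 (BT.leaf cJ960) (BT.leaf cJ961)) (BT.node 962 (BT.leaf cJ962) (BT.leaf cJ963))) (BT.node 965 (BT.node 964 (BT.leaf cJ964) (BT.leaf cJ965)) (BT.node 966 (BT.leaf cJ966) (BT.leaf cJ967)))))))) (BT.node 1036 (BT.node 1002 (BT.node 985 (BT.node 976 (BT.node 972 (BT.node 970 (BT.node 969 (BT.node 968 (BT.leaf cJ968) (BT.leaf cJ969)) (BT.leaf cJ970)) (BT.node 971 (BT.leaf cJ971) (BT.leaf cJ972))) (BT.node 974 (BT.node 973 (BT.leaf cJ973) (BT.leaf cJ974)) (BT.node 975 (BT.leaf cJ975) (BT.leaf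 cJ976)))) (BT.node 981 (BT.node 979 (BT.node 978 (BT.node 977 (BT.leaf cJ977) (BT.leaf cJ978)) (BT.leaf cJ979)) (BT.node 980 (BT.leaf cJ980) (BT.leaf cJ981))) (BT.node 983 (BT.node 982 (BT.leaf cJ982) (BT.leaf cJ983)) (BT.node 984 (BT.leaf cJ984) (BT.leaf cJ985))))) (BT.node 994 (BT.node 990 (BT.node 988 (BT.node 987 (BT.node 986 (BT.leaf cJ986) (BT.leaf cJ987)) (BT.leaf cJ988)) (BT.node 989 (BT.leaf cJ989) (BT.leaf cJ990))) (BT.node 992 (BT.node 991 (BT.leaf cJ991) (BT.leaf cJ992)) (BT.node 993 (BT.leaf cJ993) (BT.leaf cJ994)))) (BT.node 998 (BT.node 996 (BT.node 995 (BT.leaf cJ995) (BT.leaf cJ996)) (BT.node 997 (BT.leaf cJ997) (BT.leaf cJ998))) (BT.node 1000 (BT.node 999 (BT.leaf cJ999) (BT.leaf cJ1000)) (BT.node 1001 (BT.leaf cJ1001) (BT.leaf cJ1002)))))) (BT.node 1019 (BT.node 1011 (BT.node 1007 (BT.node 1005 (BT.node 1004 (BT.node 1003 (BT.leaf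 cJ1003) (BT.leaf cJ1004)) (BT.leaf cJ1005)) (BT.node 1006 (BT.leaf cJ1006) (BT.leaf cJ1007))) (BT.node 1009 (BT.node 1008 (BT.leaf cJ1008) (BT.leaf cJ1009)) (BT.node 1010 (BT.leaf cJ1010) (BT.leaf cJ1011)))) (BT.node 1015 (BT.node 1013 (BT.node 1012 (BT.leaf cJ1012) (BT.leaf cJ1013)) (BT.node 1014 (BT.leaf cJ1014) (BT.leaf cJ1015))) (BT.node 1017 (BT.node 1016 (BT.leaf cJ1016) (BT.leaf cJ1017)) (BT.node 1018 (BT.leaf cJ1018) (BT.leaf cJ1019))))) (BT.node 1028 (BT.node 1024 (BT.node 1022 (BT.node 1021 (BT.node 1020 (BT.leaf cJ1020) (BT.leaf cJ1021)) (BT.leaf cJ1022)) (BT.node 1023 (BT.leaf cJ1023) (BT.leaf cJ1024))) (BT.node 1026 (BT.node 1025 (BT.leaf cJ1025) (BT.leaf cJ1026)) (BT.node 1027 (BT.leaf cJ1027) (BT.leaf cJ1028)))) (BT.node 1032 (BT.node 1030 (BT.node 1029 (BT.leaf cJ1029) (BT.leaf cJ1030)) (BT.node 1031 (BT.leaf cJ1031) (BT.leaf cJ1032)))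 (BT.node 1034 (BT.node 1033 (BT.leaf cJ1033) (BT.leaf cJ1034)) (BT.node 1035 (BT.leaf cJ1035) (BT.leaf cJ1036))))))) (BT.node 1071 (BT.node 1054 (BT.node 1045 (BT.node 1041 (BT.node 1039 (BT.node 1038 (BT.node 1037 (BT.leaf cJ1037) (BT.leaf cJ1038)) (BT.leaf cJ1039)) (BT.node 1040 (BT.leaf cJ1040) (BT.leaf cJ1041))) (BT.node 1043 (BT.node 1042 (BT.leaf cJ1042) (BT.leaf cJ1043)) (BT.node 1044 (BT.leaf cJ1044) (BT.leaf cJ1045)))) (BT.node 1050 (BT.node 1048 (BT.node 1047 (BT.node 1046 (BT.leaf cJ1046) (BT.leaf cJ1047)) (BT.leaf cJ1048)) (BT.node 1049 (BT.leaf cJ1049) (BT.leaf cJ1050))) (BT.node 1052 (BT.node 1051 (BT.leaf cJ1051) (BT.leaf cJ1052)) (BT.node 1053 (BT.leaf cJ1053) (BT.leaf cJ1054))))) (BT.node 1063 (BT.node 1059 (BT.node 1057 (BT.node 1056 (BT.node 1055 (BT.leaf cJ1055) (BT.leaf cJ1056)) (BT.leaf cJ1057)) (BT.node 1058 (BT.leaf cJ1058)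 (BT.leaf cJ1059))) (BT.node 1061 (BT.node 1060 (BT.leaf cJ1060) (BT.leaf cJ1061)) (BT.node 1062 (BT.leaf cJ1062) (BT.leaf cJ1063)))) (BT.node 1067 (BT.node 1065 (BT.node 1064 (BT.leaf cJ1064) (BT.leaf cJ1065)) (BT.node 1066 (BT.leaf cJ1066) (BT.leaf cJ1067))) (BT.node 1069 (BT.node 1068 (BT.leaf cJ1068) (BT.leaf cJ1069)) (BT.node 1070 (BT.leaf cJ1070) (BT.leaf cJ1071)))))) (BT.node 1088 (BT.node 1080 (BT.node 1076 (BT.node 1074 (BT.node 1073 (BT.node 1072 (BT.leaf cJ1072) (BT.leaf cJ1073)) (BT.leaf cJ1074)) (BT.node 1075 (BT.leaf cJ1075) (BT.leaf cJ1076))) (BT.node 1078 (BT.node 1077 (BT.leaf cJ1077) (BT.leaf cJ1078)) (BT.node 1079 (BT.leaf cJ1079) (BT.leaf cJ1080)))) (BT.node 1084 (BT.node 1082 (BT.node 1081 (BT.leaf cJ1081) (BT.leaf cJ1082)) (BT.node 1083 (BT.leaf cJ1083) (BT.leaf cJ1084))) (BT.node 1086 (BT.node 1085 (BT.leaf cJ1085) (BT.leaf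 cJ1086)) (BT.node 1087 (BT.leaf cJ1087) (BT.leaf cJ1088))))) (BT.node 1097 (BT.node 1093 (BT.node 1091 (BT.node 1090 (BT.node 1089 (BT.leaf cJ1089) (BT.leaf cJ1090)) (BT.leaf cJ1091)) (BT.node 1092 (BT.leaf cJ1092) (BT.leaf cJ1093))) (BT.node 1095 (BT.node 1094 (BT.leaf cJ1094) (BT.leaf cJ1095)) (BT.node 1096 (BT.leaf cJ1096) (BT.leaf cJ1097)))) (BT.node 1101 (BT.node 1099 (BT.node 1098 (BT.leaf cJ1098) (BT.leaf cJ1099)) (BT.node 1100 (BT.leaf cJ1100) (BT.leaf cJ1101))) (BT.node 1103 (BT.node 1102 (BT.leaf cJ1102) (BT.leaf cJ1103)) (BT.node 1104 (BT.leaf cJ1104) (BT.leaf cJ1105)))))))))))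
/-- parent chunks -/
def parCT : BT ℕ := (BT.node 78 (BT.node 39 (BT.node 19 (BT.node 9 (BT.node 4 (BT.node 2 (BT.node 1 (BT.node 0 (BT.leaf cP0) (BT.leaf cP1)) (BT.leaf cP2)) (BT.node 3 (BT.leaf cP3) (BT.leaf cP4))) (BT.node 7 (BT.node 6 (BT.node 5 (BT.leaf cP5) (BT.leaf cP6)) (BT.leaf cP7)) (BT.node 8 (BT.leaf cP8) (BT.leaf cP9)))) (BT.node 14 (BT.node 12 (BT.node 11 (BT.node 10 (BT.leaf cP10) (BT.leaf cP11)) (BT.leaf cP12)) (BT.node 13 (BT.leaf cP13) (BT.leaf cP14))) (BT.node 17 (BT.node 16 (BT.node 15 (BT.leaf cP15) (BT.leaf cP16)) (BT.leaf cP17)) (BT.node 18 (BT.leaf cP18) (BT.leaf cP19))))) (BT.node 29 (BT.node 24 (BT.node 22 (BT.node 21 (BT.node 20 (BT.leaf cP20) (BT.leaf cP21)) (BT.leaf cP22)) (BT.node 23 (BT.leaf cP23) (BT.leaf cP24))) (BT.node 27 (BT.node 26 (BT.node 25 (BT.leaf cP25) (BT.leaf cP26)) (BT.leaf cP27)) (BT.node 28 (BT.leaf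 cP28) (BT.leaf cP29)))) (BT.node 34 (BT.node 32 (BT.node 31 (BT.node 30 (BT.leaf cP30) (BT.leaf cP31)) (BT.leaf cP32)) (BT.node 33 (BT.leaf cP33) (BT.leaf cP34))) (BT.node 37 (BT.node 36 (BT.node 35 (BT.leaf cP35) (BT.leaf cP36)) (BT.leaf cP37)) (BT.node 38 (BT.leaf cP38) (BT.leaf cP39)))))) (BT.node 59 (BT.node 49 (BT.node 44 (BT.node 42 (BT.node 41 (BT.node 40 (BT.leaf cP40) (BT.leaf cP41)) (BT.leaf cP42)) (BT.node 43 (BT.leaf cP43) (BT.leaf cP44))) (BT.node 47 (BT.node 46 (BT.node 45 (BT.leaf cP45) (BT.leaf cP46)) (BT.leaf cP47)) (BT.node 48 (BT.leaf cP48) (BT.leaf cP49)))) (BT.node 54 (BT.node 52 (BT.node 51 (BT.node 50 (BT.leaf cP50) (BT.leaf cP51)) (BT.leaf cP52)) (BT.node 53 (BT.leaf cP53) (BT.leaf cP54))) (BT.node 57 (BT.node 56 (BT.node 55 (BT.leaf cP55) (BT.leaf cP56)) (BT.leaf cP57)) (BT.node 58 (BT.leaf cP58) (BT.leaf cP59))))) (BT.node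 69 (BT.node 64 (BT.node 62 (BT.node 61 (BT.node 60 (BT.leaf cP60) (BT.leaf cP61)) (BT.leaf cP62)) (BT.node 63 (BT.leaf cP63) (BT.leaf cP64))) (BT.node 67 (BT.node 66 (BT.node 65 (BT.leaf cP65) (BT.leaf cP66)) (BT.leaf cP67)) (BT.node 68 (BT.leaf cP68) (BT.leaf cP69)))) (BT.node 74 (BT.node 72 (BT.node 71 (BT.node 70 (BT.leaf cP70) (BT.leaf cP71)) (BT.leaf cP72)) (BT.node 73 (BT.leaf cP73) (BT.leaf cP74))) (BT.node 76 (BT.node 75 (BT.leaf cP75) (BT.leaf cP76)) (BT.node 77 (BT.leaf cP77) (BT.leaf cP78))))))) (BT.node 118 (BT.node 98 (BT.node 88 (BT.node 83 (BT.node 81 (BT.node 80 (BT.node 79 (BT.leaf cP79) (BT.leaf cP80)) (BT.leaf cP81)) (BT.node 82 (BT.leaf cP82) (BT.leaf cP83))) (BT.node 86 (BT.node 85 (BT.node 84 (BT.leaf cP84) (BT.leaf cP85)) (BT.leaf cP86)) (BT.node 87 (BT.leaf cP87) (BT.leaf cP88)))) (BT.node 93 (BT.node 91 (BT.node 90 (BT.node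 89 (BT.leaf cP89) (BT.leaf cP90)) (BT.leaf cP91)) (BT.node 92 (BT.leaf cP92) (BT.leaf cP93))) (BT.node 96 (BT.node 95 (BT.node 94 (BT.leaf cP94) (BT.leaf cP95)) (BT.leaf cP96)) (BT.node 97 (BT.leaf cP97) (BT.leaf cP98))))) (BT.node 108 (BT.node 103 (BT.node 101 (BT.node 100 (BT.node 99 (BT.leaf cP99) (BT.leaf cP100)) (BT.leaf cP101)) (BT.node 102 (BT.leaf cP102) (BT.leaf cP103))) (BT.node 106 (BT.node 105 (BT.node 104 (BT.leaf cP104) (BT.leaf cP105)) (BT.leaf cP106)) (BT.node 107 (BT.leaf cP107) (BT.leaf cP108)))) (BT.node 113 (BT.node 111 (BT.node 110 (BT.node 109 (BT.leaf cP109) (BT.leaf cP110)) (BT.leaf cP111)) (BT.node 112 (BT.leaf cP112) (BT.leaf cP113))) (BT.node 116 (BT.node 115 (BT.node 114 (BT.leaf cP114) (BT.leaf cP115)) (BT.leaf cP116)) (BT.node 117 (BT.leaf cP117) (BT.leaf cP118)))))) (BT.node 138 (BT.node 128 (BT.node 123 (BT.node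 121 (BT.node 120 (BT.node 119 (BT.leaf cP119) (BT.leaf cP120)) (BT.leaf cP121)) (BT.node 122 (BT.leaf cP122) (BT.leaf cP123))) (BT.node 126 (BT.node 125 (BT.node 124 (BT.leaf cP124) (BT.leaf cP125)) (BT.leaf cP126)) (BT.node 127 (BT.leaf cP127) (BT.leaf cP128)))) (BT.node 133 (BT.node 131 (BT.node 130 (BT.node 129 (BT.leaf cP129) (BT.leaf cP130)) (BT.leaf cP131)) (BT.node 132 (BT.leaf cP132) (BT.leaf cP133))) (BT.node 136 (BT.node 135 (BT.node 134 (BT.leaf cP134) (BT.leaf cP135)) (BT.leaf cP136)) (BT.node 137 (BT.leaf cP137) (BT.leaf cP138))))) (BT.node 148 (BT.node 143 (BT.node 141 (BT.node 140 (BT.node 139 (BT.leaf cP139) (BT.leaf cP140)) (BT.leaf cP141)) (BT.node 142 (BT.leaf cP142) (BT.leaf cP143))) (BT.node 146 (BT.node 145 (BT.node 144 (BT.leaf cP144) (BT.leaf cP145)) (BT.leaf cP146)) (BT.node 147 (BT.leaf cP147) (BT.leaf cP148)))) (BT.node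 153 (BT.node 151 (BT.node 150 (BT.node 149 (BT.leaf cP149) (BT.leaf cP150)) (BT.leaf cP151)) (BT.node 152 (BT.leaf cP152) (BT.leaf cP153))) (BT.node 155 (BT.node 154 (BT.leaf cP154) (BT.leaf cP155)) (BT.node 156 (BT.leaf cP156) (BT.leaf cP157))))))))
/-- the certificate -/
def data : Data where
  k := 6
  N := 80483
  W := 36
  MW := 68719476736
  B := 131072
  CH := 512
  NCH := 158
  colE := colET
  JW := 64
  MJ := 18446744073709551616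
  A := 1048576
  colJ := colJT
  PW := 27
  MP := 134217728
  parC := parCT
  inv := (BT.node 3 (BT.node 1 (BT.node 0 (BT.leaf 1) (BT.leaf 0)) (BT.node 2 (BT.leaf 3) (BT.leaf 2))) (BT.node 5 (BT.node 4 (BT.leaf 5) (BT.leaf 4)) (BT.leaf 6)))
  rel := relT
  sub := subT
  fuel := 64

end Cfsg.Agent.Lib.Helper3.Cover.EU4Data
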