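import Cfsg.Agent.Lib.Helper3.Cover.EU4Data
set_option autoImplicit false
set_option maxRecDepth 100000
set_option maxHeartbeats 0

namespace Cfsg.Agent.Lib.Helper3.Cover.EU4U4
open Cfsg.Agent.Lib.Helper28.TC2Upper Cfsg.Agent.Lib.Helper3.Cover.EU4Data

theorem chk20 : data.checkRange 20428 1181 = true := by decide +kernel
theorem chk21 : data.checkRange 21609 1181 = true := by decide +kernel
theorem chk22 : data.checkRange 22790 1144 = true := by decide +kernel
theorem chk23 : data.checkRange 23934 1112 = true := by decide +kernel
theorem chk24 : data.checkRange 25046 1279 = true := by decide +kernel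

end Cfsg.Agent.Lib.Helper3.Cover.EU4U4
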