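import Cfsg.Agent.Lib.Helper3.Cover.EU4Data
set_option autoImplicit false
set_option maxRecDepth 100000
set_option maxHeartbeats 0

namespace Cfsg.Agent.Lib.Helper3.Cover.EU4U9
open Cfsg.Agent.Lib.Helper28.TC2Upper Cfsg.Agent.Lib.Helper3.Cover.EU4Data

theorem chk45 : data.checkRange 53627 1417 = true := by decide +kernel
theorem chk46 : data.checkRange 55044 1379 = true := by decide +kernel
theorem chk47 : data.checkRange 56423 1390 = true := by decide +kernel
theorem chk48 : data.checkRange 57813 1358 = true := by decide +kernel
theorem chk49 : data.checkRange 59171 1398 = true := by decide +kernel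

end Cfsg.Agent.Lib.Helper3.Cover.EU4U9
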