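import Cfsg.Agent.Lib.Helper28.TC2GlueOrb
import Cfsg.Agent.Lib.Helper28.TC2Range
import Cfsg.Agent.Lib.Helper3.Cover.EU4Link
import Cfsg.Agent.Lib.Helper3.Cover.EU4M
import Cfsg.Agent.Lib.Helper3.Cover.EU4M0
import Cfsg.Agent.Lib.Helper3.Cover.EU4M1
import Cfsg.Agent.Lib.Helper3.Cover.EU4M2
import Cfsg.Agent.Lib.Helper3.Cover.EU4M3
import Cfsg.Agent.Lib.Helper3.Cover.EU4M4
import Cfsg.Agent.Lib.Helper3.Cover.EU4M5
import Cfsg.Agent.Lib.Helper3.Cover.EU4M6
import Cfsg.Agent.Lib.Helper3.Cover.EU4M7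
import Cfsg.Agent.Lib.Helper3.Cover.EU4U0
import Cfsg.Agent.Lib.Helper3.Cover.EU4U1
import Cfsg.Agent.Lib.Helper3.Cover.EU4U2
import Cfsg.Agent.Lib.Helper3.Cover.EU4U3
import Cfsg.Agent.Lib.Helper3.Cover.EU4U4
import Cfsg.Agent.Lib.Helper3.Cover.EU4U5
import Cfsg.Agent.Lib.Helper3.Cover.EU4U6
import Cfsg.Agent.Lib.Helper3.Cover.EU4U7
import Cfsg.Agent.Lib.Helper3.Cover.EU4U8
import Cfsg.Agent.Lib.Helper3.Cover.EU4U9
import Cfsg.Agent.Lib.Helper3.Cover.EU4U10
import Cfsg.Agent.Lib.Helper3.Cover.EU4U11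
import Cfsg.Agent.Lib.Helper3.Cover.EU4U12
import Cfsg.Agent.Lib.Helper3.Cover.EU4U13
import Cfsg.Agent.Lib.Helper3.Cover.EU4L0
import Cfsg.Agent.Lib.Helper3.Cover.EU4L1

set_option autoImplicit false
set_option maxRecDepth 100000
open Cfsg

namespace Cfsg.Agent.Lib.Helper3.Cover.EU4Main
open Cfsg.Agent.Lib.Helper28.TC2Upper Cfsg.Agent.Lib.Helper28.TC2Lower Cfsg.Agent.Lib.Helper28.TC2Glue Cfsg.Agent.Lib.Helper28.TC2GlueOrb Cfsg.Agent.Lib.Helper28.TC2Orbit Cfsg.Agent.Lib.Helper28.TC2Range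
open Cfsg.Agent.Lib.Helper3.Cover.EU4Data Cfsg.Agent.Lib.Helper3.Cover.EU4Table Cfsg.Agent.Lib.Helper3.Cover.EU4Link Cfsg.Agent.Lib.Helper3.Cover.EU4M

theorem hchk : ∀ v, v < data.N → data.checkNode v = true := by
  intro v hv
  have hv' : v < 80483 := hv
  rcases Nat.lt_or_ge v 932 with h0 | h0
  · exact (data.checkRange_iff 0 932).mp Cfsg.Agent.Lib.Helper3.Cover.EU4U0.chk0 v (by omega) (by omega)
  rcases Nat.lt_or_ge v 1947 with h1 | h1
  · exact (data.checkRange_iff 932 1015).mp Cfsg.Agent.Lib.Helper3.Cover.EU4U0.chk1 v (by omega) (by omega)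
  rcases Nat.lt_or_ge v 2976 with h2 | h2
  · exact (data.checkRange_iff 1947 1029).mp Cfsg.Agent.Lib.Helper3.Cover.EU4U0.chk2 v (by omega) (by omega)
  rcases Nat.lt_or_ge v 3969 with h3 | h3
  · exact (data.checkRange_iff 2976 993).mp Cfsg.Agent.Lib.Helper3.Cover.EU4U0.chk3 v (by omega) (by omega)
  rcases Nat.lt_or_ge v 4885 with h4 | h4
  · exact (data.checkRange_iff 3969 916).mp Cfsg.Agent.Lib.Helper3.Cover.EU4U0.chk4 v (by omega) (by omega)
  rcases Nat.lt_or_ge v 5823 with h5 | h5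
  · exact (data.checkRange_iff 4885 938).mp Cfsg.Agent.Lib.Helper3.Cover.EU4U1.chk5 v (by omega) (by omega)
  rcases Nat.lt_or_ge v 6861 with h6 | h6
  · exact (data.checkRange_iff 5823 1038).mp Cfsg.Agent.Lib.Helper3.Cover.EU4U1.chk6 v (by omega) (by omega)
  rcases Nat.lt_or_ge v 7819 with h7 | h7
  · exact (data.checkRange_iff 6861 958).mp Cfsg.Agent.Lib.Helper3.Cover.EU4U1.chk7 v (by omega) (by omega)
  rcases Nat.lt_or_ge v 8812 with h8 | h8
  · exact (data.checkRange_iff 7819 993).mp Cfsg.Agent.Lib.Helper3.Cover.EU4U1.chk8 v (by omega) (by omega)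
  rcases Nat.lt_or_ge v 9716 with h9 | h9
  · exact (data.checkRange_iff 8812 904).mp Cfsg.Agent.Lib.Helper3.Cover.EU4U1.chk9 v (by omega) (by omega)
  rcases Nat.lt_or_ge v 10800 with h10 | h10
  · exact (data.checkRange_iff 9716 1084).mp Cfsg.Agent.Lib.Helper3.Cover.EU4U2.chk10 v (by omega) (by omega)
  rcases Nat.lt_or_ge v 11814 with h11 | h11
  · exact (data.checkRange_iff 10800 1014).mp Cfsg.Agent.Lib.Helper3.Cover.EU4U2.chk11 v (by omega) (by omega)
  rcases Nat.lt_or_ge v 12926 with h12 | h12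
  · exact (data.checkRange_iff 11814 1112).mp Cfsg.Agent.Lib.Helper3.Cover.EU4U2.chk12 v (by omega) (by omega)
  rcases Nat.lt_or_ge v 13980 with h13 | h13
  · exact (data.checkRange_iff 12926 1054).mp Cfsg.Agent.Lib.Helper3.Cover.EU4U2.chk13 v (by omega) (by omega)
  rcases Nat.lt_or_ge v 15027 with h14 | h14
  · exact (data.checkRange_iff 13980 1047).mp Cfsg.Agent.Lib.Helper3.Cover.EU4U2.chk14 v (by omega) (by omega)
  rcases Nat.lt_or_ge v 16089 with h15 | h15
  · exact (data.checkRange_iff 15027 1062).mp Cfsg.Agent.Lib.Helper3.Cover.EU4U3.chk15 v (by omega) (by omega)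
  rcases Nat.lt_or_ge v 17179 with h16 | h16
  · exact (data.checkRange_iff 16089 1090).mp Cfsg.Agent.Lib.Helper3.Cover.EU4U3.chk16 v (by omega) (by omega)
  rcases Nat.lt_or_ge v 18280 with h17 | h17
  · exact (data.checkRange_iff 17179 1101).mp Cfsg.Agent.Lib.Helper3.Cover.EU4U3.chk17 v (by omega) (by omega)
  rcases Nat.lt_or_ge v 19320 with h18 | h18
  · exact (data.checkRange_iff 18280 1040).mp Cfsg.Agent.Lib.Helper3.Cover.EU4U3.chk18 v (by omega) (by omega)
  rcases Nat.lt_or_ge v 20428 with h19 | h19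
  · exact (data.checkRange_iff 19320 1108).mp Cfsg.Agent.Lib.Helper3.Cover.EU4U3.chk19 v (by omega) (by omega)
  rcases Nat.lt_or_ge v 21609 with h20 | h20
  · exact (data.checkRange_iff 20428 1181).mp Cfsg.Agent.Lib.Helper3.Cover.EU4U4.chk20 v (by omega) (by omega)
  rcases Nat.lt_or_ge v 22790 with h21 | h21
  · exact (data.checkRange_iff 21609 1181).mp Cfsg.Agent.Lib.Helper3.Cover.EU4U4.chk21 v (by omega) (by omega)
  rcases Nat.lt_or_ge v 23934 with h22 | h22
  · exact (data.checkRange_iff 22790 1144).mp Cfsg.Agent.Lib.Helper3.Cover.EU4U4.chk22 v (by omega) (by omega)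
  rcases Nat.lt_or_ge v 25046 with h23 | h23
  · exact (data.checkRange_iff 23934 1112).mp Cfsg.Agent.Lib.Helper3.Cover.EU4U4.chk23 v (by omega) (by omega)
  rcases Nat.lt_or_ge v 26325 with h24 | h24
  · exact (data.checkRange_iff 25046 1279).mp Cfsg.Agent.Lib.Helper3.Cover.EU4U4.chk24 v (by omega) (by omega)
  rcases Nat.lt_or_ge v 27664 with h25 | h25
  · exact (data.checkRange_iff 26325 1339).mp Cfsg.Agent.Lib.Helper3.Cover.EU4U5.chk25 v (by omega) (by omega)
  rcases Nat.lt_or_ge v 28961 with h26 | h26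
  · exact (data.checkRange_iff 27664 1297).mp Cfsg.Agent.Lib.Helper3.Cover.EU4U5.chk26 v (by omega) (by omega)
  rcases Nat.lt_or_ge v 30261 with h27 | h27
  · exact (data.checkRange_iff 28961 1300).mp Cfsg.Agent.Lib.Helper3.Cover.EU4U5.chk27 v (by omega) (by omega)
  rcases Nat.lt_or_ge v 31549 with h28 | h28
  · exact (data.checkRange_iff 30261 1288).mp Cfsg.Agent.Lib.Helper3.Cover.EU4U5.chk28 v (by omega) (by omega)
  rcases Nat.lt_or_ge v 32869 with h29 | h29
  · exact (data.checkRange_iff 31549 1320).mp Cfsg.Agent.Lib.Helper3.Cover.EU4U5.chk29 v (by omega) (by omega)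
  rcases Nat.lt_or_ge v 34193 with h30 | h30
  · exact (data.checkRange_iff 32869 1324).mp Cfsg.Agent.Lib.Helper3.Cover.EU4U6.chk30 v (by omega) (by omega)
  rcases Nat.lt_or_ge v 35494 with h31 | h31
  · exact (data.checkRange_iff 34193 1301).mp Cfsg.Agent.Lib.Helper3.Cover.EU4U6.chk31 v (by omega) (by omega)
  rcases Nat.lt_or_ge v 36813 with h32 | h32
  · exact (data.checkRange_iff 35494 1319).mp Cfsg.Agent.Lib.Helper3.Cover.EU4U6.chk32 v (by omega) (by omega)
  rcases Nat.lt_or_ge v 38129 with h33 | h33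
  · exact (data.checkRange_iff 36813 1316).mp Cfsg.Agent.Lib.Helper3.Cover.EU4U6.chk33 v (by omega) (by omega)
  rcases Nat.lt_or_ge v 39586 with h34 | h34
  · exact (data.checkRange_iff 38129 1457).mp Cfsg.Agent.Lib.Helper3.Cover.EU4U6.chk34 v (by omega) (by omega)
  rcases Nat.lt_or_ge v 41005 with h35 | h35
  · exact (data.checkRange_iff 39586 1419).mp Cfsg.Agent.Lib.Helper3.Cover.EU4U7.chk35 v (by omega) (by omega)
  rcases Nat.lt_or_ge v 42406 with h36 | h36
  · exact (data.checkRange_iff 41005 1401).mp Cfsg.Agent.Lib.Helper3.Cover.EU4U7.chk36 v (by omega) (by omega)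
  rcases Nat.lt_or_ge v 43769 with h37 | h37
  · exact (data.checkRange_iff 42406 1363).mp Cfsg.Agent.Lib.Helper3.Cover.EU4U7.chk37 v (by omega) (by omega)
  rcases Nat.lt_or_ge v 45168 with h38 | h38
  · exact (data.checkRange_iff 43769 1399).mp Cfsg.Agent.Lib.Helper3.Cover.EU4U7.chk38 v (by omega) (by omega)
  rcases Nat.lt_or_ge v 46639 with h39 | h39
  · exact (data.checkRange_iff 45168 1471).mp Cfsg.Agent.Lib.Helper3.Cover.EU4U7.chk39 v (by omega) (by omega)
  rcases Nat.lt_or_ge v 48077 with h40 | h40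
  · exact (data.checkRange_iff 46639 1438).mp Cfsg.Agent.Lib.Helper3.Cover.EU4U8.chk40 v (by omega) (by omega)
  rcases Nat.lt_or_ge v 49500 with h41 | h41
  · exact (data.checkRange_iff 48077 1423).mp Cfsg.Agent.Lib.Helper3.Cover.EU4U8.chk41 v (by omega) (by omega)
  rcases Nat.lt_or_ge v 50846 with h42 | h42
  · exact (data.checkRange_iff 49500 1346).mp Cfsg.Agent.Lib.Helper3.Cover.EU4U8.chk42 v (by omega) (by omega)
  rcases Nat.lt_or_ge v 52265 with h43 | h43
  · exact (data.checkRange_iff 50846 1419).mp Cfsg.Agent.Lib.Helper3.Cover.EU4U8.chk43 v (by omega) (by omega)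
  rcases Nat.lt_or_ge v 53627 with h44 | h44
  · exact (data.checkRange_iff 52265 1362).mp Cfsg.Agent.Lib.Helper3.Cover.EU4U8.chk44 v (by omega) (by omega)
  rcases Nat.lt_or_ge v 55044 with h45 | h45
  · exact (data.checkRange_iff 53627 1417).mp Cfsg.Agent.Lib.Helper3.Cover.EU4U9.chk45 v (by omega) (by omega)
  rcases Nat.lt_or_ge v 56423 with h46 | h46
  · exact (data.checkRange_iff 55044 1379).mp Cfsg.Agent.Lib.Helper3.Cover.EU4U9.chk46 v (by omega) (by omega)
  rcases Nat.lt_or_ge v 57813 with h47 | h47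
  · exact (data.checkRange_iff 56423 1390).mp Cfsg.Agent.Lib.Helper3.Cover.EU4U9.chk47 v (by omega) (by omega)
  rcases Nat.lt_or_ge v 59171 with h48 | h48
  · exact (data.checkRange_iff 57813 1358).mp Cfsg.Agent.Lib.Helper3.Cover.EU4U9.chk48 v (by omega) (by omega)
  rcases Nat.lt_or_ge v 60569 with h49 | h49
  · exact (data.checkRange_iff 59171 1398).mp Cfsg.Agent.Lib.Helper3.Cover.EU4U9.chk49 v (by omega) (by omega)
  rcases Nat.lt_or_ge v 62008 with h50 | h50
  · exact (data.checkRange_iff 60569 1439).mp Cfsg.Agent.Lib.Helper3.Cover.EU4U10.chk50 v (by omega) (by omega)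
  rcases Nat.lt_or_ge v 63575 with h51 | h51
  · exact (data.checkRange_iff 62008 1567).mp Cfsg.Agent.Lib.Helper3.Cover.EU4U10.chk51 v (by omega) (by omega)
  rcases Nat.lt_or_ge v 65092 with h52 | h52
  · exact (data.checkRange_iff 63575 1517).mp Cfsg.Agent.Lib.Helper3.Cover.EU4U10.chk52 v (by omega) (by omega)
  rcases Nat.lt_or_ge v 66548 with h53 | h53
  · exact (data.checkRange_iff 65092 1456).mp Cfsg.Agent.Lib.Helper3.Cover.EU4U10.chk53 v (by omega) (by omega)
  rcases Nat.lt_or_ge v 68029 with h54 | h54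
  · exact (data.checkRange_iff 66548 1481).mp Cfsg.Agent.Lib.Helper3.Cover.EU4U10.chk54 v (by omega) (by omega)
  rcases Nat.lt_or_ge v 69539 with h55 | h55
  · exact (data.checkRange_iff 68029 1510).mp Cfsg.Agent.Lib.Helper3.Cover.EU4U11.chk55 v (by omega) (by omega)
  rcases Nat.lt_or_ge v 70923 with h56 | h56
  · exact (data.checkRange_iff 69539 1384).mp Cfsg.Agent.Lib.Helper3.Cover.EU4U11.chk56 v (by omega) (by omega)
  rcases Nat.lt_or_ge v 72317 with h57 | h57
  · exact (data.checkRange_iff 70923 1394).mp Cfsg.Agent.Lib.Helper3.Cover.EU4U11.chk57 v (by omega) (by omega)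
  rcases Nat.lt_or_ge v 73657 with h58 | h58
  · exact (data.checkRange_iff 72317 1340).mp Cfsg.Agent.Lib.Helper3.Cover.EU4U11.chk58 v (by omega) (by omega)
  rcases Nat.lt_or_ge v 75040 with h59 | h59
  · exact (data.checkRange_iff 73657 1383).mp Cfsg.Agent.Lib.Helper3.Cover.EU4U11.chk59 v (by omega) (by omega)
  rcases Nat.lt_or_ge v 76446 with h60 | h60
  · exact (data.checkRange_iff 75040 1406).mp Cfsg.Agent.Lib.Helper3.Cover.EU4U12.chk60 v (by omega) (by omega)
  rcases Nat.lt_or_ge v 77374 with h61 | h61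
  · exact (data.checkRange_iff 76446 928).mp Cfsg.Agent.Lib.Helper3.Cover.EU4U12.chk61 v (by omega) (by omega)
  rcases Nat.lt_or_ge v 78237 with h62 | h62
  · exact (data.checkRange_iff 77374 863).mp Cfsg.Agent.Lib.Helper3.Cover.EU4U12.chk62 v (by omega) (by omega)
  rcases Nat.lt_or_ge v 79098 with h63 | h63
  · exact (data.checkRange_iff 78237 861).mp Cfsg.Agent.Lib.Helper3.Cover.EU4U12.chk63 v (by omega) (by omega)
  rcases Nat.lt_or_ge v 79957 with h64 | h64
  · exact (data.checkRange_iff 79098 859).mp Cfsg.Agent.Lib.Helper3.Cover.EU4U12.chk64 v (by omega) (by omega)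
  exact (data.checkRange_iff 79957 526).mp Cfsg.Agent.Lib.Helper3.Cover.EU4U13.chk65 v (by omega) (by omega)

theorem hrows : ∀ v, v < data.N → Data.rowOK data v = true := by
  intro v hv
  have hv' : v < 80483 := hv
  rcases Nat.lt_or_ge v 6000 with h0 | h0
  · exact (Data.finalRange_iff data 0 6000).mp Cfsg.Agent.Lib.Helper3.Cover.EU4M0.fin0 v (by omega) (by omega)
  rcases Nat.lt_or_ge v 12000 with h1 | h1
  · exact (Data.finalRange_iff data 6000 6000).mp Cfsg.Agent.Lib.Helper3.Cover.EU4M0.fin1 v (by omega) (by omega)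
  rcases Nat.lt_or_ge v 18000 with h2 | h2
  · exact (Data.finalRange_iff data 12000 6000).mp Cfsg.Agent.Lib.Helper3.Cover.EU4M0.fin2 v (by omega) (by omega)
  rcases Nat.lt_or_ge v 24000 with h3 | h3
  · exact (Data.finalRange_iff data 18000 6000).mp Cfsg.Agent.Lib.Helper3.Cover.EU4M0.fin3 v (by omega) (by omega)
  rcases Nat.lt_or_ge v 30000 with h4 | h4
  · exact (Data.finalRange_iff data 24000 6000).mp Cfsg.Agent.Lib.Helper3.Cover.EU4M0.fin4 v (by omega) (by omega)
  rcases Nat.lt_or_ge v 36000 with h5 | h5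
  · exact (Data.finalRange_iff data 30000 6000).mp Cfsg.Agent.Lib.Helper3.Cover.EU4M1.fin5 v (by omega) (by omega)
  rcases Nat.lt_or_ge v 42000 with h6 | h6
  · exact (Data.finalRange_iff data 36000 6000).mp Cfsg.Agent.Lib.Helper3.Cover.EU4M1.fin6 v (by omega) (by omega)
  rcases Nat.lt_or_ge v 48000 with h7 | h7
  · exact (Data.finalRange_iff data 42000 6000).mp Cfsg.Agent.Lib.Helper3.Cover.EU4M1.fin7 v (by omega) (by omega)
  rcases Nat.lt_or_ge v 54000 with h8 | h8
  · exact (Data.finalRange_iff data 48000 6000).mp Cfsg.Agent.Lib.Helper3.Cover.EU4M1.fin8 v (by omega) (by omega)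
  rcases Nat.lt_or_ge v 60000 with h9 | h9
  · exact (Data.finalRange_iff data 54000 6000).mp Cfsg.Agent.Lib.Helper3.Cover.EU4M1.fin9 v (by omega) (by omega)
  rcases Nat.lt_or_ge v 66000 with h10 | h10
  · exact (Data.finalRange_iff data 60000 6000).mp Cfsg.Agent.Lib.Helper3.Cover.EU4M2.fin10 v (by omega) (by omega)
  rcases Nat.lt_or_ge v 72000 with h11 | h11
  · exact (Data.finalRange_iff data 66000 6000).mp Cfsg.Agent.Lib.Helper3.Cover.EU4M2.fin11 v (by omega) (by omega)
  rcases Nat.lt_or_ge v 78000 with h12 | h12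
  · exact (Data.finalRange_iff data 72000 6000).mp Cfsg.Agent.Lib.Helper3.Cover.EU4M2.fin12 v (by omega) (by omega)
  exact (Data.finalRange_iff data 78000 2483).mp Cfsg.Agent.Lib.Helper3.Cover.EU4M2.fin13 v (by omega) (by omega)

theorem hfin : data.finalOK = true := Data.finalOK_of_rows data hlive0 (by decide) hrows

theorem pc0 : Data.countFrom data 0 6000 = 1296 := Cfsg.Agent.Lib.Helper3.Cover.EU4M2.cnt0
theorem pc1 : Data.countFrom data 0 12000 = 2586 := Data.countFrom_step data pc0 Cfsg.Agent.Lib.Helper3.Cover.EU4M3.cnt1 (by norm_num) (by norm_num)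
theorem pc2 : Data.countFrom data 0 18000 = 3756 := Data.countFrom_step data pc1 Cfsg.Agent.Lib.Helper3.Cover.EU4M3.cnt2 (by norm_num) (by norm_num)
theorem pc3 : Data.countFrom data 0 24000 = 4996 := Data.countFrom_step data pc2 Cfsg.Agent.Lib.Helper3.Cover.EU4M3.cnt3 (by norm_num) (by norm_num)
theorem pc4 : Data.countFrom data 0 30000 = 6031 := Data.countFrom_step data pc3 Cfsg.Agent.Lib.Helper3.Cover.EU4M3.cnt4 (by norm_num) (by norm_num)
theorem pc5 : Data.countFrom data 0 36000 = 7335 := Data.countFrom_step data pc4 Cfsg.Agent.Lib.Helper3.Cover.EU4M3.cnt5 (by norm_num) (by norm_num)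
theorem pc6 : Data.countFrom data 0 42000 = 8410 := Data.countFrom_step data pc5 Cfsg.Agent.Lib.Helper3.Cover.EU4M4.cnt6 (by norm_num) (by norm_num)
theorem pc7 : Data.countFrom data 0 48000 = 9338 := Data.countFrom_step data pc6 Cfsg.Agent.Lib.Helper3.Cover.EU4M4.cnt7 (by norm_num) (by norm_num)
theorem pc8 : Data.countFrom data 0 54000 = 10590 := Data.countFrom_step data pc7 Cfsg.Agent.Lib.Helper3.Cover.EU4M4.cnt8 (by norm_num) (by norm_num)
theorem pc9 : Data.countFrom data 0 60000 = 12202 := Data.countFrom_step data pc8 Cfsg.Agent.Lib.Helper3.Cover.EU4M4.cnt9 (by norm_num) (by norm_num)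
theorem pc10 : Data.countFrom data 0 66000 = 13359 := Data.countFrom_step data pc9 Cfsg.Agent.Lib.Helper3.Cover.EU4M4.cnt10 (by norm_num) (by norm_num)
theorem pc11 : Data.countFrom data 0 72000 = 14597 := Data.countFrom_step data pc10 Cfsg.Agent.Lib.Helper3.Cover.EU4M5.cnt11 (by norm_num) (by norm_num)
theorem pc12 : Data.countFrom data 0 78000 = 16970 := Data.countFrom_step data pc11 Cfsg.Agent.Lib.Helper3.Cover.EU4M5.cnt12 (by norm_num) (by norm_num)
theorem pc13 : Data.countFrom data 0 80483 = 19440 := Data.countFrom_step data pc12 Cfsg.Agent.Lib.Helper3.Cover.EU4M5.cnt13 (by norm_num) (by norm_num)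

theorem hcount : data.countLive = table.n := by
  rw [Data.countLive_eq]
  exact pc13

theorem hpermAll : ∀ p, p < table.n → Table.permRow table p = true := by
  intro p hv
  have hv' : p < 19440 := hv
  rcases Nat.lt_or_ge p 6000 with h0 | h0
  · exact (Table.permRange_iff table 0 6000).mp Cfsg.Agent.Lib.Helper3.Cover.EU4M5.prm0 p (by omega) (by omega)
  rcases Nat.lt_or_ge p 12000 with h1 | h1
  · exact (Table.permRange_iff table 6000 6000).mp Cfsg.Agent.Lib.Helper3.Cover.EU4M5.prm1 p (by omega) (by omega)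
  rcases Nat.lt_or_ge p 18000 with h2 | h2
  · exact (Table.permRange_iff table 12000 6000).mp Cfsg.Agent.Lib.Helper3.Cover.EU4M6.prm2 p (by omega) (by omega)
  exact (Table.permRange_iff table 18000 1440).mp Cfsg.Agent.Lib.Helper3.Cover.EU4M6.prm3 p (by omega) (by omega)

theorem hT : table.OK := Table.ok_of_rows table hinvOK hpermAll

theorem htreeAll : ∀ i, i < Nat.pred table.n → Table.treeRow table i = true := by
  intro p hv
  have hv' : p < 19439 := hv
  rcases Nat.lt_or_ge p 6000 with h0 | h0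
  · exact (Table.treeRange_iff table 0 6000).mp Cfsg.Agent.Lib.Helper3.Cover.EU4M6.tre0 p (by omega) (by omega)
  rcases Nat.lt_or_ge p 12000 with h1 | h1
  · exact (Table.treeRange_iff table 6000 6000).mp Cfsg.Agent.Lib.Helper3.Cover.EU4M6.tre1 p (by omega) (by omega)
  rcases Nat.lt_or_ge p 18000 with h2 | h2
  · exact (Table.treeRange_iff table 12000 6000).mp Cfsg.Agent.Lib.Helper3.Cover.EU4M6.tre2 p (by omega) (by omega)
  exact (Table.treeRange_iff table 18000 1439).mp Cfsg.Agent.Lib.Helper3.Cover.EU4M7.tre3 p (by omega) (by omega)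

theorem htree : table.treeOK = true := Table.treeOK_of_rows table htreeAll

theorem hchkT : ∀ P ∈ chkPaths, ∀ p, p < table.n → table.walkT P p = p := by
  intro P hm p hv
  have hv' : p < 19440 := hv
  rcases Nat.lt_or_ge p 2000 with h0 | h0
  · exact (Table.relOK_iff chkPaths 0 2000).mp Cfsg.Agent.Lib.Helper3.Cover.EU4L0.rel0 p (by omega) (by omega) _ hm
  rcases Nat.lt_or_ge p 4000 with h1 | h1
  · exact (Table.relOK_iff chkPaths 2000 2000).mp Cfsg.Agent.Lib.Helper3.Cover.EU4L0.rel1 p (by omega) (by omega) _ hm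
  rcases Nat.lt_or_ge p 6000 with h2 | h2
  · exact (Table.relOK_iff chkPaths 4000 2000).mp Cfsg.Agent.Lib.Helper3.Cover.EU4L0.rel2 p (by omega) (by omega) _ hm
  rcases Nat.lt_or_ge p 8000 with h3 | h3
  · exact (Table.relOK_iff chkPaths 6000 2000).mp Cfsg.Agent.Lib.Helper3.Cover.EU4L0.rel3 p (by omega) (by omega) _ hm
  rcases Nat.lt_or_ge p 10000 with h4 | h4
  · exact (Table.relOK_iff chkPaths 8000 2000).mp Cfsg.Agent.Lib.Helper3.Cover.EU4L0.rel4 p (by omega) (by omega) _ hm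
  rcases Nat.lt_or_ge p 12000 with h5 | h5
  · exact (Table.relOK_iff chkPaths 10000 2000).mp Cfsg.Agent.Lib.Helper3.Cover.EU4L1.rel5 p (by omega) (by omega) _ hm
  rcases Nat.lt_or_ge p 14000 with h6 | h6
  · exact (Table.relOK_iff chkPaths 12000 2000).mp Cfsg.Agent.Lib.Helper3.Cover.EU4L1.rel6 p (by omega) (by omega) _ hm
  rcases Nat.lt_or_ge p 16000 with h7 | h7
  · exact (Table.relOK_iff chkPaths 14000 2000).mp Cfsg.Agent.Lib.Helper3.Cover.EU4L1.rel7 p (by omega) (by omega) _ hm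
  rcases Nat.lt_or_ge p 18000 with h8 | h8
  · exact (Table.relOK_iff chkPaths 16000 2000).mp Cfsg.Agent.Lib.Helper3.Cover.EU4L1.rel8 p (by omega) (by omega) _ hm
  exact (Table.relOK_iff chkPaths 18000 1440).mp Cfsg.Agent.Lib.Helper3.Cover.EU4L1.rel9 p (by omega) (by omega) _ hm

theorem hrelT : ∀ L ∈ relWords, ∀ p, p < table.n → table.walkT (pathOf lw L) p = p :=
  fun L hL => Table.fix_of_covered hT chkPaths hchkT _ (hcov _ (hrelmem L hL)).1 (hcov _ (hrelmem L hL)).2

theorem hsubT : ∀ L ∈ subWords, table.walkT (pathOf lw L) 0 = 0 :=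
  fun L hL => (Table.subOK_iff subPaths).mp hsub0 _ (hsubmem L hL)

theorem hn : 0 < table.n := by decide

theorem main : ((Subgroup.closure S).map (PresentedGroup.mk rels)).index = table.n ∧
    ∃ φ : PresentedGroup rels →* Equiv.Perm (Fin table.n),
      (∀ x, φ (PresentedGroup.of x) = Table.sigma hT (lw (x, true))) ∧
      ∃ f : PresentedGroup rels ⧸ (Subgroup.closure S).map (PresentedGroup.mk rels) → Fin table.n,
        Function.Bijective f ∧ (∀ g q, f (g • q) = φ g (f q)) ∧ f (QuotientGroup.mk 1) = ⟨0, hn⟩ :=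
  index_eq link hchk hfin hcount hT hn hrelT hsubT htree

end Cfsg.Agent.Lib.Helper3.Cover.EU4Main
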