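import Cfsg.Agent.Lib.Helper3.Cover.EU4Data
set_option autoImplicit false
set_option maxRecDepth 100000
set_option maxHeartbeats 0

namespace Cfsg.Agent.Lib.Helper3.Cover.EU4U11
open Cfsg.Agent.Lib.Helper28.TC2Upper Cfsg.Agent.Lib.Helper3.Cover.EU4Data

theorem chk55 : data.checkRange 68029 1510 = true := by decide +kernel
theorem chk56 : data.checkRange 69539 1384 = true := by decide +kernel
theorem chk57 : data.checkRange 70923 1394 = true := by decide +kernel
theorem chk58 : data.checkRange 72317 1340 = true := by decide +kernel
theorem chk59 : data.checkRange 73657 1383 = true := by decide +kernel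

end Cfsg.Agent.Lib.Helper3.Cover.EU4U11
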