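import Cfsg.Agent.Lib.Helper28.TC2Range
import Cfsg.Agent.Lib.Helper3.Cover.LU6BTable
set_option autoImplicit false
set_option maxRecDepth 100000
set_option maxHeartbeats 0

namespace Cfsg.Agent.Lib.Helper3.Cover.LU6BC12
open Cfsg.Agent.Lib.Helper28.TC2Upper Cfsg.Agent.Lib.Helper28.TC2Lower Cfsg.Agent.Lib.Helper28.TC2Range Cfsg.Agent.Lib.Helper3.Cover.LU6BTable

theorem rel58 : table.relOK chkPaths 4466 77 = true := by decide +kernel
theorem rel59 : table.relOK chkPaths 4543 77 = true := by decide +kernel
theorem rel60 : table.relOK chkPaths 4620 77 = true := by decide +kernel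
theorem rel61 : table.relOK chkPaths 4697 77 = true := by decide +kernel
theorem rel62 : table.relOK chkPaths 4774 77 = true := by decide +kernel

end Cfsg.Agent.Lib.Helper3.Cover.LU6BC12
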