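import Cfsg.Agent.Lib.Helper28.TC2Range
import Cfsg.Agent.Lib.Helper3.Cover.LU6BTable
set_option autoImplicit false
set_option maxRecDepth 100000
set_option maxHeartbeats 0

namespace Cfsg.Agent.Lib.Helper3.Cover.LU6BC2
open Cfsg.Agent.Lib.Helper28.TC2Upper Cfsg.Agent.Lib.Helper28.TC2Lower Cfsg.Agent.Lib.Helper28.TC2Range Cfsg.Agent.Lib.Helper3.Cover.LU6BTable

theorem rel8 : table.relOK chkPaths 616 77 = true := by decide +kernel
theorem rel9 : table.relOK chkPaths 693 77 = true := by decide +kernel
theorem rel10 : table.relOK chkPaths 770 77 = true := by decide +kernel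
theorem rel11 : table.relOK chkPaths 847 77 = true := by decide +kernel
theorem rel12 : table.relOK chkPaths 924 77 = true := by decide +kernel

end Cfsg.Agent.Lib.Helper3.Cover.LU6BC2
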