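import Cfsg.Agent.Lib.Helper28.TC2Range
import Cfsg.Agent.Lib.Helper3.Cover.LU6BTable
set_option autoImplicit false
set_option maxRecDepth 100000
set_option maxHeartbeats 0

namespace Cfsg.Agent.Lib.Helper3.Cover.LU6BC7
open Cfsg.Agent.Lib.Helper28.TC2Upper Cfsg.Agent.Lib.Helper28.TC2Lower Cfsg.Agent.Lib.Helper28.TC2Range Cfsg.Agent.Lib.Helper3.Cover.LU6BTable

theorem rel33 : table.relOK chkPaths 2541 77 = true := by decide +kernel
theorem rel34 : table.relOK chkPaths 2618 77 = true := by decide +kernel
theorem rel35 : table.relOK chkPaths 2695 77 = true := by decide +kernel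
theorem rel36 : table.relOK chkPaths 2772 77 = true := by decide +kernel
theorem rel37 : table.relOK chkPaths 2849 77 = true := by decide +kernel

end Cfsg.Agent.Lib.Helper3.Cover.LU6BC7
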