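import Cfsg.Agent.Lib.Helper28.TC2Range
import Cfsg.Agent.Lib.Helper3.Cover.LU6BTable
import Cfsg.Agent.Lib.Helper3.Cover.LU6BC0
import Cfsg.Agent.Lib.Helper3.Cover.LU6BC1
import Cfsg.Agent.Lib.Helper3.Cover.LU6BC2
import Cfsg.Agent.Lib.Helper3.Cover.LU6BC3
import Cfsg.Agent.Lib.Helper3.Cover.LU6BC4
import Cfsg.Agent.Lib.Helper3.Cover.LU6BC5
import Cfsg.Agent.Lib.Helper3.Cover.LU6BC6
import Cfsg.Agent.Lib.Helper3.Cover.LU6BC7
import Cfsg.Agent.Lib.Helper3.Cover.LU6BC8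
import Cfsg.Agent.Lib.Helper3.Cover.LU6BC9
import Cfsg.Agent.Lib.Helper3.Cover.LU6BC10
import Cfsg.Agent.Lib.Helper3.Cover.LU6BC11
import Cfsg.Agent.Lib.Helper3.Cover.LU6BC12
import Cfsg.Agent.Lib.Helper3.Cover.LU6BC13
import Cfsg.Agent.Lib.Helper3.Cover.LU6BC14
import Cfsg.Agent.Lib.Helper3.Cover.LU6BC15

set_option autoImplicit false
set_option maxRecDepth 100000

namespace Cfsg.Agent.Lib.Helper3.Cover.LU6BLow
open Cfsg.Agent.Lib.Helper28.TC2Upper Cfsg.Agent.Lib.Helper28.TC2Lower Cfsg.Agent.Lib.Helper28.TC2Range Cfsg.Agent.Lib.Helper3.Cover.LU6BTable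

theorem hpermAll : ∀ p, p < table.n → Table.permRow table p = true := by
  intro p hv
  have hv' : p < 5632 := hv
  exact (Table.permRange_iff table 0 5632).mp Cfsg.Agent.Lib.Helper3.Cover.LU6BC0.prm0 p (by omega) (by omega)

theorem hT : table.OK := Table.ok_of_rows table Cfsg.Agent.Lib.Helper3.Cover.LU6BC0.hinvOK hpermAll

theorem hchkT : ∀ P ∈ chkPaths, ∀ p, p < table.n → table.walkT P p = p := by
  intro P hm p hv
  have hv' : p < 5632 := hv
  rcases Nat.lt_or_ge p 77 with h0 | h0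
  · exact (Table.relOK_iff chkPaths 0 77).mp Cfsg.Agent.Lib.Helper3.Cover.LU6BC0.rel0 p (by omega) (by omega) _ hm
  rcases Nat.lt_or_ge p 154 with h1 | h1
  · exact (Table.relOK_iff chkPaths 77 77).mp Cfsg.Agent.Lib.Helper3.Cover.LU6BC0.rel1 p (by omega) (by omega) _ hm
  rcases Nat.lt_or_ge p 231 with h2 | h2
  · exact (Table.relOK_iff chkPaths 154 77).mp Cfsg.Agent.Lib.Helper3.Cover.LU6BC0.rel2 p (by omega) (by omega) _ hm
  rcases Nat.lt_or_ge p 308 with h3 | h3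
  · exact (Table.relOK_iff chkPaths 231 77).mp Cfsg.Agent.Lib.Helper3.Cover.LU6BC1.rel3 p (by omega) (by omega) _ hm
  rcases Nat.lt_or_ge p 385 with h4 | h4
  · exact (Table.relOK_iff chkPaths 308 77).mp Cfsg.Agent.Lib.Helper3.Cover.LU6BC1.rel4 p (by omega) (by omega) _ hm
  rcases Nat.lt_or_ge p 462 with h5 | h5
  · exact (Table.relOK_iff chkPaths 385 77).mp Cfsg.Agent.Lib.Helper3.Cover.LU6BC1.rel5 p (by omega) (by omega) _ hm
  rcases Nat.lt_or_ge p 539 with h6 | h6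
  · exact (Table.relOK_iff chkPaths 462 77).mp Cfsg.Agent.Lib.Helper3.Cover.LU6BC1.rel6 p (by omega) (by omega) _ hm
  rcases Nat.lt_or_ge p 616 with h7 | h7
  · exact (Table.relOK_iff chkPaths 539 77).mp Cfsg.Agent.Lib.Helper3.Cover.LU6BC1.rel7 p (by omega) (by omega) _ hm
  rcases Nat.lt_or_ge p 693 with h8 | h8
  · exact (Table.relOK_iff chkPaths 616 77).mp Cfsg.Agent.Lib.Helper3.Cover.LU6BC2.rel8 p (by omega) (by omega) _ hm
  rcases Nat.lt_or_ge p 770 with h9 | h9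
  · exact (Table.relOK_iff chkPaths 693 77).mp Cfsg.Agent.Lib.Helper3.Cover.LU6BC2.rel9 p (by omega) (by omega) _ hm
  rcases Nat.lt_or_ge p 847 with h10 | h10
  · exact (Table.relOK_iff chkPaths 770 77).mp Cfsg.Agent.Lib.Helper3.Cover.LU6BC2.rel10 p (by omega) (by omega) _ hm
  rcases Nat.lt_or_ge p 924 with h11 | h11
  · exact (Table.relOK_iff chkPaths 847 77).mp Cfsg.Agent.Lib.Helper3.Cover.LU6BC2.rel11 p (by omega) (by omega) _ hm
  rcases Nat.lt_or_ge p 1001 with h12 | h12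
  · exact (Table.relOK_iff chkPaths 924 77).mp Cfsg.Agent.Lib.Helper3.Cover.LU6BC2.rel12 p (by omega) (by omega) _ hm
  rcases Nat.lt_or_ge p 1078 with h13 | h13
  · exact (Table.relOK_iff chkPaths 1001 77).mp Cfsg.Agent.Lib.Helper3.Cover.LU6BC3.rel13 p (by omega) (by omega) _ hm
  rcases Nat.lt_or_ge p 1155 with h14 | h14
  · exact (Table.relOK_iff chkPaths 1078 77).mp Cfsg.Agent.Lib.Helper3.Cover.LU6BC3.rel14 p (by omega) (by omega) _ hm
  rcases Nat.lt_or_ge p 1232 with h15 | h15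
  · exact (Table.relOK_iff chkPaths 1155 77).mp Cfsg.Agent.Lib.Helper3.Cover.LU6BC3.rel15 p (by omega) (by omega) _ hm
  rcases Nat.lt_or_ge p 1309 with h16 | h16
  · exact (Table.relOK_iff chkPaths 1232 77).mp Cfsg.Agent.Lib.Helper3.Cover.LU6BC3.rel16 p (by omega) (by omega) _ hm
  rcases Nat.lt_or_ge p 1386 with h17 | h17
  · exact (Table.relOK_iff chkPaths 1309 77).mp Cfsg.Agent.Lib.Helper3.Cover.LU6BC3.rel17 p (by omega) (by omega) _ hm
  rcases Nat.lt_or_ge p 1463 with h18 | h18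
  · exact (Table.relOK_iff chkPaths 1386 77).mp Cfsg.Agent.Lib.Helper3.Cover.LU6BC4.rel18 p (by omega) (by omega) _ hm
  rcases Nat.lt_or_ge p 1540 with h19 | h19
  · exact (Table.relOK_iff chkPaths 1463 77).mp Cfsg.Agent.Lib.Helper3.Cover.LU6BC4.rel19 p (by omega) (by omega) _ hm
  rcases Nat.lt_or_ge p 1617 with h20 | h20
  · exact (Table.relOK_iff chkPaths 1540 77).mp Cfsg.Agent.Lib.Helper3.Cover.LU6BC4.rel20 p (by omega) (by omega) _ hm
  rcases Nat.lt_or_ge p 1694 with h21 | h21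
  · exact (Table.relOK_iff chkPaths 1617 77).mp Cfsg.Agent.Lib.Helper3.Cover.LU6BC4.rel21 p (by omega) (by omega) _ hm
  rcases Nat.lt_or_ge p 1771 with h22 | h22
  · exact (Table.relOK_iff chkPaths 1694 77).mp Cfsg.Agent.Lib.Helper3.Cover.LU6BC4.rel22 p (by omega) (by omega) _ hm
  rcases Nat.lt_or_ge p 1848 with h23 | h23
  · exact (Table.relOK_iff chkPaths 1771 77).mp Cfsg.Agent.Lib.Helper3.Cover.LU6BC5.rel23 p (by omega) (by omega) _ hm
  rcases Nat.lt_or_ge p 1925 with h24 | h24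
  · exact (Table.relOK_iff chkPaths 1848 77).mp Cfsg.Agent.Lib.Helper3.Cover.LU6BC5.rel24 p (by omega) (by omega) _ hm
  rcases Nat.lt_or_ge p 2002 with h25 | h25
  · exact (Table.relOK_iff chkPaths 1925 77).mp Cfsg.Agent.Lib.Helper3.Cover.LU6BC5.rel25 p (by omega) (by omega) _ hm
  rcases Nat.lt_or_ge p 2079 with h26 | h26
  · exact (Table.relOK_iff chkPaths 2002 77).mp Cfsg.Agent.Lib.Helper3.Cover.LU6BC5.rel26 p (by omega) (by omega) _ hm
  rcases Nat.lt_or_ge p 2156 with h27 | h27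
  · exact (Table.relOK_iff chkPaths 2079 77).mp Cfsg.Agent.Lib.Helper3.Cover.LU6BC5.rel27 p (by omega) (by omega) _ hm
  rcases Nat.lt_or_ge p 2233 with h28 | h28
  · exact (Table.relOK_iff chkPaths 2156 77).mp Cfsg.Agent.Lib.Helper3.Cover.LU6BC6.rel28 p (by omega) (by omega) _ hm
  rcases Nat.lt_or_ge p 2310 with h29 | h29
  · exact (Table.relOK_iff chkPaths 2233 77).mp Cfsg.Agent.Lib.Helper3.Cover.LU6BC6.rel29 p (by omega) (by omega) _ hm
  rcases Nat.lt_or_ge p 2387 with h30 | h30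
  · exact (Table.relOK_iff chkPaths 2310 77).mp Cfsg.Agent.Lib.Helper3.Cover.LU6BC6.rel30 p (by omega) (by omega) _ hm
  rcases Nat.lt_or_ge p 2464 with h31 | h31
  · exact (Table.relOK_iff chkPaths 2387 77).mp Cfsg.Agent.Lib.Helper3.Cover.LU6BC6.rel31 p (by omega) (by omega) _ hm
  rcases Nat.lt_or_ge p 2541 with h32 | h32
  · exact (Table.relOK_iff chkPaths 2464 77).mp Cfsg.Agent.Lib.Helper3.Cover.LU6BC6.rel32 p (by omega) (by omega) _ hm
  rcases Nat.lt_or_ge p 2618 with h33 | h33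
  · exact (Table.relOK_iff chkPaths 2541 77).mp Cfsg.Agent.Lib.Helper3.Cover.LU6BC7.rel33 p (by omega) (by omega) _ hm
  rcases Nat.lt_or_ge p 2695 with h34 | h34
  · exact (Table.relOK_iff chkPaths 2618 77).mp Cfsg.Agent.Lib.Helper3.Cover.LU6BC7.rel34 p (by omega) (by omega) _ hm
  rcases Nat.lt_or_ge p 2772 with h35 | h35
  · exact (Table.relOK_iff chkPaths 2695 77).mp Cfsg.Agent.Lib.Helper3.Cover.LU6BC7.rel35 p (by omega) (by omega) _ hm
  rcases Nat.lt_or_ge p 2849 with h36 | h36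
  · exact (Table.relOK_iff chkPaths 2772 77).mp Cfsg.Agent.Lib.Helper3.Cover.LU6BC7.rel36 p (by omega) (by omega) _ hm
  rcases Nat.lt_or_ge p 2926 with h37 | h37
  · exact (Table.relOK_iff chkPaths 2849 77).mp Cfsg.Agent.Lib.Helper3.Cover.LU6BC7.rel37 p (by omega) (by omega) _ hm
  rcases Nat.lt_or_ge p 3003 with h38 | h38
  · exact (Table.relOK_iff chkPaths 2926 77).mp Cfsg.Agent.Lib.Helper3.Cover.LU6BC8.rel38 p (by omega) (by omega) _ hm
  rcases Nat.lt_or_ge p 3080 with h39 | h39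
  · exact (Table.relOK_iff chkPaths 3003 77).mp Cfsg.Agent.Lib.Helper3.Cover.LU6BC8.rel39 p (by omega) (by omega) _ hm
  rcases Nat.lt_or_ge p 3157 with h40 | h40
  · exact (Table.relOK_iff chkPaths 3080 77).mp Cfsg.Agent.Lib.Helper3.Cover.LU6BC8.rel40 p (by omega) (by omega) _ hm
  rcases Nat.lt_or_ge p 3234 with h41 | h41
  · exact (Table.relOK_iff chkPaths 3157 77).mp Cfsg.Agent.Lib.Helper3.Cover.LU6BC8.rel41 p (by omega) (by omega) _ hm
  rcases Nat.lt_or_ge p 3311 with h42 | h42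
  · exact (Table.relOK_iff chkPaths 3234 77).mp Cfsg.Agent.Lib.Helper3.Cover.LU6BC8.rel42 p (by omega) (by omega) _ hm
  rcases Nat.lt_or_ge p 3388 with h43 | h43
  · exact (Table.relOK_iff chkPaths 3311 77).mp Cfsg.Agent.Lib.Helper3.Cover.LU6BC9.rel43 p (by omega) (by omega) _ hm
  rcases Nat.lt_or_ge p 3465 with h44 | h44
  · exact (Table.relOK_iff chkPaths 3388 77).mp Cfsg.Agent.Lib.Helper3.Cover.LU6BC9.rel44 p (by omega) (by omega) _ hm
  rcases Nat.lt_or_ge p 3542 with h45 | h45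
  · exact (Table.relOK_iff chkPaths 3465 77).mp Cfsg.Agent.Lib.Helper3.Cover.LU6BC9.rel45 p (by omega) (by omega) _ hm
  rcases Nat.lt_or_ge p 3619 with h46 | h46
  · exact (Table.relOK_iff chkPaths 3542 77).mp Cfsg.Agent.Lib.Helper3.Cover.LU6BC9.rel46 p (by omega) (by omega) _ hm
  rcases Nat.lt_or_ge p 3696 with h47 | h47
  · exact (Table.relOK_iff chkPaths 3619 77).mp Cfsg.Agent.Lib.Helper3.Cover.LU6BC9.rel47 p (by omega) (by omega) _ hm
  rcases Nat.lt_or_ge p 3773 with h48 | h48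
  · exact (Table.relOK_iff chkPaths 3696 77).mp Cfsg.Agent.Lib.Helper3.Cover.LU6BC10.rel48 p (by omega) (by omega) _ hm
  rcases Nat.lt_or_ge p 3850 with h49 | h49
  · exact (Table.relOK_iff chkPaths 3773 77).mp Cfsg.Agent.Lib.Helper3.Cover.LU6BC10.rel49 p (by omega) (by omega) _ hm
  rcases Nat.lt_or_ge p 3927 with h50 | h50
  · exact (Table.relOK_iff chkPaths 3850 77).mp Cfsg.Agent.Lib.Helper3.Cover.LU6BC10.rel50 p (by omega) (by omega) _ hm
  rcases Nat.lt_or_ge p 4004 with h51 | h51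
  · exact (Table.relOK_iff chkPaths 3927 77).mp Cfsg.Agent.Lib.Helper3.Cover.LU6BC10.rel51 p (by omega) (by omega) _ hm
  rcases Nat.lt_or_ge p 4081 with h52 | h52
  · exact (Table.relOK_iff chkPaths 4004 77).mp Cfsg.Agent.Lib.Helper3.Cover.LU6BC10.rel52 p (by omega) (by omega) _ hm
  rcases Nat.lt_or_ge p 4158 with h53 | h53
  · exact (Table.relOK_iff chkPaths 4081 77).mp Cfsg.Agent.Lib.Helper3.Cover.LU6BC11.rel53 p (by omega) (by omega) _ hm
  rcases Nat.lt_or_ge p 4235 with h54 | h54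
  · exact (Table.relOK_iff chkPaths 4158 77).mp Cfsg.Agent.Lib.Helper3.Cover.LU6BC11.rel54 p (by omega) (by omega) _ hm
  rcases Nat.lt_or_ge p 4312 with h55 | h55
  · exact (Table.relOK_iff chkPaths 4235 77).mp Cfsg.Agent.Lib.Helper3.Cover.LU6BC11.rel55 p (by omega) (by omega) _ hm
  rcases Nat.lt_or_ge p 4389 with h56 | h56
  · exact (Table.relOK_iff chkPaths 4312 77).mp Cfsg.Agent.Lib.Helper3.Cover.LU6BC11.rel56 p (by omega) (by omega) _ hm
  rcases Nat.lt_or_ge p 4466 with h57 | h57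
  · exact (Table.relOK_iff chkPaths 4389 77).mp Cfsg.Agent.Lib.Helper3.Cover.LU6BC11.rel57 p (by omega) (by omega) _ hm
  rcases Nat.lt_or_ge p 4543 with h58 | h58
  · exact (Table.relOK_iff chkPaths 4466 77).mp Cfsg.Agent.Lib.Helper3.Cover.LU6BC12.rel58 p (by omega) (by omega) _ hm
  rcases Nat.lt_or_ge p 4620 with h59 | h59
  · exact (Table.relOK_iff chkPaths 4543 77).mp Cfsg.Agent.Lib.Helper3.Cover.LU6BC12.rel59 p (by omega) (by omega) _ hm
  rcases Nat.lt_or_ge p 4697 with h60 | h60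
  · exact (Table.relOK_iff chkPaths 4620 77).mp Cfsg.Agent.Lib.Helper3.Cover.LU6BC12.rel60 p (by omega) (by omega) _ hm
  rcases Nat.lt_or_ge p 4774 with h61 | h61
  · exact (Table.relOK_iff chkPaths 4697 77).mp Cfsg.Agent.Lib.Helper3.Cover.LU6BC12.rel61 p (by omega) (by omega) _ hm
  rcases Nat.lt_or_ge p 4851 with h62 | h62
  · exact (Table.relOK_iff chkPaths 4774 77).mp Cfsg.Agent.Lib.Helper3.Cover.LU6BC12.rel62 p (by omega) (by omega) _ hm
  rcases Nat.lt_or_ge p 4928 with h63 | h63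
  · exact (Table.relOK_iff chkPaths 4851 77).mp Cfsg.Agent.Lib.Helper3.Cover.LU6BC13.rel63 p (by omega) (by omega) _ hm
  rcases Nat.lt_or_ge p 5005 with h64 | h64
  · exact (Table.relOK_iff chkPaths 4928 77).mp Cfsg.Agent.Lib.Helper3.Cover.LU6BC13.rel64 p (by omega) (by omega) _ hm
  rcases Nat.lt_or_ge p 5082 with h65 | h65
  · exact (Table.relOK_iff chkPaths 5005 77).mp Cfsg.Agent.Lib.Helper3.Cover.LU6BC13.rel65 p (by omega) (by omega) _ hm
  rcases Nat.lt_or_ge p 5159 with h66 | h66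
  · exact (Table.relOK_iff chkPaths 5082 77).mp Cfsg.Agent.Lib.Helper3.Cover.LU6BC13.rel66 p (by omega) (by omega) _ hm
  rcases Nat.lt_or_ge p 5236 with h67 | h67
  · exact (Table.relOK_iff chkPaths 5159 77).mp Cfsg.Agent.Lib.Helper3.Cover.LU6BC13.rel67 p (by omega) (by omega) _ hm
  rcases Nat.lt_or_ge p 5313 with h68 | h68
  · exact (Table.relOK_iff chkPaths 5236 77).mp Cfsg.Agent.Lib.Helper3.Cover.LU6BC14.rel68 p (by omega) (by omega) _ hm
  rcases Nat.lt_or_ge p 5390 with h69 | h69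
  · exact (Table.relOK_iff chkPaths 5313 77).mp Cfsg.Agent.Lib.Helper3.Cover.LU6BC14.rel69 p (by omega) (by omega) _ hm
  rcases Nat.lt_or_ge p 5467 with h70 | h70
  · exact (Table.relOK_iff chkPaths 5390 77).mp Cfsg.Agent.Lib.Helper3.Cover.LU6BC14.rel70 p (by omega) (by omega) _ hm
  rcases Nat.lt_or_ge p 5544 with h71 | h71
  · exact (Table.relOK_iff chkPaths 5467 77).mp Cfsg.Agent.Lib.Helper3.Cover.LU6BC14.rel71 p (by omega) (by omega) _ hm
  rcases Nat.lt_or_ge p 5621 with h72 | h72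
  · exact (Table.relOK_iff chkPaths 5544 77).mp Cfsg.Agent.Lib.Helper3.Cover.LU6BC14.rel72 p (by omega) (by omega) _ hm
  exact (Table.relOK_iff chkPaths 5621 11).mp Cfsg.Agent.Lib.Helper3.Cover.LU6BC15.rel73 p (by omega) (by omega) _ hm

end Cfsg.Agent.Lib.Helper3.Cover.LU6BLow
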