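import Cfsg.Agent.Lib.Helper28.TC2Range
import Cfsg.Agent.Lib.Helper3.Cover.LU6CTable
set_option autoImplicit false
set_option maxRecDepth 100000
set_option maxHeartbeats 0

namespace Cfsg.Agent.Lib.Helper3.Cover.LU6CC3
open Cfsg.Agent.Lib.Helper28.TC2Upper Cfsg.Agent.Lib.Helper28.TC2Lower Cfsg.Agent.Lib.Helper28.TC2Range Cfsg.Agent.Lib.Helper3.Cover.LU6CTable

theorem rel13 : table.relOK chkPaths 1001 77 = true := by decide +kernel
theorem rel14 : table.relOK chkPaths 1078 77 = true := by decide +kernel
theorem rel15 : table.relOK chkPaths 1155 77 = true := by decide +kernel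
theorem rel16 : table.relOK chkPaths 1232 77 = true := by decide +kernel
theorem rel17 : table.relOK chkPaths 1309 77 = true := by decide +kernel

end Cfsg.Agent.Lib.Helper3.Cover.LU6CC3
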