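import Cfsg.Agent.Lib.Helper28.TC2Range
import Cfsg.Agent.Lib.Helper3.Cover.LU6CTable
import Cfsg.Agent.Lib.Helper3.Cover.LU6CC0
import Cfsg.Agent.Lib.Helper3.Cover.LU6CC1
import Cfsg.Agent.Lib.Helper3.Cover.LU6CC2
import Cfsg.Agent.Lib.Helper3.Cover.LU6CC3
import Cfsg.Agent.Lib.Helper3.Cover.LU6CC4
import Cfsg.Agent.Lib.Helper3.Cover.LU6CC5

set_option autoImplicit false
set_option maxRecDepth 100000

namespace Cfsg.Agent.Lib.Helper3.Cover.LU6CLow
open Cfsg.Agent.Lib.Helper28.TC2Upper Cfsg.Agent.Lib.Helper28.TC2Lower Cfsg.Agent.Lib.Helper28.TC2Range Cfsg.Agent.Lib.Helper3.Cover.LU6CTable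

theorem hpermAll : ∀ p, p < table.n → Table.permRow table p = true := by
  intro p hv
  have hv' : p < 2079 := hv
  exact (Table.permRange_iff table 0 2079).mp Cfsg.Agent.Lib.Helper3.Cover.LU6CC0.prm0 p (by omega) (by omega)

theorem hT : table.OK := Table.ok_of_rows table Cfsg.Agent.Lib.Helper3.Cover.LU6CC0.hinvOK hpermAll

theorem hchkT : ∀ P ∈ chkPaths, ∀ p, p < table.n → table.walkT P p = p := by
  intro P hm p hv
  have hv' : p < 2079 := hv
  rcases Nat.lt_or_ge p 77 with h0 | h0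
  · exact (Table.relOK_iff chkPaths 0 77).mp Cfsg.Agent.Lib.Helper3.Cover.LU6CC0.rel0 p (by omega) (by omega) _ hm
  rcases Nat.lt_or_ge p 154 with h1 | h1
  · exact (Table.relOK_iff chkPaths 77 77).mp Cfsg.Agent.Lib.Helper3.Cover.LU6CC0.rel1 p (by omega) (by omega) _ hm
  rcases Nat.lt_or_ge p 231 with h2 | h2
  · exact (Table.relOK_iff chkPaths 154 77).mp Cfsg.Agent.Lib.Helper3.Cover.LU6CC0.rel2 p (by omega) (by omega) _ hm
  rcases Nat.lt_or_ge p 308 with h3 | h3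
  · exact (Table.relOK_iff chkPaths 231 77).mp Cfsg.Agent.Lib.Helper3.Cover.LU6CC1.rel3 p (by omega) (by omega) _ hm
  rcases Nat.lt_or_ge p 385 with h4 | h4
  · exact (Table.relOK_iff chkPaths 308 77).mp Cfsg.Agent.Lib.Helper3.Cover.LU6CC1.rel4 p (by omega) (by omega) _ hm
  rcases Nat.lt_or_ge p 462 with h5 | h5
  · exact (Table.relOK_iff chkPaths 385 77).mp Cfsg.Agent.Lib.Helper3.Cover.LU6CC1.rel5 p (by omega) (by omega) _ hm
  rcases Nat.lt_or_ge p 539 with h6 | h6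
  · exact (Table.relOK_iff chkPaths 462 77).mp Cfsg.Agent.Lib.Helper3.Cover.LU6CC1.rel6 p (by omega) (by omega) _ hm
  rcases Nat.lt_or_ge p 616 with h7 | h7
  · exact (Table.relOK_iff chkPaths 539 77).mp Cfsg.Agent.Lib.Helper3.Cover.LU6CC1.rel7 p (by omega) (by omega) _ hm
  rcases Nat.lt_or_ge p 693 with h8 | h8
  · exact (Table.relOK_iff chkPaths 616 77).mp Cfsg.Agent.Lib.Helper3.Cover.LU6CC2.rel8 p (by omega) (by omega) _ hm
  rcases Nat.lt_or_ge p 770 with h9 | h9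
  · exact (Table.relOK_iff chkPaths 693 77).mp Cfsg.Agent.Lib.Helper3.Cover.LU6CC2.rel9 p (by omega) (by omega) _ hm
  rcases Nat.lt_or_ge p 847 with h10 | h10
  · exact (Table.relOK_iff chkPaths 770 77).mp Cfsg.Agent.Lib.Helper3.Cover.LU6CC2.rel10 p (by omega) (by omega) _ hm
  rcases Nat.lt_or_ge p 924 with h11 | h11
  · exact (Table.relOK_iff chkPaths 847 77).mp Cfsg.Agent.Lib.Helper3.Cover.LU6CC2.rel11 p (by omega) (by omega) _ hm
  rcases Nat.lt_or_ge p 1001 with h12 | h12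
  · exact (Table.relOK_iff chkPaths 924 77).mp Cfsg.Agent.Lib.Helper3.Cover.LU6CC2.rel12 p (by omega) (by omega) _ hm
  rcases Nat.lt_or_ge p 1078 with h13 | h13
  · exact (Table.relOK_iff chkPaths 1001 77).mp Cfsg.Agent.Lib.Helper3.Cover.LU6CC3.rel13 p (by omega) (by omega) _ hm
  rcases Nat.lt_or_ge p 1155 with h14 | h14
  · exact (Table.relOK_iff chkPaths 1078 77).mp Cfsg.Agent.Lib.Helper3.Cover.LU6CC3.rel14 p (by omega) (by omega) _ hm
  rcases Nat.lt_or_ge p 1232 with h15 | h15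
  · exact (Table.relOK_iff chkPaths 1155 77).mp Cfsg.Agent.Lib.Helper3.Cover.LU6CC3.rel15 p (by omega) (by omega) _ hm
  rcases Nat.lt_or_ge p 1309 with h16 | h16
  · exact (Table.relOK_iff chkPaths 1232 77).mp Cfsg.Agent.Lib.Helper3.Cover.LU6CC3.rel16 p (by omega) (by omega) _ hm
  rcases Nat.lt_or_ge p 1386 with h17 | h17
  · exact (Table.relOK_iff chkPaths 1309 77).mp Cfsg.Agent.Lib.Helper3.Cover.LU6CC3.rel17 p (by omega) (by omega) _ hm
  rcases Nat.lt_or_ge p 1463 with h18 | h18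
  · exact (Table.relOK_iff chkPaths 1386 77).mp Cfsg.Agent.Lib.Helper3.Cover.LU6CC4.rel18 p (by omega) (by omega) _ hm
  rcases Nat.lt_or_ge p 1540 with h19 | h19
  · exact (Table.relOK_iff chkPaths 1463 77).mp Cfsg.Agent.Lib.Helper3.Cover.LU6CC4.rel19 p (by omega) (by omega) _ hm
  rcases Nat.lt_or_ge p 1617 with h20 | h20
  · exact (Table.relOK_iff chkPaths 1540 77).mp Cfsg.Agent.Lib.Helper3.Cover.LU6CC4.rel20 p (by omega) (by omega) _ hm
  rcases Nat.lt_or_ge p 1694 with h21 | h21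
  · exact (Table.relOK_iff chkPaths 1617 77).mp Cfsg.Agent.Lib.Helper3.Cover.LU6CC4.rel21 p (by omega) (by omega) _ hm
  rcases Nat.lt_or_ge p 1771 with h22 | h22
  · exact (Table.relOK_iff chkPaths 1694 77).mp Cfsg.Agent.Lib.Helper3.Cover.LU6CC4.rel22 p (by omega) (by omega) _ hm
  rcases Nat.lt_or_ge p 1848 with h23 | h23
  · exact (Table.relOK_iff chkPaths 1771 77).mp Cfsg.Agent.Lib.Helper3.Cover.LU6CC5.rel23 p (by omega) (by omega) _ hm
  rcases Nat.lt_or_ge p 1925 with h24 | h24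
  · exact (Table.relOK_iff chkPaths 1848 77).mp Cfsg.Agent.Lib.Helper3.Cover.LU6CC5.rel24 p (by omega) (by omega) _ hm
  rcases Nat.lt_or_ge p 2002 with h25 | h25
  · exact (Table.relOK_iff chkPaths 1925 77).mp Cfsg.Agent.Lib.Helper3.Cover.LU6CC5.rel25 p (by omega) (by omega) _ hm
  exact (Table.relOK_iff chkPaths 2002 77).mp Cfsg.Agent.Lib.Helper3.Cover.LU6CC5.rel26 p (by omega) (by omega) _ hm

end Cfsg.Agent.Lib.Helper3.Cover.LU6CLow
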