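import Cfsg.Agent.Lib.Helper28.TC2Range
import Cfsg.Agent.Lib.Helper3.Cover.LU4Table
set_option autoImplicit false
set_option maxRecDepth 100000
set_option maxHeartbeats 0

namespace Cfsg.Agent.Lib.Helper3.Cover.LU4C10
open Cfsg.Agent.Lib.Helper28.TC2Upper Cfsg.Agent.Lib.Helper28.TC2Lower Cfsg.Agent.Lib.Helper28.TC2Range Cfsg.Agent.Lib.Helper3.Cover.LU4Table

theorem rel45 : table.relOK chkPaths 8550 190 = true := by decide +kernel
theorem rel46 : table.relOK chkPaths 8740 190 = true := by decide +kernel
theorem rel47 : table.relOK chkPaths 8930 190 = true := by decide +kernel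
theorem rel48 : table.relOK chkPaths 9120 190 = true := by decide +kernel
theorem rel49 : table.relOK chkPaths 9310 190 = true := by decide +kernel

end Cfsg.Agent.Lib.Helper3.Cover.LU4C10
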