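import Cfsg.Agent.Lib.Helper28.TC2Range
import Cfsg.Agent.Lib.Helper3.Cover.LU4Table
set_option autoImplicit false
set_option maxRecDepth 100000
set_option maxHeartbeats 0

namespace Cfsg.Agent.Lib.Helper3.Cover.LU4C17
open Cfsg.Agent.Lib.Helper28.TC2Upper Cfsg.Agent.Lib.Helper28.TC2Lower Cfsg.Agent.Lib.Helper28.TC2Range Cfsg.Agent.Lib.Helper3.Cover.LU4Table

theorem rel80 : table.relOK chkPaths 15200 190 = true := by decide +kernel
theorem rel81 : table.relOK chkPaths 15390 190 = true := by decide +kernel
theorem rel82 : table.relOK chkPaths 15580 190 = true := by decide +kernel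
theorem rel83 : table.relOK chkPaths 15770 190 = true := by decide +kernel
theorem rel84 : table.relOK chkPaths 15960 190 = true := by decide +kernel

end Cfsg.Agent.Lib.Helper3.Cover.LU4C17
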