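import Cfsg.Agent.Lib.Helper28.TC2Range
import Cfsg.Agent.Lib.Helper3.Cover.LU4Table
set_option autoImplicit false
set_option maxRecDepth 100000
set_option maxHeartbeats 0

namespace Cfsg.Agent.Lib.Helper3.Cover.LU4C3
open Cfsg.Agent.Lib.Helper28.TC2Upper Cfsg.Agent.Lib.Helper28.TC2Lower Cfsg.Agent.Lib.Helper28.TC2Range Cfsg.Agent.Lib.Helper3.Cover.LU4Table

theorem rel10 : table.relOK chkPaths 1900 190 = true := by decide +kernel
theorem rel11 : table.relOK chkPaths 2090 190 = true := by decide +kernel
theorem rel12 : table.relOK chkPaths 2280 190 = true := by decide +kernel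
theorem rel13 : table.relOK chkPaths 2470 190 = true := by decide +kernel
theorem rel14 : table.relOK chkPaths 2660 190 = true := by decide +kernel

end Cfsg.Agent.Lib.Helper3.Cover.LU4C3
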