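import Cfsg.Agent.Lib.Helper28.TC2Range
import Cfsg.Agent.Lib.Helper3.Cover.LU4Table
set_option autoImplicit false
set_option maxRecDepth 100000
set_option maxHeartbeats 0

namespace Cfsg.Agent.Lib.Helper3.Cover.LU4C6
open Cfsg.Agent.Lib.Helper28.TC2Upper Cfsg.Agent.Lib.Helper28.TC2Lower Cfsg.Agent.Lib.Helper28.TC2Range Cfsg.Agent.Lib.Helper3.Cover.LU4Table

theorem rel25 : table.relOK chkPaths 4750 190 = true := by decide +kernel
theorem rel26 : table.relOK chkPaths 4940 190 = true := by decide +kernel
theorem rel27 : table.relOK chkPaths 5130 190 = true := by decide +kernel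
theorem rel28 : table.relOK chkPaths 5320 190 = true := by decide +kernel
theorem rel29 : table.relOK chkPaths 5510 190 = true := by decide +kernel

end Cfsg.Agent.Lib.Helper3.Cover.LU4C6
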