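import Cfsg.Agent.Lib.Helper28.TC2Range
import Cfsg.Agent.Lib.Helper3.Cover.LU4Table
import Cfsg.Agent.Lib.Helper3.Cover.LU4C0
import Cfsg.Agent.Lib.Helper3.Cover.LU4C1
import Cfsg.Agent.Lib.Helper3.Cover.LU4C2
import Cfsg.Agent.Lib.Helper3.Cover.LU4C3
import Cfsg.Agent.Lib.Helper3.Cover.LU4C4
import Cfsg.Agent.Lib.Helper3.Cover.LU4C5
import Cfsg.Agent.Lib.Helper3.Cover.LU4C6
import Cfsg.Agent.Lib.Helper3.Cover.LU4C7
import Cfsg.Agent.Lib.Helper3.Cover.LU4C8
import Cfsg.Agent.Lib.Helper3.Cover.LU4C9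
import Cfsg.Agent.Lib.Helper3.Cover.LU4C10
import Cfsg.Agent.Lib.Helper3.Cover.LU4C11
import Cfsg.Agent.Lib.Helper3.Cover.LU4C12
import Cfsg.Agent.Lib.Helper3.Cover.LU4C13
import Cfsg.Agent.Lib.Helper3.Cover.LU4C14
import Cfsg.Agent.Lib.Helper3.Cover.LU4C15
import Cfsg.Agent.Lib.Helper3.Cover.LU4C16
import Cfsg.Agent.Lib.Helper3.Cover.LU4C17
import Cfsg.Agent.Lib.Helper3.Cover.LU4C18
import Cfsg.Agent.Lib.Helper3.Cover.LU4C19
import Cfsg.Agent.Lib.Helper3.Cover.LU4C20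
import Cfsg.Agent.Lib.Helper3.Cover.LU4C21

set_option autoImplicit false
set_option maxRecDepth 100000

namespace Cfsg.Agent.Lib.Helper3.Cover.LU4Low
open Cfsg.Agent.Lib.Helper28.TC2Upper Cfsg.Agent.Lib.Helper28.TC2Lower Cfsg.Agent.Lib.Helper28.TC2Range Cfsg.Agent.Lib.Helper3.Cover.LU4Table

theorem hpermAll : ∀ p, p < table.n → Table.permRow table p = true := by
  intro p hv
  have hv' : p < 19440 := hv
  rcases Nat.lt_or_ge p 6000 with h0 | h0
  · exact (Table.permRange_iff table 0 6000).mp Cfsg.Agent.Lib.Helper3.Cover.LU4C0.prm0 p (by omega) (by omega)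
  rcases Nat.lt_or_ge p 12000 with h1 | h1
  · exact (Table.permRange_iff table 6000 6000).mp Cfsg.Agent.Lib.Helper3.Cover.LU4C0.prm1 p (by omega) (by omega)
  rcases Nat.lt_or_ge p 18000 with h2 | h2
  · exact (Table.permRange_iff table 12000 6000).mp Cfsg.Agent.Lib.Helper3.Cover.LU4C0.prm2 p (by omega) (by omega)
  exact (Table.permRange_iff table 18000 1440).mp Cfsg.Agent.Lib.Helper3.Cover.LU4C0.prm3 p (by omega) (by omega)

theorem hT : table.OK := Table.ok_of_rows table Cfsg.Agent.Lib.Helper3.Cover.LU4C0.hinvOK hpermAll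

theorem hchkT : ∀ P ∈ chkPaths, ∀ p, p < table.n → table.walkT P p = p := by
  intro P hm p hv
  have hv' : p < 19440 := hv
  rcases Nat.lt_or_ge p 190 with h0 | h0
  · exact (Table.relOK_iff chkPaths 0 190).mp Cfsg.Agent.Lib.Helper3.Cover.LU4C1.rel0 p (by omega) (by omega) _ hm
  rcases Nat.lt_or_ge p 380 with h1 | h1
  · exact (Table.relOK_iff chkPaths 190 190).mp Cfsg.Agent.Lib.Helper3.Cover.LU4C1.rel1 p (by omega) (by omega) _ hm
  rcases Nat.lt_or_ge p 570 with h2 | h2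
  · exact (Table.relOK_iff chkPaths 380 190).mp Cfsg.Agent.Lib.Helper3.Cover.LU4C1.rel2 p (by omega) (by omega) _ hm
  rcases Nat.lt_or_ge p 760 with h3 | h3
  · exact (Table.relOK_iff chkPaths 570 190).mp Cfsg.Agent.Lib.Helper3.Cover.LU4C1.rel3 p (by omega) (by omega) _ hm
  rcases Nat.lt_or_ge p 950 with h4 | h4
  · exact (Table.relOK_iff chkPaths 760 190).mp Cfsg.Agent.Lib.Helper3.Cover.LU4C1.rel4 p (by omega) (by omega) _ hm
  rcases Nat.lt_or_ge p 1140 with h5 | h5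
  · exact (Table.relOK_iff chkPaths 950 190).mp Cfsg.Agent.Lib.Helper3.Cover.LU4C2.rel5 p (by omega) (by omega) _ hm
  rcases Nat.lt_or_ge p 1330 with h6 | h6
  · exact (Table.relOK_iff chkPaths 1140 190).mp Cfsg.Agent.Lib.Helper3.Cover.LU4C2.rel6 p (by omega) (by omega) _ hm
  rcases Nat.lt_or_ge p 1520 with h7 | h7
  · exact (Table.relOK_iff chkPaths 1330 190).mp Cfsg.Agent.Lib.Helper3.Cover.LU4C2.rel7 p (by omega) (by omega) _ hm
  rcases Nat.lt_or_ge p 1710 with h8 | h8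
  · exact (Table.relOK_iff chkPaths 1520 190).mp Cfsg.Agent.Lib.Helper3.Cover.LU4C2.rel8 p (by omega) (by omega) _ hm
  rcases Nat.lt_or_ge p 1900 with h9 | h9
  · exact (Table.relOK_iff chkPaths 1710 190).mp Cfsg.Agent.Lib.Helper3.Cover.LU4C2.rel9 p (by omega) (by omega) _ hm
  rcases Nat.lt_or_ge p 2090 with h10 | h10
  · exact (Table.relOK_iff chkPaths 1900 190).mp Cfsg.Agent.Lib.Helper3.Cover.LU4C3.rel10 p (by omega) (by omega) _ hm
  rcases Nat.lt_or_ge p 2280 with h11 | h11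
  · exact (Table.relOK_iff chkPaths 2090 190).mp Cfsg.Agent.Lib.Helper3.Cover.LU4C3.rel11 p (by omega) (by omega) _ hm
  rcases Nat.lt_or_ge p 2470 with h12 | h12
  · exact (Table.relOK_iff chkPaths 2280 190).mp Cfsg.Agent.Lib.Helper3.Cover.LU4C3.rel12 p (by omega) (by omega) _ hm
  rcases Nat.lt_or_ge p 2660 with h13 | h13
  · exact (Table.relOK_iff chkPaths 2470 190).mp Cfsg.Agent.Lib.Helper3.Cover.LU4C3.rel13 p (by omega) (by omega) _ hm
  rcases Nat.lt_or_ge p 2850 with h14 | h14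
  · exact (Table.relOK_iff chkPaths 2660 190).mp Cfsg.Agent.Lib.Helper3.Cover.LU4C3.rel14 p (by omega) (by omega) _ hm
  rcases Nat.lt_or_ge p 3040 with h15 | h15
  · exact (Table.relOK_iff chkPaths 2850 190).mp Cfsg.Agent.Lib.Helper3.Cover.LU4C4.rel15 p (by omega) (by omega) _ hm
  rcases Nat.lt_or_ge p 3230 with h16 | h16
  · exact (Table.relOK_iff chkPaths 3040 190).mp Cfsg.Agent.Lib.Helper3.Cover.LU4C4.rel16 p (by omega) (by omega) _ hm
  rcases Nat.lt_or_ge p 3420 with h17 | h17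
  · exact (Table.relOK_iff chkPaths 3230 190).mp Cfsg.Agent.Lib.Helper3.Cover.LU4C4.rel17 p (by omega) (by omega) _ hm
  rcases Nat.lt_or_ge p 3610 with h18 | h18
  · exact (Table.relOK_iff chkPaths 3420 190).mp Cfsg.Agent.Lib.Helper3.Cover.LU4C4.rel18 p (by omega) (by omega) _ hm
  rcases Nat.lt_or_ge p 3800 with h19 | h19
  · exact (Table.relOK_iff chkPaths 3610 190).mp Cfsg.Agent.Lib.Helper3.Cover.LU4C4.rel19 p (by omega) (by omega) _ hm
  rcases Nat.lt_or_ge p 3990 with h20 | h20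
  · exact (Table.relOK_iff chkPaths 3800 190).mp Cfsg.Agent.Lib.Helper3.Cover.LU4C5.rel20 p (by omega) (by omega) _ hm
  rcases Nat.lt_or_ge p 4180 with h21 | h21
  · exact (Table.relOK_iff chkPaths 3990 190).mp Cfsg.Agent.Lib.Helper3.Cover.LU4C5.rel21 p (by omega) (by omega) _ hm
  rcases Nat.lt_or_ge p 4370 with h22 | h22
  · exact (Table.relOK_iff chkPaths 4180 190).mp Cfsg.Agent.Lib.Helper3.Cover.LU4C5.rel22 p (by omega) (by omega) _ hm
  rcases Nat.lt_or_ge p 4560 with h23 | h23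
  · exact (Table.relOK_iff chkPaths 4370 190).mp Cfsg.Agent.Lib.Helper3.Cover.LU4C5.rel23 p (by omega) (by omega) _ hm
  rcases Nat.lt_or_ge p 4750 with h24 | h24
  · exact (Table.relOK_iff chkPaths 4560 190).mp Cfsg.Agent.Lib.Helper3.Cover.LU4C5.rel24 p (by omega) (by omega) _ hm
  rcases Nat.lt_or_ge p 4940 with h25 | h25
  · exact (Table.relOK_iff chkPaths 4750 190).mp Cfsg.Agent.Lib.Helper3.Cover.LU4C6.rel25 p (by omega) (by omega) _ hm
  rcases Nat.lt_or_ge p 5130 with h26 | h26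
  · exact (Table.relOK_iff chkPaths 4940 190).mp Cfsg.Agent.Lib.Helper3.Cover.LU4C6.rel26 p (by omega) (by omega) _ hm
  rcases Nat.lt_or_ge p 5320 with h27 | h27
  · exact (Table.relOK_iff chkPaths 5130 190).mp Cfsg.Agent.Lib.Helper3.Cover.LU4C6.rel27 p (by omega) (by omega) _ hm
  rcases Nat.lt_or_ge p 5510 with h28 | h28
  · exact (Table.relOK_iff chkPaths 5320 190).mp Cfsg.Agent.Lib.Helper3.Cover.LU4C6.rel28 p (by omega) (by omega) _ hm
  rcases Nat.lt_or_ge p 5700 with h29 | h29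
  · exact (Table.relOK_iff chkPaths 5510 190).mp Cfsg.Agent.Lib.Helper3.Cover.LU4C6.rel29 p (by omega) (by omega) _ hm
  rcases Nat.lt_or_ge p 5890 with h30 | h30
  · exact (Table.relOK_iff chkPaths 5700 190).mp Cfsg.Agent.Lib.Helper3.Cover.LU4C7.rel30 p (by omega) (by omega) _ hm
  rcases Nat.lt_or_ge p 6080 with h31 | h31
  · exact (Table.relOK_iff chkPaths 5890 190).mp Cfsg.Agent.Lib.Helper3.Cover.LU4C7.rel31 p (by omega) (by omega) _ hm
  rcases Nat.lt_or_ge p 6270 with h32 | h32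
  · exact (Table.relOK_iff chkPaths 6080 190).mp Cfsg.Agent.Lib.Helper3.Cover.LU4C7.rel32 p (by omega) (by omega) _ hm
  rcases Nat.lt_or_ge p 6460 with h33 | h33
  · exact (Table.relOK_iff chkPaths 6270 190).mp Cfsg.Agent.Lib.Helper3.Cover.LU4C7.rel33 p (by omega) (by omega) _ hm
  rcases Nat.lt_or_ge p 6650 with h34 | h34
  · exact (Table.relOK_iff chkPaths 6460 190).mp Cfsg.Agent.Lib.Helper3.Cover.LU4C7.rel34 p (by omega) (by omega) _ hm
  rcases Nat.lt_or_ge p 6840 with h35 | h35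
  · exact (Table.relOK_iff chkPaths 6650 190).mp Cfsg.Agent.Lib.Helper3.Cover.LU4C8.rel35 p (by omega) (by omega) _ hm
  rcases Nat.lt_or_ge p 7030 with h36 | h36
  · exact (Table.relOK_iff chkPaths 6840 190).mp Cfsg.Agent.Lib.Helper3.Cover.LU4C8.rel36 p (by omega) (by omega) _ hm
  rcases Nat.lt_or_ge p 7220 with h37 | h37
  · exact (Table.relOK_iff chkPaths 7030 190).mp Cfsg.Agent.Lib.Helper3.Cover.LU4C8.rel37 p (by omega) (by omega) _ hm
  rcases Nat.lt_or_ge p 7410 with h38 | h38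
  · exact (Table.relOK_iff chkPaths 7220 190).mp Cfsg.Agent.Lib.Helper3.Cover.LU4C8.rel38 p (by omega) (by omega) _ hm
  rcases Nat.lt_or_ge p 7600 with h39 | h39
  · exact (Table.relOK_iff chkPaths 7410 190).mp Cfsg.Agent.Lib.Helper3.Cover.LU4C8.rel39 p (by omega) (by omega) _ hm
  rcases Nat.lt_or_ge p 7790 with h40 | h40
  · exact (Table.relOK_iff chkPaths 7600 190).mp Cfsg.Agent.Lib.Helper3.Cover.LU4C9.rel40 p (by omega) (by omega) _ hm
  rcases Nat.lt_or_ge p 7980 with h41 | h41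
  · exact (Table.relOK_iff chkPaths 7790 190).mp Cfsg.Agent.Lib.Helper3.Cover.LU4C9.rel41 p (by omega) (by omega) _ hm
  rcases Nat.lt_or_ge p 8170 with h42 | h42
  · exact (Table.relOK_iff chkPaths 7980 190).mp Cfsg.Agent.Lib.Helper3.Cover.LU4C9.rel42 p (by omega) (by omega) _ hm
  rcases Nat.lt_or_ge p 8360 with h43 | h43
  · exact (Table.relOK_iff chkPaths 8170 190).mp Cfsg.Agent.Lib.Helper3.Cover.LU4C9.rel43 p (by omega) (by omega) _ hm
  rcases Nat.lt_or_ge p 8550 with h44 | h44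
  · exact (Table.relOK_iff chkPaths 8360 190).mp Cfsg.Agent.Lib.Helper3.Cover.LU4C9.rel44 p (by omega) (by omega) _ hm
  rcases Nat.lt_or_ge p 8740 with h45 | h45
  · exact (Table.relOK_iff chkPaths 8550 190).mp Cfsg.Agent.Lib.Helper3.Cover.LU4C10.rel45 p (by omega) (by omega) _ hm
  rcases Nat.lt_or_ge p 8930 with h46 | h46
  · exact (Table.relOK_iff chkPaths 8740 190).mp Cfsg.Agent.Lib.Helper3.Cover.LU4C10.rel46 p (by omega) (by omega) _ hm
  rcases Nat.lt_or_ge p 9120 with h47 | h47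
  · exact (Table.relOK_iff chkPaths 8930 190).mp Cfsg.Agent.Lib.Helper3.Cover.LU4C10.rel47 p (by omega) (by omega) _ hm
  rcases Nat.lt_or_ge p 9310 with h48 | h48
  · exact (Table.relOK_iff chkPaths 9120 190).mp Cfsg.Agent.Lib.Helper3.Cover.LU4C10.rel48 p (by omega) (by omega) _ hm
  rcases Nat.lt_or_ge p 9500 with h49 | h49
  · exact (Table.relOK_iff chkPaths 9310 190).mp Cfsg.Agent.Lib.Helper3.Cover.LU4C10.rel49 p (by omega) (by omega) _ hm
  rcases Nat.lt_or_ge p 9690 with h50 | h50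
  · exact (Table.relOK_iff chkPaths 9500 190).mp Cfsg.Agent.Lib.Helper3.Cover.LU4C11.rel50 p (by omega) (by omega) _ hm
  rcases Nat.lt_or_ge p 9880 with h51 | h51
  · exact (Table.relOK_iff chkPaths 9690 190).mp Cfsg.Agent.Lib.Helper3.Cover.LU4C11.rel51 p (by omega) (by omega) _ hm
  rcases Nat.lt_or_ge p 10070 with h52 | h52
  · exact (Table.relOK_iff chkPaths 9880 190).mp Cfsg.Agent.Lib.Helper3.Cover.LU4C11.rel52 p (by omega) (by omega) _ hm
  rcases Nat.lt_or_ge p 10260 with h53 | h53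
  · exact (Table.relOK_iff chkPaths 10070 190).mp Cfsg.Agent.Lib.Helper3.Cover.LU4C11.rel53 p (by omega) (by omega) _ hm
  rcases Nat.lt_or_ge p 10450 with h54 | h54
  · exact (Table.relOK_iff chkPaths 10260 190).mp Cfsg.Agent.Lib.Helper3.Cover.LU4C11.rel54 p (by omega) (by omega) _ hm
  rcases Nat.lt_or_ge p 10640 with h55 | h55
  · exact (Table.relOK_iff chkPaths 10450 190).mp Cfsg.Agent.Lib.Helper3.Cover.LU4C12.rel55 p (by omega) (by omega) _ hm
  rcases Nat.lt_or_ge p 10830 with h56 | h56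
  · exact (Table.relOK_iff chkPaths 10640 190).mp Cfsg.Agent.Lib.Helper3.Cover.LU4C12.rel56 p (by omega) (by omega) _ hm
  rcases Nat.lt_or_ge p 11020 with h57 | h57
  · exact (Table.relOK_iff chkPaths 10830 190).mp Cfsg.Agent.Lib.Helper3.Cover.LU4C12.rel57 p (by omega) (by omega) _ hm
  rcases Nat.lt_or_ge p 11210 with h58 | h58
  · exact (Table.relOK_iff chkPaths 11020 190).mp Cfsg.Agent.Lib.Helper3.Cover.LU4C12.rel58 p (by omega) (by omega) _ hm
  rcases Nat.lt_or_ge p 11400 with h59 | h59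
  · exact (Table.relOK_iff chkPaths 11210 190).mp Cfsg.Agent.Lib.Helper3.Cover.LU4C12.rel59 p (by omega) (by omega) _ hm
  rcases Nat.lt_or_ge p 11590 with h60 | h60
  · exact (Table.relOK_iff chkPaths 11400 190).mp Cfsg.Agent.Lib.Helper3.Cover.LU4C13.rel60 p (by omega) (by omega) _ hm
  rcases Nat.lt_or_ge p 11780 with h61 | h61
  · exact (Table.relOK_iff chkPaths 11590 190).mp Cfsg.Agent.Lib.Helper3.Cover.LU4C13.rel61 p (by omega) (by omega) _ hm
  rcases Nat.lt_or_ge p 11970 with h62 | h62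
  · exact (Table.relOK_iff chkPaths 11780 190).mp Cfsg.Agent.Lib.Helper3.Cover.LU4C13.rel62 p (by omega) (by omega) _ hm
  rcases Nat.lt_or_ge p 12160 with h63 | h63
  · exact (Table.relOK_iff chkPaths 11970 190).mp Cfsg.Agent.Lib.Helper3.Cover.LU4C13.rel63 p (by omega) (by omega) _ hm
  rcases Nat.lt_or_ge p 12350 with h64 | h64
  · exact (Table.relOK_iff chkPaths 12160 190).mp Cfsg.Agent.Lib.Helper3.Cover.LU4C13.rel64 p (by omega) (by omega) _ hm
  rcases Nat.lt_or_ge p 12540 with h65 | h65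
  · exact (Table.relOK_iff chkPaths 12350 190).mp Cfsg.Agent.Lib.Helper3.Cover.LU4C14.rel65 p (by omega) (by omega) _ hm
  rcases Nat.lt_or_ge p 12730 with h66 | h66
  · exact (Table.relOK_iff chkPaths 12540 190).mp Cfsg.Agent.Lib.Helper3.Cover.LU4C14.rel66 p (by omega) (by omega) _ hm
  rcases Nat.lt_or_ge p 12920 with h67 | h67
  · exact (Table.relOK_iff chkPaths 12730 190).mp Cfsg.Agent.Lib.Helper3.Cover.LU4C14.rel67 p (by omega) (by omega) _ hm
  rcases Nat.lt_or_ge p 13110 with h68 | h68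
  · exact (Table.relOK_iff chkPaths 12920 190).mp Cfsg.Agent.Lib.Helper3.Cover.LU4C14.rel68 p (by omega) (by omega) _ hm
  rcases Nat.lt_or_ge p 13300 with h69 | h69
  · exact (Table.relOK_iff chkPaths 13110 190).mp Cfsg.Agent.Lib.Helper3.Cover.LU4C14.rel69 p (by omega) (by omega) _ hm
  rcases Nat.lt_or_ge p 13490 with h70 | h70
  · exact (Table.relOK_iff chkPaths 13300 190).mp Cfsg.Agent.Lib.Helper3.Cover.LU4C15.rel70 p (by omega) (by omega) _ hm
  rcases Nat.lt_or_ge p 13680 with h71 | h71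
  · exact (Table.relOK_iff chkPaths 13490 190).mp Cfsg.Agent.Lib.Helper3.Cover.LU4C15.rel71 p (by omega) (by omega) _ hm
  rcases Nat.lt_or_ge p 13870 with h72 | h72
  · exact (Table.relOK_iff chkPaths 13680 190).mp Cfsg.Agent.Lib.Helper3.Cover.LU4C15.rel72 p (by omega) (by omega) _ hm
  rcases Nat.lt_or_ge p 14060 with h73 | h73
  · exact (Table.relOK_iff chkPaths 13870 190).mp Cfsg.Agent.Lib.Helper3.Cover.LU4C15.rel73 p (by omega) (by omega) _ hm
  rcases Nat.lt_or_ge p 14250 with h74 | h74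
  · exact (Table.relOK_iff chkPaths 14060 190).mp Cfsg.Agent.Lib.Helper3.Cover.LU4C15.rel74 p (by omega) (by omega) _ hm
  rcases Nat.lt_or_ge p 14440 with h75 | h75
  · exact (Table.relOK_iff chkPaths 14250 190).mp Cfsg.Agent.Lib.Helper3.Cover.LU4C16.rel75 p (by omega) (by omega) _ hm
  rcases Nat.lt_or_ge p 14630 with h76 | h76
  · exact (Table.relOK_iff chkPaths 14440 190).mp Cfsg.Agent.Lib.Helper3.Cover.LU4C16.rel76 p (by omega) (by omega) _ hm
  rcases Nat.lt_or_ge p 14820 with h77 | h77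
  · exact (Table.relOK_iff chkPaths 14630 190).mp Cfsg.Agent.Lib.Helper3.Cover.LU4C16.rel77 p (by omega) (by omega) _ hm
  rcases Nat.lt_or_ge p 15010 with h78 | h78
  · exact (Table.relOK_iff chkPaths 14820 190).mp Cfsg.Agent.Lib.Helper3.Cover.LU4C16.rel78 p (by omega) (by omega) _ hm
  rcases Nat.lt_or_ge p 15200 with h79 | h79
  · exact (Table.relOK_iff chkPaths 15010 190).mp Cfsg.Agent.Lib.Helper3.Cover.LU4C16.rel79 p (by omega) (by omega) _ hm
  rcases Nat.lt_or_ge p 15390 with h80 | h80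
  · exact (Table.relOK_iff chkPaths 15200 190).mp Cfsg.Agent.Lib.Helper3.Cover.LU4C17.rel80 p (by omega) (by omega) _ hm
  rcases Nat.lt_or_ge p 15580 with h81 | h81
  · exact (Table.relOK_iff chkPaths 15390 190).mp Cfsg.Agent.Lib.Helper3.Cover.LU4C17.rel81 p (by omega) (by omega) _ hm
  rcases Nat.lt_or_ge p 15770 with h82 | h82
  · exact (Table.relOK_iff chkPaths 15580 190).mp Cfsg.Agent.Lib.Helper3.Cover.LU4C17.rel82 p (by omega) (by omega) _ hm
  rcases Nat.lt_or_ge p 15960 with h83 | h83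
  · exact (Table.relOK_iff chkPaths 15770 190).mp Cfsg.Agent.Lib.Helper3.Cover.LU4C17.rel83 p (by omega) (by omega) _ hm
  rcases Nat.lt_or_ge p 16150 with h84 | h84
  · exact (Table.relOK_iff chkPaths 15960 190).mp Cfsg.Agent.Lib.Helper3.Cover.LU4C17.rel84 p (by omega) (by omega) _ hm
  rcases Nat.lt_or_ge p 16340 with h85 | h85
  · exact (Table.relOK_iff chkPaths 16150 190).mp Cfsg.Agent.Lib.Helper3.Cover.LU4C18.rel85 p (by omega) (by omega) _ hm
  rcases Nat.lt_or_ge p 16530 with h86 | h86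
  · exact (Table.relOK_iff chkPaths 16340 190).mp Cfsg.Agent.Lib.Helper3.Cover.LU4C18.rel86 p (by omega) (by omega) _ hm
  rcases Nat.lt_or_ge p 16720 with h87 | h87
  · exact (Table.relOK_iff chkPaths 16530 190).mp Cfsg.Agent.Lib.Helper3.Cover.LU4C18.rel87 p (by omega) (by omega) _ hm
  rcases Nat.lt_or_ge p 16910 with h88 | h88
  · exact (Table.relOK_iff chkPaths 16720 190).mp Cfsg.Agent.Lib.Helper3.Cover.LU4C18.rel88 p (by omega) (by omega) _ hm
  rcases Nat.lt_or_ge p 17100 with h89 | h89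
  · exact (Table.relOK_iff chkPaths 16910 190).mp Cfsg.Agent.Lib.Helper3.Cover.LU4C18.rel89 p (by omega) (by omega) _ hm
  rcases Nat.lt_or_ge p 17290 with h90 | h90
  · exact (Table.relOK_iff chkPaths 17100 190).mp Cfsg.Agent.Lib.Helper3.Cover.LU4C19.rel90 p (by omega) (by omega) _ hm
  rcases Nat.lt_or_ge p 17480 with h91 | h91
  · exact (Table.relOK_iff chkPaths 17290 190).mp Cfsg.Agent.Lib.Helper3.Cover.LU4C19.rel91 p (by omega) (by omega) _ hm
  rcases Nat.lt_or_ge p 17670 with h92 | h92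
  · exact (Table.relOK_iff chkPaths 17480 190).mp Cfsg.Agent.Lib.Helper3.Cover.LU4C19.rel92 p (by omega) (by omega) _ hm
  rcases Nat.lt_or_ge p 17860 with h93 | h93
  · exact (Table.relOK_iff chkPaths 17670 190).mp Cfsg.Agent.Lib.Helper3.Cover.LU4C19.rel93 p (by omega) (by omega) _ hm
  rcases Nat.lt_or_ge p 18050 with h94 | h94
  · exact (Table.relOK_iff chkPaths 17860 190).mp Cfsg.Agent.Lib.Helper3.Cover.LU4C19.rel94 p (by omega) (by omega) _ hm
  rcases Nat.lt_or_ge p 18240 with h95 | h95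
  · exact (Table.relOK_iff chkPaths 18050 190).mp Cfsg.Agent.Lib.Helper3.Cover.LU4C20.rel95 p (by omega) (by omega) _ hm
  rcases Nat.lt_or_ge p 18430 with h96 | h96
  · exact (Table.relOK_iff chkPaths 18240 190).mp Cfsg.Agent.Lib.Helper3.Cover.LU4C20.rel96 p (by omega) (by omega) _ hm
  rcases Nat.lt_or_ge p 18620 with h97 | h97
  · exact (Table.relOK_iff chkPaths 18430 190).mp Cfsg.Agent.Lib.Helper3.Cover.LU4C20.rel97 p (by omega) (by omega) _ hm
  rcases Nat.lt_or_ge p 18810 with h98 | h98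
  · exact (Table.relOK_iff chkPaths 18620 190).mp Cfsg.Agent.Lib.Helper3.Cover.LU4C20.rel98 p (by omega) (by omega) _ hm
  rcases Nat.lt_or_ge p 19000 with h99 | h99
  · exact (Table.relOK_iff chkPaths 18810 190).mp Cfsg.Agent.Lib.Helper3.Cover.LU4C20.rel99 p (by omega) (by omega) _ hm
  rcases Nat.lt_or_ge p 19190 with h100 | h100
  · exact (Table.relOK_iff chkPaths 19000 190).mp Cfsg.Agent.Lib.Helper3.Cover.LU4C21.rel100 p (by omega) (by omega) _ hm
  rcases Nat.lt_or_ge p 19380 with h101 | h101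
  · exact (Table.relOK_iff chkPaths 19190 190).mp Cfsg.Agent.Lib.Helper3.Cover.LU4C21.rel101 p (by omega) (by omega) _ hm
  exact (Table.relOK_iff chkPaths 19380 60).mp Cfsg.Agent.Lib.Helper3.Cover.LU4C21.rel102 p (by omega) (by omega) _ hm

end Cfsg.Agent.Lib.Helper3.Cover.LU4Low
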