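import Cfsg.Agent.Lib.Helper3.Cover.Finite
import Cfsg.Agent.Lib.Helper3.Cover.CodeHom
import Cfsg.Agent.Lib.Helper3.Cover.Lower
import Cfsg.Agent.Lib.Helper3.Cover.Univ
import Cfsg.Agent.Lib.Helper3.Cover.AbelianTri
import Cfsg.Agent.Lib.Helper3.Cover.Sp6Main
import Cfsg.Agent.Lib.Helper3.Cover.EU4Main
import Cfsg.Agent.Lib.Helper3.Cover.LU4Low
import Cfsg.Agent.Lib.Helper3.Cover.U43Iso
import Cfsg.Agent.Lib.Helper19.SUCongr
import Cfsg.Agent.Lib.Helper28.TC2Tower

set_option autoImplicit false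
set_option maxRecDepth 100000

/-!
# The Schur multiplier of `PSU₄(3)` is `Z/4 × Z/3 × Z/3`

`PU4 = ⟨a, b, c | …⟩ ≅ PSU₄(3)` with `⟨a, b⟩ ≅ U₃(3)` of index 540; the covering presentation `EU4` has order at most
`19440 * 6048` (the subgroup `⟨a, b⟩` is a quotient of the covering presentation `EU3` of `U₃(3)`, of order 6048), so
the kernel has order at most 36; the permutation representation of degree 19440 of the covering group separates 36
elements of the kernel.
-/

namespace Cfsg.Agent.Lib.Helper3.Cover.U43Main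

open Cfsg Cfsg.Agent.Lib.Helper3 Cfsg.Agent.Lib.Helper3.Cover.Sp6Iso Cfsg.Agent.Lib.Helper3.Cover.U43Iso
open Cfsg.Agent.Lib.Helper28.TC2Upper Cfsg.Agent.Lib.Helper28.TC2Lower Cfsg.Agent.Lib.Helper28.TC2Glue
open Cfsg.Agent.Lib.Helper28.TC2Tower

/-! ### the order of the covering group -/

theorem upE : ∀ L ∈ EU3Def.relWords, upWord up L ∈ EU4Def.relWords := by decide +kernel

theorem hSEU4 : ∀ s ∈ EU4Link.S, ∃ b, s = FreeGroup.of (up b) := by
  intro s hs
  simp only [EU4Link.S, Set.mem_insert_iff, Set.mem_singleton_iff] at hs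
  rcases hs with rfl | rfl
  exacts [⟨.a, rfl⟩, ⟨.b, rfl⟩]

theorem cardEU4' : Finite (PresentedGroup EU4Link.rels) ∧ Nat.card (PresentedGroup EU4Link.rels) ≤ 117573120 := by
  haveI : Finite (PresentedGroup EU3Link.rels) := Sp6Main.cardEU3.1
  have hrel := hrel_of_words EU4Link.rels EU3Link.rels up EU4Link.relWords EU3Link.relWords
    EU4Link.link.hrels EU3Link.link.hrels upE
  obtain ⟨hfin, hle⟩ := card_le_of_subpres EU4Link.rels EU3Link.rels up hrel EU4Link.S hSEU4
  have hidx : ((Subgroup.closure EU4Link.S).map (PresentedGroup.mk EU4Link.rels)).index = 19440 := EU4Main.main.1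
  have := hfin
  refine ⟨finite_of_index _ (by rw [hidx]; norm_num), ?_⟩
  exact card_le_of_index _ hidx (le_trans hle (le_of_eq Sp6Main.cardEU3.2))

theorem cardEU4 : Finite DU4.E ∧ Nat.card DU4.E ≤ 117573120 := cardEU4'

theorem card_ker_le : Nat.card DU4.proj.ker ≤ 4 * 3 * 3 := by
  haveI := cardEU4.1
  have h1 := DU4.card_E
  rw [cardPU4.2] at h1
  have h2 := cardEU4.2
  rw [h1] at h2
  have h5 : Nat.card ↥DU4.proj.ker * 3265920 ≤ 36 * 3265920 := h2
  exact Nat.le_of_mul_le_mul_right h5 (by norm_num)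

/-! ### the permutation representation -/

/-- the ninth relator -/
def r8 : List (EU4Def.Gen × Bool) := EU4Def.R.getD 8 []
/-- the tenth relator -/
def r9 : List (EU4Def.Gen × Bool) := EU4Def.R.getD 9 []

theorem r8_mem : r8 ∈ EU4Def.R := by decide +kernel
theorem r9_mem : r9 ∈ EU4Def.R := by decide +kernel

/-- an element of order 4 of the kernel -/
def za : List (EU4Def.Gen × Bool) := (List.replicate 3 r8).flatten
/-- an element of order 3 of the kernel -/
def zb : List (EU4Def.Gen × Bool) := (List.replicate 4 r8).flatten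
/-- an element of order 3 of the kernel -/
def zc : List (EU4Def.Gen × Bool) := (List.replicate 2 r9).flatten

/-- the word of the element number `n` of the kernel -/
def wordN (n : ℕ) : List (EU4Def.Gen × Bool) :=
  ((List.replicate (n / 9) za).flatten ++ (List.replicate (n / 3 % 3) zb).flatten) ++
    (List.replicate (n % 3) zc).flatten

/-- the image of the first point under the element number `n` -/
noncomputable def keyN (n : ℕ) : ℕ := LU4Table.table.walkT (pathOf EU4Link.lw (wordN n)) 0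

def keysLit : List ℕ := [0, 1092, 1107, 19404, 19132, 18848, 19376, 18870, 19074, 5302, 17996, 18648, 13945, 19351, 19324, 11564, 19411, 19397, 5, 776, 800, 19420, 19260, 19194, 19415, 19201, 19241, 5290, 18001, 18649, 12677, 19388, 19368, 13368, 19350, 19296]

theorem keys_eq : (List.range 36).map keyN = keysLit := by decide +kernel
theorem keys_nodup : keysLit.Nodup := by decide +kernel

theorem keyN_inj {m n : ℕ} (hm : m < 36) (hn : n < 36) (h : keyN m = keyN n) : m = n := by
  have h1 : ((List.range 36).map keyN).Nodup := by rw [keys_eq]; exact keys_nodup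
  have h2 := List.inj_on_of_nodup_map h1 (List.mem_range.mpr hm) (List.mem_range.mpr hn) h
  exact h2

theorem lwkU : ∀ xb, EU4Link.lw xb < LU4Table.table.k := by
  rintro ⟨x, b⟩; cases x <;> cases b <;> decide
theorem lwinvU : ∀ x, EU4Link.lw (x, false) = LU4Table.table.invl (EU4Link.lw (x, true)) := by
  intro x; cases x <;> decide +kernel

theorem hmemU : ∀ L ∈ EU4Def.relWords, pathOf EU4Link.lw L ∈ LU4Table.chkPaths := by decide +kernel

theorem hpowU : pathOf EU4Link.lw (List.replicate 4 za).flatten ∈ LU4Table.chkPaths ∧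
    pathOf EU4Link.lw (List.replicate 3 zb).flatten ∈ LU4Table.chkPaths ∧
    pathOf EU4Link.lw (List.replicate 3 zc).flatten ∈ LU4Table.chkPaths := by decide +kernel

/-! ### the kernel -/

/-- the element of the covering group given by a word -/
noncomputable abbrev emk (L : List (EU4Def.Gen × Bool)) : DU4.E :=
  PresentedGroup.mk DU4.relsE (FreeGroup.mk L)

theorem mk_mem_ker (L : List (EU4Def.Gen × Bool)) (hL : L ∈ EU4Def.R) : emk L ∈ DU4.proj.ker := by
  rw [MonoidHom.mem_ker, DU4.proj_mk]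
  exact PresentedGroup.one_of_mem ⟨L, hL, rfl⟩

theorem za_mem_ker : emk za ∈ DU4.proj.ker := by
  have h : emk za = emk r8 ^ 3 := by
    unfold emk za
    rw [mk_flatten_replicate, map_pow]
  rw [h]
  exact Subgroup.pow_mem _ (mk_mem_ker _ r8_mem) 3

theorem zb_mem_ker : emk zb ∈ DU4.proj.ker := by
  have h : emk zb = emk r8 ^ 4 := by
    unfold emk zb
    rw [mk_flatten_replicate, map_pow]
  rw [h]
  exact Subgroup.pow_mem _ (mk_mem_ker _ r8_mem) 4

theorem zc_mem_ker : emk zc ∈ DU4.proj.ker := by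
  have h : emk zc = emk r9 ^ 2 := by
    unfold emk zc
    rw [mk_flatten_replicate, map_pow]
  rw [h]
  exact Subgroup.pow_mem _ (mk_mem_ker _ r9_mem) 2

theorem emk_wordN (n : ℕ) :
    emk (wordN n) = emk za ^ (n / 9) * emk zb ^ (n / 3 % 3) * emk zc ^ (n % 3) := by
  unfold emk wordN
  rw [← FreeGroup.mul_mk, ← FreeGroup.mul_mk, mk_flatten_replicate, mk_flatten_replicate,
    mk_flatten_replicate, map_mul, map_mul, map_pow, map_pow, map_pow]

/-- the number of a triple -/
def code (s : ZMod 4 × ZMod 3 × ZMod 3) : ℕ := 9 * s.1.val + 3 * s.2.1.val + s.2.2.val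

theorem code_spec (s : ZMod 4 × ZMod 3 × ZMod 3) :
    code s < 36 ∧ code s / 9 = s.1.val ∧ code s / 3 % 3 = s.2.1.val ∧ code s % 3 = s.2.2.val := by
  have h1 := ZMod.val_lt s.1
  have h2 := ZMod.val_lt s.2.1
  have h3 := ZMod.val_lt s.2.2
  unfold code
  omega

theorem code_inj {s t : ZMod 4 × ZMod 3 × ZMod 3} (h : code s = code t) : s = t := by
  obtain ⟨-, a1, a2, a3⟩ := code_spec s
  obtain ⟨-, b1, b2, b3⟩ := code_spec t
  rw [h] at a1 a2 a3
  exact Prod.ext (ZMod.val_injective 4 (a1.symm.trans b1))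
    (Prod.ext (ZMod.val_injective 3 (a2.symm.trans b2)) (ZMod.val_injective 3 (a3.symm.trans b3)))

/-- the kernel of the covering group is `Z/4 × Z/3 × Z/3` -/
theorem ker_iso : Nonempty (↥DU4.proj.ker ≃* Multiplicative (ZMod 4 × ZMod 3 × ZMod 3)) := by
  haveI := cardEU4.1
  obtain ⟨φ1, hφ1⟩ := lower_hom EU4Def.relWords EU4Link.lw LU4Table.table LU4Low.hT lwkU lwinvU
    (fun L hL => LU4Low.hchkT _ (hmemU L hL))
  have hcomm : ∀ a b : ↥DU4.proj.ker, a * b = b * a := fun a b =>
    Subtype.ext (Subgroup.mem_center_iff.mp (DU4.ker_proj_le_center b.2) a.1)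
  have hval : ∀ s : ZMod 4 × ZMod 3 × ZMod 3,
      (((⟨emk za, za_mem_ker⟩ : ↥DU4.proj.ker) ^ s.1.val * (⟨emk zb, zb_mem_ker⟩ : ↥DU4.proj.ker) ^ s.2.1.val *
        (⟨emk zc, zc_mem_ker⟩ : ↥DU4.proj.ker) ^ s.2.2.val : ↥DU4.proj.ker) : DU4.E) = emk (wordN (code s)) := by
    intro s
    obtain ⟨-, a1, a2, a3⟩ := code_spec s
    rw [emk_wordN, a1, a2, a3]
    rfl
  refine isoTri hcomm card_ker_le (φ1.comp DU4.proj.ker.subtype)
    ⟨emk za, za_mem_ker⟩ ⟨emk zb, zb_mem_ker⟩ ⟨emk zc, zc_mem_ker⟩ ?_ ?_ ?_ ?_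
  · intro s t h
    simp only [MonoidHom.comp_apply, Subgroup.coe_subtype] at h
    rw [hval s, hval t] at h
    apply code_inj
    apply keyN_inj (code_spec s).1 (code_spec t).1
    unfold keyN
    have e1 := congrArg (fun σ => (σ (⟨0, by decide⟩ : Fin LU4Table.table.n)).val) h
    simp only [hφ1] at e1
    exact e1
  · show φ1 (emk za) ^ 4 = 1
    rw [← map_pow, ← map_pow, ← mk_flatten_replicate]
    exact eq_one_of_walk φ1 hφ1 _ (LU4Low.hchkT _ hpowU.1)
  · show φ1 (emk zb) ^ 3 = 1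
    rw [← map_pow, ← map_pow, ← mk_flatten_replicate]
    exact eq_one_of_walk φ1 hφ1 _ (LU4Low.hchkT _ hpowU.2.1)
  · show φ1 (emk zc) ^ 3 = 1
    rw [← map_pow, ← map_pow, ← mk_flatten_replicate]
    exact eq_one_of_walk φ1 hφ1 _ (LU4Low.hchkT _ hpowU.2.2)

/-- the Schur multiplier of `PSU₄(3)` over the model field -/
theorem schur_K9 : Cfsg.HasSchurMultiplier (PSU 4 Cfsg.Agent.Lib.Helper19.PSU33Spec.K9 3)
    (Multiplicative (ZMod 4 × ZMod 3 × ZMod 3)) := by
  haveI := cardEU4.1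
  obtain ⟨φ⟩ := iso_PSU
  obtain ⟨ψ⟩ := ker_iso
  exact DU4.hasSchurMultiplier φ ψ

/-- the Schur multiplier of `PSU₄(3)` is `Z/4 × Z/3 × Z/3` -/
theorem schur_PSU43 {F : Type*} [Field F] [Fintype F] (hF : Fintype.card F = 9) :
    Cfsg.HasSchurMultiplier (PSU 4 F 3) (Multiplicative (ZMod 4 × ZMod 3 × ZMod 3)) :=
  hasSchurMultiplier_transport
    (Cfsg.Agent.Lib.Helper19.SUCongr.psuCongr (Cfsg.Agent.Lib.Helper19.PSU33Spec.phi hF)) schur_K9

end Cfsg.Agent.Lib.Helper3.Cover.U43Main
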