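import Cfsg.Agent.Lib.Helper3.Cover.EU6Def
set_option autoImplicit false

namespace Cfsg.Agent.Lib.Helper3.Cover.QU6Def

open Cfsg.Agent.Lib.Helper3.Cover.EU6Def

/-- the relators of a group in which the relators of `PSU₄(3)` hold, some relators of `PSU₆(2)` hold, and the others
are central; the words are written backwards -/
def relWords : List (List (Gen × Bool)) := [
  [(.a, true), (.a, true)],
  [(.b, true), (.b, true), (.b, true), (.b, true), (.b, true), (.b, true)],
  [(.b, true), (.a, true), (.b, true), (.a, true), (.b, true), (.a, true), (.b, true), (.a, true), (.b, true), (.a, true), (.b, true), (.a, true), (.b, true), (.a, true)],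
  [(.a, true), (.b, true), (.b, true), (.a, true), (.b, true), (.b, true), (.a, true), (.b, true), (.b, true), (.a, true), (.b, false), (.b, false), (.a, true), (.b, false), (.b, false), (.a, true), (.b, false), (.b, false)],
  [(.a, true), (.b, true), (.a, true), (.b, false), (.a, true), (.b, false), (.a, true), (.b, true), (.a, true), (.b, false), (.b, false), (.a, true), (.b, true), (.a, true), (.b, false), (.b, false), (.a, true), (.b, true), (.a, true), (.b, false), (.b, false)],
  [(.c, true), (.c, true)],
  [(.a, true), (.c, true), (.b, true), (.b, true), (.c, true), (.a, true), (.b, false), (.b, false)],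
  [(.c, true), (.a, true), (.b, true), (.a, true), (.b, true), (.c, true), (.a, true), (.b, false), (.a, true), (.b, true), (.c, true), (.a, true), (.b, false), (.a, true), (.b, false)],
  [(.a, true), (.c, true), (.b, true), (.c, true), (.b, false), (.c, true), (.b, false), (.c, true), (.b, false), (.c, true), (.b, false), (.c, true), (.b, false), (.c, true), (.b, false), (.a, true), (.b, false), (.b, false)],
  [(.a, true), (.b, true), (.b, true), (.a, true), (.b, false), (.b, false), (.c, true), (.b, true), (.c, true), (.a, true), (.b, true), (.c, true), (.a, true), (.b, false), (.c, true), (.a, true), (.b, true), (.a, true), (.b, false), (.b, false)],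
  [(.a, false), (.t, false), (.a, true), (.t, true)],
  [(.c, false), (.b, true), (.c, false), (.a, false), (.c, false), (.b, true), (.a, false), (.b, false), (.a, false), (.b, false), (.a, false), (.b, false), (.b, false), (.b, false), (.c, false), (.t, false), (.b, true), (.t, true)],
  [(.c, false), (.t, false), (.c, true), (.t, true)],
  [(.b, true), (.b, true), (.c, false), (.b, false), (.b, false), (.d, false), (.b, true), (.b, true), (.c, true), (.b, false), (.b, false), (.d, true)],
  [(.b, false), (.c, false), (.b, true), (.a, false), (.b, true), (.c, false), (.b, true), (.c, false), (.b, true), (.a, false), (.c, false), (.d, false), (.c, true), (.a, true), (.b, false), (.c, true), (.b, false), (.c, true), (.b, false), (.a, true), (.b, false), (.c, true), (.b, true), (.d, true)],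
  [(.d, false), (.t, false), (.t, false), (.d, true), (.t, true), (.t, true)],
  [(.a, false), (.d, false), (.d, false), (.a, true), (.d, true), (.d, true)],
  [(.b, false), (.d, false), (.d, false), (.b, true), (.d, true), (.d, true)],
  [(.c, false), (.d, false), (.d, false), (.c, true), (.d, true), (.d, true)],
  [(.t, false), (.d, false), (.d, false), (.t, true), (.d, true), (.d, true)],
  [(.d, true), (.t, true), (.d, true), (.t, true), (.d, true), (.t, true)],
  [(.d, true), (.d, true), (.t, true), (.t, true)],
  [(.d, false), (.d, false), (.d, false), (.d, false), (.c, true), (.b, false), (.c, true), (.b, false), (.a, true), (.b, true), (.d, true), (.a, true), (.c, true), (.d, true), (.c, true), (.t, true), (.d, true), (.a, true), (.b, true), (.c, true), (.b, true), (.a, true), (.d, true), (.b, true), (.b, true), (.c, true), (.b, false), (.b, false), (.b, false)],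
  [(.a, false), (.b, true), (.b, true), (.a, false), (.b, false), (.c, false), (.a, false), (.d, false), (.a, false), (.c, false), (.b, true), (.t, false), (.a, false), (.b, false), (.b, false), (.d, false), (.t, false), (.a, true), (.t, true), (.d, true), (.b, true), (.b, true), (.a, true), (.t, true), (.b, false), (.c, true), (.a, true), (.d, true), (.a, true), (.c, true), (.b, true), (.a, true), (.b, false), (.b, false)],
  [(.b, false), (.b, true), (.b, true), (.a, false), (.b, false), (.c, false), (.a, false), (.d, false), (.a, false), (.c, false), (.b, true), (.t, false), (.a, false), (.b, false), (.b, false), (.d, false), (.t, false), (.b, true), (.t, true), (.d, true), (.b, true), (.b, true), (.a, true), (.t, true), (.b, false), (.c, true), (.a, true), (.d, true), (.a, true), (.c, true), (.b, true), (.a, true), (.b, false), (.b, false)],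
  [(.c, false), (.b, true), (.b, true), (.a, false), (.b, false), (.c, false), (.a, false), (.d, false), (.a, false), (.c, false), (.b, true), (.t, false), (.a, false), (.b, false), (.b, false), (.d, false), (.t, false), (.c, true), (.t, true), (.d, true), (.b, true), (.b, true), (.a, true), (.t, true), (.b, false), (.c, true), (.a, true), (.d, true), (.a, true), (.c, true), (.b, true), (.a, true), (.b, false), (.b, false)],
  [(.t, false), (.b, true), (.b, true), (.a, false), (.b, false), (.c, false), (.a, false), (.d, false), (.a, false), (.c, false), (.b, true), (.t, false), (.a, false), (.b, false), (.b, false), (.d, false), (.t, false), (.t, true), (.t, true), (.d, true), (.b, true), (.b, true), (.a, true), (.t, true), (.b, false), (.c, true), (.a, true), (.d, true), (.a, true), (.c, true), (.b, true), (.a, true), (.b, false), (.b, false)],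
  [(.d, false), (.b, true), (.b, true), (.a, false), (.b, false), (.c, false), (.a, false), (.d, false), (.a, false), (.c, false), (.b, true), (.t, false), (.a, false), (.b, false), (.b, false), (.d, false), (.t, false), (.d, true), (.t, true), (.d, true), (.b, true), (.b, true), (.a, true), (.t, true), (.b, false), (.c, true), (.a, true), (.d, true), (.a, true), (.c, true), (.b, true), (.a, true), (.b, false), (.b, false)],
  [(.a, false), (.b, true), (.b, true), (.a, false), (.b, false), (.b, false), (.d, false), (.c, false), (.a, false), (.d, false), (.c, false), (.d, false), (.t, false), (.d, false), (.a, false), (.d, false), (.t, false), (.c, false), (.d, false), (.a, true), (.d, true), (.c, true), (.t, true), (.d, true), (.a, true), (.d, true), (.t, true), (.d, true), (.c, true), (.d, true), (.a, true), (.c, true), (.d, true), (.b, true), (.b, true), (.a, true), (.b, false), (.b, false)],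
  [(.b, false), (.b, true), (.b, true), (.a, false), (.b, false), (.b, false), (.d, false), (.c, false), (.a, false), (.d, false), (.c, false), (.d, false), (.t, false), (.d, false), (.a, false), (.d, false), (.t, false), (.c, false), (.d, false), (.b, true), (.d, true), (.c, true), (.t, true), (.d, true), (.a, true), (.d, true), (.t, true), (.d, true), (.c, true), (.d, true), (.a, true), (.c, true), (.d, true), (.b, true), (.b, true), (.a, true), (.b, false), (.b, false)],
  [(.c, false), (.b, true), (.b, true), (.a, false), (.b, false), (.b, false), (.d, false), (.c, false), (.a, false), (.d, false), (.c, false), (.d, false), (.t, false), (.d, false), (.a, false), (.d, false), (.t, false), (.c, false), (.d, false), (.c, true), (.d, true), (.c, true), (.t, true), (.d, true), (.a, true), (.d, true), (.t, true), (.d, true), (.c, true), (.d, true), (.a, true), (.c, true), (.d, true), (.b, true), (.b, true), (.a, true), (.b, false), (.b, false)],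
  [(.t, false), (.b, true), (.b, true), (.a, false), (.b, false), (.b, false), (.d, false), (.c, false), (.a, false), (.d, false), (.c, false), (.d, false), (.t, false), (.d, false), (.a, false), (.d, false), (.t, false), (.c, false), (.d, false), (.t, true), (.d, true), (.c, true), (.t, true), (.d, true), (.a, true), (.d, true), (.t, true), (.d, true), (.c, true), (.d, true), (.a, true), (.c, true), (.d, true), (.b, true), (.b, true), (.a, true), (.b, false), (.b, false)],
  [(.d, false), (.b, true), (.b, true), (.a, false), (.b, false), (.b, false), (.d, false), (.c, false), (.a, false), (.d, false), (.c, false), (.d, false), (.t, false), (.d, false), (.a, false), (.d, false), (.t, false), (.c, false), (.d, false), (.d, true), (.d, true), (.c, true), (.t, true), (.d, true), (.a, true), (.d, true), (.t, true), (.d, true), (.c, true), (.d, true), (.a, true), (.c, true), (.d, true), (.b, true), (.b, true), (.a, true), (.b, false), (.b, false)],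
  [(.t, true), (.d, true), (.b, true), (.b, true), (.a, true), (.t, true), (.b, false), (.c, true), (.a, true), (.d, true), (.a, true), (.c, true), (.b, true), (.a, true), (.b, false), (.b, false)],
  [(.a, false), (.t, false), (.t, false), (.a, true), (.t, true), (.t, true)],
  [(.b, false), (.t, false), (.t, false), (.b, true), (.t, true), (.t, true)],
  [(.c, false), (.t, false), (.t, false), (.c, true), (.t, true), (.t, true)] ]

end Cfsg.Agent.Lib.Helper3.Cover.QU6Def
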