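import Cfsg.Agent.Lib.Helper28.TC2Range
import Cfsg.Agent.Lib.Helper3.Cover.QU6Data
import Cfsg.Agent.Lib.Helper3.Cover.QU6Table
set_option autoImplicit false
set_option maxRecDepth 100000
set_option maxHeartbeats 0

namespace Cfsg.Agent.Lib.Helper3.Cover.QU6M10
open Cfsg.Agent.Lib.Helper28.TC2Upper Cfsg.Agent.Lib.Helper28.TC2Lower Cfsg.Agent.Lib.Helper28.TC2Range Cfsg.Agent.Lib.Helper3.Cover.QU6Data Cfsg.Agent.Lib.Helper3.Cover.QU6Table

theorem cnt23 : Data.countFrom data 138000 6000 = 0 := by decide +kernel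
theorem cnt24 : Data.countFrom data 144000 6000 = 0 := by decide +kernel
theorem cnt25 : Data.countFrom data 150000 6000 = 0 := by decide +kernel
theorem cnt26 : Data.countFrom data 156000 760 = 0 := by decide +kernel
theorem prm0 : Table.permRange table 0 5632 = true := by decide +kernel

end Cfsg.Agent.Lib.Helper3.Cover.QU6M10
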