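import Cfsg.Agent.Lib.Helper28.TC2Range
import Cfsg.Agent.Lib.Helper3.Cover.QU6Data
import Cfsg.Agent.Lib.Helper3.Cover.QU6Table
set_option autoImplicit false
set_option maxRecDepth 100000
set_option maxHeartbeats 0

namespace Cfsg.Agent.Lib.Helper3.Cover.QU6M8
open Cfsg.Agent.Lib.Helper28.TC2Upper Cfsg.Agent.Lib.Helper28.TC2Lower Cfsg.Agent.Lib.Helper28.TC2Range Cfsg.Agent.Lib.Helper3.Cover.QU6Data Cfsg.Agent.Lib.Helper3.Cover.QU6Table

theorem cnt13 : Data.countFrom data 78000 6000 = 19 := by decide +kernel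
theorem cnt14 : Data.countFrom data 84000 6000 = 2 := by decide +kernel
theorem cnt15 : Data.countFrom data 90000 6000 = 0 := by decide +kernel
theorem cnt16 : Data.countFrom data 96000 6000 = 15 := by decide +kernel
theorem cnt17 : Data.countFrom data 102000 6000 = 5 := by decide +kernel

end Cfsg.Agent.Lib.Helper3.Cover.QU6M8
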