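import Cfsg.Agent.Lib.Helper28.TC2Range
import Cfsg.Agent.Lib.Helper3.Cover.QU6Data
import Cfsg.Agent.Lib.Helper3.Cover.QU6Table
set_option autoImplicit false
set_option maxRecDepth 100000
set_option maxHeartbeats 0

namespace Cfsg.Agent.Lib.Helper3.Cover.QU6M9
open Cfsg.Agent.Lib.Helper28.TC2Upper Cfsg.Agent.Lib.Helper28.TC2Lower Cfsg.Agent.Lib.Helper28.TC2Range Cfsg.Agent.Lib.Helper3.Cover.QU6Data Cfsg.Agent.Lib.Helper3.Cover.QU6Table

theorem cnt18 : Data.countFrom data 108000 6000 = 0 := by decide +kernel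
theorem cnt19 : Data.countFrom data 114000 6000 = 0 := by decide +kernel
theorem cnt20 : Data.countFrom data 120000 6000 = 0 := by decide +kernel
theorem cnt21 : Data.countFrom data 126000 6000 = 0 := by decide +kernel
theorem cnt22 : Data.countFrom data 132000 6000 = 0 := by decide +kernel

end Cfsg.Agent.Lib.Helper3.Cover.QU6M9
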