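import Cfsg.Agent.Lib.Helper3.Cover.QU6Data
set_option autoImplicit false
set_option maxRecDepth 100000
set_option maxHeartbeats 0

namespace Cfsg.Agent.Lib.Helper3.Cover.QU6U14
open Cfsg.Agent.Lib.Helper28.TC2Upper Cfsg.Agent.Lib.Helper3.Cover.QU6Data

theorem chk70 : data.checkRange 77143 1497 = true := by decide +kernel
theorem chk71 : data.checkRange 78640 1663 = true := by decide +kernel
theorem chk72 : data.checkRange 80303 1526 = true := by decide +kernel
theorem chk73 : data.checkRange 81829 1591 = true := by decide +kernel
theorem chk74 : data.checkRange 83420 1567 = true := by decide +kernel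

end Cfsg.Agent.Lib.Helper3.Cover.QU6U14
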