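import Cfsg.Agent.Lib.Helper3.Cover.QU6Data
set_option autoImplicit false
set_option maxRecDepth 100000
set_option maxHeartbeats 0

namespace Cfsg.Agent.Lib.Helper3.Cover.QU6U15
open Cfsg.Agent.Lib.Helper28.TC2Upper Cfsg.Agent.Lib.Helper3.Cover.QU6Data

theorem chk75 : data.checkRange 84987 1596 = true := by decide +kernel
theorem chk76 : data.checkRange 86583 1604 = true := by decide +kernel
theorem chk77 : data.checkRange 88187 1564 = true := by decide +kernel
theorem chk78 : data.checkRange 89751 1409 = true := by decide +kernel
theorem chk79 : data.checkRange 91160 1248 = true := by decide +kernel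

end Cfsg.Agent.Lib.Helper3.Cover.QU6U15
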