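import Cfsg.Agent.Lib.Helper3.Cover.QU6Data
set_option autoImplicit false
set_option maxRecDepth 100000
set_option maxHeartbeats 0

namespace Cfsg.Agent.Lib.Helper3.Cover.QU6U17
open Cfsg.Agent.Lib.Helper28.TC2Upper Cfsg.Agent.Lib.Helper3.Cover.QU6Data

theorem chk85 : data.checkRange 100135 1719 = true := by decide +kernel
theorem chk86 : data.checkRange 101854 1636 = true := by decide +kernel
theorem chk87 : data.checkRange 103490 1726 = true := by decide +kernel
theorem chk88 : data.checkRange 105216 1819 = true := by decide +kernel
theorem chk89 : data.checkRange 107035 1694 = true := by decide +kernel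

end Cfsg.Agent.Lib.Helper3.Cover.QU6U17
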