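import Cfsg.Agent.Lib.Helper3.Cover.QU6Data
set_option autoImplicit false
set_option maxRecDepth 100000
set_option maxHeartbeats 0

namespace Cfsg.Agent.Lib.Helper3.Cover.QU6U20
open Cfsg.Agent.Lib.Helper28.TC2Upper Cfsg.Agent.Lib.Helper3.Cover.QU6Data

theorem chk100 : data.checkRange 126354 1768 = true := by decide +kernel
theorem chk101 : data.checkRange 128122 1819 = true := by decide +kernel
theorem chk102 : data.checkRange 129941 1834 = true := by decide +kernel
theorem chk103 : data.checkRange 131775 1890 = true := by decide +kernel
theorem chk104 : data.checkRange 133665 1879 = true := by decide +kernel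

end Cfsg.Agent.Lib.Helper3.Cover.QU6U20
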