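import Cfsg.Agent.Lib.Helper3.Cover.QU6Data
set_option autoImplicit false
set_option maxRecDepth 100000
set_option maxHeartbeats 0

namespace Cfsg.Agent.Lib.Helper3.Cover.QU6U21
open Cfsg.Agent.Lib.Helper28.TC2Upper Cfsg.Agent.Lib.Helper3.Cover.QU6Data

theorem chk105 : data.checkRange 135544 1807 = true := by decide +kernel
theorem chk106 : data.checkRange 137351 1788 = true := by decide +kernel
theorem chk107 : data.checkRange 139139 1832 = true := by decide +kernel
theorem chk108 : data.checkRange 140971 1836 = true := by decide +kernel
theorem chk109 : data.checkRange 142807 1695 = true := by decide +kernel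

end Cfsg.Agent.Lib.Helper3.Cover.QU6U21
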