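import Cfsg.Agent.Lib.Helper3.Cover.QU6Data
set_option autoImplicit false
set_option maxRecDepth 100000
set_option maxHeartbeats 0

namespace Cfsg.Agent.Lib.Helper3.Cover.QU6U5
open Cfsg.Agent.Lib.Helper28.TC2Upper Cfsg.Agent.Lib.Helper3.Cover.QU6Data

theorem chk25 : data.checkRange 20632 983 = true := by decide +kernel
theorem chk26 : data.checkRange 21615 965 = true := by decide +kernel
theorem chk27 : data.checkRange 22580 1000 = true := by decide +kernel
theorem chk28 : data.checkRange 23580 1098 = true := by decide +kernel
theorem chk29 : data.checkRange 24678 1114 = true := by decide +kernel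

end Cfsg.Agent.Lib.Helper3.Cover.QU6U5
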