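import Cfsg.Agent.Lib.Helper3.Cover.QU6Data
set_option autoImplicit false
set_option maxRecDepth 100000
set_option maxHeartbeats 0

namespace Cfsg.Agent.Lib.Helper3.Cover.QU6U9
open Cfsg.Agent.Lib.Helper28.TC2Upper Cfsg.Agent.Lib.Helper3.Cover.QU6Data

theorem chk45 : data.checkRange 42464 1198 = true := by decide +kernel
theorem chk46 : data.checkRange 43662 1237 = true := by decide +kernel
theorem chk47 : data.checkRange 44899 1212 = true := by decide +kernel
theorem chk48 : data.checkRange 46111 1253 = true := by decide +kernel
theorem chk49 : data.checkRange 47364 1302 = true := by decide +kernel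

end Cfsg.Agent.Lib.Helper3.Cover.QU6U9
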