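import Cfsg.Agent.Lib.Helper28.TC2GlueOrb
import Cfsg.Agent.Lib.Helper28.TC2Range
import Cfsg.Agent.Lib.Helper3.Cover.QU6Link
import Cfsg.Agent.Lib.Helper3.Cover.QU6M
import Cfsg.Agent.Lib.Helper3.Cover.QU6M0
import Cfsg.Agent.Lib.Helper3.Cover.QU6M1
import Cfsg.Agent.Lib.Helper3.Cover.QU6M2
import Cfsg.Agent.Lib.Helper3.Cover.QU6M3
import Cfsg.Agent.Lib.Helper3.Cover.QU6M4
import Cfsg.Agent.Lib.Helper3.Cover.QU6M5
import Cfsg.Agent.Lib.Helper3.Cover.QU6M6
import Cfsg.Agent.Lib.Helper3.Cover.QU6M7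
import Cfsg.Agent.Lib.Helper3.Cover.QU6M8
import Cfsg.Agent.Lib.Helper3.Cover.QU6M9
import Cfsg.Agent.Lib.Helper3.Cover.QU6M10
import Cfsg.Agent.Lib.Helper3.Cover.QU6M11
import Cfsg.Agent.Lib.Helper3.Cover.QU6U0
import Cfsg.Agent.Lib.Helper3.Cover.QU6U1
import Cfsg.Agent.Lib.Helper3.Cover.QU6U2
import Cfsg.Agent.Lib.Helper3.Cover.QU6U3
import Cfsg.Agent.Lib.Helper3.Cover.QU6U4
import Cfsg.Agent.Lib.Helper3.Cover.QU6U5
import Cfsg.Agent.Lib.Helper3.Cover.QU6U6
import Cfsg.Agent.Lib.Helper3.Cover.QU6U7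
import Cfsg.Agent.Lib.Helper3.Cover.QU6U8
import Cfsg.Agent.Lib.Helper3.Cover.QU6U9
import Cfsg.Agent.Lib.Helper3.Cover.QU6U10
import Cfsg.Agent.Lib.Helper3.Cover.QU6U11
import Cfsg.Agent.Lib.Helper3.Cover.QU6U12
import Cfsg.Agent.Lib.Helper3.Cover.QU6U13
import Cfsg.Agent.Lib.Helper3.Cover.QU6U14
import Cfsg.Agent.Lib.Helper3.Cover.QU6U15
import Cfsg.Agent.Lib.Helper3.Cover.QU6U16
import Cfsg.Agent.Lib.Helper3.Cover.QU6U17
import Cfsg.Agent.Lib.Helper3.Cover.QU6U18
import Cfsg.Agent.Lib.Helper3.Cover.QU6U19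
import Cfsg.Agent.Lib.Helper3.Cover.QU6U20
import Cfsg.Agent.Lib.Helper3.Cover.QU6U21
import Cfsg.Agent.Lib.Helper3.Cover.QU6U22
import Cfsg.Agent.Lib.Helper3.Cover.QU6U23
import Cfsg.Agent.Lib.Helper3.Cover.QU6L0

set_option autoImplicit false
set_option maxRecDepth 100000
open Cfsg

namespace Cfsg.Agent.Lib.Helper3.Cover.QU6Main
open Cfsg.Agent.Lib.Helper28.TC2Upper Cfsg.Agent.Lib.Helper28.TC2Lower Cfsg.Agent.Lib.Helper28.TC2Glue Cfsg.Agent.Lib.Helper28.TC2GlueOrb Cfsg.Agent.Lib.Helper28.TC2Orbit Cfsg.Agent.Lib.Helper28.TC2Range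
open Cfsg.Agent.Lib.Helper3.Cover.QU6Data Cfsg.Agent.Lib.Helper3.Cover.QU6Table Cfsg.Agent.Lib.Helper3.Cover.QU6Link Cfsg.Agent.Lib.Helper3.Cover.QU6M

theorem hchk : ∀ v, v < data.N → data.checkNode v = true := by
  intro v hv
  have hv' : v < 156760 := hv
  rcases Nat.lt_or_ge v 575 with h0 | h0
  · exact (data.checkRange_iff 0 575).mp Cfsg.Agent.Lib.Helper3.Cover.QU6U0.chk0 v (by omega) (by omega)
  rcases Nat.lt_or_ge v 1187 with h1 | h1
  · exact (data.checkRange_iff 575 612).mp Cfsg.Agent.Lib.Helper3.Cover.QU6U0.chk1 v (by omega) (by omega)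
  rcases Nat.lt_or_ge v 1902 with h2 | h2
  · exact (data.checkRange_iff 1187 715).mp Cfsg.Agent.Lib.Helper3.Cover.QU6U0.chk2 v (by omega) (by omega)
  rcases Nat.lt_or_ge v 2624 with h3 | h3
  · exact (data.checkRange_iff 1902 722).mp Cfsg.Agent.Lib.Helper3.Cover.QU6U0.chk3 v (by omega) (by omega)
  rcases Nat.lt_or_ge v 3384 with h4 | h4
  · exact (data.checkRange_iff 2624 760).mp Cfsg.Agent.Lib.Helper3.Cover.QU6U0.chk4 v (by omega) (by omega)
  rcases Nat.lt_or_ge v 4073 with h5 | h5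
  · exact (data.checkRange_iff 3384 689).mp Cfsg.Agent.Lib.Helper3.Cover.QU6U1.chk5 v (by omega) (by omega)
  rcases Nat.lt_or_ge v 4782 with h6 | h6
  · exact (data.checkRange_iff 4073 709).mp Cfsg.Agent.Lib.Helper3.Cover.QU6U1.chk6 v (by omega) (by omega)
  rcases Nat.lt_or_ge v 5575 with h7 | h7
  · exact (data.checkRange_iff 4782 793).mp Cfsg.Agent.Lib.Helper3.Cover.QU6U1.chk7 v (by omega) (by omega)
  rcases Nat.lt_or_ge v 6343 with h8 | h8
  · exact (data.checkRange_iff 5575 768).mp Cfsg.Agent.Lib.Helper3.Cover.QU6U1.chk8 v (by omega) (by omega)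
  rcases Nat.lt_or_ge v 7181 with h9 | h9
  · exact (data.checkRange_iff 6343 838).mp Cfsg.Agent.Lib.Helper3.Cover.QU6U1.chk9 v (by omega) (by omega)
  rcases Nat.lt_or_ge v 8071 with h10 | h10
  · exact (data.checkRange_iff 7181 890).mp Cfsg.Agent.Lib.Helper3.Cover.QU6U2.chk10 v (by omega) (by omega)
  rcases Nat.lt_or_ge v 8896 with h11 | h11
  · exact (data.checkRange_iff 8071 825).mp Cfsg.Agent.Lib.Helper3.Cover.QU6U2.chk11 v (by omega) (by omega)
  rcases Nat.lt_or_ge v 9715 with h12 | h12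
  · exact (data.checkRange_iff 8896 819).mp Cfsg.Agent.Lib.Helper3.Cover.QU6U2.chk12 v (by omega) (by omega)
  rcases Nat.lt_or_ge v 10585 with h13 | h13
  · exact (data.checkRange_iff 9715 870).mp Cfsg.Agent.Lib.Helper3.Cover.QU6U2.chk13 v (by omega) (by omega)
  rcases Nat.lt_or_ge v 11471 with h14 | h14
  · exact (data.checkRange_iff 10585 886).mp Cfsg.Agent.Lib.Helper3.Cover.QU6U2.chk14 v (by omega) (by omega)
  rcases Nat.lt_or_ge v 12419 with h15 | h15
  · exact (data.checkRange_iff 11471 948).mp Cfsg.Agent.Lib.Helper3.Cover.QU6U3.chk15 v (by omega) (by omega)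
  rcases Nat.lt_or_ge v 13231 with h16 | h16
  · exact (data.checkRange_iff 12419 812).mp Cfsg.Agent.Lib.Helper3.Cover.QU6U3.chk16 v (by omega) (by omega)
  rcases Nat.lt_or_ge v 14090 with h17 | h17
  · exact (data.checkRange_iff 13231 859).mp Cfsg.Agent.Lib.Helper3.Cover.QU6U3.chk17 v (by omega) (by omega)
  rcases Nat.lt_or_ge v 14991 with h18 | h18
  · exact (data.checkRange_iff 14090 901).mp Cfsg.Agent.Lib.Helper3.Cover.QU6U3.chk18 v (by omega) (by omega)
  rcases Nat.lt_or_ge v 15838 with h19 | h19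
  · exact (data.checkRange_iff 14991 847).mp Cfsg.Agent.Lib.Helper3.Cover.QU6U3.chk19 v (by omega) (by omega)
  rcases Nat.lt_or_ge v 16782 with h20 | h20
  · exact (data.checkRange_iff 15838 944).mp Cfsg.Agent.Lib.Helper3.Cover.QU6U4.chk20 v (by omega) (by omega)
  rcases Nat.lt_or_ge v 17702 with h21 | h21
  · exact (data.checkRange_iff 16782 920).mp Cfsg.Agent.Lib.Helper3.Cover.QU6U4.chk21 v (by omega) (by omega)
  rcases Nat.lt_or_ge v 18690 with h22 | h22
  · exact (data.checkRange_iff 17702 988).mp Cfsg.Agent.Lib.Helper3.Cover.QU6U4.chk22 v (by omega) (by omega)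
  rcases Nat.lt_or_ge v 19679 with h23 | h23
  · exact (data.checkRange_iff 18690 989).mp Cfsg.Agent.Lib.Helper3.Cover.QU6U4.chk23 v (by omega) (by omega)
  rcases Nat.lt_or_ge v 20632 with h24 | h24
  · exact (data.checkRange_iff 19679 953).mp Cfsg.Agent.Lib.Helper3.Cover.QU6U4.chk24 v (by omega) (by omega)
  rcases Nat.lt_or_ge v 21615 with h25 | h25
  · exact (data.checkRange_iff 20632 983).mp Cfsg.Agent.Lib.Helper3.Cover.QU6U5.chk25 v (by omega) (by omega)
  rcases Nat.lt_or_ge v 22580 with h26 | h26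
  · exact (data.checkRange_iff 21615 965).mp Cfsg.Agent.Lib.Helper3.Cover.QU6U5.chk26 v (by omega) (by omega)
  rcases Nat.lt_or_ge v 23580 with h27 | h27
  · exact (data.checkRange_iff 22580 1000).mp Cfsg.Agent.Lib.Helper3.Cover.QU6U5.chk27 v (by omega) (by omega)
  rcases Nat.lt_or_ge v 24678 with h28 | h28
  · exact (data.checkRange_iff 23580 1098).mp Cfsg.Agent.Lib.Helper3.Cover.QU6U5.chk28 v (by omega) (by omega)
  rcases Nat.lt_or_ge v 25792 with h29 | h29
  · exact (data.checkRange_iff 24678 1114).mp Cfsg.Agent.Lib.Helper3.Cover.QU6U5.chk29 v (by omega) (by omega)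
  rcases Nat.lt_or_ge v 26873 with h30 | h30
  · exact (data.checkRange_iff 25792 1081).mp Cfsg.Agent.Lib.Helper3.Cover.QU6U6.chk30 v (by omega) (by omega)
  rcases Nat.lt_or_ge v 27943 with h31 | h31
  · exact (data.checkRange_iff 26873 1070).mp Cfsg.Agent.Lib.Helper3.Cover.QU6U6.chk31 v (by omega) (by omega)
  rcases Nat.lt_or_ge v 28981 with h32 | h32
  · exact (data.checkRange_iff 27943 1038).mp Cfsg.Agent.Lib.Helper3.Cover.QU6U6.chk32 v (by omega) (by omega)
  rcases Nat.lt_or_ge v 30104 with h33 | h33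
  · exact (data.checkRange_iff 28981 1123).mp Cfsg.Agent.Lib.Helper3.Cover.QU6U6.chk33 v (by omega) (by omega)
  rcases Nat.lt_or_ge v 31158 with h34 | h34
  · exact (data.checkRange_iff 30104 1054).mp Cfsg.Agent.Lib.Helper3.Cover.QU6U6.chk34 v (by omega) (by omega)
  rcases Nat.lt_or_ge v 32324 with h35 | h35
  · exact (data.checkRange_iff 31158 1166).mp Cfsg.Agent.Lib.Helper3.Cover.QU6U7.chk35 v (by omega) (by omega)
  rcases Nat.lt_or_ge v 33400 with h36 | h36
  · exact (data.checkRange_iff 32324 1076).mp Cfsg.Agent.Lib.Helper3.Cover.QU6U7.chk36 v (by omega) (by omega)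
  rcases Nat.lt_or_ge v 34522 with h37 | h37
  · exact (data.checkRange_iff 33400 1122).mp Cfsg.Agent.Lib.Helper3.Cover.QU6U7.chk37 v (by omega) (by omega)
  rcases Nat.lt_or_ge v 35664 with h38 | h38
  · exact (data.checkRange_iff 34522 1142).mp Cfsg.Agent.Lib.Helper3.Cover.QU6U7.chk38 v (by omega) (by omega)
  rcases Nat.lt_or_ge v 36868 with h39 | h39
  · exact (data.checkRange_iff 35664 1204).mp Cfsg.Agent.Lib.Helper3.Cover.QU6U7.chk39 v (by omega) (by omega)
  rcases Nat.lt_or_ge v 38082 with h40 | h40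
  · exact (data.checkRange_iff 36868 1214).mp Cfsg.Agent.Lib.Helper3.Cover.QU6U8.chk40 v (by omega) (by omega)
  rcases Nat.lt_or_ge v 39111 with h41 | h41
  · exact (data.checkRange_iff 38082 1029).mp Cfsg.Agent.Lib.Helper3.Cover.QU6U8.chk41 v (by omega) (by omega)
  rcases Nat.lt_or_ge v 40133 with h42 | h42
  · exact (data.checkRange_iff 39111 1022).mp Cfsg.Agent.Lib.Helper3.Cover.QU6U8.chk42 v (by omega) (by omega)
  rcases Nat.lt_or_ge v 41305 with h43 | h43
  · exact (data.checkRange_iff 40133 1172).mp Cfsg.Agent.Lib.Helper3.Cover.QU6U8.chk43 v (by omega) (by omega)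
  rcases Nat.lt_or_ge v 42464 with h44 | h44
  · exact (data.checkRange_iff 41305 1159).mp Cfsg.Agent.Lib.Helper3.Cover.QU6U8.chk44 v (by omega) (by omega)
  rcases Nat.lt_or_ge v 43662 with h45 | h45
  · exact (data.checkRange_iff 42464 1198).mp Cfsg.Agent.Lib.Helper3.Cover.QU6U9.chk45 v (by omega) (by omega)
  rcases Nat.lt_or_ge v 44899 with h46 | h46
  · exact (data.checkRange_iff 43662 1237).mp Cfsg.Agent.Lib.Helper3.Cover.QU6U9.chk46 v (by omega) (by omega)
  rcases Nat.lt_or_ge v 46111 with h47 | h47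
  · exact (data.checkRange_iff 44899 1212).mp Cfsg.Agent.Lib.Helper3.Cover.QU6U9.chk47 v (by omega) (by omega)
  rcases Nat.lt_or_ge v 47364 with h48 | h48
  · exact (data.checkRange_iff 46111 1253).mp Cfsg.Agent.Lib.Helper3.Cover.QU6U9.chk48 v (by omega) (by omega)
  rcases Nat.lt_or_ge v 48666 with h49 | h49
  · exact (data.checkRange_iff 47364 1302).mp Cfsg.Agent.Lib.Helper3.Cover.QU6U9.chk49 v (by omega) (by omega)
  rcases Nat.lt_or_ge v 50087 with h50 | h50
  · exact (data.checkRange_iff 48666 1421).mp Cfsg.Agent.Lib.Helper3.Cover.QU6U10.chk50 v (by omega) (by omega)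
  rcases Nat.lt_or_ge v 51358 with h51 | h51
  · exact (data.checkRange_iff 50087 1271).mp Cfsg.Agent.Lib.Helper3.Cover.QU6U10.chk51 v (by omega) (by omega)
  rcases Nat.lt_or_ge v 52677 with h52 | h52
  · exact (data.checkRange_iff 51358 1319).mp Cfsg.Agent.Lib.Helper3.Cover.QU6U10.chk52 v (by omega) (by omega)
  rcases Nat.lt_or_ge v 54042 with h53 | h53
  · exact (data.checkRange_iff 52677 1365).mp Cfsg.Agent.Lib.Helper3.Cover.QU6U10.chk53 v (by omega) (by omega)
  rcases Nat.lt_or_ge v 55450 with h54 | h54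
  · exact (data.checkRange_iff 54042 1408).mp Cfsg.Agent.Lib.Helper3.Cover.QU6U10.chk54 v (by omega) (by omega)
  rcases Nat.lt_or_ge v 56820 with h55 | h55
  · exact (data.checkRange_iff 55450 1370).mp Cfsg.Agent.Lib.Helper3.Cover.QU6U11.chk55 v (by omega) (by omega)
  rcases Nat.lt_or_ge v 58140 with h56 | h56
  · exact (data.checkRange_iff 56820 1320).mp Cfsg.Agent.Lib.Helper3.Cover.QU6U11.chk56 v (by omega) (by omega)
  rcases Nat.lt_or_ge v 59595 with h57 | h57
  · exact (data.checkRange_iff 58140 1455).mp Cfsg.Agent.Lib.Helper3.Cover.QU6U11.chk57 v (by omega) (by omega)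
  rcases Nat.lt_or_ge v 60999 with h58 | h58
  · exact (data.checkRange_iff 59595 1404).mp Cfsg.Agent.Lib.Helper3.Cover.QU6U11.chk58 v (by omega) (by omega)
  rcases Nat.lt_or_ge v 62410 with h59 | h59
  · exact (data.checkRange_iff 60999 1411).mp Cfsg.Agent.Lib.Helper3.Cover.QU6U11.chk59 v (by omega) (by omega)
  rcases Nat.lt_or_ge v 63862 with h60 | h60
  · exact (data.checkRange_iff 62410 1452).mp Cfsg.Agent.Lib.Helper3.Cover.QU6U12.chk60 v (by omega) (by omega)
  rcases Nat.lt_or_ge v 65415 with h61 | h61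
  · exact (data.checkRange_iff 63862 1553).mp Cfsg.Agent.Lib.Helper3.Cover.QU6U12.chk61 v (by omega) (by omega)
  rcases Nat.lt_or_ge v 66897 with h62 | h62
  · exact (data.checkRange_iff 65415 1482).mp Cfsg.Agent.Lib.Helper3.Cover.QU6U12.chk62 v (by omega) (by omega)
  rcases Nat.lt_or_ge v 68341 with h63 | h63
  · exact (data.checkRange_iff 66897 1444).mp Cfsg.Agent.Lib.Helper3.Cover.QU6U12.chk63 v (by omega) (by omega)
  rcases Nat.lt_or_ge v 69814 with h64 | h64
  · exact (data.checkRange_iff 68341 1473).mp Cfsg.Agent.Lib.Helper3.Cover.QU6U12.chk64 v (by omega) (by omega)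
  rcases Nat.lt_or_ge v 71169 with h65 | h65
  · exact (data.checkRange_iff 69814 1355).mp Cfsg.Agent.Lib.Helper3.Cover.QU6U13.chk65 v (by omega) (by omega)
  rcases Nat.lt_or_ge v 72568 with h66 | h66
  · exact (data.checkRange_iff 71169 1399).mp Cfsg.Agent.Lib.Helper3.Cover.QU6U13.chk66 v (by omega) (by omega)
  rcases Nat.lt_or_ge v 74089 with h67 | h67
  · exact (data.checkRange_iff 72568 1521).mp Cfsg.Agent.Lib.Helper3.Cover.QU6U13.chk67 v (by omega) (by omega)
  rcases Nat.lt_or_ge v 75573 with h68 | h68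
  · exact (data.checkRange_iff 74089 1484).mp Cfsg.Agent.Lib.Helper3.Cover.QU6U13.chk68 v (by omega) (by omega)
  rcases Nat.lt_or_ge v 77143 with h69 | h69
  · exact (data.checkRange_iff 75573 1570).mp Cfsg.Agent.Lib.Helper3.Cover.QU6U13.chk69 v (by omega) (by omega)
  rcases Nat.lt_or_ge v 78640 with h70 | h70
  · exact (data.checkRange_iff 77143 1497).mp Cfsg.Agent.Lib.Helper3.Cover.QU6U14.chk70 v (by omega) (by omega)
  rcases Nat.lt_or_ge v 80303 with h71 | h71
  · exact (data.checkRange_iff 78640 1663).mp Cfsg.Agent.Lib.Helper3.Cover.QU6U14.chk71 v (by omega) (by omega)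
  rcases Nat.lt_or_ge v 81829 with h72 | h72
  · exact (data.checkRange_iff 80303 1526).mp Cfsg.Agent.Lib.Helper3.Cover.QU6U14.chk72 v (by omega) (by omega)
  rcases Nat.lt_or_ge v 83420 with h73 | h73
  · exact (data.checkRange_iff 81829 1591).mp Cfsg.Agent.Lib.Helper3.Cover.QU6U14.chk73 v (by omega) (by omega)
  rcases Nat.lt_or_ge v 84987 with h74 | h74
  · exact (data.checkRange_iff 83420 1567).mp Cfsg.Agent.Lib.Helper3.Cover.QU6U14.chk74 v (by omega) (by omega)
  rcases Nat.lt_or_ge v 86583 with h75 | h75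
  · exact (data.checkRange_iff 84987 1596).mp Cfsg.Agent.Lib.Helper3.Cover.QU6U15.chk75 v (by omega) (by omega)
  rcases Nat.lt_or_ge v 88187 with h76 | h76
  · exact (data.checkRange_iff 86583 1604).mp Cfsg.Agent.Lib.Helper3.Cover.QU6U15.chk76 v (by omega) (by omega)
  rcases Nat.lt_or_ge v 89751 with h77 | h77
  · exact (data.checkRange_iff 88187 1564).mp Cfsg.Agent.Lib.Helper3.Cover.QU6U15.chk77 v (by omega) (by omega)
  rcases Nat.lt_or_ge v 91160 with h78 | h78
  · exact (data.checkRange_iff 89751 1409).mp Cfsg.Agent.Lib.Helper3.Cover.QU6U15.chk78 v (by omega) (by omega)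
  rcases Nat.lt_or_ge v 92408 with h79 | h79
  · exact (data.checkRange_iff 91160 1248).mp Cfsg.Agent.Lib.Helper3.Cover.QU6U15.chk79 v (by omega) (by omega)
  rcases Nat.lt_or_ge v 93759 with h80 | h80
  · exact (data.checkRange_iff 92408 1351).mp Cfsg.Agent.Lib.Helper3.Cover.QU6U16.chk80 v (by omega) (by omega)
  rcases Nat.lt_or_ge v 95259 with h81 | h81
  · exact (data.checkRange_iff 93759 1500).mp Cfsg.Agent.Lib.Helper3.Cover.QU6U16.chk81 v (by omega) (by omega)
  rcases Nat.lt_or_ge v 96794 with h82 | h82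
  · exact (data.checkRange_iff 95259 1535).mp Cfsg.Agent.Lib.Helper3.Cover.QU6U16.chk82 v (by omega) (by omega)
  rcases Nat.lt_or_ge v 98477 with h83 | h83
  · exact (data.checkRange_iff 96794 1683).mp Cfsg.Agent.Lib.Helper3.Cover.QU6U16.chk83 v (by omega) (by omega)
  rcases Nat.lt_or_ge v 100135 with h84 | h84
  · exact (data.checkRange_iff 98477 1658).mp Cfsg.Agent.Lib.Helper3.Cover.QU6U16.chk84 v (by omega) (by omega)
  rcases Nat.lt_or_ge v 101854 with h85 | h85
  · exact (data.checkRange_iff 100135 1719).mp Cfsg.Agent.Lib.Helper3.Cover.QU6U17.chk85 v (by omega) (by omega)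
  rcases Nat.lt_or_ge v 103490 with h86 | h86
  · exact (data.checkRange_iff 101854 1636).mp Cfsg.Agent.Lib.Helper3.Cover.QU6U17.chk86 v (by omega) (by omega)
  rcases Nat.lt_or_ge v 105216 with h87 | h87
  · exact (data.checkRange_iff 103490 1726).mp Cfsg.Agent.Lib.Helper3.Cover.QU6U17.chk87 v (by omega) (by omega)
  rcases Nat.lt_or_ge v 107035 with h88 | h88
  · exact (data.checkRange_iff 105216 1819).mp Cfsg.Agent.Lib.Helper3.Cover.QU6U17.chk88 v (by omega) (by omega)
  rcases Nat.lt_or_ge v 108729 with h89 | h89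
  · exact (data.checkRange_iff 107035 1694).mp Cfsg.Agent.Lib.Helper3.Cover.QU6U17.chk89 v (by omega) (by omega)
  rcases Nat.lt_or_ge v 110485 with h90 | h90
  · exact (data.checkRange_iff 108729 1756).mp Cfsg.Agent.Lib.Helper3.Cover.QU6U18.chk90 v (by omega) (by omega)
  rcases Nat.lt_or_ge v 112300 with h91 | h91
  · exact (data.checkRange_iff 110485 1815).mp Cfsg.Agent.Lib.Helper3.Cover.QU6U18.chk91 v (by omega) (by omega)
  rcases Nat.lt_or_ge v 113991 with h92 | h92
  · exact (data.checkRange_iff 112300 1691).mp Cfsg.Agent.Lib.Helper3.Cover.QU6U18.chk92 v (by omega) (by omega)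
  rcases Nat.lt_or_ge v 115656 with h93 | h93
  · exact (data.checkRange_iff 113991 1665).mp Cfsg.Agent.Lib.Helper3.Cover.QU6U18.chk93 v (by omega) (by omega)
  rcases Nat.lt_or_ge v 117365 with h94 | h94
  · exact (data.checkRange_iff 115656 1709).mp Cfsg.Agent.Lib.Helper3.Cover.QU6U18.chk94 v (by omega) (by omega)
  rcases Nat.lt_or_ge v 119066 with h95 | h95
  · exact (data.checkRange_iff 117365 1701).mp Cfsg.Agent.Lib.Helper3.Cover.QU6U19.chk95 v (by omega) (by omega)
  rcases Nat.lt_or_ge v 120781 with h96 | h96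
  · exact (data.checkRange_iff 119066 1715).mp Cfsg.Agent.Lib.Helper3.Cover.QU6U19.chk96 v (by omega) (by omega)
  rcases Nat.lt_or_ge v 122657 with h97 | h97
  · exact (data.checkRange_iff 120781 1876).mp Cfsg.Agent.Lib.Helper3.Cover.QU6U19.chk97 v (by omega) (by omega)
  rcases Nat.lt_or_ge v 124464 with h98 | h98
  · exact (data.checkRange_iff 122657 1807).mp Cfsg.Agent.Lib.Helper3.Cover.QU6U19.chk98 v (by omega) (by omega)
  rcases Nat.lt_or_ge v 126354 with h99 | h99
  · exact (data.checkRange_iff 124464 1890).mp Cfsg.Agent.Lib.Helper3.Cover.QU6U19.chk99 v (by omega) (by omega)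
  rcases Nat.lt_or_ge v 128122 with h100 | h100
  · exact (data.checkRange_iff 126354 1768).mp Cfsg.Agent.Lib.Helper3.Cover.QU6U20.chk100 v (by omega) (by omega)
  rcases Nat.lt_or_ge v 129941 with h101 | h101
  · exact (data.checkRange_iff 128122 1819).mp Cfsg.Agent.Lib.Helper3.Cover.QU6U20.chk101 v (by omega) (by omega)
  rcases Nat.lt_or_ge v 131775 with h102 | h102
  · exact (data.checkRange_iff 129941 1834).mp Cfsg.Agent.Lib.Helper3.Cover.QU6U20.chk102 v (by omega) (by omega)
  rcases Nat.lt_or_ge v 133665 with h103 | h103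
  · exact (data.checkRange_iff 131775 1890).mp Cfsg.Agent.Lib.Helper3.Cover.QU6U20.chk103 v (by omega) (by omega)
  rcases Nat.lt_or_ge v 135544 with h104 | h104
  · exact (data.checkRange_iff 133665 1879).mp Cfsg.Agent.Lib.Helper3.Cover.QU6U20.chk104 v (by omega) (by omega)
  rcases Nat.lt_or_ge v 137351 with h105 | h105
  · exact (data.checkRange_iff 135544 1807).mp Cfsg.Agent.Lib.Helper3.Cover.QU6U21.chk105 v (by omega) (by omega)
  rcases Nat.lt_or_ge v 139139 with h106 | h106
  · exact (data.checkRange_iff 137351 1788).mp Cfsg.Agent.Lib.Helper3.Cover.QU6U21.chk106 v (by omega) (by omega)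
  rcases Nat.lt_or_ge v 140971 with h107 | h107
  · exact (data.checkRange_iff 139139 1832).mp Cfsg.Agent.Lib.Helper3.Cover.QU6U21.chk107 v (by omega) (by omega)
  rcases Nat.lt_or_ge v 142807 with h108 | h108
  · exact (data.checkRange_iff 140971 1836).mp Cfsg.Agent.Lib.Helper3.Cover.QU6U21.chk108 v (by omega) (by omega)
  rcases Nat.lt_or_ge v 144502 with h109 | h109
  · exact (data.checkRange_iff 142807 1695).mp Cfsg.Agent.Lib.Helper3.Cover.QU6U21.chk109 v (by omega) (by omega)
  rcases Nat.lt_or_ge v 146274 with h110 | h110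
  · exact (data.checkRange_iff 144502 1772).mp Cfsg.Agent.Lib.Helper3.Cover.QU6U22.chk110 v (by omega) (by omega)
  rcases Nat.lt_or_ge v 148078 with h111 | h111
  · exact (data.checkRange_iff 146274 1804).mp Cfsg.Agent.Lib.Helper3.Cover.QU6U22.chk111 v (by omega) (by omega)
  rcases Nat.lt_or_ge v 149959 with h112 | h112
  · exact (data.checkRange_iff 148078 1881).mp Cfsg.Agent.Lib.Helper3.Cover.QU6U22.chk112 v (by omega) (by omega)
  rcases Nat.lt_or_ge v 151834 with h113 | h113
  · exact (data.checkRange_iff 149959 1875).mp Cfsg.Agent.Lib.Helper3.Cover.QU6U22.chk113 v (by omega) (by omega)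
  rcases Nat.lt_or_ge v 153739 with h114 | h114
  · exact (data.checkRange_iff 151834 1905).mp Cfsg.Agent.Lib.Helper3.Cover.QU6U22.chk114 v (by omega) (by omega)
  rcases Nat.lt_or_ge v 155536 with h115 | h115
  · exact (data.checkRange_iff 153739 1797).mp Cfsg.Agent.Lib.Helper3.Cover.QU6U23.chk115 v (by omega) (by omega)
  exact (data.checkRange_iff 155536 1224).mp Cfsg.Agent.Lib.Helper3.Cover.QU6U23.chk116 v (by omega) (by omega)

theorem hrows : ∀ v, v < data.N → Data.rowOK data v = true := by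
  intro v hv
  have hv' : v < 156760 := hv
  rcases Nat.lt_or_ge v 6000 with h0 | h0
  · exact (Data.finalRange_iff data 0 6000).mp Cfsg.Agent.Lib.Helper3.Cover.QU6M0.fin0 v (by omega) (by omega)
  rcases Nat.lt_or_ge v 12000 with h1 | h1
  · exact (Data.finalRange_iff data 6000 6000).mp Cfsg.Agent.Lib.Helper3.Cover.QU6M0.fin1 v (by omega) (by omega)
  rcases Nat.lt_or_ge v 18000 with h2 | h2
  · exact (Data.finalRange_iff data 12000 6000).mp Cfsg.Agent.Lib.Helper3.Cover.QU6M0.fin2 v (by omega) (by omega)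
  rcases Nat.lt_or_ge v 24000 with h3 | h3
  · exact (Data.finalRange_iff data 18000 6000).mp Cfsg.Agent.Lib.Helper3.Cover.QU6M0.fin3 v (by omega) (by omega)
  rcases Nat.lt_or_ge v 30000 with h4 | h4
  · exact (Data.finalRange_iff data 24000 6000).mp Cfsg.Agent.Lib.Helper3.Cover.QU6M0.fin4 v (by omega) (by omega)
  rcases Nat.lt_or_ge v 36000 with h5 | h5
  · exact (Data.finalRange_iff data 30000 6000).mp Cfsg.Agent.Lib.Helper3.Cover.QU6M1.fin5 v (by omega) (by omega)
  rcases Nat.lt_or_ge v 42000 with h6 | h6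
  · exact (Data.finalRange_iff data 36000 6000).mp Cfsg.Agent.Lib.Helper3.Cover.QU6M1.fin6 v (by omega) (by omega)
  rcases Nat.lt_or_ge v 48000 with h7 | h7
  · exact (Data.finalRange_iff data 42000 6000).mp Cfsg.Agent.Lib.Helper3.Cover.QU6M1.fin7 v (by omega) (by omega)
  rcases Nat.lt_or_ge v 54000 with h8 | h8
  · exact (Data.finalRange_iff data 48000 6000).mp Cfsg.Agent.Lib.Helper3.Cover.QU6M1.fin8 v (by omega) (by omega)
  rcases Nat.lt_or_ge v 60000 with h9 | h9
  · exact (Data.finalRange_iff data 54000 6000).mp Cfsg.Agent.Lib.Helper3.Cover.QU6M1.fin9 v (by omega) (by omega)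
  rcases Nat.lt_or_ge v 66000 with h10 | h10
  · exact (Data.finalRange_iff data 60000 6000).mp Cfsg.Agent.Lib.Helper3.Cover.QU6M2.fin10 v (by omega) (by omega)
  rcases Nat.lt_or_ge v 72000 with h11 | h11
  · exact (Data.finalRange_iff data 66000 6000).mp Cfsg.Agent.Lib.Helper3.Cover.QU6M2.fin11 v (by omega) (by omega)
  rcases Nat.lt_or_ge v 78000 with h12 | h12
  · exact (Data.finalRange_iff data 72000 6000).mp Cfsg.Agent.Lib.Helper3.Cover.QU6M2.fin12 v (by omega) (by omega)
  rcases Nat.lt_or_ge v 84000 with h13 | h13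
  · exact (Data.finalRange_iff data 78000 6000).mp Cfsg.Agent.Lib.Helper3.Cover.QU6M2.fin13 v (by omega) (by omega)
  rcases Nat.lt_or_ge v 90000 with h14 | h14
  · exact (Data.finalRange_iff data 84000 6000).mp Cfsg.Agent.Lib.Helper3.Cover.QU6M2.fin14 v (by omega) (by omega)
  rcases Nat.lt_or_ge v 96000 with h15 | h15
  · exact (Data.finalRange_iff data 90000 6000).mp Cfsg.Agent.Lib.Helper3.Cover.QU6M3.fin15 v (by omega) (by omega)
  rcases Nat.lt_or_ge v 102000 with h16 | h16
  · exact (Data.finalRange_iff data 96000 6000).mp Cfsg.Agent.Lib.Helper3.Cover.QU6M3.fin16 v (by omega) (by omega)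
  rcases Nat.lt_or_ge v 108000 with h17 | h17
  · exact (Data.finalRange_iff data 102000 6000).mp Cfsg.Agent.Lib.Helper3.Cover.QU6M3.fin17 v (by omega) (by omega)
  rcases Nat.lt_or_ge v 114000 with h18 | h18
  · exact (Data.finalRange_iff data 108000 6000).mp Cfsg.Agent.Lib.Helper3.Cover.QU6M3.fin18 v (by omega) (by omega)
  rcases Nat.lt_or_ge v 120000 with h19 | h19
  · exact (Data.finalRange_iff data 114000 6000).mp Cfsg.Agent.Lib.Helper3.Cover.QU6M3.fin19 v (by omega) (by omega)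
  rcases Nat.lt_or_ge v 126000 with h20 | h20
  · exact (Data.finalRange_iff data 120000 6000).mp Cfsg.Agent.Lib.Helper3.Cover.QU6M4.fin20 v (by omega) (by omega)
  rcases Nat.lt_or_ge v 132000 with h21 | h21
  · exact (Data.finalRange_iff data 126000 6000).mp Cfsg.Agent.Lib.Helper3.Cover.QU6M4.fin21 v (by omega) (by omega)
  rcases Nat.lt_or_ge v 138000 with h22 | h22
  · exact (Data.finalRange_iff data 132000 6000).mp Cfsg.Agent.Lib.Helper3.Cover.QU6M4.fin22 v (by omega) (by omega)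
  rcases Nat.lt_or_ge v 144000 with h23 | h23
  · exact (Data.finalRange_iff data 138000 6000).mp Cfsg.Agent.Lib.Helper3.Cover.QU6M4.fin23 v (by omega) (by omega)
  rcases Nat.lt_or_ge v 150000 with h24 | h24
  · exact (Data.finalRange_iff data 144000 6000).mp Cfsg.Agent.Lib.Helper3.Cover.QU6M4.fin24 v (by omega) (by omega)
  rcases Nat.lt_or_ge v 156000 with h25 | h25
  · exact (Data.finalRange_iff data 150000 6000).mp Cfsg.Agent.Lib.Helper3.Cover.QU6M5.fin25 v (by omega) (by omega)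
  exact (Data.finalRange_iff data 156000 760).mp Cfsg.Agent.Lib.Helper3.Cover.QU6M5.fin26 v (by omega) (by omega)

theorem hfin : data.finalOK = true := Data.finalOK_of_rows data hlive0 (by decide) hrows

theorem pc0 : Data.countFrom data 0 6000 = 1279 := Cfsg.Agent.Lib.Helper3.Cover.QU6M5.cnt0
theorem pc1 : Data.countFrom data 0 12000 = 2206 := Data.countFrom_step data pc0 Cfsg.Agent.Lib.Helper3.Cover.QU6M5.cnt1 (by norm_num) (by norm_num)
theorem pc2 : Data.countFrom data 0 18000 = 3058 := Data.countFrom_step data pc1 Cfsg.Agent.Lib.Helper3.Cover.QU6M5.cnt2 (by norm_num) (by norm_num)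
theorem pc3 : Data.countFrom data 0 24000 = 3894 := Data.countFrom_step data pc2 Cfsg.Agent.Lib.Helper3.Cover.QU6M6.cnt3 (by norm_num) (by norm_num)
theorem pc4 : Data.countFrom data 0 30000 = 4190 := Data.countFrom_step data pc3 Cfsg.Agent.Lib.Helper3.Cover.QU6M6.cnt4 (by norm_num) (by norm_num)
theorem pc5 : Data.countFrom data 0 36000 = 4693 := Data.countFrom_step data pc4 Cfsg.Agent.Lib.Helper3.Cover.QU6M6.cnt5 (by norm_num) (by norm_num)
theorem pc6 : Data.countFrom data 0 42000 = 4706 := Data.countFrom_step data pc5 Cfsg.Agent.Lib.Helper3.Cover.QU6M6.cnt6 (by norm_num) (by norm_num)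
theorem pc7 : Data.countFrom data 0 48000 = 5110 := Data.countFrom_step data pc6 Cfsg.Agent.Lib.Helper3.Cover.QU6M6.cnt7 (by norm_num) (by norm_num)
theorem pc8 : Data.countFrom data 0 54000 = 5354 := Data.countFrom_step data pc7 Cfsg.Agent.Lib.Helper3.Cover.QU6M7.cnt8 (by norm_num) (by norm_num)
theorem pc9 : Data.countFrom data 0 60000 = 5470 := Data.countFrom_step data pc8 Cfsg.Agent.Lib.Helper3.Cover.QU6M7.cnt9 (by norm_num) (by norm_num)
theorem pc10 : Data.countFrom data 0 66000 = 5535 := Data.countFrom_step data pc9 Cfsg.Agent.Lib.Helper3.Cover.QU6M7.cnt10 (by norm_num) (by norm_num)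
theorem pc11 : Data.countFrom data 0 72000 = 5535 := Data.countFrom_step data pc10 Cfsg.Agent.Lib.Helper3.Cover.QU6M7.cnt11 (by norm_num) (by norm_num)
theorem pc12 : Data.countFrom data 0 78000 = 5591 := Data.countFrom_step data pc11 Cfsg.Agent.Lib.Helper3.Cover.QU6M7.cnt12 (by norm_num) (by norm_num)
theorem pc13 : Data.countFrom data 0 84000 = 5610 := Data.countFrom_step data pc12 Cfsg.Agent.Lib.Helper3.Cover.QU6M8.cnt13 (by norm_num) (by norm_num)
theorem pc14 : Data.countFrom data 0 90000 = 5612 := Data.countFrom_step data pc13 Cfsg.Agent.Lib.Helper3.Cover.QU6M8.cnt14 (by norm_num) (by norm_num)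
theorem pc15 : Data.countFrom data 0 96000 = 5612 := Data.countFrom_step data pc14 Cfsg.Agent.Lib.Helper3.Cover.QU6M8.cnt15 (by norm_num) (by norm_num)
theorem pc16 : Data.countFrom data 0 102000 = 5627 := Data.countFrom_step data pc15 Cfsg.Agent.Lib.Helper3.Cover.QU6M8.cnt16 (by norm_num) (by norm_num)
theorem pc17 : Data.countFrom data 0 108000 = 5632 := Data.countFrom_step data pc16 Cfsg.Agent.Lib.Helper3.Cover.QU6M8.cnt17 (by norm_num) (by norm_num)
theorem pc18 : Data.countFrom data 0 114000 = 5632 := Data.countFrom_step data pc17 Cfsg.Agent.Lib.Helper3.Cover.QU6M9.cnt18 (by norm_num) (by norm_num)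
theorem pc19 : Data.countFrom data 0 120000 = 5632 := Data.countFrom_step data pc18 Cfsg.Agent.Lib.Helper3.Cover.QU6M9.cnt19 (by norm_num) (by norm_num)
theorem pc20 : Data.countFrom data 0 126000 = 5632 := Data.countFrom_step data pc19 Cfsg.Agent.Lib.Helper3.Cover.QU6M9.cnt20 (by norm_num) (by norm_num)
theorem pc21 : Data.countFrom data 0 132000 = 5632 := Data.countFrom_step data pc20 Cfsg.Agent.Lib.Helper3.Cover.QU6M9.cnt21 (by norm_num) (by norm_num)
theorem pc22 : Data.countFrom data 0 138000 = 5632 := Data.countFrom_step data pc21 Cfsg.Agent.Lib.Helper3.Cover.QU6M9.cnt22 (by norm_num) (by norm_num)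
theorem pc23 : Data.countFrom data 0 144000 = 5632 := Data.countFrom_step data pc22 Cfsg.Agent.Lib.Helper3.Cover.QU6M10.cnt23 (by norm_num) (by norm_num)
theorem pc24 : Data.countFrom data 0 150000 = 5632 := Data.countFrom_step data pc23 Cfsg.Agent.Lib.Helper3.Cover.QU6M10.cnt24 (by norm_num) (by norm_num)
theorem pc25 : Data.countFrom data 0 156000 = 5632 := Data.countFrom_step data pc24 Cfsg.Agent.Lib.Helper3.Cover.QU6M10.cnt25 (by norm_num) (by norm_num)
theorem pc26 : Data.countFrom data 0 156760 = 5632 := Data.countFrom_step data pc25 Cfsg.Agent.Lib.Helper3.Cover.QU6M10.cnt26 (by norm_num) (by norm_num)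

theorem hcount : data.countLive = table.n := by
  rw [Data.countLive_eq]
  exact pc26

theorem hpermAll : ∀ p, p < table.n → Table.permRow table p = true := by
  intro p hv
  have hv' : p < 5632 := hv
  exact (Table.permRange_iff table 0 5632).mp Cfsg.Agent.Lib.Helper3.Cover.QU6M10.prm0 p (by omega) (by omega)

theorem hT : table.OK := Table.ok_of_rows table hinvOK hpermAll

theorem htreeAll : ∀ i, i < Nat.pred table.n → Table.treeRow table i = true := by
  intro p hv
  have hv' : p < 5631 := hv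
  exact (Table.treeRange_iff table 0 5631).mp Cfsg.Agent.Lib.Helper3.Cover.QU6M11.tre0 p (by omega) (by omega)

theorem htree : table.treeOK = true := Table.treeOK_of_rows table htreeAll

theorem hchkT : ∀ P ∈ chkPaths, ∀ p, p < table.n → table.walkT P p = p := by
  intro P hm p hv
  have hv' : p < 5632 := hv
  rcases Nat.lt_or_ge p 2000 with h0 | h0
  · exact (Table.relOK_iff chkPaths 0 2000).mp Cfsg.Agent.Lib.Helper3.Cover.QU6L0.rel0 p (by omega) (by omega) _ hm
  rcases Nat.lt_or_ge p 4000 with h1 | h1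
  · exact (Table.relOK_iff chkPaths 2000 2000).mp Cfsg.Agent.Lib.Helper3.Cover.QU6L0.rel1 p (by omega) (by omega) _ hm
  exact (Table.relOK_iff chkPaths 4000 1632).mp Cfsg.Agent.Lib.Helper3.Cover.QU6L0.rel2 p (by omega) (by omega) _ hm

theorem hrelT : ∀ L ∈ relWords, ∀ p, p < table.n → table.walkT (pathOf lw L) p = p :=
  fun L hL => Table.fix_of_covered hT chkPaths hchkT _ (hcov _ (hrelmem L hL)).1 (hcov _ (hrelmem L hL)).2

theorem hsubT : ∀ L ∈ subWords, table.walkT (pathOf lw L) 0 = 0 :=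
  fun L hL => (Table.subOK_iff subPaths).mp hsub0 _ (hsubmem L hL)

theorem hn : 0 < table.n := by decide

theorem main : ((Subgroup.closure S).map (PresentedGroup.mk rels)).index = table.n ∧
    ∃ φ : PresentedGroup rels →* Equiv.Perm (Fin table.n),
      (∀ x, φ (PresentedGroup.of x) = Table.sigma hT (lw (x, true))) ∧
      ∃ f : PresentedGroup rels ⧸ (Subgroup.closure S).map (PresentedGroup.mk rels) → Fin table.n,
        Function.Bijective f ∧ (∀ g q, f (g • q) = φ g (f q)) ∧ f (QuotientGroup.mk 1) = ⟨0, hn⟩ :=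
  index_eq link hchk hfin hcount hT hn hrelT hsubT htree

end Cfsg.Agent.Lib.Helper3.Cover.QU6Main
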