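import Cfsg.Agent.Lib.Helper3.Cover.U62BarC
import Cfsg.Agent.Lib.Helper3.Cover.QU6Main

set_option autoImplicit false
set_option maxRecDepth 100000

/-!
# The index of `⟨a, b, c⟩` in the covering presentation of `PSU₆(2)` divides 5632

The auxiliary presented group `QU6` (generators `a, b, c, t, d`, relators written backwards) maps onto the quotient
`E / N` of the covering presentation (generators to the inverses of the generators), the subgroup `⟨a, b, c⟩` onto the
image of `⟨a, b, c⟩`, and `N ≤ ⟨a, b, c⟩`; in `QU6` the index is 5632 by coset enumeration.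
-/

namespace Cfsg.Agent.Lib.Helper3.Cover.U62Bar

open Cfsg Cfsg.Agent.Lib.Helper3 Cfsg.Agent.Lib.Helper3.Cover.U43Iso Cfsg.Agent.Lib.Helper3.Cover.U62Iso
open Cfsg.Agent.Lib.Helper3.Cover.U43Mat
open Cfsg.Agent.Lib.Helper19.PSU33Spec Cfsg.Agent.Lib.Helper19.U43Model Cfsg.Agent.Lib.Helper19.U43Main
open Cfsg.Agent.Lib.Helper28.TC2Tower Cfsg.Agent.Lib.Helper28.TC2Subst
open scoped IsMulCommutative

/-! ### the relator `r₁₉` -/

/-- the first part of the relator -/
def g1w : List (EU6Def.Gen × Bool) := [(.b, false), (.b, false), (.a, true), (.b, true), (.c, true), (.a, true)]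

/-- a word in `a, b, c` that is trivial in `PSU₄(3)` -/
def h0 : List (EU4Def.Gen × Bool) :=
  [(.b, false), (.b, false), (.a, true), (.b, true), (.c, true), (.a, true)] ++
    [(.a, true), (.c, true), (.b, false)] ++ sub4 .a ++ sub4 .b ++ sub4 .b

theorem h0_chk : evalW h0 = (evalW h0 0 0) • (1 : M4) := by decide +kernel

theorem R19_split : R6 19 = g1w ++ [(.d, true)] ++ subC .g ++ [(.d, true)] ++ [(.t, true)] := by decide +kernel

theorem g_split : subC .g = [(.a, true), (.c, true), (.b, false)] ++ [(.t, true)] ++ [(.a, true)] ++ [(.b, true)] ++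
    [(.b, true)] := rfl

theorem h0_up : upWord U62Iso.up h0 =
    g1w ++ [(.a, true), (.c, true), (.b, false)] ++ sub6 .a ++ sub6 .b ++ sub6 .b := by decide +kernel

theorem bmk_R19 : bmk (R6 19) = 1 := by
  have hg := d_comm_g
  set G := bmk (subC .g) with hG
  set G1 := bmk g1w with hG1
  have e1 : bmk (R6 19) = G1 * Dd * G * Dd * T := by
    rw [R19_split]
    simp only [bmk_append]
    rfl
  have e2 : G1 * Dd * G * Dd * T = G1 * G * T * (Dd * Dd) := by
    calc G1 * Dd * G * Dd * T = G1 * (Dd * G) * Dd * T := by group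
      _ = G1 * (G * Dd) * Dd * T := by rw [hg]
      _ = G1 * G * ((Dd * Dd) * T) := by group
      _ = G1 * G * (T * (Dd * Dd)) := by rw [← dd_comm T]
      _ = G1 * G * T * (Dd * Dd) := by group
  set A := bmk [(EU6Def.Gen.a, true)] with hA
  set B := bmk [(EU6Def.Gen.b, true)] with hB
  set W := bmk [(EU6Def.Gen.a, true), (.c, true), (.b, false)] with hW
  have e3 : G = W * T * A * B * B := by
    rw [hG, g_split]
    simp only [bmk_append]
    rfl
  have ta : T * A * T⁻¹ = bmk (sub6 .a) := t_exact .a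
  have tb : T * B * T⁻¹ = bmk (sub6 .b) := t_exact .b
  have e4 : G * T = W * bmk (sub6 .a) * bmk (sub6 .b) * bmk (sub6 .b) * (T * T) := by
    calc G * T = W * (T * A * T⁻¹) * (T * B * T⁻¹) * (T * B * T⁻¹) * (T * T) := by rw [e3]; group
      _ = W * bmk (sub6 .a) * bmk (sub6 .b) * bmk (sub6 .b) * (T * T) := by rw [ta, tb]
  have e5 : G1 * W * bmk (sub6 .a) * bmk (sub6 .b) * bmk (sub6 .b) = 1 := by
    have := bmk_up_eq_one h0 h0_chk
    rw [h0_up] at this
    simp only [bmk_append] at this
    exact this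
  rw [e1, e2]
  calc G1 * G * T * (Dd * Dd) = G1 * (G * T) * (Dd * Dd) := by group
    _ = G1 * (W * bmk (sub6 .a) * bmk (sub6 .b) * bmk (sub6 .b) * (T * T)) * (Dd * Dd) := by rw [e4]
    _ = (G1 * W * bmk (sub6 .a) * bmk (sub6 .b) * bmk (sub6 .b)) * (T * T * (Dd * Dd)) := by group
    _ = 1 := by rw [e5, tt_dd, one_mul]

/-! ### all the relators -/

theorem bmk_tconj (x : EU4Def.Gen) : bmk (tconj x) = 1 := by
  unfold tconj
  rw [bmk_append, bmk_invRev, bmk_three, bmk_inv_letter, t_exact, mul_inv_cancel]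

theorem bmk_dconj (x : CGen) (h : Dd * bmk (subC x) = bmk (subC x) * Dd) : bmk (dconj x) = 1 := by
  unfold dconj
  rw [bmk_cons, bmk_append, bmk_cons (.d, false), bmk_invRev, bmk_inv_letter]
  calc Dd * (bmk (subC x) * (Dd⁻¹ * (bmk (subC x))⁻¹)) = (Dd * bmk (subC x)) * Dd⁻¹ * (bmk (subC x))⁻¹ := by group
    _ = (bmk (subC x) * Dd) * Dd⁻¹ * (bmk (subC x))⁻¹ := by rw [h]
    _ = 1 := by group

theorem hQ : ∀ L ∈ Qstruct, bmk L = 1 := by
  intro L hL
  unfold Qstruct at hL
  rw [List.mem_append, List.mem_append] at hL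
  rcases hL with (hL | hL) | hL
  · obtain ⟨M, hM, rfl⟩ := List.mem_map.mp hL
    exact bmk_up_rel M hM
  · simp only [List.mem_cons, List.not_mem_nil, or_false] at hL
    rcases hL with rfl | rfl | rfl | rfl | rfl | rfl | rfl | rfl | rfl | rfl | rfl | rfl | rfl
    · exact bmk_tconj .a
    · exact bmk_tconj .b
    · exact bmk_tconj .c
    · exact bmk_dconj .u d_comm_u
    · exact bmk_dconj .v d_comm_v
    · exact bmk_comm tt htt .d
    · exact bmk_comm dd hdd .a
    · exact bmk_comm dd hdd .b
    · exact bmk_comm dd hdd .c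
    · exact bmk_comm dd hdd .t
    · rw [bmk_R17, nrm_d_rel, tt_dd]
    · rw [bmk_append, bmk_tt, bmk_dd, tt_dd]
    · rw [bmk_append]
      have e : bmk [(EU6Def.Gen.d, false), (.d, false), (.d, false), (.d, false)] = Dd⁻¹ * Dd⁻¹ * Dd⁻¹ * Dd⁻¹ := by
        have e' : [(EU6Def.Gen.d, false), (EU6Def.Gen.d, false), (EU6Def.Gen.d, false), (EU6Def.Gen.d, false)] =
            [(EU6Def.Gen.d, false)] ++ [(EU6Def.Gen.d, false)] ++ [(EU6Def.Gen.d, false)] ++ [(EU6Def.Gen.d, false)] := rfl
        rw [e']
        simp only [bmk_append, bmk_inv_letter]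
      rw [e]
      exact nrm_t_rel
  · rw [List.mem_append, List.mem_append] at hL
    rcases hL with hL | hL | hL
    · obtain ⟨x, -, rfl⟩ := List.mem_map.mp hL
      exact bmk_comm _ (hR6 19 (by norm_num)) x
    · obtain ⟨x, -, rfl⟩ := List.mem_map.mp hL
      exact bmk_comm _ (hR6 20 (by norm_num)) x
    · simp only [List.mem_cons, List.not_mem_nil, or_false] at hL
      rcases hL with rfl | rfl | rfl | rfl
      · exact bmk_R19
      · exact bmk_comm tt htt .a
      · exact bmk_comm tt htt .b
      · exact bmk_comm tt htt .c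

/-! ### the homomorphism from the auxiliary presented group -/

/-- the images of the generators: the inverses -/
noncomputable def finv (x : EU6Def.Gen) : Ebar := (bmk [(x, true)])⁻¹

theorem lift_finv (L : List (EU6Def.Gen × Bool)) :
    FreeGroup.lift finv (FreeGroup.mk L) = (bmk L.reverse)⁻¹ := by
  induction L with
  | nil =>
    have : (FreeGroup.mk ([] : List (EU6Def.Gen × Bool))) = 1 := rfl
    rw [this, map_one, List.reverse_nil, bmk_nil, inv_one]
  | cons p L ih =>
    have e : FreeGroup.mk (p :: L) = FreeGroup.mk [p] * FreeGroup.mk L := by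
      rw [FreeGroup.mul_mk]; rfl
    rw [e, map_mul, ih, List.reverse_cons, bmk_append, mul_inv_rev]
    congr 1
    obtain ⟨x, b⟩ := p
    cases b
    · have e1 : FreeGroup.mk [(x, false)] = (FreeGroup.of x)⁻¹ := by
        show _ = (FreeGroup.mk [(x, true)])⁻¹
        rw [FreeGroup.inv_mk]; rfl
      rw [e1, map_inv, FreeGroup.lift_apply_of, bmk_inv_letter]
      rfl
    · have e1 : FreeGroup.mk [(x, true)] = FreeGroup.of x := rfl
      rw [e1, FreeGroup.lift_apply_of]
      rfl

theorem exists_psi : ∃ ψ : PresentedGroup QU6Link.rels →* Ebar, ∀ x, ψ (PresentedGroup.of x) = finv x := by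
  apply exists_hom_of_words QU6Link.rels finv QU6Link.relWords (fun r hr => hr)
  intro L hL
  have hL' : L ∈ Qstruct.map List.reverse := by
    rw [← relWords_eq]; exact hL
  obtain ⟨M, hM, rfl⟩ := List.mem_map.mp hL'
  rw [lift_finv, List.reverse_reverse, hQ M hM, inv_one]

/-- the subgroup `⟨a, b, c⟩` of the covering presentation -/
noncomputable abbrev Hhat : Subgroup DU6.E := (Subgroup.closure PU6Link.S).map (PresentedGroup.mk DU6.relsE)

theorem map_up_mem (w : FreeGroup EU4Def.Gen) : FreeGroup.map U62Iso.up w ∈ Subgroup.closure PU6Link.S := by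
  induction w using FreeGroup.induction_on with
  | C1 => rw [map_one]; exact Subgroup.one_mem _
  | of x =>
    apply Subgroup.subset_closure
    rw [FreeGroup.map.of]
    cases x
    · exact Or.inl rfl
    · exact Or.inr (Or.inl rfl)
    · exact Or.inr (Or.inr rfl)
  | inv_of x ih => rw [map_inv]; exact Subgroup.inv_mem _ ih
  | mul x y hx hy => rw [map_mul]; exact Subgroup.mul_mem _ hx hy

theorem N_le_Hhat : N ≤ Hhat := by
  unfold N
  rw [Subgroup.closure_le]
  rintro _ ⟨L, hL, rfl⟩
  exact ⟨FreeGroup.map U62Iso.up (FreeGroup.mk L), map_up_mem _, rfl⟩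

theorem qm_surjective : Function.Surjective qm := QuotientGroup.mk'_surjective N

/-- the index of `⟨a, b, c⟩` in the covering presentation of `PSU₆(2)` divides 5632 -/
theorem index_dvd : Hhat.index ∣ 5632 := by
  obtain ⟨ψ, hψ⟩ := exists_psi
  -- the homomorphism is surjective
  have hsurj : Function.Surjective ψ := by
    intro y
    obtain ⟨e, rfl⟩ := qm_surjective y
    obtain ⟨w, rfl⟩ := PresentedGroup.mk_surjective _ e
    show qm (PresentedGroup.mk DU6.relsE w) ∈ ψ.range
    induction w using FreeGroup.induction_on with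
    | C1 => rw [map_one, map_one]; exact Subgroup.one_mem _
    | of x =>
      have : qm (PresentedGroup.mk DU6.relsE (FreeGroup.of x)) = (ψ (PresentedGroup.of x))⁻¹ := by
        rw [hψ]
        unfold finv
        rw [inv_inv]
        rfl
      rw [this]
      exact Subgroup.inv_mem _ ⟨_, rfl⟩
    | inv_of x ih => rw [map_inv, map_inv]; exact Subgroup.inv_mem _ ih
    | mul x y hx hy => rw [map_mul, map_mul]; exact Subgroup.mul_mem _ hx hy
  set HQ : Subgroup (PresentedGroup QU6Link.rels) :=
    (Subgroup.closure QU6Link.S).map (PresentedGroup.mk QU6Link.rels) with hHQ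
  have hidx : HQ.index = 5632 := QU6Main.main.1
  -- the images of the two subgroups agree
  have himg : HQ.map ψ = Hhat.map qm := by
    rw [hHQ, Subgroup.map_map, Subgroup.map_map, MonoidHom.map_closure, MonoidHom.map_closure]
    apply le_antisymm
    · rw [Subgroup.closure_le]
      rintro _ ⟨s, hs, rfl⟩
      have hs' : s = FreeGroup.of EU6Def.Gen.a ∨ s = FreeGroup.of EU6Def.Gen.b ∨ s = FreeGroup.of EU6Def.Gen.c := hs
      have key : ∀ x : EU6Def.Gen, FreeGroup.of x ∈ PU6Link.S →
          (ψ.comp (PresentedGroup.mk QU6Link.rels)) (FreeGroup.of x) ∈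
            Subgroup.closure ((qm.comp (PresentedGroup.mk DU6.relsE)) '' PU6Link.S) := by
        intro x hx
        have : (ψ.comp (PresentedGroup.mk QU6Link.rels)) (FreeGroup.of x) =
            ((qm.comp (PresentedGroup.mk DU6.relsE)) (FreeGroup.of x))⁻¹ := by
          show ψ (PresentedGroup.of x) = _
          rw [hψ]
          rfl
        rw [this]
        exact Subgroup.inv_mem _ (Subgroup.subset_closure ⟨_, hx, rfl⟩)
      rcases hs' with rfl | rfl | rfl
      · exact key _ (Or.inl rfl)
      · exact key _ (Or.inr (Or.inl rfl))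
      · exact key _ (Or.inr (Or.inr rfl))
    · rw [Subgroup.closure_le]
      rintro _ ⟨s, hs, rfl⟩
      have hs' : s = FreeGroup.of EU6Def.Gen.a ∨ s = FreeGroup.of EU6Def.Gen.b ∨ s = FreeGroup.of EU6Def.Gen.c := hs
      have key : ∀ x : EU6Def.Gen, FreeGroup.of x ∈ QU6Link.S →
          (qm.comp (PresentedGroup.mk DU6.relsE)) (FreeGroup.of x) ∈
            Subgroup.closure ((ψ.comp (PresentedGroup.mk QU6Link.rels)) '' QU6Link.S) := by
        intro x hx
        have : (qm.comp (PresentedGroup.mk DU6.relsE)) (FreeGroup.of x) =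
            ((ψ.comp (PresentedGroup.mk QU6Link.rels)) (FreeGroup.of x))⁻¹ := by
          show _ = (ψ (PresentedGroup.of x))⁻¹
          rw [hψ]
          unfold finv
          rw [inv_inv]
          rfl
        rw [this]
        exact Subgroup.inv_mem _ (Subgroup.subset_closure ⟨_, hx, rfl⟩)
      rcases hs' with rfl | rfl | rfl
      · exact key _ (Or.inl rfl)
      · exact key _ (Or.inr (Or.inl rfl))
      · exact key _ (Or.inr (Or.inr rfl))
  have h1 : (HQ.map ψ).index ∣ HQ.index := Subgroup.index_map_dvd HQ hsurj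
  have h2 : (Hhat.map qm).index = Hhat.index := by
    apply Subgroup.index_map_eq Hhat qm_surjective
    rw [QuotientGroup.ker_mk']
    exact N_le_Hhat
  rw [himg, h2, hidx] at h1
  exact h1

end Cfsg.Agent.Lib.Helper3.Cover.U62Bar
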