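import Cfsg.Agent.Lib.Helper3.Cover.Finite
import Cfsg.Agent.Lib.Helper3.Cover.CodeHom
import Cfsg.Agent.Lib.Helper3.Cover.Lower
import Cfsg.Agent.Lib.Helper3.Cover.Univ
import Cfsg.Agent.Lib.Helper3.Cover.AbelianTri
import Cfsg.Agent.Lib.Helper3.Cover.KillKer
import Cfsg.Agent.Lib.Helper3.Cover.U43Main
import Cfsg.Agent.Lib.Helper3.Cover.U62BarD
import Cfsg.Agent.Lib.Helper3.Cover.LU6ALow
import Cfsg.Agent.Lib.Helper3.Cover.LU6BLow
import Cfsg.Agent.Lib.Helper3.Cover.LU6CLow
import Cfsg.Agent.Lib.Helper19.SUCongr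
import Cfsg.Agent.Lib.Helper28.TC2Tower
import Cfsg.Agent.Lib.Helper28.TC2Subst

set_option autoImplicit false
set_option maxRecDepth 100000

/-!
# The Schur multiplier of `PSU₆(2)` is `Z/3 × Z/2 × Z/2`

`PU6 = ⟨a, b, c, t, d | …⟩ ≅ PSU₆(2)` with `⟨a, b, c⟩ ≅ PSU₄(3)` of index 2816 and `t` normalising this subgroup.
In the covering presentation `EU6` the subgroup `⟨a, b, c⟩` is a quotient of the covering presentation `EU4` of
`PSU₄(3)` (of order `36 * 3265920`); the image of the kernel of `EU4` is central in `EU6`, hence centralised by `t`,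
and this gives six elements of the kernel of `EU4` that die in `EU6`.  So the subgroup has order at most
`6 * 3265920`; its index divides 5632 (`U62BarD`), so the kernel of `EU6` has order at most 12.  Three permutation
representations of the covering group (two of degree 5632 and one of degree 2079, on the nonzero isotropic vectors)
separate 12 elements of the kernel.
-/

namespace Cfsg.Agent.Lib.Helper3.Cover.U62Main

open Cfsg Cfsg.Agent.Lib.Helper3 Cfsg.Agent.Lib.Helper3.Cover.U43Iso Cfsg.Agent.Lib.Helper3.Cover.U62Iso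
open Cfsg.Agent.Lib.Helper3.Cover.U62Bar
open Cfsg.Agent.Lib.Helper3.Cover.KillKer
open Cfsg.Agent.Lib.Helper28.TC2Upper Cfsg.Agent.Lib.Helper28.TC2Lower Cfsg.Agent.Lib.Helper28.TC2Glue
open Cfsg.Agent.Lib.Helper28.TC2Tower Cfsg.Agent.Lib.Helper28.TC2Subst

/-! ### elements of the kernel of the covering group of `PSU₄(3)` that die -/

/-- a product of relators with exponent sums zero whose value has order 12 -/
def items8 : List (List (EU4Def.Gen × Bool) × ℤ) :=
  [(EU4Def.R.getD 8 [], 1), (EU4Def.R.getD 7 [], 1), (EU4Def.R.getD 5 [], -5), (EU4Def.R.getD 2 [], 1),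
    (EU4Def.R.getD 4 [], 3), (EU4Def.R.getD 1 [], 2), (EU4Def.R.getD 3 [], -7)]

/-- a product of relators with exponent sums zero whose value has order 6 -/
def items3 : List (List (EU4Def.Gen × Bool) × ℤ) :=
  [(EU4Def.R.getD 9 [], 1), (EU4Def.R.getD 0 [], -3), (EU4Def.R.getD 5 [], -2)]

def m8 : List (EU4Def.Gen × Bool) := combWord items8
def m3 : List (EU4Def.Gen × Bool) := combWord items3
/-- an element of order 6 of the kernel -/
def n8 : List (EU4Def.Gen × Bool) := m8 ++ FreeGroup.invRev (substW sub4 m8)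
/-- an element of order 3 of the kernel -/
def n3 : List (EU4Def.Gen × Bool) := m3 ++ FreeGroup.invRev (substW sub4 m3)

/-- six elements of the kernel -/
def six : List (List (EU4Def.Gen × Bool)) := [[], n8, n3, n8 ++ n3, n3 ++ n3, n8 ++ (n3 ++ n3)]

theorem htt : [(EU6Def.Gen.t, true), (EU6Def.Gen.t, true)] ∈ DU6.R := by decide +kernel

theorem hconj : ∀ x : EU4Def.Gen,
    ((EU6Def.Gen.t, true) :: (U62Iso.up x, true) :: (EU6Def.Gen.t, true) :: FreeGroup.invRev (sub6 x)) ∈ DU6.R := by
  intro x; cases x <;> decide +kernel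

theorem hitems8 : ∀ p ∈ items8, upWord U62Iso.up p.1 ∈ DU6.R := by decide +kernel
theorem hitems3 : ∀ p ∈ items3, upWord U62Iso.up p.1 ∈ DU6.R := by decide +kernel
theorem hexp8 : ∀ x : EU4Def.Gen, expL x (combWord items8) = 0 := by intro x; cases x <;> decide +kernel
theorem hexp3 : ∀ x : EU4Def.Gen, expL x (combWord items3) = 0 := by intro x; cases x <;> decide +kernel

theorem up_n8 : upWord U62Iso.up n8 = upWord U62Iso.up m8 ++ FreeGroup.invRev (substW sub6 m8) := by decide +kernel
theorem up_n3 : upWord U62Iso.up n3 = upWord U62Iso.up m3 ++ FreeGroup.invRev (substW sub6 m3) := by decide +kernel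

theorem kill8 : emk (upWord U62Iso.up n8) = 1 := by
  rw [up_n8, emk_append, emk_invRev]
  have h := mk_subst_eq DU6 U62Iso.up .t sub6 htt hconj items8 hitems8 hexp8
  show emk (upWord U62Iso.up m8) * (emk (substW sub6 m8))⁻¹ = 1
  rw [mul_inv_eq_one]
  exact h

theorem kill3 : emk (upWord U62Iso.up n3) = 1 := by
  rw [up_n3, emk_append, emk_invRev]
  have h := mk_subst_eq DU6 U62Iso.up .t sub6 htt hconj items3 hitems3 hexp3
  show emk (upWord U62Iso.up m3) * (emk (substW sub6 m3))⁻¹ = 1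
  rw [mul_inv_eq_one]
  exact h

theorem up_append (L M : List (EU4Def.Gen × Bool)) : upWord U62Iso.up (L ++ M) = upWord U62Iso.up L ++ upWord U62Iso.up M :=
  List.map_append

theorem kill_six : ∀ L ∈ six, emk (upWord U62Iso.up L) = 1 := by
  intro L hL
  simp only [six, List.mem_cons, List.not_mem_nil, or_false] at hL
  rcases hL with rfl | rfl | rfl | rfl | rfl | rfl
  · rfl
  · exact kill8
  · exact kill3
  · rw [up_append, emk_append, kill8, kill3, one_mul]
  · rw [up_append, emk_append, kill3, one_mul]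
  · rw [up_append, up_append, emk_append, emk_append, kill8, kill3, one_mul, one_mul]

/-- the images of the first point under the six elements -/
def sixKeys : List ℕ := [0, 19260, 19074, 5, 19132, 19241]

theorem six_keys : six.map (fun L => LU4Table.table.walkT (pathOf EU4Link.lw L) 0) = sixKeys := by
  decide +kernel

theorem sixKeys_nodup : sixKeys.Nodup := by decide +kernel

theorem six_nodup : (six.map fun L => (PresentedGroup.mk EU4Link.rels (FreeGroup.mk L))).Nodup := by
  obtain ⟨φ1, hφ1⟩ := lower_hom EU4Def.relWords EU4Link.lw LU4Table.table LU4Low.hT U43Main.lwkU U43Main.lwinvU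
    (fun L hL => LU4Low.hchkT _ (U43Main.hmemU L hL))
  have h0 : 0 < LU4Table.table.n := by decide
  have key : (six.map fun L =>
      (φ1 (PresentedGroup.mk (relSet EU4Def.relWords) (FreeGroup.mk L)) ⟨0, h0⟩).val).Nodup := by
    have e : (six.map fun L => (φ1 (PresentedGroup.mk (relSet EU4Def.relWords) (FreeGroup.mk L)) ⟨0, h0⟩).val) =
        six.map (fun L => LU4Table.table.walkT (pathOf EU4Link.lw L) 0) :=
      List.map_congr_left (fun L _ => hφ1 L ⟨0, h0⟩)
    rw [e, six_keys]
    exact sixKeys_nodup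
  have key2 : ((six.map fun L => (PresentedGroup.mk (relSet EU4Def.relWords) (FreeGroup.mk L))).map
      (fun g => (φ1 g ⟨0, h0⟩).val)).Nodup := by
    rw [List.map_map]
    exact key
  exact List.Nodup.of_map _ key2

/-! ### the order of the covering group -/

theorem upE : ∀ L ∈ EU4Def.relWords, upWord U62Iso.up L ∈ EU6Def.relWords := by decide +kernel

theorem hSEU6 : ∀ s ∈ PU6Link.S, ∃ b, s = FreeGroup.of (U62Iso.up b) := by
  intro s hs
  simp only [PU6Link.S, Set.mem_insert_iff, Set.mem_singleton_iff] at hs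
  rcases hs with rfl | rfl | rfl
  exacts [⟨.a, rfl⟩, ⟨.b, rfl⟩, ⟨.c, rfl⟩]

theorem cardEU6 : Finite DU6.E ∧ Nat.card DU6.E ≤ 110361968640 := by
  haveI : Finite (PresentedGroup EU4Link.rels) := U43Main.cardEU4.1
  have hrel := hrel_of_words DU6.relsE EU4Link.rels U62Iso.up EU6Def.relWords EU4Link.relWords
    (fun _ => Iff.rfl) EU4Link.link.hrels upE
  obtain ⟨hfin, hle⟩ := card_le_of_subpres_ker DU6.relsE EU4Link.rels U62Iso.up hrel PU6Link.S hSEU6 six
    kill_six six_nodup
  have hdvd : Hhat.index ∣ 5632 := index_dvd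
  have hne : Hhat.index ≠ 0 := fun h0 => by rw [h0] at hdvd; norm_num at hdvd
  have hle' : Hhat.index ≤ 5632 := Nat.le_of_dvd (by norm_num) hdvd
  have := hfin
  refine ⟨finite_of_index Hhat hne, ?_⟩
  have h4 : Nat.card (PresentedGroup EU4Link.rels) ≤ 117573120 := U43Main.cardEU4.2
  have h6 : six.length = 6 := rfl
  rw [h6] at hle
  have hH : Nat.card Hhat ≤ 19595520 := by
    have : Nat.card Hhat * 6 ≤ 117573120 := le_trans hle h4
    omega
  calc Nat.card DU6.E = Hhat.index * Nat.card Hhat := (Hhat.index_mul_card).symm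
    _ ≤ 5632 * 19595520 := Nat.mul_le_mul hle' hH
    _ = 110361968640 := by norm_num

theorem card_ker_le : Nat.card DU6.proj.ker ≤ 3 * 2 * 2 := by
  haveI := cardEU6.1
  have h1 := DU6.card_E
  rw [cardPU6.2] at h1
  have h2 := cardEU6.2
  rw [h1] at h2
  have h5 : Nat.card ↥DU6.proj.ker * 9196830720 ≤ 12 * 9196830720 := h2
  exact Nat.le_of_mul_le_mul_right h5 (by norm_num)

/-! ### the permutation representations -/

def r8 : List (EU6Def.Gen × Bool) := EU6Def.R.getD 8 []
def r9 : List (EU6Def.Gen × Bool) := EU6Def.R.getD 9 []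
def r20 : List (EU6Def.Gen × Bool) := EU6Def.R.getD 20 []

theorem r8_mem : r8 ∈ EU6Def.R := by decide +kernel
theorem r9_mem : r9 ∈ EU6Def.R := by decide +kernel
theorem r20_mem : r20 ∈ EU6Def.R := by decide +kernel

/-- an element of order 3 of the kernel -/
def za : List (EU6Def.Gen × Bool) := r9
/-- an element of order 2 of the kernel -/
def zb : List (EU6Def.Gen × Bool) := r20
/-- an element of order 2 of the kernel -/
def zc : List (EU6Def.Gen × Bool) := (List.replicate 3 r8).flatten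

/-- the word of the element number `n` of the kernel -/
def wordN (n : ℕ) : List (EU6Def.Gen × Bool) :=
  ((List.replicate (n / 4) za).flatten ++ (List.replicate (n / 2 % 2) zb).flatten) ++
    (List.replicate (n % 2) zc).flatten

/-- the images of the first points of the three representations under the element number `n` -/
noncomputable def keyN (n : ℕ) : ℕ × ℕ × ℕ :=
  (LU6ATable.table.walkT (pathOf PU6Link.lw (wordN n)) 0,
    LU6BTable.table.walkT (pathOf PU6Link.lw (wordN n)) 0,
    LU6CTable.table.walkT (pathOf PU6Link.lw (wordN n)) 0)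

def keysLit : List (ℕ × ℕ × ℕ) := [(0, 0, 0), (0, 33, 0), (4793, 33, 0), (4793, 0, 0), (0, 0, 111), (0, 33, 111),
  (4793, 33, 111), (4793, 0, 111), (0, 0, 99), (0, 33, 99), (4793, 33, 99), (4793, 0, 99)]

theorem keys_eq : (List.range 12).map keyN = keysLit := by decide +kernel
theorem keys_nodup : keysLit.Nodup := by decide +kernel

theorem keyN_inj {m n : ℕ} (hm : m < 12) (hn : n < 12) (h : keyN m = keyN n) : m = n := by
  have h1 : ((List.range 12).map keyN).Nodup := by rw [keys_eq]; exact keys_nodup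
  exact List.inj_on_of_nodup_map h1 (List.mem_range.mpr hm) (List.mem_range.mpr hn) h

theorem lwkA : ∀ xb, PU6Link.lw xb < LU6ATable.table.k := by
  rintro ⟨x, b⟩; cases x <;> cases b <;> decide
theorem lwinvA : ∀ x, PU6Link.lw (x, false) = LU6ATable.table.invl (PU6Link.lw (x, true)) := by
  intro x; cases x <;> decide +kernel
theorem lwkB : ∀ xb, PU6Link.lw xb < LU6BTable.table.k := by
  rintro ⟨x, b⟩; cases x <;> cases b <;> decide
theorem lwinvB : ∀ x, PU6Link.lw (x, false) = LU6BTable.table.invl (PU6Link.lw (x, true)) := by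
  intro x; cases x <;> decide +kernel
theorem lwkC : ∀ xb, PU6Link.lw xb < LU6CTable.table.k := by
  rintro ⟨x, b⟩; cases x <;> cases b <;> decide
theorem lwinvC : ∀ x, PU6Link.lw (x, false) = LU6CTable.table.invl (PU6Link.lw (x, true)) := by
  intro x; cases x <;> decide +kernel

theorem hmemA : ∀ L ∈ EU6Def.relWords, pathOf PU6Link.lw L ∈ LU6ATable.chkPaths := by decide +kernel
theorem hmemB : ∀ L ∈ EU6Def.relWords, pathOf PU6Link.lw L ∈ LU6BTable.chkPaths := by decide +kernel
theorem hmemC : ∀ L ∈ EU6Def.relWords, pathOf PU6Link.lw L ∈ LU6CTable.chkPaths := by decide +kernel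

/-- the words whose triviality gives the orders -/
def powWords : List (List (EU6Def.Gen × Bool)) :=
  [(List.replicate 3 za).flatten, (List.replicate 2 zb).flatten, (List.replicate 2 zc).flatten]

theorem hpowA : ∀ L ∈ powWords, pathOf PU6Link.lw L ∈ LU6ATable.chkPaths := by decide +kernel
theorem hpowB : ∀ L ∈ powWords, pathOf PU6Link.lw L ∈ LU6BTable.chkPaths := by decide +kernel
theorem hpowC : ∀ L ∈ powWords, pathOf PU6Link.lw L ∈ LU6CTable.chkPaths := by decide +kernel

/-! ### the kernel -/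

theorem mk_mem_ker (L : List (EU6Def.Gen × Bool)) (hL : L ∈ EU6Def.R) : emk L ∈ DU6.proj.ker := by
  rw [MonoidHom.mem_ker, DU6.proj_mk]
  exact PresentedGroup.one_of_mem ⟨L, hL, rfl⟩

theorem za_mem_ker : emk za ∈ DU6.proj.ker := mk_mem_ker _ r9_mem
theorem zb_mem_ker : emk zb ∈ DU6.proj.ker := mk_mem_ker _ r20_mem

theorem zc_mem_ker : emk zc ∈ DU6.proj.ker := by
  have h : emk zc = emk r8 ^ 3 := by
    unfold emk zc
    rw [mk_flatten_replicate, map_pow]
  rw [h]
  exact Subgroup.pow_mem _ (mk_mem_ker _ r8_mem) 3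

theorem emk_wordN (n : ℕ) :
    emk (wordN n) = emk za ^ (n / 4) * emk zb ^ (n / 2 % 2) * emk zc ^ (n % 2) := by
  unfold emk wordN
  rw [← FreeGroup.mul_mk, ← FreeGroup.mul_mk, mk_flatten_replicate, mk_flatten_replicate,
    mk_flatten_replicate, map_mul, map_mul, map_pow, map_pow, map_pow]

/-- the number of a triple -/
def code (s : ZMod 3 × ZMod 2 × ZMod 2) : ℕ := 4 * s.1.val + 2 * s.2.1.val + s.2.2.val

theorem code_spec (s : ZMod 3 × ZMod 2 × ZMod 2) :
    code s < 12 ∧ code s / 4 = s.1.val ∧ code s / 2 % 2 = s.2.1.val ∧ code s % 2 = s.2.2.val := by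
  have h1 := ZMod.val_lt s.1
  have h2 := ZMod.val_lt s.2.1
  have h3 := ZMod.val_lt s.2.2
  unfold code
  omega

theorem code_inj {s t : ZMod 3 × ZMod 2 × ZMod 2} (h : code s = code t) : s = t := by
  obtain ⟨-, a1, a2, a3⟩ := code_spec s
  obtain ⟨-, b1, b2, b3⟩ := code_spec t
  rw [h] at a1 a2 a3
  exact Prod.ext (ZMod.val_injective 3 (a1.symm.trans b1))
    (Prod.ext (ZMod.val_injective 2 (a2.symm.trans b2)) (ZMod.val_injective 2 (a3.symm.trans b3)))

/-- the kernel of the covering group is `Z/3 × Z/2 × Z/2` -/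
theorem ker_iso : Nonempty (↥DU6.proj.ker ≃* Multiplicative (ZMod 3 × ZMod 2 × ZMod 2)) := by
  haveI := cardEU6.1
  obtain ⟨φA, hφA⟩ := lower_hom EU6Def.relWords PU6Link.lw LU6ATable.table LU6ALow.hT lwkA lwinvA
    (fun L hL => LU6ALow.hchkT _ (hmemA L hL))
  obtain ⟨φB, hφB⟩ := lower_hom EU6Def.relWords PU6Link.lw LU6BTable.table LU6BLow.hT lwkB lwinvB
    (fun L hL => LU6BLow.hchkT _ (hmemB L hL))
  obtain ⟨φC, hφC⟩ := lower_hom EU6Def.relWords PU6Link.lw LU6CTable.table LU6CLow.hT lwkC lwinvC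
    (fun L hL => LU6CLow.hchkT _ (hmemC L hL))
  have hcomm : ∀ a b : ↥DU6.proj.ker, a * b = b * a := fun a b =>
    Subtype.ext (Subgroup.mem_center_iff.mp (DU6.ker_proj_le_center b.2) a.1)
  have hval : ∀ s : ZMod 3 × ZMod 2 × ZMod 2,
      (((⟨emk za, za_mem_ker⟩ : ↥DU6.proj.ker) ^ s.1.val * (⟨emk zb, zb_mem_ker⟩ : ↥DU6.proj.ker) ^ s.2.1.val *
        (⟨emk zc, zc_mem_ker⟩ : ↥DU6.proj.ker) ^ s.2.2.val : ↥DU6.proj.ker) : DU6.E) = emk (wordN (code s)) := by
    intro s
    obtain ⟨-, a1, a2, a3⟩ := code_spec s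
    rw [emk_wordN, a1, a2, a3]
    rfl
  let Φ : DU6.E →* Equiv.Perm (Fin LU6ATable.table.n) × Equiv.Perm (Fin LU6BTable.table.n) ×
      Equiv.Perm (Fin LU6CTable.table.n) := φA.prod (φB.prod φC)
  have hΦ1 : ∀ L, Φ (emk L) = 1 ↔ φA (emk L) = 1 ∧ φB (emk L) = 1 ∧ φC (emk L) = 1 := by
    intro L
    show (φA (emk L), φB (emk L), φC (emk L)) = (1, 1, 1) ↔ _
    simp only [Prod.mk.injEq]
  have hpow : ∀ L ∈ powWords, Φ (emk L) = 1 := by
    intro L hL
    rw [hΦ1]
    exact ⟨eq_one_of_walk φA hφA _ (LU6ALow.hchkT _ (hpowA L hL)),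
      eq_one_of_walk φB hφB _ (LU6BLow.hchkT _ (hpowB L hL)),
      eq_one_of_walk φC hφC _ (LU6CLow.hchkT _ (hpowC L hL))⟩
  refine isoTri hcomm card_ker_le (Φ.comp DU6.proj.ker.subtype)
    ⟨emk za, za_mem_ker⟩ ⟨emk zb, zb_mem_ker⟩ ⟨emk zc, zc_mem_ker⟩ ?_ ?_ ?_ ?_
  · intro s t h
    simp only [MonoidHom.comp_apply, Subgroup.coe_subtype] at h
    rw [hval s, hval t] at h
    apply code_inj
    apply keyN_inj (code_spec s).1 (code_spec t).1
    have hA : φA (emk (wordN (code s))) = φA (emk (wordN (code t))) := congrArg Prod.fst h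
    have hB : φB (emk (wordN (code s))) = φB (emk (wordN (code t))) := congrArg (fun x => x.2.1) h
    have hC : φC (emk (wordN (code s))) = φC (emk (wordN (code t))) := congrArg (fun x => x.2.2) h
    unfold keyN
    have eA := congrArg (fun σ => (σ (⟨0, by decide⟩ : Fin LU6ATable.table.n)).val) hA
    have eB := congrArg (fun σ => (σ (⟨0, by decide⟩ : Fin LU6BTable.table.n)).val) hB
    have eC := congrArg (fun σ => (σ (⟨0, by decide⟩ : Fin LU6CTable.table.n)).val) hC
    simp only [hφA] at eA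
    simp only [hφB] at eB
    simp only [hφC] at eC
    rw [eA, eB, eC]
  · show Φ (emk za) ^ 3 = 1
    rw [← map_pow, ← map_pow, ← mk_flatten_replicate]
    exact hpow _ (by simp [powWords])
  · show Φ (emk zb) ^ 2 = 1
    rw [← map_pow, ← map_pow, ← mk_flatten_replicate]
    exact hpow _ (by simp [powWords])
  · show Φ (emk zc) ^ 2 = 1
    rw [← map_pow, ← map_pow, ← mk_flatten_replicate]
    exact hpow _ (by simp [powWords])

/-- the Schur multiplier of `PSU₆(2)` over the model field -/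
theorem schur_F4 : Cfsg.HasSchurMultiplier (Cfsg.PSU 6 Cfsg.Agent.Lib.Helper28.U6F4.F4 2)
    (Multiplicative (ZMod 3 × ZMod 2 × ZMod 2)) := by
  haveI := cardEU6.1
  obtain ⟨φ⟩ := U62Iso.iso_PSU
  obtain ⟨ψ⟩ := ker_iso
  exact DU6.hasSchurMultiplier φ ψ

/-- the Schur multiplier of `PSU₆(2)` is `Z/3 × Z/2 × Z/2` -/
theorem schur_PSU62 {F : Type*} [Field F] [Fintype F] (hF : Fintype.card F = 4) :
    Cfsg.HasSchurMultiplier (Cfsg.PSU 6 F 2) (Multiplicative (ZMod 3 × ZMod 2 × ZMod 2)) :=
  hasSchurMultiplier_transport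
    (Cfsg.Agent.Lib.Helper19.SUCongr.psuCongr
      (FiniteField.ringEquivOfCardEq (K := Cfsg.Agent.Lib.Helper28.U6F4.F4) (K' := F)
        (by rw [Cfsg.Agent.Lib.Helper28.U6F4.card_F4, hF])))
    schur_F4

end Cfsg.Agent.Lib.Helper3.Cover.U62Main
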