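import Cfsg.Agent.Lib.Helper3.Cover.CentralTwist
import Cfsg.Agent.Lib.Helper3.Cover.U62Main
import Cfsg.Agent.Lib.Helper3.Cover.EF22Def

set_option autoImplicit false
set_option maxRecDepth 100000

/-!
# Exact relations in the covering presentation of `Fi₂₂`

`Fi₂₂ = ⟨a, b, c, t, d, f, z | …⟩`: `a, b, c, t, d` satisfy the relators of `PSU₆(2)` except the last one, whose value is
the central involution `z` of `⟨a, b, c, t, d⟩ = 2·PSU₆(2)`; `f` is a 3-transposition commuting with `a, b, c, t`.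
In the covering presentation `E` the relators are central.  Here: `z` commutes exactly with `a, b, c, t, d` and `f`
commutes exactly with `a, b, c, t`.
-/

namespace Cfsg.Agent.Lib.Helper3.Cover.F22Bar

open Cfsg Cfsg.Agent.Lib.Helper3 Cfsg.Agent.Lib.Helper3.Cover.U62Iso
open Cfsg.Agent.Lib.Helper28.TC2Tower Cfsg.Agent.Lib.Helper28.TC2Subst
open scoped IsMulCommutative

/-- the covering data of the presentation of `Fi₂₂` -/
abbrev DF : CoverData EF22Def.Gen := EF22Def.cover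

/-- the generators of `PSU₆(2)` as generators of `Fi₂₂` -/
def up6 : EU6Def.Gen → EF22Def.Gen
  | .a => .a
  | .b => .b
  | .c => .c
  | .t => .t
  | .d => .d

/-- the element of the covering group given by a word -/
noncomputable abbrev emk (L : List (EF22Def.Gen × Bool)) : DF.E :=
  PresentedGroup.mk DF.relsE (FreeGroup.mk L)

theorem emk_append (L M : List (EF22Def.Gen × Bool)) : emk (L ++ M) = emk L * emk M := by
  unfold emk
  rw [← FreeGroup.mul_mk, map_mul]

theorem emk_invRev (L : List (EF22Def.Gen × Bool)) : emk (FreeGroup.invRev L) = (emk L)⁻¹ := by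
  unfold emk
  rw [← FreeGroup.inv_mk, map_inv]

theorem emk_cons (p : EF22Def.Gen × Bool) (L : List (EF22Def.Gen × Bool)) : emk (p :: L) = emk [p] * emk L :=
  emk_append [p] L

theorem emk_nil : emk [] = 1 := by
  unfold emk
  have : (FreeGroup.mk ([] : List (EF22Def.Gen × Bool))) = 1 := rfl
  rw [this, map_one]

theorem emk_inv_letter (x : EF22Def.Gen) : emk [(x, false)] = (emk [(x, true)])⁻¹ := by
  rw [← emk_invRev]
  rfl

/-- the image of a generator -/
noncomputable abbrev X (x : EF22Def.Gen) : DF.E := emk [(x, true)]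

theorem emk_rel_central (r : List (EF22Def.Gen × Bool)) (hr : r ∈ EF22Def.R) :
    emk r ∈ Subgroup.center DF.E := DF.mk_rel_mem_center r hr

theorem emk_nrm (x : EF22Def.Gen) : emk (EF22Def.nrm x) = 1 :=
  PresentedGroup.one_of_mem (DF.nrm_mem x)

theorem emk_comm (r : List (EF22Def.Gen × Bool)) (hr : r ∈ EF22Def.R) (x : EF22Def.Gen) :
    emk (commWord r x) = 1 := by
  unfold emk
  rw [mk_commWord]
  exact PresentedGroup.one_of_mem (DF.comm_mem r hr x)

theorem lift_up6 (L : List (EU6Def.Gen × Bool)) :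
    FreeGroup.lift (fun x => X (up6 x)) (FreeGroup.mk L) = emk (upWord up6 L) := by
  have : FreeGroup.lift (fun x => X (up6 x)) = (PresentedGroup.mk DF.relsE).comp (FreeGroup.map up6) := by
    ext x
    rw [FreeGroup.lift_apply_of]
    rfl
  rw [this]
  rfl

/-- the normalising words of `PSU₆(2)` are normalising words of `Fi₂₂` -/
theorem up_nrm : ∀ y, upWord up6 (EU6Def.nrm y) = EF22Def.nrm (up6 y) := by
  intro y; cases y <;> decide +kernel

theorem emk_up_nrm (y : EU6Def.Gen) : emk (upWord up6 (EU6Def.nrm y)) = 1 := by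
  rw [up_nrm]
  exact emk_nrm _

/-! ### `z` commutes with `a, b, c, t, d` -/

/-- the commutator words `z x z⁻¹ x⁻¹` -/
def zc (x : EU6Def.Gen) : List (EF22Def.Gen × Bool) :=
  [(.z, true), (up6 x, true), (.z, false), (up6 x, false)]

theorem zc_mem : ∀ x, zc x ∈ EF22Def.R := by intro x; cases x <;> decide +kernel

theorem emk_four (p q r s : EF22Def.Gen × Bool) : emk [p, q, r, s] = emk [p] * emk [q] * emk [r] * emk [s] := by
  rw [emk_cons p, emk_cons q, emk_cons r, mul_assoc, mul_assoc]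

theorem emk_zc (x : EU6Def.Gen) : emk (zc x) = X .z * X (up6 x) * (X .z)⁻¹ * (X (up6 x))⁻¹ := by
  unfold zc
  rw [emk_four, emk_inv_letter, emk_inv_letter]

/-- the central elements `z x z⁻¹ x⁻¹` -/
noncomputable def kZ (x : EU6Def.Gen) : Subgroup.center DF.E := ⟨emk (zc x), emk_rel_central _ (zc_mem x)⟩

theorem kZ_conj (x : EU6Def.Gen) : X .z * X (up6 x) * (X .z)⁻¹ = X (up6 x) * (kZ x : DF.E) := by
  have hc := (kZ x).2
  rw [Subgroup.mem_center_iff] at hc
  rw [hc (X (up6 x))]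
  show _ = emk (zc x) * _
  rw [emk_zc]
  group

theorem kZ_eq_one (y : EU6Def.Gen) : kZ y = 1 :=
  kappa_eq_one (X .z) (fun x => X (up6 x)) (fun x => X (up6 x)) kZ kZ_conj y (EU6Def.nrm y)
    (fun x => DU6.hexp x y)
    (by rw [lift_up6, emk_up_nrm]; exact Subgroup.one_mem _) rfl

/-- `z` commutes exactly with the generators of `2·PSU₆(2)` -/
theorem z_comm (x : EU6Def.Gen) : X .z * X (up6 x) = X (up6 x) * X .z := by
  have h1 := kZ_conj x
  rw [kZ_eq_one, Subgroup.coe_one, mul_one] at h1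
  have h2 : X .z * X (up6 x) = X .z * X (up6 x) * (X .z)⁻¹ * X .z := by group
  rw [h2, h1]

/-! ### `f` commutes with `a, b, c` -/

/-- the generators of `PSU₄(3)` as generators of `Fi₂₂` -/
def up4 (x : EU4Def.Gen) : EF22Def.Gen := up6 (U62Iso.up x)

/-- the commutator words `f x f⁻¹ x⁻¹` -/
def fc (x : EF22Def.Gen) : List (EF22Def.Gen × Bool) :=
  [(.f, true), (x, true), (.f, false), (x, false)]

theorem fc_mem : ∀ x : EU4Def.Gen, fc (up4 x) ∈ EF22Def.R := by intro x; cases x <;> decide +kernel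
theorem fc_t_mem : fc .t ∈ EF22Def.R := by decide +kernel

theorem emk_fc (x : EF22Def.Gen) : emk (fc x) = X .f * X x * (X .f)⁻¹ * (X x)⁻¹ := by
  unfold fc
  rw [emk_four, emk_inv_letter, emk_inv_letter]

/-- the central elements `f x f⁻¹ x⁻¹` -/
noncomputable def kF (x : EU4Def.Gen) : Subgroup.center DF.E := ⟨emk (fc (up4 x)), emk_rel_central _ (fc_mem x)⟩

theorem kF_conj (x : EU4Def.Gen) : X .f * X (up4 x) * (X .f)⁻¹ = X (up4 x) * (kF x : DF.E) := by
  have hc := (kF x).2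
  rw [Subgroup.mem_center_iff] at hc
  rw [hc (X (up4 x))]
  show _ = emk (fc (up4 x)) * _
  rw [emk_fc]
  group

theorem lift_up4 (L : List (EU4Def.Gen × Bool)) :
    FreeGroup.lift (fun x => X (up4 x)) (FreeGroup.mk L) = emk (upWord up4 L) := by
  have : FreeGroup.lift (fun x => X (up4 x)) = (PresentedGroup.mk DF.relsE).comp (FreeGroup.map up4) := by
    ext x
    rw [FreeGroup.lift_apply_of]
    rfl
  rw [this]
  rfl

theorem up4_nrm : ∀ y, upWord up4 (EU4Def.nrm y) = EF22Def.nrm (up4 y) := by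
  intro y; cases y <;> decide +kernel

theorem kF_eq_one (y : EU4Def.Gen) : kF y = 1 :=
  kappa_eq_one (X .f) (fun x => X (up4 x)) (fun x => X (up4 x)) kF kF_conj y (EU4Def.nrm y)
    (fun x => Cfsg.Agent.Lib.Helper3.Cover.U43Iso.DU4.hexp x y)
    (by rw [lift_up4, up4_nrm, emk_nrm]; exact Subgroup.one_mem _) rfl

/-- `f` commutes exactly with the generators of `PSU₄(3)` -/
theorem f_comm (x : EU4Def.Gen) : X .f * X (up4 x) = X (up4 x) * X .f := by
  have h1 := kF_conj x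
  rw [kF_eq_one, Subgroup.coe_one, mul_one] at h1
  have h2 : X .f * X (up4 x) = X .f * X (up4 x) * (X .f)⁻¹ * X .f := by group
  rw [h2, h1]

/-! ### `f` commutes with `t` -/

/-- group theory: if `f t f⁻¹ = κ t` with `κ` central, `t²` central, `z` commutes with `t` and `(f z)³` is central, then
`κ = 1` -/
theorem comm_of_braid {G : Type*} [Group G] (f z t κ : G) (hκ : ∀ g, g * κ = κ * g)
    (hft : f * t * f⁻¹ = κ * t) (ht2 : ∀ g, g * (t * t) = (t * t) * g) (hzt : z * t = t * z)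
    (hfz : ∀ g, g * (f * z * f * z * f * z) = (f * z * f * z * f * z) * g) : κ = 1 := by
  -- κ² = 1
  have k2 : κ * κ = 1 := by
    have e1 : f * (t * t) * f⁻¹ = (κ * t) * (κ * t) := by
      calc f * (t * t) * f⁻¹ = (f * t * f⁻¹) * (f * t * f⁻¹) := by group
        _ = (κ * t) * (κ * t) := by rw [hft]
    have e2 : f * (t * t) * f⁻¹ = t * t := by rw [ht2 f]; group
    have e3 : (κ * t) * (κ * t) = (κ * κ) * (t * t) := by
      calc (κ * t) * (κ * t) = κ * (t * κ) * t := by group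
        _ = κ * (κ * t) * t := by rw [hκ t]
        _ = (κ * κ) * (t * t) := by group
    rw [e2, e3] at e1
    exact (mul_eq_right.mp e1.symm)
  -- conjugating `t` by `z f z = c f⁻¹ z⁻¹ f⁻¹`
  set c := f * z * f * z * f * z with hc
  have hft' : f⁻¹ * t * f = κ⁻¹ * t := by
    have : t = f⁻¹ * (κ * t) * f := by rw [← hft]; group
    calc f⁻¹ * t * f = κ⁻¹ * (κ * (f⁻¹ * t * f)) := by group
      _ = κ⁻¹ * (f⁻¹ * (κ * t) * f) := by
          congr 1
          calc κ * (f⁻¹ * t * f) = (κ * f⁻¹) * t * f := by group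
            _ = (f⁻¹ * κ) * t * f := by rw [hκ f⁻¹]
            _ = f⁻¹ * (κ * t) * f := by group
      _ = κ⁻¹ * t := by rw [← this]
  have hzt' : z⁻¹ * t * z = t := by
    calc z⁻¹ * t * z = z⁻¹ * (t * z) := by group
      _ = z⁻¹ * (z * t) := by rw [hzt]
      _ = t := by group
  have hzt'' : z * t * z⁻¹ = t := by rw [hzt]; group
  have eL : (z * f * z) * t * (z * f * z)⁻¹ = κ * t := by
    calc (z * f * z) * t * (z * f * z)⁻¹ = z * (f * (z * t * z⁻¹) * f⁻¹) * z⁻¹ := by group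
      _ = z * (f * t * f⁻¹) * z⁻¹ := by rw [hzt'']
      _ = z * (κ * t) * z⁻¹ := by rw [hft]
      _ = (z * κ) * t * z⁻¹ := by group
      _ = (κ * z) * t * z⁻¹ := by rw [hκ z]
      _ = κ * (z * t * z⁻¹) := by group
      _ = κ * t := by rw [hzt'']
  have hzfz : z * f * z = f⁻¹ * c * (z⁻¹ * f⁻¹) := by rw [hc]; group
  have hκi : ∀ g, g * κ⁻¹ = κ⁻¹ * g := by
    intro g
    calc g * κ⁻¹ = κ⁻¹ * (κ * g) * κ⁻¹ := by group
      _ = κ⁻¹ * (g * κ) * κ⁻¹ := by rw [hκ g]
      _ = κ⁻¹ * g := by group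
  have eR : (z * f * z) * t * (z * f * z)⁻¹ = κ⁻¹ * κ⁻¹ * t := by
    rw [hzfz]
    have s1 : z⁻¹ * (κ⁻¹ * t) * z = κ⁻¹ * t := by
      calc z⁻¹ * (κ⁻¹ * t) * z = (z⁻¹ * κ⁻¹) * t * z := by group
        _ = (κ⁻¹ * z⁻¹) * t * z := by rw [hκi z⁻¹]
        _ = κ⁻¹ * (z⁻¹ * t * z) := by group
        _ = κ⁻¹ * t := by rw [hzt']
    have s2 : c * (κ⁻¹ * t) * c⁻¹ = κ⁻¹ * t := by
      rw [← hfz (κ⁻¹ * t)]; group
    have s3 : f⁻¹ * (κ⁻¹ * t) * f = κ⁻¹ * κ⁻¹ * t := by
      calc f⁻¹ * (κ⁻¹ * t) * f = (f⁻¹ * κ⁻¹) * t * f := by group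
        _ = (κ⁻¹ * f⁻¹) * t * f := by rw [hκi f⁻¹]
        _ = κ⁻¹ * (f⁻¹ * t * f) := by group
        _ = κ⁻¹ * (κ⁻¹ * t) := by rw [hft']
        _ = κ⁻¹ * κ⁻¹ * t := by group
    calc f⁻¹ * c * (z⁻¹ * f⁻¹) * t * (f⁻¹ * c * (z⁻¹ * f⁻¹))⁻¹
        = f⁻¹ * (c * (z⁻¹ * (f⁻¹ * t * f) * z) * c⁻¹) * f := by group
      _ = f⁻¹ * (c * (z⁻¹ * (κ⁻¹ * t) * z) * c⁻¹) * f := by rw [hft']
      _ = f⁻¹ * (c * (κ⁻¹ * t) * c⁻¹) * f := by rw [s1]
      _ = f⁻¹ * (κ⁻¹ * t) * f := by rw [s2]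
      _ = κ⁻¹ * κ⁻¹ * t := s3
  rw [eL] at eR
  have e3 : κ = κ⁻¹ * κ⁻¹ := mul_right_cancel eR
  have e4 : κ * κ * κ = 1 := by
    calc κ * κ * κ = κ * κ * (κ⁻¹ * κ⁻¹) := by rw [← e3]
      _ = 1 := by group
  calc κ = (κ * κ * κ) * (κ * κ)⁻¹ := by group
    _ = 1 := by rw [e4, k2]; group

theorem tt_mem : [(EF22Def.Gen.t, true), (EF22Def.Gen.t, true)] ∈ EF22Def.R := by decide +kernel
theorem fz3_mem : [(EF22Def.Gen.f, true), (EF22Def.Gen.z, true), (EF22Def.Gen.f, true), (EF22Def.Gen.z, true),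
    (EF22Def.Gen.f, true), (EF22Def.Gen.z, true)] ∈ EF22Def.R := by decide +kernel

theorem emk_two (p q : EF22Def.Gen × Bool) : emk [p, q] = emk [p] * emk [q] := emk_cons p [q]

theorem emk_six (p q r s u v : EF22Def.Gen × Bool) :
    emk [p, q, r, s, u, v] = emk [p] * emk [q] * emk [r] * emk [s] * emk [u] * emk [v] := by
  rw [emk_cons p, emk_cons q, emk_cons r, emk_cons s, emk_cons u]
  simp only [mul_assoc]

/-- `f` commutes exactly with `t` -/
theorem f_comm_t : X .f * X .t = X .t * X .f := by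
  have hκc := emk_rel_central _ fc_t_mem
  rw [Subgroup.mem_center_iff] at hκc
  have hk : emk (fc .t) = 1 := by
    apply comm_of_braid (X .f) (X .z) (X .t) (emk (fc .t)) hκc
    · rw [emk_fc]; group
    · have h := emk_rel_central _ tt_mem
      rw [Subgroup.mem_center_iff, emk_two] at h
      exact h
    · exact z_comm .t
    · have h := emk_rel_central _ fz3_mem
      rw [Subgroup.mem_center_iff, emk_six] at h
      exact h
  rw [emk_fc] at hk
  have h2 : X .f * X .t = (X .f * X .t * (X .f)⁻¹ * (X .t)⁻¹) * (X .t * X .f) := by group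
  rw [h2, hk, one_mul]

end Cfsg.Agent.Lib.Helper3.Cover.F22Bar
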