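import Cfsg.Agent.Lib.Helper28.TC2Upper
import Cfsg.Agent.Lib.Helper3.Cover.PF22DataC0
import Cfsg.Agent.Lib.Helper3.Cover.PF22DataC1
import Cfsg.Agent.Lib.Helper3.Cover.PF22DataC2
import Cfsg.Agent.Lib.Helper3.Cover.PF22DataC3
import Cfsg.Agent.Lib.Helper3.Cover.PF22DataC4
import Cfsg.Agent.Lib.Helper3.Cover.PF22DataC5
set_option autoImplicit false
set_option maxRecDepth 100000

namespace Cfsg.Agent.Lib.Helper3.Cover.PF22Data
open Cfsg.Agent.Lib.Helper28.TC2Upper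

/-- relators -/
def relT : BT (ℕ × List ℕ × List ℕ) := (BT.node 16 (BT.node 8 (BT.node 4 (BT.node 2 (BT.node 1 (BT.node 0 (BT.leaf (2, [0, 0], [1, 1])) (BT.leaf (6, [2, 2, 2, 2, 2, 2], [3, 3, 3, 3, 3, 3]))) (BT.leaf (14, [2, 0, 2, 0, 2, 0, 2, 0, 2, 0, 2, 0, 2, 0], [1, 3, 1, 3, 1, 3, 1, 3, 1, 3, 1, 3, 1, 3]))) (BT.node 3 (BT.leaf (18, [0, 2, 2, 0, 2, 2, 0, 2, 2, 0, 3, 3, 0, 3, 3, 0, 3, 3], [2, 2, 1, 2, 2, 1, 2, 2, 1, 3, 3, 1, 3, 3, 1, 3, 3, 1])) (BT.leaf (21, [0, 2, 0, 3, 0, 3, 0, 2, 0, 3, 3, 0, 2, 0, 3, 3, 0, 2, 0, 3, 3], [2, 2, 1, 3, 1, 2, 2, 1, 3, 1, 2, 2, 1, 3, 1, 2, 1, 2, 1, 3, 1])))) (BT.node 6 (BT.node 5 (BT.leaf (2, [4, 4], [5, 5])) (BT.leaf (8, [0, 4, 2, 2, 4, 0, 3, 3], [2, 2, 1, 5, 3, 3, 5, 1]))) (BT.node 7 (BT.leaf (15, [4, 0, 2, 0, 2, 4, 0, 3, 0, 2, 4, 0, 3, 0, 3], [2, 1, 2, 1, 5, 3, 1, 2, 1, 5, 3, 1, 3, 1, 5])) (BT.leaf (18, [0, 4, 2, 4, 3, 4, 3,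 4, 3, 4, 3, 4, 3, 4, 3, 0, 3, 3], [2, 2, 1, 2, 5, 2, 5, 2, 5, 2, 5, 2, 5, 2, 5, 3, 5, 1]))))) (BT.node 12 (BT.node 10 (BT.node 9 (BT.leaf (20, [0, 2, 2, 0, 3, 3, 4, 2, 4, 0, 2, 4, 0, 3, 4, 0, 2, 0, 3, 3], [2, 2, 1, 3, 1, 5, 2, 1, 5, 3, 1, 5, 3, 5, 2, 2, 1, 3, 3, 1])) (BT.leaf (2, [6, 6], [7, 7]))) (BT.node 11 (BT.leaf (4, [1, 6, 0, 6], [7, 1, 7, 0])) (BT.leaf (18, [5, 2, 5, 1, 5, 2, 1, 3, 1, 3, 1, 3, 3, 3, 5, 6, 2, 6], [7, 3, 7, 4, 2, 2, 2, 0, 2, 0, 2, 0, 3, 4, 0, 4, 3, 4])))) (BT.node 14 (BT.node 13 (BT.leaf (4, [5, 6, 4, 6], [7, 5, 7, 4])) (BT.leaf (2, [8, 8], [9, 9]))) (BT.node 15 (BT.leaf (12, [2, 2, 5, 3, 3, 9, 2, 2, 4, 3, 3, 8], [9, 2, 2, 5, 3, 3, 8, 2, 2, 4, 3, 3])) (BT.leaf (24, [3, 5, 2, 1, 2, 5, 2, 5, 2, 1, 5, 9, 4, 0, 3, 4, 3, 4, 3, 0, 3, 4, 2, 8], [9, 3, 5, 2, 1, 2, 5, 2, 5, 2, 1, 5, 8, 4, 0, 3, 4, 3, 4, 3, 0, 3, 4, 2])))))) (BT.node 25 (BT.node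 21 (BT.node 19 (BT.node 18 (BT.node 17 (BT.leaf (6, [8, 6, 8, 6, 8, 6], [7, 9, 7, 9, 7, 9])) (BT.leaf (25, [4, 3, 4, 3, 0, 2, 8, 0, 4, 8, 4, 6, 8, 0, 2, 4, 2, 0, 8, 2, 2, 4, 3, 3, 3], [2, 2, 2, 5, 3, 3, 9, 1, 3, 5, 3, 1, 9, 7, 5, 9, 5, 1, 9, 3, 1, 2, 5, 2, 5]))) (BT.leaf (16, [6, 8, 2, 2, 0, 6, 3, 4, 0, 8, 0, 4, 2, 0, 3, 3], [2, 2, 1, 3, 5, 1, 9, 1, 5, 2, 7, 1, 3, 3, 9, 7]))) (BT.node 20 (BT.leaf (19, [13, 8, 4, 6, 8, 0, 8, 6, 8, 4, 8, 0, 4, 8, 2, 2, 0, 3, 3], [2, 2, 1, 3, 3, 9, 5, 1, 9, 5, 9, 7, 9, 1, 9, 7, 5, 9, 12])) (BT.leaf (2, [12, 12], [13, 13])))) (BT.node 23 (BT.node 22 (BT.leaf (4, [1, 13, 0, 12], [13, 1, 12, 0])) (BT.leaf (4, [3, 13, 2, 12], [13, 3, 12, 2]))) (BT.node 24 (BT.leaf (4, [5, 13, 4, 12], [13, 5, 12, 4])) (BT.leaf (4, [7, 13, 6, 12], [13, 7, 12, 6]))))) (BT.node 29 (BT.node 27 (BT.node 26 (BT.leaf (4, [9, 13, 8, 12], [13, 9, 12, 8])) (BT.leaf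 (2, [10, 10], [11, 11]))) (BT.node 28 (BT.leaf (4, [1, 11, 0, 10], [11, 1, 10, 0])) (BT.leaf (4, [3, 11, 2, 10], [11, 3, 10, 2])))) (BT.node 31 (BT.node 30 (BT.leaf (4, [5, 11, 4, 10], [11, 5, 10, 4])) (BT.leaf (4, [7, 11, 6, 10], [11, 7, 10, 6]))) (BT.node 32 (BT.leaf (6, [8, 10, 8, 10, 8, 10], [11, 9, 11, 9, 11, 9])) (BT.leaf (6, [12, 10, 12, 10, 12, 10], [11, 13, 11, 13, 11, 13])))))))
/-- subgroup generators -/
def subT : BT (ℕ × List ℕ × List ℕ) := (BT.node 2 (BT.node 1 (BT.node 0 (BT.leaf (1, [0], [1])) (BT.leaf (1, [2], [3]))) (BT.leaf (1, [4], [5]))) (BT.node 3 (BT.leaf (1, [6], [7])) (BT.leaf (1, [8], [9]))))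
/-- fact chunks -/
def colET : BT ℕ := (BT.node 1139 (BT.node 569 (BT.node 284 (BT.node 142 (BT.node 71 (BT.node 35 (BT.node 17 (BT.node 8 (BT.node 4 (BT.node 2 (BT.node 1 (BT.node 0 (BT.leaf cE0) (BT.leaf cE1)) (BT.leaf cE2)) (BT.node 3 (BT.leaf cE3) (BT.leaf cE4))) (BT.node 6 (BT.node 5 (BT.leaf cE5) (BT.leaf cE6)) (BT.node 7 (BT.leaf cE7) (BT.leaf cE8)))) (BT.node 13 (BT.node 11 (BT.node 10 (BT.node 9 (BT.leaf cE9) (BT.leaf cE10)) (BT.leaf cE11)) (BT.node 12 (BT.leaf cE12) (BT.leaf cE13))) (BT.node 15 (BT.node 14 (BT.leaf cE14) (BT.leaf cE15)) (BT.node 16 (BT.leaf cE16) (BT.leaf cE17))))) (BT.node 26 (BT.node 22 (BT.node 20 (BT.node 19 (BT.node 18 (BT.leaf cE18) (BT.leaf cE19)) (BT.leaf cE20)) (BT.node 21 (BT.leaf cE21) (BT.leaf cE22))) (BT.node 24 (BT.node 23 (BT.leaf cE23) (BT.leaf cE24)) (BT.node 25 (BT.leaf cE25) (BT.leaf cE26)))) (BT.node 31 (BT.node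 29 (BT.node 28 (BT.node 27 (BT.leaf cE27) (BT.leaf cE28)) (BT.leaf cE29)) (BT.node 30 (BT.leaf cE30) (BT.leaf cE31))) (BT.node 33 (BT.node 32 (BT.leaf cE32) (BT.leaf cE33)) (BT.node 34 (BT.leaf cE34) (BT.leaf cE35)))))) (BT.node 53 (BT.node 44 (BT.node 40 (BT.node 38 (BT.node 37 (BT.node 36 (BT.leaf cE36) (BT.leaf cE37)) (BT.leaf cE38)) (BT.node 39 (BT.leaf cE39) (BT.leaf cE40))) (BT.node 42 (BT.node 41 (BT.leaf cE41) (BT.leaf cE42)) (BT.node 43 (BT.leaf cE43) (BT.leaf cE44)))) (BT.node 49 (BT.node 47 (BT.node 46 (BT.node 45 (BT.leaf cE45) (BT.leaf cE46)) (BT.leaf cE47)) (BT.node 48 (BT.leaf cE48) (BT.leaf cE49))) (BT.node 51 (BT.node 50 (BT.leaf cE50) (BT.leaf cE51)) (BT.node 52 (BT.leaf cE52) (BT.leaf cE53))))) (BT.node 62 (BT.node 58 (BT.node 56 (BT.node 55 (BT.node 54 (BT.leaf cE54) (BT.leaf cE55)) (BT.leaf cE56)) (BT.node 57 (BT.leaf cE57) (BT.leaf cE58)))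 (BT.node 60 (BT.node 59 (BT.leaf cE59) (BT.leaf cE60)) (BT.node 61 (BT.leaf cE61) (BT.leaf cE62)))) (BT.node 67 (BT.node 65 (BT.node 64 (BT.node 63 (BT.leaf cE63) (BT.leaf cE64)) (BT.leaf cE65)) (BT.node 66 (BT.leaf cE66) (BT.leaf cE67))) (BT.node 69 (BT.node 68 (BT.leaf cE68) (BT.leaf cE69)) (BT.node 70 (BT.leaf cE70) (BT.leaf cE71))))))) (BT.node 107 (BT.node 89 (BT.node 80 (BT.node 76 (BT.node 74 (BT.node 73 (BT.node 72 (BT.leaf cE72) (BT.leaf cE73)) (BT.leaf cE74)) (BT.node 75 (BT.leaf cE75) (BT.leaf cE76))) (BT.node 78 (BT.node 77 (BT.leaf cE77) (BT.leaf cE78)) (BT.node 79 (BT.leaf cE79) (BT.leaf cE80)))) (BT.node 85 (BT.node 83 (BT.node 82 (BT.node 81 (BT.leaf cE81) (BT.leaf cE82)) (BT.leaf cE83)) (BT.node 84 (BT.leaf cE84) (BT.leaf cE85))) (BT.node 87 (BT.node 86 (BT.leaf cE86) (BT.leaf cE87)) (BT.node 88 (BT.leaf cE88) (BT.leaf cE89))))) (BT.node 98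 (BT.node 94 (BT.node 92 (BT.node 91 (BT.node 90 (BT.leaf cE90) (BT.leaf cE91)) (BT.leaf cE92)) (BT.node 93 (BT.leaf cE93) (BT.leaf cE94))) (BT.node 96 (BT.node 95 (BT.leaf cE95) (BT.leaf cE96)) (BT.node 97 (BT.leaf cE97) (BT.leaf cE98)))) (BT.node 103 (BT.node 101 (BT.node 100 (BT.node 99 (BT.leaf cE99) (BT.leaf cE100)) (BT.leaf cE101)) (BT.node 102 (BT.leaf cE102) (BT.leaf cE103))) (BT.node 105 (BT.node 104 (BT.leaf cE104) (BT.leaf cE105)) (BT.node 106 (BT.leaf cE106) (BT.leaf cE107)))))) (BT.node 125 (BT.node 116 (BT.node 112 (BT.node 110 (BT.node 109 (BT.node 108 (BT.leaf cE108) (BT.leaf cE109)) (BT.leaf cE110)) (BT.node 111 (BT.leaf cE111) (BT.leaf cE112))) (BT.node 114 (BT.node 113 (BT.leaf cE113) (BT.leaf cE114)) (BT.node 115 (BT.leaf cE115) (BT.leaf cE116)))) (BT.node 121 (BT.node 119 (BT.node 118 (BT.node 117 (BT.leaf cE117) (BT.leaf cE118)) (BT.leaf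 cE119)) (BT.node 120 (BT.leaf cE120) (BT.leaf cE121))) (BT.node 123 (BT.node 122 (BT.leaf cE122) (BT.leaf cE123)) (BT.node 124 (BT.leaf cE124) (BT.leaf cE125))))) (BT.node 134 (BT.node 130 (BT.node 128 (BT.node 127 (BT.node 126 (BT.leaf cE126) (BT.leaf cE127)) (BT.leaf cE128)) (BT.node 129 (BT.leaf cE129) (BT.leaf cE130))) (BT.node 132 (BT.node 131 (BT.leaf cE131) (BT.leaf cE132)) (BT.node 133 (BT.leaf cE133) (BT.leaf cE134)))) (BT.node 138 (BT.node 136 (BT.node 135 (BT.leaf cE135) (BT.leaf cE136)) (BT.node 137 (BT.leaf cE137) (BT.leaf cE138))) (BT.node 140 (BT.node 139 (BT.leaf cE139) (BT.leaf cE140)) (BT.node 141 (BT.leaf cE141) (BT.leaf cE142)))))))) (BT.node 213 (BT.node 178 (BT.node 160 (BT.node 151 (BT.node 147 (BT.node 145 (BT.node 144 (BT.node 143 (BT.leaf cE143) (BT.leaf cE144)) (BT.leaf cE145)) (BT.node 146 (BT.leaf cE146) (BT.leaf cE147))) (BT.node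 149 (BT.node 148 (BT.leaf cE148) (BT.leaf cE149)) (BT.node 150 (BT.leaf cE150) (BT.leaf cE151)))) (BT.node 156 (BT.node 154 (BT.node 153 (BT.node 152 (BT.leaf cE152) (BT.leaf cE153)) (BT.leaf cE154)) (BT.node 155 (BT.leaf cE155) (BT.leaf cE156))) (BT.node 158 (BT.node 157 (BT.leaf cE157) (BT.leaf cE158)) (BT.node 159 (BT.leaf cE159) (BT.leaf cE160))))) (BT.node 169 (BT.node 165 (BT.node 163 (BT.node 162 (BT.node 161 (BT.leaf cE161) (BT.leaf cE162)) (BT.leaf cE163)) (BT.node 164 (BT.leaf cE164) (BT.leaf cE165))) (BT.node 167 (BT.node 166 (BT.leaf cE166) (BT.leaf cE167)) (BT.node 168 (BT.leaf cE168) (BT.leaf cE169)))) (BT.node 174 (BT.node 172 (BT.node 171 (BT.node 170 (BT.leaf cE170) (BT.leaf cE171)) (BT.leaf cE172)) (BT.node 173 (BT.leaf cE173) (BT.leaf cE174))) (BT.node 176 (BT.node 175 (BT.leaf cE175) (BT.leaf cE176)) (BT.node 177 (BT.leaf cE177) (BT.leaf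 cE178)))))) (BT.node 196 (BT.node 187 (BT.node 183 (BT.node 181 (BT.node 180 (BT.node 179 (BT.leaf cE179) (BT.leaf cE180)) (BT.leaf cE181)) (BT.node 182 (BT.leaf cE182) (BT.leaf cE183))) (BT.node 185 (BT.node 184 (BT.leaf cE184) (BT.leaf cE185)) (BT.node 186 (BT.leaf cE186) (BT.leaf cE187)))) (BT.node 192 (BT.node 190 (BT.node 189 (BT.node 188 (BT.leaf cE188) (BT.leaf cE189)) (BT.leaf cE190)) (BT.node 191 (BT.leaf cE191) (BT.leaf cE192))) (BT.node 194 (BT.node 193 (BT.leaf cE193) (BT.leaf cE194)) (BT.node 195 (BT.leaf cE195) (BT.leaf cE196))))) (BT.node 205 (BT.node 201 (BT.node 199 (BT.node 198 (BT.node 197 (BT.leaf cE197) (BT.leaf cE198)) (BT.leaf cE199)) (BT.node 200 (BT.leaf cE200) (BT.leaf cE201))) (BT.node 203 (BT.node 202 (BT.leaf cE202) (BT.leaf cE203)) (BT.node 204 (BT.leaf cE204) (BT.leaf cE205)))) (BT.node 209 (BT.node 207 (BT.node 206 (BT.leaf cE206)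 (BT.leaf cE207)) (BT.node 208 (BT.leaf cE208) (BT.leaf cE209))) (BT.node 211 (BT.node 210 (BT.leaf cE210) (BT.leaf cE211)) (BT.node 212 (BT.leaf cE212) (BT.leaf cE213))))))) (BT.node 249 (BT.node 231 (BT.node 222 (BT.node 218 (BT.node 216 (BT.node 215 (BT.node 214 (BT.leaf cE214) (BT.leaf cE215)) (BT.leaf cE216)) (BT.node 217 (BT.leaf cE217) (BT.leaf cE218))) (BT.node 220 (BT.node 219 (BT.leaf cE219) (BT.leaf cE220)) (BT.node 221 (BT.leaf cE221) (BT.leaf cE222)))) (BT.node 227 (BT.node 225 (BT.node 224 (BT.node 223 (BT.leaf cE223) (BT.leaf cE224)) (BT.leaf cE225)) (BT.node 226 (BT.leaf cE226) (BT.leaf cE227))) (BT.node 229 (BT.node 228 (BT.leaf cE228) (BT.leaf cE229)) (BT.node 230 (BT.leaf cE230) (BT.leaf cE231))))) (BT.node 240 (BT.node 236 (BT.node 234 (BT.node 233 (BT.node 232 (BT.leaf cE232) (BT.leaf cE233)) (BT.leaf cE234)) (BT.node 235 (BT.leaf cE235)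 (BT.leaf cE236))) (BT.node 238 (BT.node 237 (BT.leaf cE237) (BT.leaf cE238)) (BT.node 239 (BT.leaf cE239) (BT.leaf cE240)))) (BT.node 245 (BT.node 243 (BT.node 242 (BT.node 241 (BT.leaf cE241) (BT.leaf cE242)) (BT.leaf cE243)) (BT.node 244 (BT.leaf cE244) (BT.leaf cE245))) (BT.node 247 (BT.node 246 (BT.leaf cE246) (BT.leaf cE247)) (BT.node 248 (BT.leaf cE248) (BT.leaf cE249)))))) (BT.node 267 (BT.node 258 (BT.node 254 (BT.node 252 (BT.node 251 (BT.node 250 (BT.leaf cE250) (BT.leaf cE251)) (BT.leaf cE252)) (BT.node 253 (BT.leaf cE253) (BT.leaf cE254))) (BT.node 256 (BT.node 255 (BT.leaf cE255) (BT.leaf cE256)) (BT.node 257 (BT.leaf cE257) (BT.leaf cE258)))) (BT.node 263 (BT.node 261 (BT.node 260 (BT.node 259 (BT.leaf cE259) (BT.leaf cE260)) (BT.leaf cE261)) (BT.node 262 (BT.leaf cE262) (BT.leaf cE263))) (BT.node 265 (BT.node 264 (BT.leaf cE264) (BT.leaf cE265))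 (BT.node 266 (BT.leaf cE266) (BT.leaf cE267))))) (BT.node 276 (BT.node 272 (BT.node 270 (BT.node 269 (BT.node 268 (BT.leaf cE268) (BT.leaf cE269)) (BT.leaf cE270)) (BT.node 271 (BT.leaf cE271) (BT.leaf cE272))) (BT.node 274 (BT.node 273 (BT.leaf cE273) (BT.leaf cE274)) (BT.node 275 (BT.leaf cE275) (BT.leaf cE276)))) (BT.node 280 (BT.node 278 (BT.node 277 (BT.leaf cE277) (BT.leaf cE278)) (BT.node 279 (BT.leaf cE279) (BT.leaf cE280))) (BT.node 282 (BT.node 281 (BT.leaf cE281) (BT.leaf cE282)) (BT.node 283 (BT.leaf cE283) (BT.leaf cE284))))))))) (BT.node 427 (BT.node 356 (BT.node 320 (BT.node 302 (BT.node 293 (BT.node 289 (BT.node 287 (BT.node 286 (BT.node 285 (BT.leaf cE285) (BT.leaf cE286)) (BT.leaf cE287)) (BT.node 288 (BT.leaf cE288) (BT.leaf cE289))) (BT.node 291 (BT.node 290 (BT.leaf cE290) (BT.leaf cE291)) (BT.node 292 (BT.leaf cE292) (BT.leaf cE293))))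 (BT.node 298 (BT.node 296 (BT.node 295 (BT.node 294 (BT.leaf cE294) (BT.leaf cE295)) (BT.leaf cE296)) (BT.node 297 (BT.leaf cE297) (BT.leaf cE298))) (BT.node 300 (BT.node 299 (BT.leaf cE299) (BT.leaf cE300)) (BT.node 301 (BT.leaf cE301) (BT.leaf cE302))))) (BT.node 311 (BT.node 307 (BT.node 305 (BT.node 304 (BT.node 303 (BT.leaf cE303) (BT.leaf cE304)) (BT.leaf cE305)) (BT.node 306 (BT.leaf cE306) (BT.leaf cE307))) (BT.node 309 (BT.node 308 (BT.leaf cE308) (BT.leaf cE309)) (BT.node 310 (BT.leaf cE310) (BT.leaf cE311)))) (BT.node 316 (BT.node 314 (BT.node 313 (BT.node 312 (BT.leaf cE312) (BT.leaf cE313)) (BT.leaf cE314)) (BT.node 315 (BT.leaf cE315) (BT.leaf cE316))) (BT.node 318 (BT.node 317 (BT.leaf cE317) (BT.leaf cE318)) (BT.node 319 (BT.leaf cE319) (BT.leaf cE320)))))) (BT.node 338 (BT.node 329 (BT.node 325 (BT.node 323 (BT.node 322 (BT.node 321 (BT.leaf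 cE321) (BT.leaf cE322)) (BT.leaf cE323)) (BT.node 324 (BT.leaf cE324) (BT.leaf cE325))) (BT.node 327 (BT.node 326 (BT.leaf cE326) (BT.leaf cE327)) (BT.node 328 (BT.leaf cE328) (BT.leaf cE329)))) (BT.node 334 (BT.node 332 (BT.node 331 (BT.node 330 (BT.leaf cE330) (BT.leaf cE331)) (BT.leaf cE332)) (BT.node 333 (BT.leaf cE333) (BT.leaf cE334))) (BT.node 336 (BT.node 335 (BT.leaf cE335) (BT.leaf cE336)) (BT.node 337 (BT.leaf cE337) (BT.leaf cE338))))) (BT.node 347 (BT.node 343 (BT.node 341 (BT.node 340 (BT.node 339 (BT.leaf cE339) (BT.leaf cE340)) (BT.leaf cE341)) (BT.node 342 (BT.leaf cE342) (BT.leaf cE343))) (BT.node 345 (BT.node 344 (BT.leaf cE344) (BT.leaf cE345)) (BT.node 346 (BT.leaf cE346) (BT.leaf cE347)))) (BT.node 352 (BT.node 350 (BT.node 349 (BT.node 348 (BT.leaf cE348) (BT.leaf cE349)) (BT.leaf cE350)) (BT.node 351 (BT.leaf cE351) (BT.leaf cE352)))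 (BT.node 354 (BT.node 353 (BT.leaf cE353) (BT.leaf cE354)) (BT.node 355 (BT.leaf cE355) (BT.leaf cE356))))))) (BT.node 392 (BT.node 374 (BT.node 365 (BT.node 361 (BT.node 359 (BT.node 358 (BT.node 357 (BT.leaf cE357) (BT.leaf cE358)) (BT.leaf cE359)) (BT.node 360 (BT.leaf cE360) (BT.leaf cE361))) (BT.node 363 (BT.node 362 (BT.leaf cE362) (BT.leaf cE363)) (BT.node 364 (BT.leaf cE364) (BT.leaf cE365)))) (BT.node 370 (BT.node 368 (BT.node 367 (BT.node 366 (BT.leaf cE366) (BT.leaf cE367)) (BT.leaf cE368)) (BT.node 369 (BT.leaf cE369) (BT.leaf cE370))) (BT.node 372 (BT.node 371 (BT.leaf cE371) (BT.leaf cE372)) (BT.node 373 (BT.leaf cE373) (BT.leaf cE374))))) (BT.node 383 (BT.node 379 (BT.node 377 (BT.node 376 (BT.node 375 (BT.leaf cE375) (BT.leaf cE376)) (BT.leaf cE377)) (BT.node 378 (BT.leaf cE378) (BT.leaf cE379))) (BT.node 381 (BT.node 380 (BT.leaf cE380) (BT.leaf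 cE381)) (BT.node 382 (BT.leaf cE382) (BT.leaf cE383)))) (BT.node 388 (BT.node 386 (BT.node 385 (BT.node 384 (BT.leaf cE384) (BT.leaf cE385)) (BT.leaf cE386)) (BT.node 387 (BT.leaf cE387) (BT.leaf cE388))) (BT.node 390 (BT.node 389 (BT.leaf cE389) (BT.leaf cE390)) (BT.node 391 (BT.leaf cE391) (BT.leaf cE392)))))) (BT.node 410 (BT.node 401 (BT.node 397 (BT.node 395 (BT.node 394 (BT.node 393 (BT.leaf cE393) (BT.leaf cE394)) (BT.leaf cE395)) (BT.node 396 (BT.leaf cE396) (BT.leaf cE397))) (BT.node 399 (BT.node 398 (BT.leaf cE398) (BT.leaf cE399)) (BT.node 400 (BT.leaf cE400) (BT.leaf cE401)))) (BT.node 406 (BT.node 404 (BT.node 403 (BT.node 402 (BT.leaf cE402) (BT.leaf cE403)) (BT.leaf cE404)) (BT.node 405 (BT.leaf cE405) (BT.leaf cE406))) (BT.node 408 (BT.node 407 (BT.leaf cE407) (BT.leaf cE408)) (BT.node 409 (BT.leaf cE409) (BT.leaf cE410))))) (BT.node 419 (BT.node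 415 (BT.node 413 (BT.node 412 (BT.node 411 (BT.leaf cE411) (BT.leaf cE412)) (BT.leaf cE413)) (BT.node 414 (BT.leaf cE414) (BT.leaf cE415))) (BT.node 417 (BT.node 416 (BT.leaf cE416) (BT.leaf cE417)) (BT.node 418 (BT.leaf cE418) (BT.leaf cE419)))) (BT.node 423 (BT.node 421 (BT.node 420 (BT.leaf cE420) (BT.leaf cE421)) (BT.node 422 (BT.leaf cE422) (BT.leaf cE423))) (BT.node 425 (BT.node 424 (BT.leaf cE424) (BT.leaf cE425)) (BT.node 426 (BT.leaf cE426) (BT.leaf cE427)))))))) (BT.node 498 (BT.node 463 (BT.node 445 (BT.node 436 (BT.node 432 (BT.node 430 (BT.node 429 (BT.node 428 (BT.leaf cE428) (BT.leaf cE429)) (BT.leaf cE430)) (BT.node 431 (BT.leaf cE431) (BT.leaf cE432))) (BT.node 434 (BT.node 433 (BT.leaf cE433) (BT.leaf cE434)) (BT.node 435 (BT.leaf cE435) (BT.leaf cE436)))) (BT.node 441 (BT.node 439 (BT.node 438 (BT.node 437 (BT.leaf cE437) (BT.leaf cE438))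 (BT.leaf cE439)) (BT.node 440 (BT.leaf cE440) (BT.leaf cE441))) (BT.node 443 (BT.node 442 (BT.leaf cE442) (BT.leaf cE443)) (BT.node 444 (BT.leaf cE444) (BT.leaf cE445))))) (BT.node 454 (BT.node 450 (BT.node 448 (BT.node 447 (BT.node 446 (BT.leaf cE446) (BT.leaf cE447)) (BT.leaf cE448)) (BT.node 449 (BT.leaf cE449) (BT.leaf cE450))) (BT.node 452 (BT.node 451 (BT.leaf cE451) (BT.leaf cE452)) (BT.node 453 (BT.leaf cE453) (BT.leaf cE454)))) (BT.node 459 (BT.node 457 (BT.node 456 (BT.node 455 (BT.leaf cE455) (BT.leaf cE456)) (BT.leaf cE457)) (BT.node 458 (BT.leaf cE458) (BT.leaf cE459))) (BT.node 461 (BT.node 460 (BT.leaf cE460) (BT.leaf cE461)) (BT.node 462 (BT.leaf cE462) (BT.leaf cE463)))))) (BT.node 481 (BT.node 472 (BT.node 468 (BT.node 466 (BT.node 465 (BT.node 464 (BT.leaf cE464) (BT.leaf cE465)) (BT.leaf cE466)) (BT.node 467 (BT.leaf cE467) (BT.leaf cE468)))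 (BT.node 470 (BT.node 469 (BT.leaf cE469) (BT.leaf cE470)) (BT.node 471 (BT.leaf cE471) (BT.leaf cE472)))) (BT.node 477 (BT.node 475 (BT.node 474 (BT.node 473 (BT.leaf cE473) (BT.leaf cE474)) (BT.leaf cE475)) (BT.node 476 (BT.leaf cE476) (BT.leaf cE477))) (BT.node 479 (BT.node 478 (BT.leaf cE478) (BT.leaf cE479)) (BT.node 480 (BT.leaf cE480) (BT.leaf cE481))))) (BT.node 490 (BT.node 486 (BT.node 484 (BT.node 483 (BT.node 482 (BT.leaf cE482) (BT.leaf cE483)) (BT.leaf cE484)) (BT.node 485 (BT.leaf cE485) (BT.leaf cE486))) (BT.node 488 (BT.node 487 (BT.leaf cE487) (BT.leaf cE488)) (BT.node 489 (BT.leaf cE489) (BT.leaf cE490)))) (BT.node 494 (BT.node 492 (BT.node 491 (BT.leaf cE491) (BT.leaf cE492)) (BT.node 493 (BT.leaf cE493) (BT.leaf cE494))) (BT.node 496 (BT.node 495 (BT.leaf cE495) (BT.leaf cE496)) (BT.node 497 (BT.leaf cE497) (BT.leaf cE498))))))) (BT.node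 534 (BT.node 516 (BT.node 507 (BT.node 503 (BT.node 501 (BT.node 500 (BT.node 499 (BT.leaf cE499) (BT.leaf cE500)) (BT.leaf cE501)) (BT.node 502 (BT.leaf cE502) (BT.leaf cE503))) (BT.node 505 (BT.node 504 (BT.leaf cE504) (BT.leaf cE505)) (BT.node 506 (BT.leaf cE506) (BT.leaf cE507)))) (BT.node 512 (BT.node 510 (BT.node 509 (BT.node 508 (BT.leaf cE508) (BT.leaf cE509)) (BT.leaf cE510)) (BT.node 511 (BT.leaf cE511) (BT.leaf cE512))) (BT.node 514 (BT.node 513 (BT.leaf cE513) (BT.leaf cE514)) (BT.node 515 (BT.leaf cE515) (BT.leaf cE516))))) (BT.node 525 (BT.node 521 (BT.node 519 (BT.node 518 (BT.node 517 (BT.leaf cE517) (BT.leaf cE518)) (BT.leaf cE519)) (BT.node 520 (BT.leaf cE520) (BT.leaf cE521))) (BT.node 523 (BT.node 522 (BT.leaf cE522) (BT.leaf cE523)) (BT.node 524 (BT.leaf cE524) (BT.leaf cE525)))) (BT.node 530 (BT.node 528 (BT.node 527 (BT.node 526 (BT.leaf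 cE526) (BT.leaf cE527)) (BT.leaf cE528)) (BT.node 529 (BT.leaf cE529) (BT.leaf cE530))) (BT.node 532 (BT.node 531 (BT.leaf cE531) (BT.leaf cE532)) (BT.node 533 (BT.leaf cE533) (BT.leaf cE534)))))) (BT.node 552 (BT.node 543 (BT.node 539 (BT.node 537 (BT.node 536 (BT.node 535 (BT.leaf cE535) (BT.leaf cE536)) (BT.leaf cE537)) (BT.node 538 (BT.leaf cE538) (BT.leaf cE539))) (BT.node 541 (BT.node 540 (BT.leaf cE540) (BT.leaf cE541)) (BT.node 542 (BT.leaf cE542) (BT.leaf cE543)))) (BT.node 548 (BT.node 546 (BT.node 545 (BT.node 544 (BT.leaf cE544) (BT.leaf cE545)) (BT.leaf cE546)) (BT.node 547 (BT.leaf cE547) (BT.leaf cE548))) (BT.node 550 (BT.node 549 (BT.leaf cE549) (BT.leaf cE550)) (BT.node 551 (BT.leaf cE551) (BT.leaf cE552))))) (BT.node 561 (BT.node 557 (BT.node 555 (BT.node 554 (BT.node 553 (BT.leaf cE553) (BT.leaf cE554)) (BT.leaf cE555)) (BT.node 556 (BT.leaf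 cE556) (BT.leaf cE557))) (BT.node 559 (BT.node 558 (BT.leaf cE558) (BT.leaf cE559)) (BT.node 560 (BT.leaf cE560) (BT.leaf cE561)))) (BT.node 565 (BT.node 563 (BT.node 562 (BT.leaf cE562) (BT.leaf cE563)) (BT.node 564 (BT.leaf cE564) (BT.leaf cE565))) (BT.node 567 (BT.node 566 (BT.leaf cE566) (BT.leaf cE567)) (BT.node 568 (BT.leaf cE568) (BT.leaf cE569)))))))))) (BT.node 854 (BT.node 712 (BT.node 641 (BT.node 605 (BT.node 587 (BT.node 578 (BT.node 574 (BT.node 572 (BT.node 571 (BT.node 570 (BT.leaf cE570) (BT.leaf cE571)) (BT.leaf cE572)) (BT.node 573 (BT.leaf cE573) (BT.leaf cE574))) (BT.node 576 (BT.node 575 (BT.leaf cE575) (BT.leaf cE576)) (BT.node 577 (BT.leaf cE577) (BT.leaf cE578)))) (BT.node 583 (BT.node 581 (BT.node 580 (BT.node 579 (BT.leaf cE579) (BT.leaf cE580)) (BT.leaf cE581)) (BT.node 582 (BT.leaf cE582) (BT.leaf cE583))) (BT.node 585 (BT.node 584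 (BT.leaf cE584) (BT.leaf cE585)) (BT.node 586 (BT.leaf cE586) (BT.leaf cE587))))) (BT.node 596 (BT.node 592 (BT.node 590 (BT.node 589 (BT.node 588 (BT.leaf cE588) (BT.leaf cE589)) (BT.leaf cE590)) (BT.node 591 (BT.leaf cE591) (BT.leaf cE592))) (BT.node 594 (BT.node 593 (BT.leaf cE593) (BT.leaf cE594)) (BT.node 595 (BT.leaf cE595) (BT.leaf cE596)))) (BT.node 601 (BT.node 599 (BT.node 598 (BT.node 597 (BT.leaf cE597) (BT.leaf cE598)) (BT.leaf cE599)) (BT.node 600 (BT.leaf cE600) (BT.leaf cE601))) (BT.node 603 (BT.node 602 (BT.leaf cE602) (BT.leaf cE603)) (BT.node 604 (BT.leaf cE604) (BT.leaf cE605)))))) (BT.node 623 (BT.node 614 (BT.node 610 (BT.node 608 (BT.node 607 (BT.node 606 (BT.leaf cE606) (BT.leaf cE607)) (BT.leaf cE608)) (BT.node 609 (BT.leaf cE609) (BT.leaf cE610))) (BT.node 612 (BT.node 611 (BT.leaf cE611) (BT.leaf cE612)) (BT.node 613 (BT.leaf cE613)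 (BT.leaf cE614)))) (BT.node 619 (BT.node 617 (BT.node 616 (BT.node 615 (BT.leaf cE615) (BT.leaf cE616)) (BT.leaf cE617)) (BT.node 618 (BT.leaf cE618) (BT.leaf cE619))) (BT.node 621 (BT.node 620 (BT.leaf cE620) (BT.leaf cE621)) (BT.node 622 (BT.leaf cE622) (BT.leaf cE623))))) (BT.node 632 (BT.node 628 (BT.node 626 (BT.node 625 (BT.node 624 (BT.leaf cE624) (BT.leaf cE625)) (BT.leaf cE626)) (BT.node 627 (BT.leaf cE627) (BT.leaf cE628))) (BT.node 630 (BT.node 629 (BT.leaf cE629) (BT.leaf cE630)) (BT.node 631 (BT.leaf cE631) (BT.leaf cE632)))) (BT.node 637 (BT.node 635 (BT.node 634 (BT.node 633 (BT.leaf cE633) (BT.leaf cE634)) (BT.leaf cE635)) (BT.node 636 (BT.leaf cE636) (BT.leaf cE637))) (BT.node 639 (BT.node 638 (BT.leaf cE638) (BT.leaf cE639)) (BT.node 640 (BT.leaf cE640) (BT.leaf cE641))))))) (BT.node 677 (BT.node 659 (BT.node 650 (BT.node 646 (BT.node 644 (BT.node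 643 (BT.node 642 (BT.leaf cE642) (BT.leaf cE643)) (BT.leaf cE644)) (BT.node 645 (BT.leaf cE645) (BT.leaf cE646))) (BT.node 648 (BT.node 647 (BT.leaf cE647) (BT.leaf cE648)) (BT.node 649 (BT.leaf cE649) (BT.leaf cE650)))) (BT.node 655 (BT.node 653 (BT.node 652 (BT.node 651 (BT.leaf cE651) (BT.leaf cE652)) (BT.leaf cE653)) (BT.node 654 (BT.leaf cE654) (BT.leaf cE655))) (BT.node 657 (BT.node 656 (BT.leaf cE656) (BT.leaf cE657)) (BT.node 658 (BT.leaf cE658) (BT.leaf cE659))))) (BT.node 668 (BT.node 664 (BT.node 662 (BT.node 661 (BT.node 660 (BT.leaf cE660) (BT.leaf cE661)) (BT.leaf cE662)) (BT.node 663 (BT.leaf cE663) (BT.leaf cE664))) (BT.node 666 (BT.node 665 (BT.leaf cE665) (BT.leaf cE666)) (BT.node 667 (BT.leaf cE667) (BT.leaf cE668)))) (BT.node 673 (BT.node 671 (BT.node 670 (BT.node 669 (BT.leaf cE669) (BT.leaf cE670)) (BT.leaf cE671)) (BT.node 672 (BT.leaf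 cE672) (BT.leaf cE673))) (BT.node 675 (BT.node 674 (BT.leaf cE674) (BT.leaf cE675)) (BT.node 676 (BT.leaf cE676) (BT.leaf cE677)))))) (BT.node 695 (BT.node 686 (BT.node 682 (BT.node 680 (BT.node 679 (BT.node 678 (BT.leaf cE678) (BT.leaf cE679)) (BT.leaf cE680)) (BT.node 681 (BT.leaf cE681) (BT.leaf cE682))) (BT.node 684 (BT.node 683 (BT.leaf cE683) (BT.leaf cE684)) (BT.node 685 (BT.leaf cE685) (BT.leaf cE686)))) (BT.node 691 (BT.node 689 (BT.node 688 (BT.node 687 (BT.leaf cE687) (BT.leaf cE688)) (BT.leaf cE689)) (BT.node 690 (BT.leaf cE690) (BT.leaf cE691))) (BT.node 693 (BT.node 692 (BT.leaf cE692) (BT.leaf cE693)) (BT.node 694 (BT.leaf cE694) (BT.leaf cE695))))) (BT.node 704 (BT.node 700 (BT.node 698 (BT.node 697 (BT.node 696 (BT.leaf cE696) (BT.leaf cE697)) (BT.leaf cE698)) (BT.node 699 (BT.leaf cE699) (BT.leaf cE700))) (BT.node 702 (BT.node 701 (BT.leaf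 cE701) (BT.leaf cE702)) (BT.node 703 (BT.leaf cE703) (BT.leaf cE704)))) (BT.node 708 (BT.node 706 (BT.node 705 (BT.leaf cE705) (BT.leaf cE706)) (BT.node 707 (BT.leaf cE707) (BT.leaf cE708))) (BT.node 710 (BT.node 709 (BT.leaf cE709) (BT.leaf cE710)) (BT.node 711 (BT.leaf cE711) (BT.leaf cE712)))))))) (BT.node 783 (BT.node 748 (BT.node 730 (BT.node 721 (BT.node 717 (BT.node 715 (BT.node 714 (BT.node 713 (BT.leaf cE713) (BT.leaf cE714)) (BT.leaf cE715)) (BT.node 716 (BT.leaf cE716) (BT.leaf cE717))) (BT.node 719 (BT.node 718 (BT.leaf cE718) (BT.leaf cE719)) (BT.node 720 (BT.leaf cE720) (BT.leaf cE721)))) (BT.node 726 (BT.node 724 (BT.node 723 (BT.node 722 (BT.leaf cE722) (BT.leaf cE723)) (BT.leaf cE724)) (BT.node 725 (BT.leaf cE725) (BT.leaf cE726))) (BT.node 728 (BT.node 727 (BT.leaf cE727) (BT.leaf cE728)) (BT.node 729 (BT.leaf cE729) (BT.leaf cE730))))) (BT.node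 739 (BT.node 735 (BT.node 733 (BT.node 732 (BT.node 731 (BT.leaf cE731) (BT.leaf cE732)) (BT.leaf cE733)) (BT.node 734 (BT.leaf cE734) (BT.leaf cE735))) (BT.node 737 (BT.node 736 (BT.leaf cE736) (BT.leaf cE737)) (BT.node 738 (BT.leaf cE738) (BT.leaf cE739)))) (BT.node 744 (BT.node 742 (BT.node 741 (BT.node 740 (BT.leaf cE740) (BT.leaf cE741)) (BT.leaf cE742)) (BT.node 743 (BT.leaf cE743) (BT.leaf cE744))) (BT.node 746 (BT.node 745 (BT.leaf cE745) (BT.leaf cE746)) (BT.node 747 (BT.leaf cE747) (BT.leaf cE748)))))) (BT.node 766 (BT.node 757 (BT.node 753 (BT.node 751 (BT.node 750 (BT.node 749 (BT.leaf cE749) (BT.leaf cE750)) (BT.leaf cE751)) (BT.node 752 (BT.leaf cE752) (BT.leaf cE753))) (BT.node 755 (BT.node 754 (BT.leaf cE754) (BT.leaf cE755)) (BT.node 756 (BT.leaf cE756) (BT.leaf cE757)))) (BT.node 762 (BT.node 760 (BT.node 759 (BT.node 758 (BT.leaf cE758) (BT.leaf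 cE759)) (BT.leaf cE760)) (BT.node 761 (BT.leaf cE761) (BT.leaf cE762))) (BT.node 764 (BT.node 763 (BT.leaf cE763) (BT.leaf cE764)) (BT.node 765 (BT.leaf cE765) (BT.leaf cE766))))) (BT.node 775 (BT.node 771 (BT.node 769 (BT.node 768 (BT.node 767 (BT.leaf cE767) (BT.leaf cE768)) (BT.leaf cE769)) (BT.node 770 (BT.leaf cE770) (BT.leaf cE771))) (BT.node 773 (BT.node 772 (BT.leaf cE772) (BT.leaf cE773)) (BT.node 774 (BT.leaf cE774) (BT.leaf cE775)))) (BT.node 779 (BT.node 777 (BT.node 776 (BT.leaf cE776) (BT.leaf cE777)) (BT.node 778 (BT.leaf cE778) (BT.leaf cE779))) (BT.node 781 (BT.node 780 (BT.leaf cE780) (BT.leaf cE781)) (BT.node 782 (BT.leaf cE782) (BT.leaf cE783))))))) (BT.node 819 (BT.node 801 (BT.node 792 (BT.node 788 (BT.node 786 (BT.node 785 (BT.node 784 (BT.leaf cE784) (BT.leaf cE785)) (BT.leaf cE786)) (BT.node 787 (BT.leaf cE787) (BT.leaf cE788))) (BT.node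 790 (BT.node 789 (BT.leaf cE789) (BT.leaf cE790)) (BT.node 791 (BT.leaf cE791) (BT.leaf cE792)))) (BT.node 797 (BT.node 795 (BT.node 794 (BT.node 793 (BT.leaf cE793) (BT.leaf cE794)) (BT.leaf cE795)) (BT.node 796 (BT.leaf cE796) (BT.leaf cE797))) (BT.node 799 (BT.node 798 (BT.leaf cE798) (BT.leaf cE799)) (BT.node 800 (BT.leaf cE800) (BT.leaf cE801))))) (BT.node 810 (BT.node 806 (BT.node 804 (BT.node 803 (BT.node 802 (BT.leaf cE802) (BT.leaf cE803)) (BT.leaf cE804)) (BT.node 805 (BT.leaf cE805) (BT.leaf cE806))) (BT.node 808 (BT.node 807 (BT.leaf cE807) (BT.leaf cE808)) (BT.node 809 (BT.leaf cE809) (BT.leaf cE810)))) (BT.node 815 (BT.node 813 (BT.node 812 (BT.node 811 (BT.leaf cE811) (BT.leaf cE812)) (BT.leaf cE813)) (BT.node 814 (BT.leaf cE814) (BT.leaf cE815))) (BT.node 817 (BT.node 816 (BT.leaf cE816) (BT.leaf cE817)) (BT.node 818 (BT.leaf cE818) (BT.leaf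 cE819)))))) (BT.node 837 (BT.node 828 (BT.node 824 (BT.node 822 (BT.node 821 (BT.node 820 (BT.leaf cE820) (BT.leaf cE821)) (BT.leaf cE822)) (BT.node 823 (BT.leaf cE823) (BT.leaf cE824))) (BT.node 826 (BT.node 825 (BT.leaf cE825) (BT.leaf cE826)) (BT.node 827 (BT.leaf cE827) (BT.leaf cE828)))) (BT.node 833 (BT.node 831 (BT.node 830 (BT.node 829 (BT.leaf cE829) (BT.leaf cE830)) (BT.leaf cE831)) (BT.node 832 (BT.leaf cE832) (BT.leaf cE833))) (BT.node 835 (BT.node 834 (BT.leaf cE834) (BT.leaf cE835)) (BT.node 836 (BT.leaf cE836) (BT.leaf cE837))))) (BT.node 846 (BT.node 842 (BT.node 840 (BT.node 839 (BT.node 838 (BT.leaf cE838) (BT.leaf cE839)) (BT.leaf cE840)) (BT.node 841 (BT.leaf cE841) (BT.leaf cE842))) (BT.node 844 (BT.node 843 (BT.leaf cE843) (BT.leaf cE844)) (BT.node 845 (BT.leaf cE845) (BT.leaf cE846)))) (BT.node 850 (BT.node 848 (BT.node 847 (BT.leaf cE847)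 (BT.leaf cE848)) (BT.node 849 (BT.leaf cE849) (BT.leaf cE850))) (BT.node 852 (BT.node 851 (BT.leaf cE851) (BT.leaf cE852)) (BT.node 853 (BT.leaf cE853) (BT.leaf cE854))))))))) (BT.node 997 (BT.node 926 (BT.node 890 (BT.node 872 (BT.node 863 (BT.node 859 (BT.node 857 (BT.node 856 (BT.node 855 (BT.leaf cE855) (BT.leaf cE856)) (BT.leaf cE857)) (BT.node 858 (BT.leaf cE858) (BT.leaf cE859))) (BT.node 861 (BT.node 860 (BT.leaf cE860) (BT.leaf cE861)) (BT.node 862 (BT.leaf cE862) (BT.leaf cE863)))) (BT.node 868 (BT.node 866 (BT.node 865 (BT.node 864 (BT.leaf cE864) (BT.leaf cE865)) (BT.leaf cE866)) (BT.node 867 (BT.leaf cE867) (BT.leaf cE868))) (BT.node 870 (BT.node 869 (BT.leaf cE869) (BT.leaf cE870)) (BT.node 871 (BT.leaf cE871) (BT.leaf cE872))))) (BT.node 881 (BT.node 877 (BT.node 875 (BT.node 874 (BT.node 873 (BT.leaf cE873) (BT.leaf cE874)) (BT.leaf cE875)) (BT.node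 876 (BT.leaf cE876) (BT.leaf cE877))) (BT.node 879 (BT.node 878 (BT.leaf cE878) (BT.leaf cE879)) (BT.node 880 (BT.leaf cE880) (BT.leaf cE881)))) (BT.node 886 (BT.node 884 (BT.node 883 (BT.node 882 (BT.leaf cE882) (BT.leaf cE883)) (BT.leaf cE884)) (BT.node 885 (BT.leaf cE885) (BT.leaf cE886))) (BT.node 888 (BT.node 887 (BT.leaf cE887) (BT.leaf cE888)) (BT.node 889 (BT.leaf cE889) (BT.leaf cE890)))))) (BT.node 908 (BT.node 899 (BT.node 895 (BT.node 893 (BT.node 892 (BT.node 891 (BT.leaf cE891) (BT.leaf cE892)) (BT.leaf cE893)) (BT.node 894 (BT.leaf cE894) (BT.leaf cE895))) (BT.node 897 (BT.node 896 (BT.leaf cE896) (BT.leaf cE897)) (BT.node 898 (BT.leaf cE898) (BT.leaf cE899)))) (BT.node 904 (BT.node 902 (BT.node 901 (BT.node 900 (BT.leaf cE900) (BT.leaf cE901)) (BT.leaf cE902)) (BT.node 903 (BT.leaf cE903) (BT.leaf cE904))) (BT.node 906 (BT.node 905 (BT.leaf cE905)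 (BT.leaf cE906)) (BT.node 907 (BT.leaf cE907) (BT.leaf cE908))))) (BT.node 917 (BT.node 913 (BT.node 911 (BT.node 910 (BT.node 909 (BT.leaf cE909) (BT.leaf cE910)) (BT.leaf cE911)) (BT.node 912 (BT.leaf cE912) (BT.leaf cE913))) (BT.node 915 (BT.node 914 (BT.leaf cE914) (BT.leaf cE915)) (BT.node 916 (BT.leaf cE916) (BT.leaf cE917)))) (BT.node 922 (BT.node 920 (BT.node 919 (BT.node 918 (BT.leaf cE918) (BT.leaf cE919)) (BT.leaf cE920)) (BT.node 921 (BT.leaf cE921) (BT.leaf cE922))) (BT.node 924 (BT.node 923 (BT.leaf cE923) (BT.leaf cE924)) (BT.node 925 (BT.leaf cE925) (BT.leaf cE926))))))) (BT.node 962 (BT.node 944 (BT.node 935 (BT.node 931 (BT.node 929 (BT.node 928 (BT.node 927 (BT.leaf cE927) (BT.leaf cE928)) (BT.leaf cE929)) (BT.node 930 (BT.leaf cE930) (BT.leaf cE931))) (BT.node 933 (BT.node 932 (BT.leaf cE932) (BT.leaf cE933)) (BT.node 934 (BT.leaf cE934)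 (BT.leaf cE935)))) (BT.node 940 (BT.node 938 (BT.node 937 (BT.node 936 (BT.leaf cE936) (BT.leaf cE937)) (BT.leaf cE938)) (BT.node 939 (BT.leaf cE939) (BT.leaf cE940))) (BT.node 942 (BT.node 941 (BT.leaf cE941) (BT.leaf cE942)) (BT.node 943 (BT.leaf cE943) (BT.leaf cE944))))) (BT.node 953 (BT.node 949 (BT.node 947 (BT.node 946 (BT.node 945 (BT.leaf cE945) (BT.leaf cE946)) (BT.leaf cE947)) (BT.node 948 (BT.leaf cE948) (BT.leaf cE949))) (BT.node 951 (BT.node 950 (BT.leaf cE950) (BT.leaf cE951)) (BT.node 952 (BT.leaf cE952) (BT.leaf cE953)))) (BT.node 958 (BT.node 956 (BT.node 955 (BT.node 954 (BT.leaf cE954) (BT.leaf cE955)) (BT.leaf cE956)) (BT.node 957 (BT.leaf cE957) (BT.leaf cE958))) (BT.node 960 (BT.node 959 (BT.leaf cE959) (BT.leaf cE960)) (BT.node 961 (BT.leaf cE961) (BT.leaf cE962)))))) (BT.node 980 (BT.node 971 (BT.node 967 (BT.node 965 (BT.node 964 (BT.node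 963 (BT.leaf cE963) (BT.leaf cE964)) (BT.leaf cE965)) (BT.node 966 (BT.leaf cE966) (BT.leaf cE967))) (BT.node 969 (BT.node 968 (BT.leaf cE968) (BT.leaf cE969)) (BT.node 970 (BT.leaf cE970) (BT.leaf cE971)))) (BT.node 976 (BT.node 974 (BT.node 973 (BT.node 972 (BT.leaf cE972) (BT.leaf cE973)) (BT.leaf cE974)) (BT.node 975 (BT.leaf cE975) (BT.leaf cE976))) (BT.node 978 (BT.node 977 (BT.leaf cE977) (BT.leaf cE978)) (BT.node 979 (BT.leaf cE979) (BT.leaf cE980))))) (BT.node 989 (BT.node 985 (BT.node 983 (BT.node 982 (BT.node 981 (BT.leaf cE981) (BT.leaf cE982)) (BT.leaf cE983)) (BT.node 984 (BT.leaf cE984) (BT.leaf cE985))) (BT.node 987 (BT.node 986 (BT.leaf cE986) (BT.leaf cE987)) (BT.node 988 (BT.leaf cE988) (BT.leaf cE989)))) (BT.node 993 (BT.node 991 (BT.node 990 (BT.leaf cE990) (BT.leaf cE991)) (BT.node 992 (BT.leaf cE992) (BT.leaf cE993))) (BT.node 995 (BT.node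 994 (BT.leaf cE994) (BT.leaf cE995)) (BT.node 996 (BT.leaf cE996) (BT.leaf cE997)))))))) (BT.node 1068 (BT.node 1033 (BT.node 1015 (BT.node 1006 (BT.node 1002 (BT.node 1000 (BT.node 999 (BT.node 998 (BT.leaf cE998) (BT.leaf cE999)) (BT.leaf cE1000)) (BT.node 1001 (BT.leaf cE1001) (BT.leaf cE1002))) (BT.node 1004 (BT.node 1003 (BT.leaf cE1003) (BT.leaf cE1004)) (BT.node 1005 (BT.leaf cE1005) (BT.leaf cE1006)))) (BT.node 1011 (BT.node 1009 (BT.node 1008 (BT.node 1007 (BT.leaf cE1007) (BT.leaf cE1008)) (BT.leaf cE1009)) (BT.node 1010 (BT.leaf cE1010) (BT.leaf cE1011))) (BT.node 1013 (BT.node 1012 (BT.leaf cE1012) (BT.leaf cE1013)) (BT.node 1014 (BT.leaf cE1014) (BT.leaf cE1015))))) (BT.node 1024 (BT.node 1020 (BT.node 1018 (BT.node 1017 (BT.node 1016 (BT.leaf cE1016) (BT.leaf cE1017)) (BT.leaf cE1018)) (BT.node 1019 (BT.leaf cE1019) (BT.leaf cE1020))) (BT.node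 1022 (BT.node 1021 (BT.leaf cE1021) (BT.leaf cE1022)) (BT.node 1023 (BT.leaf cE1023) (BT.leaf cE1024)))) (BT.node 1029 (BT.node 1027 (BT.node 1026 (BT.node 1025 (BT.leaf cE1025) (BT.leaf cE1026)) (BT.leaf cE1027)) (BT.node 1028 (BT.leaf cE1028) (BT.leaf cE1029))) (BT.node 1031 (BT.node 1030 (BT.leaf cE1030) (BT.leaf cE1031)) (BT.node 1032 (BT.leaf cE1032) (BT.leaf cE1033)))))) (BT.node 1051 (BT.node 1042 (BT.node 1038 (BT.node 1036 (BT.node 1035 (BT.node 1034 (BT.leaf cE1034) (BT.leaf cE1035)) (BT.leaf cE1036)) (BT.node 1037 (BT.leaf cE1037) (BT.leaf cE1038))) (BT.node 1040 (BT.node 1039 (BT.leaf cE1039) (BT.leaf cE1040)) (BT.node 1041 (BT.leaf cE1041) (BT.leaf cE1042)))) (BT.node 1047 (BT.node 1045 (BT.node 1044 (BT.node 1043 (BT.leaf cE1043) (BT.leaf cE1044)) (BT.leaf cE1045)) (BT.node 1046 (BT.leaf cE1046) (BT.leaf cE1047))) (BT.node 1049 (BT.node 1048 (BT.leaf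 cE1048) (BT.leaf cE1049)) (BT.node 1050 (BT.leaf cE1050) (BT.leaf cE1051))))) (BT.node 1060 (BT.node 1056 (BT.node 1054 (BT.node 1053 (BT.node 1052 (BT.leaf cE1052) (BT.leaf cE1053)) (BT.leaf cE1054)) (BT.node 1055 (BT.leaf cE1055) (BT.leaf cE1056))) (BT.node 1058 (BT.node 1057 (BT.leaf cE1057) (BT.leaf cE1058)) (BT.node 1059 (BT.leaf cE1059) (BT.leaf cE1060)))) (BT.node 1064 (BT.node 1062 (BT.node 1061 (BT.leaf cE1061) (BT.leaf cE1062)) (BT.node 1063 (BT.leaf cE1063) (BT.leaf cE1064))) (BT.node 1066 (BT.node 1065 (BT.leaf cE1065) (BT.leaf cE1066)) (BT.node 1067 (BT.leaf cE1067) (BT.leaf cE1068))))))) (BT.node 1104 (BT.node 1086 (BT.node 1077 (BT.node 1073 (BT.node 1071 (BT.node 1070 (BT.node 1069 (BT.leaf cE1069) (BT.leaf cE1070)) (BT.leaf cE1071)) (BT.node 1072 (BT.leaf cE1072) (BT.leaf cE1073))) (BT.node 1075 (BT.node 1074 (BT.leaf cE1074) (BT.leaf cE1075))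 (BT.node 1076 (BT.leaf cE1076) (BT.leaf cE1077)))) (BT.node 1082 (BT.node 1080 (BT.node 1079 (BT.node 1078 (BT.leaf cE1078) (BT.leaf cE1079)) (BT.leaf cE1080)) (BT.node 1081 (BT.leaf cE1081) (BT.leaf cE1082))) (BT.node 1084 (BT.node 1083 (BT.leaf cE1083) (BT.leaf cE1084)) (BT.node 1085 (BT.leaf cE1085) (BT.leaf cE1086))))) (BT.node 1095 (BT.node 1091 (BT.node 1089 (BT.node 1088 (BT.node 1087 (BT.leaf cE1087) (BT.leaf cE1088)) (BT.leaf cE1089)) (BT.node 1090 (BT.leaf cE1090) (BT.leaf cE1091))) (BT.node 1093 (BT.node 1092 (BT.leaf cE1092) (BT.leaf cE1093)) (BT.node 1094 (BT.leaf cE1094) (BT.leaf cE1095)))) (BT.node 1100 (BT.node 1098 (BT.node 1097 (BT.node 1096 (BT.leaf cE1096) (BT.leaf cE1097)) (BT.leaf cE1098)) (BT.node 1099 (BT.leaf cE1099) (BT.leaf cE1100))) (BT.node 1102 (BT.node 1101 (BT.leaf cE1101) (BT.leaf cE1102)) (BT.node 1103 (BT.leaf cE1103) (BT.leaf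 cE1104)))))) (BT.node 1122 (BT.node 1113 (BT.node 1109 (BT.node 1107 (BT.node 1106 (BT.node 1105 (BT.leaf cE1105) (BT.leaf cE1106)) (BT.leaf cE1107)) (BT.node 1108 (BT.leaf cE1108) (BT.leaf cE1109))) (BT.node 1111 (BT.node 1110 (BT.leaf cE1110) (BT.leaf cE1111)) (BT.node 1112 (BT.leaf cE1112) (BT.leaf cE1113)))) (BT.node 1118 (BT.node 1116 (BT.node 1115 (BT.node 1114 (BT.leaf cE1114) (BT.leaf cE1115)) (BT.leaf cE1116)) (BT.node 1117 (BT.leaf cE1117) (BT.leaf cE1118))) (BT.node 1120 (BT.node 1119 (BT.leaf cE1119) (BT.leaf cE1120)) (BT.node 1121 (BT.leaf cE1121) (BT.leaf cE1122))))) (BT.node 1131 (BT.node 1127 (BT.node 1125 (BT.node 1124 (BT.node 1123 (BT.leaf cE1123) (BT.leaf cE1124)) (BT.leaf cE1125)) (BT.node 1126 (BT.leaf cE1126) (BT.leaf cE1127))) (BT.node 1129 (BT.node 1128 (BT.leaf cE1128) (BT.leaf cE1129)) (BT.node 1130 (BT.leaf cE1130) (BT.leaf cE1131))))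 (BT.node 1135 (BT.node 1133 (BT.node 1132 (BT.leaf cE1132) (BT.leaf cE1133)) (BT.node 1134 (BT.leaf cE1134) (BT.leaf cE1135))) (BT.node 1137 (BT.node 1136 (BT.leaf cE1136) (BT.leaf cE1137)) (BT.node 1138 (BT.leaf cE1138) (BT.leaf cE1139))))))))))) (BT.node 1709 (BT.node 1424 (BT.node 1282 (BT.node 1211 (BT.node 1175 (BT.node 1157 (BT.node 1148 (BT.node 1144 (BT.node 1142 (BT.node 1141 (BT.node 1140 (BT.leaf cE1140) (BT.leaf cE1141)) (BT.leaf cE1142)) (BT.node 1143 (BT.leaf cE1143) (BT.leaf cE1144))) (BT.node 1146 (BT.node 1145 (BT.leaf cE1145) (BT.leaf cE1146)) (BT.node 1147 (BT.leaf cE1147) (BT.leaf cE1148)))) (BT.node 1153 (BT.node 1151 (BT.node 1150 (BT.node 1149 (BT.leaf cE1149) (BT.leaf cE1150)) (BT.leaf cE1151)) (BT.node 1152 (BT.leaf cE1152) (BT.leaf cE1153))) (BT.node 1155 (BT.node 1154 (BT.leaf cE1154) (BT.leaf cE1155)) (BT.node 1156 (BT.leaf cE1156)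 (BT.leaf cE1157))))) (BT.node 1166 (BT.node 1162 (BT.node 1160 (BT.node 1159 (BT.node 1158 (BT.leaf cE1158) (BT.leaf cE1159)) (BT.leaf cE1160)) (BT.node 1161 (BT.leaf cE1161) (BT.leaf cE1162))) (BT.node 1164 (BT.node 1163 (BT.leaf cE1163) (BT.leaf cE1164)) (BT.node 1165 (BT.leaf cE1165) (BT.leaf cE1166)))) (BT.node 1171 (BT.node 1169 (BT.node 1168 (BT.node 1167 (BT.leaf cE1167) (BT.leaf cE1168)) (BT.leaf cE1169)) (BT.node 1170 (BT.leaf cE1170) (BT.leaf cE1171))) (BT.node 1173 (BT.node 1172 (BT.leaf cE1172) (BT.leaf cE1173)) (BT.node 1174 (BT.leaf cE1174) (BT.leaf cE1175)))))) (BT.node 1193 (BT.node 1184 (BT.node 1180 (BT.node 1178 (BT.node 1177 (BT.node 1176 (BT.leaf cE1176) (BT.leaf cE1177)) (BT.leaf cE1178)) (BT.node 1179 (BT.leaf cE1179) (BT.leaf cE1180))) (BT.node 1182 (BT.node 1181 (BT.leaf cE1181) (BT.leaf cE1182)) (BT.node 1183 (BT.leaf cE1183) (BT.leaf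 cE1184)))) (BT.node 1189 (BT.node 1187 (BT.node 1186 (BT.node 1185 (BT.leaf cE1185) (BT.leaf cE1186)) (BT.leaf cE1187)) (BT.node 1188 (BT.leaf cE1188) (BT.leaf cE1189))) (BT.node 1191 (BT.node 1190 (BT.leaf cE1190) (BT.leaf cE1191)) (BT.node 1192 (BT.leaf cE1192) (BT.leaf cE1193))))) (BT.node 1202 (BT.node 1198 (BT.node 1196 (BT.node 1195 (BT.node 1194 (BT.leaf cE1194) (BT.leaf cE1195)) (BT.leaf cE1196)) (BT.node 1197 (BT.leaf cE1197) (BT.leaf cE1198))) (BT.node 1200 (BT.node 1199 (BT.leaf cE1199) (BT.leaf cE1200)) (BT.node 1201 (BT.leaf cE1201) (BT.leaf cE1202)))) (BT.node 1207 (BT.node 1205 (BT.node 1204 (BT.node 1203 (BT.leaf cE1203) (BT.leaf cE1204)) (BT.leaf cE1205)) (BT.node 1206 (BT.leaf cE1206) (BT.leaf cE1207))) (BT.node 1209 (BT.node 1208 (BT.leaf cE1208) (BT.leaf cE1209)) (BT.node 1210 (BT.leaf cE1210) (BT.leaf cE1211))))))) (BT.node 1247 (BT.node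 1229 (BT.node 1220 (BT.node 1216 (BT.node 1214 (BT.node 1213 (BT.node 1212 (BT.leaf cE1212) (BT.leaf cE1213)) (BT.leaf cE1214)) (BT.node 1215 (BT.leaf cE1215) (BT.leaf cE1216))) (BT.node 1218 (BT.node 1217 (BT.leaf cE1217) (BT.leaf cE1218)) (BT.node 1219 (BT.leaf cE1219) (BT.leaf cE1220)))) (BT.node 1225 (BT.node 1223 (BT.node 1222 (BT.node 1221 (BT.leaf cE1221) (BT.leaf cE1222)) (BT.leaf cE1223)) (BT.node 1224 (BT.leaf cE1224) (BT.leaf cE1225))) (BT.node 1227 (BT.node 1226 (BT.leaf cE1226) (BT.leaf cE1227)) (BT.node 1228 (BT.leaf cE1228) (BT.leaf cE1229))))) (BT.node 1238 (BT.node 1234 (BT.node 1232 (BT.node 1231 (BT.node 1230 (BT.leaf cE1230) (BT.leaf cE1231)) (BT.leaf cE1232)) (BT.node 1233 (BT.leaf cE1233) (BT.leaf cE1234))) (BT.node 1236 (BT.node 1235 (BT.leaf cE1235) (BT.leaf cE1236)) (BT.node 1237 (BT.leaf cE1237) (BT.leaf cE1238)))) (BT.node 1243 (BT.node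 1241 (BT.node 1240 (BT.node 1239 (BT.leaf cE1239) (BT.leaf cE1240)) (BT.leaf cE1241)) (BT.node 1242 (BT.leaf cE1242) (BT.leaf cE1243))) (BT.node 1245 (BT.node 1244 (BT.leaf cE1244) (BT.leaf cE1245)) (BT.node 1246 (BT.leaf cE1246) (BT.leaf cE1247)))))) (BT.node 1265 (BT.node 1256 (BT.node 1252 (BT.node 1250 (BT.node 1249 (BT.node 1248 (BT.leaf cE1248) (BT.leaf cE1249)) (BT.leaf cE1250)) (BT.node 1251 (BT.leaf cE1251) (BT.leaf cE1252))) (BT.node 1254 (BT.node 1253 (BT.leaf cE1253) (BT.leaf cE1254)) (BT.node 1255 (BT.leaf cE1255) (BT.leaf cE1256)))) (BT.node 1261 (BT.node 1259 (BT.node 1258 (BT.node 1257 (BT.leaf cE1257) (BT.leaf cE1258)) (BT.leaf cE1259)) (BT.node 1260 (BT.leaf cE1260) (BT.leaf cE1261))) (BT.node 1263 (BT.node 1262 (BT.leaf cE1262) (BT.leaf cE1263)) (BT.node 1264 (BT.leaf cE1264) (BT.leaf cE1265))))) (BT.node 1274 (BT.node 1270 (BT.node 1268 (BT.node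 1267 (BT.node 1266 (BT.leaf cE1266) (BT.leaf cE1267)) (BT.leaf cE1268)) (BT.node 1269 (BT.leaf cE1269) (BT.leaf cE1270))) (BT.node 1272 (BT.node 1271 (BT.leaf cE1271) (BT.leaf cE1272)) (BT.node 1273 (BT.leaf cE1273) (BT.leaf cE1274)))) (BT.node 1278 (BT.node 1276 (BT.node 1275 (BT.leaf cE1275) (BT.leaf cE1276)) (BT.node 1277 (BT.leaf cE1277) (BT.leaf cE1278))) (BT.node 1280 (BT.node 1279 (BT.leaf cE1279) (BT.leaf cE1280)) (BT.node 1281 (BT.leaf cE1281) (BT.leaf cE1282)))))))) (BT.node 1353 (BT.node 1318 (BT.node 1300 (BT.node 1291 (BT.node 1287 (BT.node 1285 (BT.node 1284 (BT.node 1283 (BT.leaf cE1283) (BT.leaf cE1284)) (BT.leaf cE1285)) (BT.node 1286 (BT.leaf cE1286) (BT.leaf cE1287))) (BT.node 1289 (BT.node 1288 (BT.leaf cE1288) (BT.leaf cE1289)) (BT.node 1290 (BT.leaf cE1290) (BT.leaf cE1291)))) (BT.node 1296 (BT.node 1294 (BT.node 1293 (BT.node 1292 (BT.leaf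 cE1292) (BT.leaf cE1293)) (BT.leaf cE1294)) (BT.node 1295 (BT.leaf cE1295) (BT.leaf cE1296))) (BT.node 1298 (BT.node 1297 (BT.leaf cE1297) (BT.leaf cE1298)) (BT.node 1299 (BT.leaf cE1299) (BT.leaf cE1300))))) (BT.node 1309 (BT.node 1305 (BT.node 1303 (BT.node 1302 (BT.node 1301 (BT.leaf cE1301) (BT.leaf cE1302)) (BT.leaf cE1303)) (BT.node 1304 (BT.leaf cE1304) (BT.leaf cE1305))) (BT.node 1307 (BT.node 1306 (BT.leaf cE1306) (BT.leaf cE1307)) (BT.node 1308 (BT.leaf cE1308) (BT.leaf cE1309)))) (BT.node 1314 (BT.node 1312 (BT.node 1311 (BT.node 1310 (BT.leaf cE1310) (BT.leaf cE1311)) (BT.leaf cE1312)) (BT.node 1313 (BT.leaf cE1313) (BT.leaf cE1314))) (BT.node 1316 (BT.node 1315 (BT.leaf cE1315) (BT.leaf cE1316)) (BT.node 1317 (BT.leaf cE1317) (BT.leaf cE1318)))))) (BT.node 1336 (BT.node 1327 (BT.node 1323 (BT.node 1321 (BT.node 1320 (BT.node 1319 (BT.leaf cE1319)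 (BT.leaf cE1320)) (BT.leaf cE1321)) (BT.node 1322 (BT.leaf cE1322) (BT.leaf cE1323))) (BT.node 1325 (BT.node 1324 (BT.leaf cE1324) (BT.leaf cE1325)) (BT.node 1326 (BT.leaf cE1326) (BT.leaf cE1327)))) (BT.node 1332 (BT.node 1330 (BT.node 1329 (BT.node 1328 (BT.leaf cE1328) (BT.leaf cE1329)) (BT.leaf cE1330)) (BT.node 1331 (BT.leaf cE1331) (BT.leaf cE1332))) (BT.node 1334 (BT.node 1333 (BT.leaf cE1333) (BT.leaf cE1334)) (BT.node 1335 (BT.leaf cE1335) (BT.leaf cE1336))))) (BT.node 1345 (BT.node 1341 (BT.node 1339 (BT.node 1338 (BT.node 1337 (BT.leaf cE1337) (BT.leaf cE1338)) (BT.leaf cE1339)) (BT.node 1340 (BT.leaf cE1340) (BT.leaf cE1341))) (BT.node 1343 (BT.node 1342 (BT.leaf cE1342) (BT.leaf cE1343)) (BT.node 1344 (BT.leaf cE1344) (BT.leaf cE1345)))) (BT.node 1349 (BT.node 1347 (BT.node 1346 (BT.leaf cE1346) (BT.leaf cE1347)) (BT.node 1348 (BT.leaf cE1348) (BT.leaf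 cE1349))) (BT.node 1351 (BT.node 1350 (BT.leaf cE1350) (BT.leaf cE1351)) (BT.node 1352 (BT.leaf cE1352) (BT.leaf cE1353))))))) (BT.node 1389 (BT.node 1371 (BT.node 1362 (BT.node 1358 (BT.node 1356 (BT.node 1355 (BT.node 1354 (BT.leaf cE1354) (BT.leaf cE1355)) (BT.leaf cE1356)) (BT.node 1357 (BT.leaf cE1357) (BT.leaf cE1358))) (BT.node 1360 (BT.node 1359 (BT.leaf cE1359) (BT.leaf cE1360)) (BT.node 1361 (BT.leaf cE1361) (BT.leaf cE1362)))) (BT.node 1367 (BT.node 1365 (BT.node 1364 (BT.node 1363 (BT.leaf cE1363) (BT.leaf cE1364)) (BT.leaf cE1365)) (BT.node 1366 (BT.leaf cE1366) (BT.leaf cE1367))) (BT.node 1369 (BT.node 1368 (BT.leaf cE1368) (BT.leaf cE1369)) (BT.node 1370 (BT.leaf cE1370) (BT.leaf cE1371))))) (BT.node 1380 (BT.node 1376 (BT.node 1374 (BT.node 1373 (BT.node 1372 (BT.leaf cE1372) (BT.leaf cE1373)) (BT.leaf cE1374)) (BT.node 1375 (BT.leaf cE1375)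 (BT.leaf cE1376))) (BT.node 1378 (BT.node 1377 (BT.leaf cE1377) (BT.leaf cE1378)) (BT.node 1379 (BT.leaf cE1379) (BT.leaf cE1380)))) (BT.node 1385 (BT.node 1383 (BT.node 1382 (BT.node 1381 (BT.leaf cE1381) (BT.leaf cE1382)) (BT.leaf cE1383)) (BT.node 1384 (BT.leaf cE1384) (BT.leaf cE1385))) (BT.node 1387 (BT.node 1386 (BT.leaf cE1386) (BT.leaf cE1387)) (BT.node 1388 (BT.leaf cE1388) (BT.leaf cE1389)))))) (BT.node 1407 (BT.node 1398 (BT.node 1394 (BT.node 1392 (BT.node 1391 (BT.node 1390 (BT.leaf cE1390) (BT.leaf cE1391)) (BT.leaf cE1392)) (BT.node 1393 (BT.leaf cE1393) (BT.leaf cE1394))) (BT.node 1396 (BT.node 1395 (BT.leaf cE1395) (BT.leaf cE1396)) (BT.node 1397 (BT.leaf cE1397) (BT.leaf cE1398)))) (BT.node 1403 (BT.node 1401 (BT.node 1400 (BT.node 1399 (BT.leaf cE1399) (BT.leaf cE1400)) (BT.leaf cE1401)) (BT.node 1402 (BT.leaf cE1402) (BT.leaf cE1403))) (BT.node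 1405 (BT.node 1404 (BT.leaf cE1404) (BT.leaf cE1405)) (BT.node 1406 (BT.leaf cE1406) (BT.leaf cE1407))))) (BT.node 1416 (BT.node 1412 (BT.node 1410 (BT.node 1409 (BT.node 1408 (BT.leaf cE1408) (BT.leaf cE1409)) (BT.leaf cE1410)) (BT.node 1411 (BT.leaf cE1411) (BT.leaf cE1412))) (BT.node 1414 (BT.node 1413 (BT.leaf cE1413) (BT.leaf cE1414)) (BT.node 1415 (BT.leaf cE1415) (BT.leaf cE1416)))) (BT.node 1420 (BT.node 1418 (BT.node 1417 (BT.leaf cE1417) (BT.leaf cE1418)) (BT.node 1419 (BT.leaf cE1419) (BT.leaf cE1420))) (BT.node 1422 (BT.node 1421 (BT.leaf cE1421) (BT.leaf cE1422)) (BT.node 1423 (BT.leaf cE1423) (BT.leaf cE1424))))))))) (BT.node 1567 (BT.node 1496 (BT.node 1460 (BT.node 1442 (BT.node 1433 (BT.node 1429 (BT.node 1427 (BT.node 1426 (BT.node 1425 (BT.leaf cE1425) (BT.leaf cE1426)) (BT.leaf cE1427)) (BT.node 1428 (BT.leaf cE1428) (BT.leaf cE1429))) (BT.node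 1431 (BT.node 1430 (BT.leaf cE1430) (BT.leaf cE1431)) (BT.node 1432 (BT.leaf cE1432) (BT.leaf cE1433)))) (BT.node 1438 (BT.node 1436 (BT.node 1435 (BT.node 1434 (BT.leaf cE1434) (BT.leaf cE1435)) (BT.leaf cE1436)) (BT.node 1437 (BT.leaf cE1437) (BT.leaf cE1438))) (BT.node 1440 (BT.node 1439 (BT.leaf cE1439) (BT.leaf cE1440)) (BT.node 1441 (BT.leaf cE1441) (BT.leaf cE1442))))) (BT.node 1451 (BT.node 1447 (BT.node 1445 (BT.node 1444 (BT.node 1443 (BT.leaf cE1443) (BT.leaf cE1444)) (BT.leaf cE1445)) (BT.node 1446 (BT.leaf cE1446) (BT.leaf cE1447))) (BT.node 1449 (BT.node 1448 (BT.leaf cE1448) (BT.leaf cE1449)) (BT.node 1450 (BT.leaf cE1450) (BT.leaf cE1451)))) (BT.node 1456 (BT.node 1454 (BT.node 1453 (BT.node 1452 (BT.leaf cE1452) (BT.leaf cE1453)) (BT.leaf cE1454)) (BT.node 1455 (BT.leaf cE1455) (BT.leaf cE1456))) (BT.node 1458 (BT.node 1457 (BT.leaf cE1457)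 (BT.leaf cE1458)) (BT.node 1459 (BT.leaf cE1459) (BT.leaf cE1460)))))) (BT.node 1478 (BT.node 1469 (BT.node 1465 (BT.node 1463 (BT.node 1462 (BT.node 1461 (BT.leaf cE1461) (BT.leaf cE1462)) (BT.leaf cE1463)) (BT.node 1464 (BT.leaf cE1464) (BT.leaf cE1465))) (BT.node 1467 (BT.node 1466 (BT.leaf cE1466) (BT.leaf cE1467)) (BT.node 1468 (BT.leaf cE1468) (BT.leaf cE1469)))) (BT.node 1474 (BT.node 1472 (BT.node 1471 (BT.node 1470 (BT.leaf cE1470) (BT.leaf cE1471)) (BT.leaf cE1472)) (BT.node 1473 (BT.leaf cE1473) (BT.leaf cE1474))) (BT.node 1476 (BT.node 1475 (BT.leaf cE1475) (BT.leaf cE1476)) (BT.node 1477 (BT.leaf cE1477) (BT.leaf cE1478))))) (BT.node 1487 (BT.node 1483 (BT.node 1481 (BT.node 1480 (BT.node 1479 (BT.leaf cE1479) (BT.leaf cE1480)) (BT.leaf cE1481)) (BT.node 1482 (BT.leaf cE1482) (BT.leaf cE1483))) (BT.node 1485 (BT.node 1484 (BT.leaf cE1484) (BT.leaf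 cE1485)) (BT.node 1486 (BT.leaf cE1486) (BT.leaf cE1487)))) (BT.node 1492 (BT.node 1490 (BT.node 1489 (BT.node 1488 (BT.leaf cE1488) (BT.leaf cE1489)) (BT.leaf cE1490)) (BT.node 1491 (BT.leaf cE1491) (BT.leaf cE1492))) (BT.node 1494 (BT.node 1493 (BT.leaf cE1493) (BT.leaf cE1494)) (BT.node 1495 (BT.leaf cE1495) (BT.leaf cE1496))))))) (BT.node 1532 (BT.node 1514 (BT.node 1505 (BT.node 1501 (BT.node 1499 (BT.node 1498 (BT.node 1497 (BT.leaf cE1497) (BT.leaf cE1498)) (BT.leaf cE1499)) (BT.node 1500 (BT.leaf cE1500) (BT.leaf cE1501))) (BT.node 1503 (BT.node 1502 (BT.leaf cE1502) (BT.leaf cE1503)) (BT.node 1504 (BT.leaf cE1504) (BT.leaf cE1505)))) (BT.node 1510 (BT.node 1508 (BT.node 1507 (BT.node 1506 (BT.leaf cE1506) (BT.leaf cE1507)) (BT.leaf cE1508)) (BT.node 1509 (BT.leaf cE1509) (BT.leaf cE1510))) (BT.node 1512 (BT.node 1511 (BT.leaf cE1511) (BT.leaf cE1512))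 (BT.node 1513 (BT.leaf cE1513) (BT.leaf cE1514))))) (BT.node 1523 (BT.node 1519 (BT.node 1517 (BT.node 1516 (BT.node 1515 (BT.leaf cE1515) (BT.leaf cE1516)) (BT.leaf cE1517)) (BT.node 1518 (BT.leaf cE1518) (BT.leaf cE1519))) (BT.node 1521 (BT.node 1520 (BT.leaf cE1520) (BT.leaf cE1521)) (BT.node 1522 (BT.leaf cE1522) (BT.leaf cE1523)))) (BT.node 1528 (BT.node 1526 (BT.node 1525 (BT.node 1524 (BT.leaf cE1524) (BT.leaf cE1525)) (BT.leaf cE1526)) (BT.node 1527 (BT.leaf cE1527) (BT.leaf cE1528))) (BT.node 1530 (BT.node 1529 (BT.leaf cE1529) (BT.leaf cE1530)) (BT.node 1531 (BT.leaf cE1531) (BT.leaf cE1532)))))) (BT.node 1550 (BT.node 1541 (BT.node 1537 (BT.node 1535 (BT.node 1534 (BT.node 1533 (BT.leaf cE1533) (BT.leaf cE1534)) (BT.leaf cE1535)) (BT.node 1536 (BT.leaf cE1536) (BT.leaf cE1537))) (BT.node 1539 (BT.node 1538 (BT.leaf cE1538) (BT.leaf cE1539)) (BT.node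 1540 (BT.leaf cE1540) (BT.leaf cE1541)))) (BT.node 1546 (BT.node 1544 (BT.node 1543 (BT.node 1542 (BT.leaf cE1542) (BT.leaf cE1543)) (BT.leaf cE1544)) (BT.node 1545 (BT.leaf cE1545) (BT.leaf cE1546))) (BT.node 1548 (BT.node 1547 (BT.leaf cE1547) (BT.leaf cE1548)) (BT.node 1549 (BT.leaf cE1549) (BT.leaf cE1550))))) (BT.node 1559 (BT.node 1555 (BT.node 1553 (BT.node 1552 (BT.node 1551 (BT.leaf cE1551) (BT.leaf cE1552)) (BT.leaf cE1553)) (BT.node 1554 (BT.leaf cE1554) (BT.leaf cE1555))) (BT.node 1557 (BT.node 1556 (BT.leaf cE1556) (BT.leaf cE1557)) (BT.node 1558 (BT.leaf cE1558) (BT.leaf cE1559)))) (BT.node 1563 (BT.node 1561 (BT.node 1560 (BT.leaf cE1560) (BT.leaf cE1561)) (BT.node 1562 (BT.leaf cE1562) (BT.leaf cE1563))) (BT.node 1565 (BT.node 1564 (BT.leaf cE1564) (BT.leaf cE1565)) (BT.node 1566 (BT.leaf cE1566) (BT.leaf cE1567)))))))) (BT.node 1638 (BT.node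 1603 (BT.node 1585 (BT.node 1576 (BT.node 1572 (BT.node 1570 (BT.node 1569 (BT.node 1568 (BT.leaf cE1568) (BT.leaf cE1569)) (BT.leaf cE1570)) (BT.node 1571 (BT.leaf cE1571) (BT.leaf cE1572))) (BT.node 1574 (BT.node 1573 (BT.leaf cE1573) (BT.leaf cE1574)) (BT.node 1575 (BT.leaf cE1575) (BT.leaf cE1576)))) (BT.node 1581 (BT.node 1579 (BT.node 1578 (BT.node 1577 (BT.leaf cE1577) (BT.leaf cE1578)) (BT.leaf cE1579)) (BT.node 1580 (BT.leaf cE1580) (BT.leaf cE1581))) (BT.node 1583 (BT.node 1582 (BT.leaf cE1582) (BT.leaf cE1583)) (BT.node 1584 (BT.leaf cE1584) (BT.leaf cE1585))))) (BT.node 1594 (BT.node 1590 (BT.node 1588 (BT.node 1587 (BT.node 1586 (BT.leaf cE1586) (BT.leaf cE1587)) (BT.leaf cE1588)) (BT.node 1589 (BT.leaf cE1589) (BT.leaf cE1590))) (BT.node 1592 (BT.node 1591 (BT.leaf cE1591) (BT.leaf cE1592)) (BT.node 1593 (BT.leaf cE1593) (BT.leaf cE1594)))) (BT.node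 1599 (BT.node 1597 (BT.node 1596 (BT.node 1595 (BT.leaf cE1595) (BT.leaf cE1596)) (BT.leaf cE1597)) (BT.node 1598 (BT.leaf cE1598) (BT.leaf cE1599))) (BT.node 1601 (BT.node 1600 (BT.leaf cE1600) (BT.leaf cE1601)) (BT.node 1602 (BT.leaf cE1602) (BT.leaf cE1603)))))) (BT.node 1621 (BT.node 1612 (BT.node 1608 (BT.node 1606 (BT.node 1605 (BT.node 1604 (BT.leaf cE1604) (BT.leaf cE1605)) (BT.leaf cE1606)) (BT.node 1607 (BT.leaf cE1607) (BT.leaf cE1608))) (BT.node 1610 (BT.node 1609 (BT.leaf cE1609) (BT.leaf cE1610)) (BT.node 1611 (BT.leaf cE1611) (BT.leaf cE1612)))) (BT.node 1617 (BT.node 1615 (BT.node 1614 (BT.node 1613 (BT.leaf cE1613) (BT.leaf cE1614)) (BT.leaf cE1615)) (BT.node 1616 (BT.leaf cE1616) (BT.leaf cE1617))) (BT.node 1619 (BT.node 1618 (BT.leaf cE1618) (BT.leaf cE1619)) (BT.node 1620 (BT.leaf cE1620) (BT.leaf cE1621))))) (BT.node 1630 (BT.node 1626 (BT.node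 1624 (BT.node 1623 (BT.node 1622 (BT.leaf cE1622) (BT.leaf cE1623)) (BT.leaf cE1624)) (BT.node 1625 (BT.leaf cE1625) (BT.leaf cE1626))) (BT.node 1628 (BT.node 1627 (BT.leaf cE1627) (BT.leaf cE1628)) (BT.node 1629 (BT.leaf cE1629) (BT.leaf cE1630)))) (BT.node 1634 (BT.node 1632 (BT.node 1631 (BT.leaf cE1631) (BT.leaf cE1632)) (BT.node 1633 (BT.leaf cE1633) (BT.leaf cE1634))) (BT.node 1636 (BT.node 1635 (BT.leaf cE1635) (BT.leaf cE1636)) (BT.node 1637 (BT.leaf cE1637) (BT.leaf cE1638))))))) (BT.node 1674 (BT.node 1656 (BT.node 1647 (BT.node 1643 (BT.node 1641 (BT.node 1640 (BT.node 1639 (BT.leaf cE1639) (BT.leaf cE1640)) (BT.leaf cE1641)) (BT.node 1642 (BT.leaf cE1642) (BT.leaf cE1643))) (BT.node 1645 (BT.node 1644 (BT.leaf cE1644) (BT.leaf cE1645)) (BT.node 1646 (BT.leaf cE1646) (BT.leaf cE1647)))) (BT.node 1652 (BT.node 1650 (BT.node 1649 (BT.node 1648 (BT.leaf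 cE1648) (BT.leaf cE1649)) (BT.leaf cE1650)) (BT.node 1651 (BT.leaf cE1651) (BT.leaf cE1652))) (BT.node 1654 (BT.node 1653 (BT.leaf cE1653) (BT.leaf cE1654)) (BT.node 1655 (BT.leaf cE1655) (BT.leaf cE1656))))) (BT.node 1665 (BT.node 1661 (BT.node 1659 (BT.node 1658 (BT.node 1657 (BT.leaf cE1657) (BT.leaf cE1658)) (BT.leaf cE1659)) (BT.node 1660 (BT.leaf cE1660) (BT.leaf cE1661))) (BT.node 1663 (BT.node 1662 (BT.leaf cE1662) (BT.leaf cE1663)) (BT.node 1664 (BT.leaf cE1664) (BT.leaf cE1665)))) (BT.node 1670 (BT.node 1668 (BT.node 1667 (BT.node 1666 (BT.leaf cE1666) (BT.leaf cE1667)) (BT.leaf cE1668)) (BT.node 1669 (BT.leaf cE1669) (BT.leaf cE1670))) (BT.node 1672 (BT.node 1671 (BT.leaf cE1671) (BT.leaf cE1672)) (BT.node 1673 (BT.leaf cE1673) (BT.leaf cE1674)))))) (BT.node 1692 (BT.node 1683 (BT.node 1679 (BT.node 1677 (BT.node 1676 (BT.node 1675 (BT.leaf cE1675)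 (BT.leaf cE1676)) (BT.leaf cE1677)) (BT.node 1678 (BT.leaf cE1678) (BT.leaf cE1679))) (BT.node 1681 (BT.node 1680 (BT.leaf cE1680) (BT.leaf cE1681)) (BT.node 1682 (BT.leaf cE1682) (BT.leaf cE1683)))) (BT.node 1688 (BT.node 1686 (BT.node 1685 (BT.node 1684 (BT.leaf cE1684) (BT.leaf cE1685)) (BT.leaf cE1686)) (BT.node 1687 (BT.leaf cE1687) (BT.leaf cE1688))) (BT.node 1690 (BT.node 1689 (BT.leaf cE1689) (BT.leaf cE1690)) (BT.node 1691 (BT.leaf cE1691) (BT.leaf cE1692))))) (BT.node 1701 (BT.node 1697 (BT.node 1695 (BT.node 1694 (BT.node 1693 (BT.leaf cE1693) (BT.leaf cE1694)) (BT.leaf cE1695)) (BT.node 1696 (BT.leaf cE1696) (BT.leaf cE1697))) (BT.node 1699 (BT.node 1698 (BT.leaf cE1698) (BT.leaf cE1699)) (BT.node 1700 (BT.leaf cE1700) (BT.leaf cE1701)))) (BT.node 1705 (BT.node 1703 (BT.node 1702 (BT.leaf cE1702) (BT.leaf cE1703)) (BT.node 1704 (BT.leaf cE1704) (BT.leaf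 cE1705))) (BT.node 1707 (BT.node 1706 (BT.leaf cE1706) (BT.leaf cE1707)) (BT.node 1708 (BT.leaf cE1708) (BT.leaf cE1709)))))))))) (BT.node 1994 (BT.node 1852 (BT.node 1781 (BT.node 1745 (BT.node 1727 (BT.node 1718 (BT.node 1714 (BT.node 1712 (BT.node 1711 (BT.node 1710 (BT.leaf cE1710) (BT.leaf cE1711)) (BT.leaf cE1712)) (BT.node 1713 (BT.leaf cE1713) (BT.leaf cE1714))) (BT.node 1716 (BT.node 1715 (BT.leaf cE1715) (BT.leaf cE1716)) (BT.node 1717 (BT.leaf cE1717) (BT.leaf cE1718)))) (BT.node 1723 (BT.node 1721 (BT.node 1720 (BT.node 1719 (BT.leaf cE1719) (BT.leaf cE1720)) (BT.leaf cE1721)) (BT.node 1722 (BT.leaf cE1722) (BT.leaf cE1723))) (BT.node 1725 (BT.node 1724 (BT.leaf cE1724) (BT.leaf cE1725)) (BT.node 1726 (BT.leaf cE1726) (BT.leaf cE1727))))) (BT.node 1736 (BT.node 1732 (BT.node 1730 (BT.node 1729 (BT.node 1728 (BT.leaf cE1728) (BT.leaf cE1729)) (BT.leaf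 cE1730)) (BT.node 1731 (BT.leaf cE1731) (BT.leaf cE1732))) (BT.node 1734 (BT.node 1733 (BT.leaf cE1733) (BT.leaf cE1734)) (BT.node 1735 (BT.leaf cE1735) (BT.leaf cE1736)))) (BT.node 1741 (BT.node 1739 (BT.node 1738 (BT.node 1737 (BT.leaf cE1737) (BT.leaf cE1738)) (BT.leaf cE1739)) (BT.node 1740 (BT.leaf cE1740) (BT.leaf cE1741))) (BT.node 1743 (BT.node 1742 (BT.leaf cE1742) (BT.leaf cE1743)) (BT.node 1744 (BT.leaf cE1744) (BT.leaf cE1745)))))) (BT.node 1763 (BT.node 1754 (BT.node 1750 (BT.node 1748 (BT.node 1747 (BT.node 1746 (BT.leaf cE1746) (BT.leaf cE1747)) (BT.leaf cE1748)) (BT.node 1749 (BT.leaf cE1749) (BT.leaf cE1750))) (BT.node 1752 (BT.node 1751 (BT.leaf cE1751) (BT.leaf cE1752)) (BT.node 1753 (BT.leaf cE1753) (BT.leaf cE1754)))) (BT.node 1759 (BT.node 1757 (BT.node 1756 (BT.node 1755 (BT.leaf cE1755) (BT.leaf cE1756)) (BT.leaf cE1757)) (BT.node 1758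 (BT.leaf cE1758) (BT.leaf cE1759))) (BT.node 1761 (BT.node 1760 (BT.leaf cE1760) (BT.leaf cE1761)) (BT.node 1762 (BT.leaf cE1762) (BT.leaf cE1763))))) (BT.node 1772 (BT.node 1768 (BT.node 1766 (BT.node 1765 (BT.node 1764 (BT.leaf cE1764) (BT.leaf cE1765)) (BT.leaf cE1766)) (BT.node 1767 (BT.leaf cE1767) (BT.leaf cE1768))) (BT.node 1770 (BT.node 1769 (BT.leaf cE1769) (BT.leaf cE1770)) (BT.node 1771 (BT.leaf cE1771) (BT.leaf cE1772)))) (BT.node 1777 (BT.node 1775 (BT.node 1774 (BT.node 1773 (BT.leaf cE1773) (BT.leaf cE1774)) (BT.leaf cE1775)) (BT.node 1776 (BT.leaf cE1776) (BT.leaf cE1777))) (BT.node 1779 (BT.node 1778 (BT.leaf cE1778) (BT.leaf cE1779)) (BT.node 1780 (BT.leaf cE1780) (BT.leaf cE1781))))))) (BT.node 1817 (BT.node 1799 (BT.node 1790 (BT.node 1786 (BT.node 1784 (BT.node 1783 (BT.node 1782 (BT.leaf cE1782) (BT.leaf cE1783)) (BT.leaf cE1784)) (BT.node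 1785 (BT.leaf cE1785) (BT.leaf cE1786))) (BT.node 1788 (BT.node 1787 (BT.leaf cE1787) (BT.leaf cE1788)) (BT.node 1789 (BT.leaf cE1789) (BT.leaf cE1790)))) (BT.node 1795 (BT.node 1793 (BT.node 1792 (BT.node 1791 (BT.leaf cE1791) (BT.leaf cE1792)) (BT.leaf cE1793)) (BT.node 1794 (BT.leaf cE1794) (BT.leaf cE1795))) (BT.node 1797 (BT.node 1796 (BT.leaf cE1796) (BT.leaf cE1797)) (BT.node 1798 (BT.leaf cE1798) (BT.leaf cE1799))))) (BT.node 1808 (BT.node 1804 (BT.node 1802 (BT.node 1801 (BT.node 1800 (BT.leaf cE1800) (BT.leaf cE1801)) (BT.leaf cE1802)) (BT.node 1803 (BT.leaf cE1803) (BT.leaf cE1804))) (BT.node 1806 (BT.node 1805 (BT.leaf cE1805) (BT.leaf cE1806)) (BT.node 1807 (BT.leaf cE1807) (BT.leaf cE1808)))) (BT.node 1813 (BT.node 1811 (BT.node 1810 (BT.node 1809 (BT.leaf cE1809) (BT.leaf cE1810)) (BT.leaf cE1811)) (BT.node 1812 (BT.leaf cE1812) (BT.leaf cE1813)))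 (BT.node 1815 (BT.node 1814 (BT.leaf cE1814) (BT.leaf cE1815)) (BT.node 1816 (BT.leaf cE1816) (BT.leaf cE1817)))))) (BT.node 1835 (BT.node 1826 (BT.node 1822 (BT.node 1820 (BT.node 1819 (BT.node 1818 (BT.leaf cE1818) (BT.leaf cE1819)) (BT.leaf cE1820)) (BT.node 1821 (BT.leaf cE1821) (BT.leaf cE1822))) (BT.node 1824 (BT.node 1823 (BT.leaf cE1823) (BT.leaf cE1824)) (BT.node 1825 (BT.leaf cE1825) (BT.leaf cE1826)))) (BT.node 1831 (BT.node 1829 (BT.node 1828 (BT.node 1827 (BT.leaf cE1827) (BT.leaf cE1828)) (BT.leaf cE1829)) (BT.node 1830 (BT.leaf cE1830) (BT.leaf cE1831))) (BT.node 1833 (BT.node 1832 (BT.leaf cE1832) (BT.leaf cE1833)) (BT.node 1834 (BT.leaf cE1834) (BT.leaf cE1835))))) (BT.node 1844 (BT.node 1840 (BT.node 1838 (BT.node 1837 (BT.node 1836 (BT.leaf cE1836) (BT.leaf cE1837)) (BT.leaf cE1838)) (BT.node 1839 (BT.leaf cE1839) (BT.leaf cE1840))) (BT.node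 1842 (BT.node 1841 (BT.leaf cE1841) (BT.leaf cE1842)) (BT.node 1843 (BT.leaf cE1843) (BT.leaf cE1844)))) (BT.node 1848 (BT.node 1846 (BT.node 1845 (BT.leaf cE1845) (BT.leaf cE1846)) (BT.node 1847 (BT.leaf cE1847) (BT.leaf cE1848))) (BT.node 1850 (BT.node 1849 (BT.leaf cE1849) (BT.leaf cE1850)) (BT.node 1851 (BT.leaf cE1851) (BT.leaf cE1852)))))))) (BT.node 1923 (BT.node 1888 (BT.node 1870 (BT.node 1861 (BT.node 1857 (BT.node 1855 (BT.node 1854 (BT.node 1853 (BT.leaf cE1853) (BT.leaf cE1854)) (BT.leaf cE1855)) (BT.node 1856 (BT.leaf cE1856) (BT.leaf cE1857))) (BT.node 1859 (BT.node 1858 (BT.leaf cE1858) (BT.leaf cE1859)) (BT.node 1860 (BT.leaf cE1860) (BT.leaf cE1861)))) (BT.node 1866 (BT.node 1864 (BT.node 1863 (BT.node 1862 (BT.leaf cE1862) (BT.leaf cE1863)) (BT.leaf cE1864)) (BT.node 1865 (BT.leaf cE1865) (BT.leaf cE1866))) (BT.node 1868 (BT.node 1867 (BT.leaf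 cE1867) (BT.leaf cE1868)) (BT.node 1869 (BT.leaf cE1869) (BT.leaf cE1870))))) (BT.node 1879 (BT.node 1875 (BT.node 1873 (BT.node 1872 (BT.node 1871 (BT.leaf cE1871) (BT.leaf cE1872)) (BT.leaf cE1873)) (BT.node 1874 (BT.leaf cE1874) (BT.leaf cE1875))) (BT.node 1877 (BT.node 1876 (BT.leaf cE1876) (BT.leaf cE1877)) (BT.node 1878 (BT.leaf cE1878) (BT.leaf cE1879)))) (BT.node 1884 (BT.node 1882 (BT.node 1881 (BT.node 1880 (BT.leaf cE1880) (BT.leaf cE1881)) (BT.leaf cE1882)) (BT.node 1883 (BT.leaf cE1883) (BT.leaf cE1884))) (BT.node 1886 (BT.node 1885 (BT.leaf cE1885) (BT.leaf cE1886)) (BT.node 1887 (BT.leaf cE1887) (BT.leaf cE1888)))))) (BT.node 1906 (BT.node 1897 (BT.node 1893 (BT.node 1891 (BT.node 1890 (BT.node 1889 (BT.leaf cE1889) (BT.leaf cE1890)) (BT.leaf cE1891)) (BT.node 1892 (BT.leaf cE1892) (BT.leaf cE1893))) (BT.node 1895 (BT.node 1894 (BT.leaf cE1894)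 (BT.leaf cE1895)) (BT.node 1896 (BT.leaf cE1896) (BT.leaf cE1897)))) (BT.node 1902 (BT.node 1900 (BT.node 1899 (BT.node 1898 (BT.leaf cE1898) (BT.leaf cE1899)) (BT.leaf cE1900)) (BT.node 1901 (BT.leaf cE1901) (BT.leaf cE1902))) (BT.node 1904 (BT.node 1903 (BT.leaf cE1903) (BT.leaf cE1904)) (BT.node 1905 (BT.leaf cE1905) (BT.leaf cE1906))))) (BT.node 1915 (BT.node 1911 (BT.node 1909 (BT.node 1908 (BT.node 1907 (BT.leaf cE1907) (BT.leaf cE1908)) (BT.leaf cE1909)) (BT.node 1910 (BT.leaf cE1910) (BT.leaf cE1911))) (BT.node 1913 (BT.node 1912 (BT.leaf cE1912) (BT.leaf cE1913)) (BT.node 1914 (BT.leaf cE1914) (BT.leaf cE1915)))) (BT.node 1919 (BT.node 1917 (BT.node 1916 (BT.leaf cE1916) (BT.leaf cE1917)) (BT.node 1918 (BT.leaf cE1918) (BT.leaf cE1919))) (BT.node 1921 (BT.node 1920 (BT.leaf cE1920) (BT.leaf cE1921)) (BT.node 1922 (BT.leaf cE1922) (BT.leaf cE1923)))))))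 (BT.node 1959 (BT.node 1941 (BT.node 1932 (BT.node 1928 (BT.node 1926 (BT.node 1925 (BT.node 1924 (BT.leaf cE1924) (BT.leaf cE1925)) (BT.leaf cE1926)) (BT.node 1927 (BT.leaf cE1927) (BT.leaf cE1928))) (BT.node 1930 (BT.node 1929 (BT.leaf cE1929) (BT.leaf cE1930)) (BT.node 1931 (BT.leaf cE1931) (BT.leaf cE1932)))) (BT.node 1937 (BT.node 1935 (BT.node 1934 (BT.node 1933 (BT.leaf cE1933) (BT.leaf cE1934)) (BT.leaf cE1935)) (BT.node 1936 (BT.leaf cE1936) (BT.leaf cE1937))) (BT.node 1939 (BT.node 1938 (BT.leaf cE1938) (BT.leaf cE1939)) (BT.node 1940 (BT.leaf cE1940) (BT.leaf cE1941))))) (BT.node 1950 (BT.node 1946 (BT.node 1944 (BT.node 1943 (BT.node 1942 (BT.leaf cE1942) (BT.leaf cE1943)) (BT.leaf cE1944)) (BT.node 1945 (BT.leaf cE1945) (BT.leaf cE1946))) (BT.node 1948 (BT.node 1947 (BT.leaf cE1947) (BT.leaf cE1948)) (BT.node 1949 (BT.leaf cE1949) (BT.leaf cE1950))))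 (BT.node 1955 (BT.node 1953 (BT.node 1952 (BT.node 1951 (BT.leaf cE1951) (BT.leaf cE1952)) (BT.leaf cE1953)) (BT.node 1954 (BT.leaf cE1954) (BT.leaf cE1955))) (BT.node 1957 (BT.node 1956 (BT.leaf cE1956) (BT.leaf cE1957)) (BT.node 1958 (BT.leaf cE1958) (BT.leaf cE1959)))))) (BT.node 1977 (BT.node 1968 (BT.node 1964 (BT.node 1962 (BT.node 1961 (BT.node 1960 (BT.leaf cE1960) (BT.leaf cE1961)) (BT.leaf cE1962)) (BT.node 1963 (BT.leaf cE1963) (BT.leaf cE1964))) (BT.node 1966 (BT.node 1965 (BT.leaf cE1965) (BT.leaf cE1966)) (BT.node 1967 (BT.leaf cE1967) (BT.leaf cE1968)))) (BT.node 1973 (BT.node 1971 (BT.node 1970 (BT.node 1969 (BT.leaf cE1969) (BT.leaf cE1970)) (BT.leaf cE1971)) (BT.node 1972 (BT.leaf cE1972) (BT.leaf cE1973))) (BT.node 1975 (BT.node 1974 (BT.leaf cE1974) (BT.leaf cE1975)) (BT.node 1976 (BT.leaf cE1976) (BT.leaf cE1977))))) (BT.node 1986 (BT.node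 1982 (BT.node 1980 (BT.node 1979 (BT.node 1978 (BT.leaf cE1978) (BT.leaf cE1979)) (BT.leaf cE1980)) (BT.node 1981 (BT.leaf cE1981) (BT.leaf cE1982))) (BT.node 1984 (BT.node 1983 (BT.leaf cE1983) (BT.leaf cE1984)) (BT.node 1985 (BT.leaf cE1985) (BT.leaf cE1986)))) (BT.node 1990 (BT.node 1988 (BT.node 1987 (BT.leaf cE1987) (BT.leaf cE1988)) (BT.node 1989 (BT.leaf cE1989) (BT.leaf cE1990))) (BT.node 1992 (BT.node 1991 (BT.leaf cE1991) (BT.leaf cE1992)) (BT.node 1993 (BT.leaf cE1993) (BT.leaf cE1994))))))))) (BT.node 2137 (BT.node 2066 (BT.node 2030 (BT.node 2012 (BT.node 2003 (BT.node 1999 (BT.node 1997 (BT.node 1996 (BT.node 1995 (BT.leaf cE1995) (BT.leaf cE1996)) (BT.leaf cE1997)) (BT.node 1998 (BT.leaf cE1998) (BT.leaf cE1999))) (BT.node 2001 (BT.node 2000 (BT.leaf cE2000) (BT.leaf cE2001)) (BT.node 2002 (BT.leaf cE2002) (BT.leaf cE2003)))) (BT.node 2008 (BT.node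 2006 (BT.node 2005 (BT.node 2004 (BT.leaf cE2004) (BT.leaf cE2005)) (BT.leaf cE2006)) (BT.node 2007 (BT.leaf cE2007) (BT.leaf cE2008))) (BT.node 2010 (BT.node 2009 (BT.leaf cE2009) (BT.leaf cE2010)) (BT.node 2011 (BT.leaf cE2011) (BT.leaf cE2012))))) (BT.node 2021 (BT.node 2017 (BT.node 2015 (BT.node 2014 (BT.node 2013 (BT.leaf cE2013) (BT.leaf cE2014)) (BT.leaf cE2015)) (BT.node 2016 (BT.leaf cE2016) (BT.leaf cE2017))) (BT.node 2019 (BT.node 2018 (BT.leaf cE2018) (BT.leaf cE2019)) (BT.node 2020 (BT.leaf cE2020) (BT.leaf cE2021)))) (BT.node 2026 (BT.node 2024 (BT.node 2023 (BT.node 2022 (BT.leaf cE2022) (BT.leaf cE2023)) (BT.leaf cE2024)) (BT.node 2025 (BT.leaf cE2025) (BT.leaf cE2026))) (BT.node 2028 (BT.node 2027 (BT.leaf cE2027) (BT.leaf cE2028)) (BT.node 2029 (BT.leaf cE2029) (BT.leaf cE2030)))))) (BT.node 2048 (BT.node 2039 (BT.node 2035 (BT.node 2033 (BT.node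 2032 (BT.node 2031 (BT.leaf cE2031) (BT.leaf cE2032)) (BT.leaf cE2033)) (BT.node 2034 (BT.leaf cE2034) (BT.leaf cE2035))) (BT.node 2037 (BT.node 2036 (BT.leaf cE2036) (BT.leaf cE2037)) (BT.node 2038 (BT.leaf cE2038) (BT.leaf cE2039)))) (BT.node 2044 (BT.node 2042 (BT.node 2041 (BT.node 2040 (BT.leaf cE2040) (BT.leaf cE2041)) (BT.leaf cE2042)) (BT.node 2043 (BT.leaf cE2043) (BT.leaf cE2044))) (BT.node 2046 (BT.node 2045 (BT.leaf cE2045) (BT.leaf cE2046)) (BT.node 2047 (BT.leaf cE2047) (BT.leaf cE2048))))) (BT.node 2057 (BT.node 2053 (BT.node 2051 (BT.node 2050 (BT.node 2049 (BT.leaf cE2049) (BT.leaf cE2050)) (BT.leaf cE2051)) (BT.node 2052 (BT.leaf cE2052) (BT.leaf cE2053))) (BT.node 2055 (BT.node 2054 (BT.leaf cE2054) (BT.leaf cE2055)) (BT.node 2056 (BT.leaf cE2056) (BT.leaf cE2057)))) (BT.node 2062 (BT.node 2060 (BT.node 2059 (BT.node 2058 (BT.leaf cE2058)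 (BT.leaf cE2059)) (BT.leaf cE2060)) (BT.node 2061 (BT.leaf cE2061) (BT.leaf cE2062))) (BT.node 2064 (BT.node 2063 (BT.leaf cE2063) (BT.leaf cE2064)) (BT.node 2065 (BT.leaf cE2065) (BT.leaf cE2066))))))) (BT.node 2102 (BT.node 2084 (BT.node 2075 (BT.node 2071 (BT.node 2069 (BT.node 2068 (BT.node 2067 (BT.leaf cE2067) (BT.leaf cE2068)) (BT.leaf cE2069)) (BT.node 2070 (BT.leaf cE2070) (BT.leaf cE2071))) (BT.node 2073 (BT.node 2072 (BT.leaf cE2072) (BT.leaf cE2073)) (BT.node 2074 (BT.leaf cE2074) (BT.leaf cE2075)))) (BT.node 2080 (BT.node 2078 (BT.node 2077 (BT.node 2076 (BT.leaf cE2076) (BT.leaf cE2077)) (BT.leaf cE2078)) (BT.node 2079 (BT.leaf cE2079) (BT.leaf cE2080))) (BT.node 2082 (BT.node 2081 (BT.leaf cE2081) (BT.leaf cE2082)) (BT.node 2083 (BT.leaf cE2083) (BT.leaf cE2084))))) (BT.node 2093 (BT.node 2089 (BT.node 2087 (BT.node 2086 (BT.node 2085 (BT.leaf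 cE2085) (BT.leaf cE2086)) (BT.leaf cE2087)) (BT.node 2088 (BT.leaf cE2088) (BT.leaf cE2089))) (BT.node 2091 (BT.node 2090 (BT.leaf cE2090) (BT.leaf cE2091)) (BT.node 2092 (BT.leaf cE2092) (BT.leaf cE2093)))) (BT.node 2098 (BT.node 2096 (BT.node 2095 (BT.node 2094 (BT.leaf cE2094) (BT.leaf cE2095)) (BT.leaf cE2096)) (BT.node 2097 (BT.leaf cE2097) (BT.leaf cE2098))) (BT.node 2100 (BT.node 2099 (BT.leaf cE2099) (BT.leaf cE2100)) (BT.node 2101 (BT.leaf cE2101) (BT.leaf cE2102)))))) (BT.node 2120 (BT.node 2111 (BT.node 2107 (BT.node 2105 (BT.node 2104 (BT.node 2103 (BT.leaf cE2103) (BT.leaf cE2104)) (BT.leaf cE2105)) (BT.node 2106 (BT.leaf cE2106) (BT.leaf cE2107))) (BT.node 2109 (BT.node 2108 (BT.leaf cE2108) (BT.leaf cE2109)) (BT.node 2110 (BT.leaf cE2110) (BT.leaf cE2111)))) (BT.node 2116 (BT.node 2114 (BT.node 2113 (BT.node 2112 (BT.leaf cE2112) (BT.leaf cE2113))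 (BT.leaf cE2114)) (BT.node 2115 (BT.leaf cE2115) (BT.leaf cE2116))) (BT.node 2118 (BT.node 2117 (BT.leaf cE2117) (BT.leaf cE2118)) (BT.node 2119 (BT.leaf cE2119) (BT.leaf cE2120))))) (BT.node 2129 (BT.node 2125 (BT.node 2123 (BT.node 2122 (BT.node 2121 (BT.leaf cE2121) (BT.leaf cE2122)) (BT.leaf cE2123)) (BT.node 2124 (BT.leaf cE2124) (BT.leaf cE2125))) (BT.node 2127 (BT.node 2126 (BT.leaf cE2126) (BT.leaf cE2127)) (BT.node 2128 (BT.leaf cE2128) (BT.leaf cE2129)))) (BT.node 2133 (BT.node 2131 (BT.node 2130 (BT.leaf cE2130) (BT.leaf cE2131)) (BT.node 2132 (BT.leaf cE2132) (BT.leaf cE2133))) (BT.node 2135 (BT.node 2134 (BT.leaf cE2134) (BT.leaf cE2135)) (BT.node 2136 (BT.leaf cE2136) (BT.leaf cE2137)))))))) (BT.node 2208 (BT.node 2173 (BT.node 2155 (BT.node 2146 (BT.node 2142 (BT.node 2140 (BT.node 2139 (BT.node 2138 (BT.leaf cE2138) (BT.leaf cE2139)) (BT.leaf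 cE2140)) (BT.node 2141 (BT.leaf cE2141) (BT.leaf cE2142))) (BT.node 2144 (BT.node 2143 (BT.leaf cE2143) (BT.leaf cE2144)) (BT.node 2145 (BT.leaf cE2145) (BT.leaf cE2146)))) (BT.node 2151 (BT.node 2149 (BT.node 2148 (BT.node 2147 (BT.leaf cE2147) (BT.leaf cE2148)) (BT.leaf cE2149)) (BT.node 2150 (BT.leaf cE2150) (BT.leaf cE2151))) (BT.node 2153 (BT.node 2152 (BT.leaf cE2152) (BT.leaf cE2153)) (BT.node 2154 (BT.leaf cE2154) (BT.leaf cE2155))))) (BT.node 2164 (BT.node 2160 (BT.node 2158 (BT.node 2157 (BT.node 2156 (BT.leaf cE2156) (BT.leaf cE2157)) (BT.leaf cE2158)) (BT.node 2159 (BT.leaf cE2159) (BT.leaf cE2160))) (BT.node 2162 (BT.node 2161 (BT.leaf cE2161) (BT.leaf cE2162)) (BT.node 2163 (BT.leaf cE2163) (BT.leaf cE2164)))) (BT.node 2169 (BT.node 2167 (BT.node 2166 (BT.node 2165 (BT.leaf cE2165) (BT.leaf cE2166)) (BT.leaf cE2167)) (BT.node 2168 (BT.leaf cE2168)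 (BT.leaf cE2169))) (BT.node 2171 (BT.node 2170 (BT.leaf cE2170) (BT.leaf cE2171)) (BT.node 2172 (BT.leaf cE2172) (BT.leaf cE2173)))))) (BT.node 2191 (BT.node 2182 (BT.node 2178 (BT.node 2176 (BT.node 2175 (BT.node 2174 (BT.leaf cE2174) (BT.leaf cE2175)) (BT.leaf cE2176)) (BT.node 2177 (BT.leaf cE2177) (BT.leaf cE2178))) (BT.node 2180 (BT.node 2179 (BT.leaf cE2179) (BT.leaf cE2180)) (BT.node 2181 (BT.leaf cE2181) (BT.leaf cE2182)))) (BT.node 2187 (BT.node 2185 (BT.node 2184 (BT.node 2183 (BT.leaf cE2183) (BT.leaf cE2184)) (BT.leaf cE2185)) (BT.node 2186 (BT.leaf cE2186) (BT.leaf cE2187))) (BT.node 2189 (BT.node 2188 (BT.leaf cE2188) (BT.leaf cE2189)) (BT.node 2190 (BT.leaf cE2190) (BT.leaf cE2191))))) (BT.node 2200 (BT.node 2196 (BT.node 2194 (BT.node 2193 (BT.node 2192 (BT.leaf cE2192) (BT.leaf cE2193)) (BT.leaf cE2194)) (BT.node 2195 (BT.leaf cE2195) (BT.leaf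 cE2196))) (BT.node 2198 (BT.node 2197 (BT.leaf cE2197) (BT.leaf cE2198)) (BT.node 2199 (BT.leaf cE2199) (BT.leaf cE2200)))) (BT.node 2204 (BT.node 2202 (BT.node 2201 (BT.leaf cE2201) (BT.leaf cE2202)) (BT.node 2203 (BT.leaf cE2203) (BT.leaf cE2204))) (BT.node 2206 (BT.node 2205 (BT.leaf cE2205) (BT.leaf cE2206)) (BT.node 2207 (BT.leaf cE2207) (BT.leaf cE2208))))))) (BT.node 2244 (BT.node 2226 (BT.node 2217 (BT.node 2213 (BT.node 2211 (BT.node 2210 (BT.node 2209 (BT.leaf cE2209) (BT.leaf cE2210)) (BT.leaf cE2211)) (BT.node 2212 (BT.leaf cE2212) (BT.leaf cE2213))) (BT.node 2215 (BT.node 2214 (BT.leaf cE2214) (BT.leaf cE2215)) (BT.node 2216 (BT.leaf cE2216) (BT.leaf cE2217)))) (BT.node 2222 (BT.node 2220 (BT.node 2219 (BT.node 2218 (BT.leaf cE2218) (BT.leaf cE2219)) (BT.leaf cE2220)) (BT.node 2221 (BT.leaf cE2221) (BT.leaf cE2222))) (BT.node 2224 (BT.node 2223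 (BT.leaf cE2223) (BT.leaf cE2224)) (BT.node 2225 (BT.leaf cE2225) (BT.leaf cE2226))))) (BT.node 2235 (BT.node 2231 (BT.node 2229 (BT.node 2228 (BT.node 2227 (BT.leaf cE2227) (BT.leaf cE2228)) (BT.leaf cE2229)) (BT.node 2230 (BT.leaf cE2230) (BT.leaf cE2231))) (BT.node 2233 (BT.node 2232 (BT.leaf cE2232) (BT.leaf cE2233)) (BT.node 2234 (BT.leaf cE2234) (BT.leaf cE2235)))) (BT.node 2240 (BT.node 2238 (BT.node 2237 (BT.node 2236 (BT.leaf cE2236) (BT.leaf cE2237)) (BT.leaf cE2238)) (BT.node 2239 (BT.leaf cE2239) (BT.leaf cE2240))) (BT.node 2242 (BT.node 2241 (BT.leaf cE2241) (BT.leaf cE2242)) (BT.node 2243 (BT.leaf cE2243) (BT.leaf cE2244)))))) (BT.node 2262 (BT.node 2253 (BT.node 2249 (BT.node 2247 (BT.node 2246 (BT.node 2245 (BT.leaf cE2245) (BT.leaf cE2246)) (BT.leaf cE2247)) (BT.node 2248 (BT.leaf cE2248) (BT.leaf cE2249))) (BT.node 2251 (BT.node 2250 (BT.leaf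 cE2250) (BT.leaf cE2251)) (BT.node 2252 (BT.leaf cE2252) (BT.leaf cE2253)))) (BT.node 2258 (BT.node 2256 (BT.node 2255 (BT.node 2254 (BT.leaf cE2254) (BT.leaf cE2255)) (BT.leaf cE2256)) (BT.node 2257 (BT.leaf cE2257) (BT.leaf cE2258))) (BT.node 2260 (BT.node 2259 (BT.leaf cE2259) (BT.leaf cE2260)) (BT.node 2261 (BT.leaf cE2261) (BT.leaf cE2262))))) (BT.node 2271 (BT.node 2267 (BT.node 2265 (BT.node 2264 (BT.node 2263 (BT.leaf cE2263) (BT.leaf cE2264)) (BT.leaf cE2265)) (BT.node 2266 (BT.leaf cE2266) (BT.leaf cE2267))) (BT.node 2269 (BT.node 2268 (BT.leaf cE2268) (BT.leaf cE2269)) (BT.node 2270 (BT.leaf cE2270) (BT.leaf cE2271)))) (BT.node 2275 (BT.node 2273 (BT.node 2272 (BT.leaf cE2272) (BT.leaf cE2273)) (BT.node 2274 (BT.leaf cE2274) (BT.leaf cE2275))) (BT.node 2277 (BT.node 2276 (BT.leaf cE2276) (BT.leaf cE2277)) (BT.node 2278 (BT.leaf cE2278) (BT.leaf cE2279))))))))))))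
/-- justification chunks -/
def colJT : BT ℕ := (BT.node 1139 (BT.node 569 (BT.node 284 (BT.node 142 (BT.node 71 (BT.node 35 (BT.node 17 (BT.node 8 (BT.node 4 (BT.node 2 (BT.node 1 (BT.node 0 (BT.leaf cJ0) (BT.leaf cJ1)) (BT.leaf cJ2)) (BT.node 3 (BT.leaf cJ3) (BT.leaf cJ4))) (BT.node 6 (BT.node 5 (BT.leaf cJ5) (BT.leaf cJ6)) (BT.node 7 (BT.leaf cJ7) (BT.leaf cJ8)))) (BT.node 13 (BT.node 11 (BT.node 10 (BT.node 9 (BT.leaf cJ9) (BT.leaf cJ10)) (BT.leaf cJ11)) (BT.node 12 (BT.leaf cJ12) (BT.leaf cJ13))) (BT.node 15 (BT.node 14 (BT.leaf cJ14) (BT.leaf cJ15)) (BT.node 16 (BT.leaf cJ16) (BT.leaf cJ17))))) (BT.node 26 (BT.node 22 (BT.node 20 (BT.node 19 (BT.node 18 (BT.leaf cJ18) (BT.leaf cJ19)) (BT.leaf cJ20)) (BT.node 21 (BT.leaf cJ21) (BT.leaf cJ22))) (BT.node 24 (BT.node 23 (BT.leaf cJ23) (BT.leaf cJ24)) (BT.node 25 (BT.leaf cJ25) (BT.leaf cJ26)))) (BT.node 31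 (BT.node 29 (BT.node 28 (BT.node 27 (BT.leaf cJ27) (BT.leaf cJ28)) (BT.leaf cJ29)) (BT.node 30 (BT.leaf cJ30) (BT.leaf cJ31))) (BT.node 33 (BT.node 32 (BT.leaf cJ32) (BT.leaf cJ33)) (BT.node 34 (BT.leaf cJ34) (BT.leaf cJ35)))))) (BT.node 53 (BT.node 44 (BT.node 40 (BT.node 38 (BT.node 37 (BT.node 36 (BT.leaf cJ36) (BT.leaf cJ37)) (BT.leaf cJ38)) (BT.node 39 (BT.leaf cJ39) (BT.leaf cJ40))) (BT.node 42 (BT.node 41 (BT.leaf cJ41) (BT.leaf cJ42)) (BT.node 43 (BT.leaf cJ43) (BT.leaf cJ44)))) (BT.node 49 (BT.node 47 (BT.node 46 (BT.node 45 (BT.leaf cJ45) (BT.leaf cJ46)) (BT.leaf cJ47)) (BT.node 48 (BT.leaf cJ48) (BT.leaf cJ49))) (BT.node 51 (BT.node 50 (BT.leaf cJ50) (BT.leaf cJ51)) (BT.node 52 (BT.leaf cJ52) (BT.leaf cJ53))))) (BT.node 62 (BT.node 58 (BT.node 56 (BT.node 55 (BT.node 54 (BT.leaf cJ54) (BT.leaf cJ55)) (BT.leaf cJ56)) (BT.node 57 (BT.leaf cJ57) (BT.leaf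 cJ58))) (BT.node 60 (BT.node 59 (BT.leaf cJ59) (BT.leaf cJ60)) (BT.node 61 (BT.leaf cJ61) (BT.leaf cJ62)))) (BT.node 67 (BT.node 65 (BT.node 64 (BT.node 63 (BT.leaf cJ63) (BT.leaf cJ64)) (BT.leaf cJ65)) (BT.node 66 (BT.leaf cJ66) (BT.leaf cJ67))) (BT.node 69 (BT.node 68 (BT.leaf cJ68) (BT.leaf cJ69)) (BT.node 70 (BT.leaf cJ70) (BT.leaf cJ71))))))) (BT.node 107 (BT.node 89 (BT.node 80 (BT.node 76 (BT.node 74 (BT.node 73 (BT.node 72 (BT.leaf cJ72) (BT.leaf cJ73)) (BT.leaf cJ74)) (BT.node 75 (BT.leaf cJ75) (BT.leaf cJ76))) (BT.node 78 (BT.node 77 (BT.leaf cJ77) (BT.leaf cJ78)) (BT.node 79 (BT.leaf cJ79) (BT.leaf cJ80)))) (BT.node 85 (BT.node 83 (BT.node 82 (BT.node 81 (BT.leaf cJ81) (BT.leaf cJ82)) (BT.leaf cJ83)) (BT.node 84 (BT.leaf cJ84) (BT.leaf cJ85))) (BT.node 87 (BT.node 86 (BT.leaf cJ86) (BT.leaf cJ87)) (BT.node 88 (BT.leaf cJ88) (BT.leaf cJ89))))) (BT.node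 98 (BT.node 94 (BT.node 92 (BT.node 91 (BT.node 90 (BT.leaf cJ90) (BT.leaf cJ91)) (BT.leaf cJ92)) (BT.node 93 (BT.leaf cJ93) (BT.leaf cJ94))) (BT.node 96 (BT.node 95 (BT.leaf cJ95) (BT.leaf cJ96)) (BT.node 97 (BT.leaf cJ97) (BT.leaf cJ98)))) (BT.node 103 (BT.node 101 (BT.node 100 (BT.node 99 (BT.leaf cJ99) (BT.leaf cJ100)) (BT.leaf cJ101)) (BT.node 102 (BT.leaf cJ102) (BT.leaf cJ103))) (BT.node 105 (BT.node 104 (BT.leaf cJ104) (BT.leaf cJ105)) (BT.node 106 (BT.leaf cJ106) (BT.leaf cJ107)))))) (BT.node 125 (BT.node 116 (BT.node 112 (BT.node 110 (BT.node 109 (BT.node 108 (BT.leaf cJ108) (BT.leaf cJ109)) (BT.leaf cJ110)) (BT.node 111 (BT.leaf cJ111) (BT.leaf cJ112))) (BT.node 114 (BT.node 113 (BT.leaf cJ113) (BT.leaf cJ114)) (BT.node 115 (BT.leaf cJ115) (BT.leaf cJ116)))) (BT.node 121 (BT.node 119 (BT.node 118 (BT.node 117 (BT.leaf cJ117) (BT.leaf cJ118)) (BT.leaf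 cJ119)) (BT.node 120 (BT.leaf cJ120) (BT.leaf cJ121))) (BT.node 123 (BT.node 122 (BT.leaf cJ122) (BT.leaf cJ123)) (BT.node 124 (BT.leaf cJ124) (BT.leaf cJ125))))) (BT.node 134 (BT.node 130 (BT.node 128 (BT.node 127 (BT.node 126 (BT.leaf cJ126) (BT.leaf cJ127)) (BT.leaf cJ128)) (BT.node 129 (BT.leaf cJ129) (BT.leaf cJ130))) (BT.node 132 (BT.node 131 (BT.leaf cJ131) (BT.leaf cJ132)) (BT.node 133 (BT.leaf cJ133) (BT.leaf cJ134)))) (BT.node 138 (BT.node 136 (BT.node 135 (BT.leaf cJ135) (BT.leaf cJ136)) (BT.node 137 (BT.leaf cJ137) (BT.leaf cJ138))) (BT.node 140 (BT.node 139 (BT.leaf cJ139) (BT.leaf cJ140)) (BT.node 141 (BT.leaf cJ141) (BT.leaf cJ142)))))))) (BT.node 213 (BT.node 178 (BT.node 160 (BT.node 151 (BT.node 147 (BT.node 145 (BT.node 144 (BT.node 143 (BT.leaf cJ143) (BT.leaf cJ144)) (BT.leaf cJ145)) (BT.node 146 (BT.leaf cJ146) (BT.leaf cJ147))) (BT.node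 149 (BT.node 148 (BT.leaf cJ148) (BT.leaf cJ149)) (BT.node 150 (BT.leaf cJ150) (BT.leaf cJ151)))) (BT.node 156 (BT.node 154 (BT.node 153 (BT.node 152 (BT.leaf cJ152) (BT.leaf cJ153)) (BT.leaf cJ154)) (BT.node 155 (BT.leaf cJ155) (BT.leaf cJ156))) (BT.node 158 (BT.node 157 (BT.leaf cJ157) (BT.leaf cJ158)) (BT.node 159 (BT.leaf cJ159) (BT.leaf cJ160))))) (BT.node 169 (BT.node 165 (BT.node 163 (BT.node 162 (BT.node 161 (BT.leaf cJ161) (BT.leaf cJ162)) (BT.leaf cJ163)) (BT.node 164 (BT.leaf cJ164) (BT.leaf cJ165))) (BT.node 167 (BT.node 166 (BT.leaf cJ166) (BT.leaf cJ167)) (BT.node 168 (BT.leaf cJ168) (BT.leaf cJ169)))) (BT.node 174 (BT.node 172 (BT.node 171 (BT.node 170 (BT.leaf cJ170) (BT.leaf cJ171)) (BT.leaf cJ172)) (BT.node 173 (BT.leaf cJ173) (BT.leaf cJ174))) (BT.node 176 (BT.node 175 (BT.leaf cJ175) (BT.leaf cJ176)) (BT.node 177 (BT.leaf cJ177) (BT.leaf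 cJ178)))))) (BT.node 196 (BT.node 187 (BT.node 183 (BT.node 181 (BT.node 180 (BT.node 179 (BT.leaf cJ179) (BT.leaf cJ180)) (BT.leaf cJ181)) (BT.node 182 (BT.leaf cJ182) (BT.leaf cJ183))) (BT.node 185 (BT.node 184 (BT.leaf cJ184) (BT.leaf cJ185)) (BT.node 186 (BT.leaf cJ186) (BT.leaf cJ187)))) (BT.node 192 (BT.node 190 (BT.node 189 (BT.node 188 (BT.leaf cJ188) (BT.leaf cJ189)) (BT.leaf cJ190)) (BT.node 191 (BT.leaf cJ191) (BT.leaf cJ192))) (BT.node 194 (BT.node 193 (BT.leaf cJ193) (BT.leaf cJ194)) (BT.node 195 (BT.leaf cJ195) (BT.leaf cJ196))))) (BT.node 205 (BT.node 201 (BT.node 199 (BT.node 198 (BT.node 197 (BT.leaf cJ197) (BT.leaf cJ198)) (BT.leaf cJ199)) (BT.node 200 (BT.leaf cJ200) (BT.leaf cJ201))) (BT.node 203 (BT.node 202 (BT.leaf cJ202) (BT.leaf cJ203)) (BT.node 204 (BT.leaf cJ204) (BT.leaf cJ205)))) (BT.node 209 (BT.node 207 (BT.node 206 (BT.leaf cJ206)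 (BT.leaf cJ207)) (BT.node 208 (BT.leaf cJ208) (BT.leaf cJ209))) (BT.node 211 (BT.node 210 (BT.leaf cJ210) (BT.leaf cJ211)) (BT.node 212 (BT.leaf cJ212) (BT.leaf cJ213))))))) (BT.node 249 (BT.node 231 (BT.node 222 (BT.node 218 (BT.node 216 (BT.node 215 (BT.node 214 (BT.leaf cJ214) (BT.leaf cJ215)) (BT.leaf cJ216)) (BT.node 217 (BT.leaf cJ217) (BT.leaf cJ218))) (BT.node 220 (BT.node 219 (BT.leaf cJ219) (BT.leaf cJ220)) (BT.node 221 (BT.leaf cJ221) (BT.leaf cJ222)))) (BT.node 227 (BT.node 225 (BT.node 224 (BT.node 223 (BT.leaf cJ223) (BT.leaf cJ224)) (BT.leaf cJ225)) (BT.node 226 (BT.leaf cJ226) (BT.leaf cJ227))) (BT.node 229 (BT.node 228 (BT.leaf cJ228) (BT.leaf cJ229)) (BT.node 230 (BT.leaf cJ230) (BT.leaf cJ231))))) (BT.node 240 (BT.node 236 (BT.node 234 (BT.node 233 (BT.node 232 (BT.leaf cJ232) (BT.leaf cJ233)) (BT.leaf cJ234)) (BT.node 235 (BT.leaf cJ235)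 (BT.leaf cJ236))) (BT.node 238 (BT.node 237 (BT.leaf cJ237) (BT.leaf cJ238)) (BT.node 239 (BT.leaf cJ239) (BT.leaf cJ240)))) (BT.node 245 (BT.node 243 (BT.node 242 (BT.node 241 (BT.leaf cJ241) (BT.leaf cJ242)) (BT.leaf cJ243)) (BT.node 244 (BT.leaf cJ244) (BT.leaf cJ245))) (BT.node 247 (BT.node 246 (BT.leaf cJ246) (BT.leaf cJ247)) (BT.node 248 (BT.leaf cJ248) (BT.leaf cJ249)))))) (BT.node 267 (BT.node 258 (BT.node 254 (BT.node 252 (BT.node 251 (BT.node 250 (BT.leaf cJ250) (BT.leaf cJ251)) (BT.leaf cJ252)) (BT.node 253 (BT.leaf cJ253) (BT.leaf cJ254))) (BT.node 256 (BT.node 255 (BT.leaf cJ255) (BT.leaf cJ256)) (BT.node 257 (BT.leaf cJ257) (BT.leaf cJ258)))) (BT.node 263 (BT.node 261 (BT.node 260 (BT.node 259 (BT.leaf cJ259) (BT.leaf cJ260)) (BT.leaf cJ261)) (BT.node 262 (BT.leaf cJ262) (BT.leaf cJ263))) (BT.node 265 (BT.node 264 (BT.leaf cJ264) (BT.leaf cJ265))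 (BT.node 266 (BT.leaf cJ266) (BT.leaf cJ267))))) (BT.node 276 (BT.node 272 (BT.node 270 (BT.node 269 (BT.node 268 (BT.leaf cJ268) (BT.leaf cJ269)) (BT.leaf cJ270)) (BT.node 271 (BT.leaf cJ271) (BT.leaf cJ272))) (BT.node 274 (BT.node 273 (BT.leaf cJ273) (BT.leaf cJ274)) (BT.node 275 (BT.leaf cJ275) (BT.leaf cJ276)))) (BT.node 280 (BT.node 278 (BT.node 277 (BT.leaf cJ277) (BT.leaf cJ278)) (BT.node 279 (BT.leaf cJ279) (BT.leaf cJ280))) (BT.node 282 (BT.node 281 (BT.leaf cJ281) (BT.leaf cJ282)) (BT.node 283 (BT.leaf cJ283) (BT.leaf cJ284))))))))) (BT.node 427 (BT.node 356 (BT.node 320 (BT.node 302 (BT.node 293 (BT.node 289 (BT.node 287 (BT.node 286 (BT.node 285 (BT.leaf cJ285) (BT.leaf cJ286)) (BT.leaf cJ287)) (BT.node 288 (BT.leaf cJ288) (BT.leaf cJ289))) (BT.node 291 (BT.node 290 (BT.leaf cJ290) (BT.leaf cJ291)) (BT.node 292 (BT.leaf cJ292) (BT.leaf cJ293))))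 (BT.node 298 (BT.node 296 (BT.node 295 (BT.node 294 (BT.leaf cJ294) (BT.leaf cJ295)) (BT.leaf cJ296)) (BT.node 297 (BT.leaf cJ297) (BT.leaf cJ298))) (BT.node 300 (BT.node 299 (BT.leaf cJ299) (BT.leaf cJ300)) (BT.node 301 (BT.leaf cJ301) (BT.leaf cJ302))))) (BT.node 311 (BT.node 307 (BT.node 305 (BT.node 304 (BT.node 303 (BT.leaf cJ303) (BT.leaf cJ304)) (BT.leaf cJ305)) (BT.node 306 (BT.leaf cJ306) (BT.leaf cJ307))) (BT.node 309 (BT.node 308 (BT.leaf cJ308) (BT.leaf cJ309)) (BT.node 310 (BT.leaf cJ310) (BT.leaf cJ311)))) (BT.node 316 (BT.node 314 (BT.node 313 (BT.node 312 (BT.leaf cJ312) (BT.leaf cJ313)) (BT.leaf cJ314)) (BT.node 315 (BT.leaf cJ315) (BT.leaf cJ316))) (BT.node 318 (BT.node 317 (BT.leaf cJ317) (BT.leaf cJ318)) (BT.node 319 (BT.leaf cJ319) (BT.leaf cJ320)))))) (BT.node 338 (BT.node 329 (BT.node 325 (BT.node 323 (BT.node 322 (BT.node 321 (BT.leaf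 cJ321) (BT.leaf cJ322)) (BT.leaf cJ323)) (BT.node 324 (BT.leaf cJ324) (BT.leaf cJ325))) (BT.node 327 (BT.node 326 (BT.leaf cJ326) (BT.leaf cJ327)) (BT.node 328 (BT.leaf cJ328) (BT.leaf cJ329)))) (BT.node 334 (BT.node 332 (BT.node 331 (BT.node 330 (BT.leaf cJ330) (BT.leaf cJ331)) (BT.leaf cJ332)) (BT.node 333 (BT.leaf cJ333) (BT.leaf cJ334))) (BT.node 336 (BT.node 335 (BT.leaf cJ335) (BT.leaf cJ336)) (BT.node 337 (BT.leaf cJ337) (BT.leaf cJ338))))) (BT.node 347 (BT.node 343 (BT.node 341 (BT.node 340 (BT.node 339 (BT.leaf cJ339) (BT.leaf cJ340)) (BT.leaf cJ341)) (BT.node 342 (BT.leaf cJ342) (BT.leaf cJ343))) (BT.node 345 (BT.node 344 (BT.leaf cJ344) (BT.leaf cJ345)) (BT.node 346 (BT.leaf cJ346) (BT.leaf cJ347)))) (BT.node 352 (BT.node 350 (BT.node 349 (BT.node 348 (BT.leaf cJ348) (BT.leaf cJ349)) (BT.leaf cJ350)) (BT.node 351 (BT.leaf cJ351) (BT.leaf cJ352)))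 (BT.node 354 (BT.node 353 (BT.leaf cJ353) (BT.leaf cJ354)) (BT.node 355 (BT.leaf cJ355) (BT.leaf cJ356))))))) (BT.node 392 (BT.node 374 (BT.node 365 (BT.node 361 (BT.node 359 (BT.node 358 (BT.node 357 (BT.leaf cJ357) (BT.leaf cJ358)) (BT.leaf cJ359)) (BT.node 360 (BT.leaf cJ360) (BT.leaf cJ361))) (BT.node 363 (BT.node 362 (BT.leaf cJ362) (BT.leaf cJ363)) (BT.node 364 (BT.leaf cJ364) (BT.leaf cJ365)))) (BT.node 370 (BT.node 368 (BT.node 367 (BT.node 366 (BT.leaf cJ366) (BT.leaf cJ367)) (BT.leaf cJ368)) (BT.node 369 (BT.leaf cJ369) (BT.leaf cJ370))) (BT.node 372 (BT.node 371 (BT.leaf cJ371) (BT.leaf cJ372)) (BT.node 373 (BT.leaf cJ373) (BT.leaf cJ374))))) (BT.node 383 (BT.node 379 (BT.node 377 (BT.node 376 (BT.node 375 (BT.leaf cJ375) (BT.leaf cJ376)) (BT.leaf cJ377)) (BT.node 378 (BT.leaf cJ378) (BT.leaf cJ379))) (BT.node 381 (BT.node 380 (BT.leaf cJ380) (BT.leaf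 cJ381)) (BT.node 382 (BT.leaf cJ382) (BT.leaf cJ383)))) (BT.node 388 (BT.node 386 (BT.node 385 (BT.node 384 (BT.leaf cJ384) (BT.leaf cJ385)) (BT.leaf cJ386)) (BT.node 387 (BT.leaf cJ387) (BT.leaf cJ388))) (BT.node 390 (BT.node 389 (BT.leaf cJ389) (BT.leaf cJ390)) (BT.node 391 (BT.leaf cJ391) (BT.leaf cJ392)))))) (BT.node 410 (BT.node 401 (BT.node 397 (BT.node 395 (BT.node 394 (BT.node 393 (BT.leaf cJ393) (BT.leaf cJ394)) (BT.leaf cJ395)) (BT.node 396 (BT.leaf cJ396) (BT.leaf cJ397))) (BT.node 399 (BT.node 398 (BT.leaf cJ398) (BT.leaf cJ399)) (BT.node 400 (BT.leaf cJ400) (BT.leaf cJ401)))) (BT.node 406 (BT.node 404 (BT.node 403 (BT.node 402 (BT.leaf cJ402) (BT.leaf cJ403)) (BT.leaf cJ404)) (BT.node 405 (BT.leaf cJ405) (BT.leaf cJ406))) (BT.node 408 (BT.node 407 (BT.leaf cJ407) (BT.leaf cJ408)) (BT.node 409 (BT.leaf cJ409) (BT.leaf cJ410))))) (BT.node 419 (BT.node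 415 (BT.node 413 (BT.node 412 (BT.node 411 (BT.leaf cJ411) (BT.leaf cJ412)) (BT.leaf cJ413)) (BT.node 414 (BT.leaf cJ414) (BT.leaf cJ415))) (BT.node 417 (BT.node 416 (BT.leaf cJ416) (BT.leaf cJ417)) (BT.node 418 (BT.leaf cJ418) (BT.leaf cJ419)))) (BT.node 423 (BT.node 421 (BT.node 420 (BT.leaf cJ420) (BT.leaf cJ421)) (BT.node 422 (BT.leaf cJ422) (BT.leaf cJ423))) (BT.node 425 (BT.node 424 (BT.leaf cJ424) (BT.leaf cJ425)) (BT.node 426 (BT.leaf cJ426) (BT.leaf cJ427)))))))) (BT.node 498 (BT.node 463 (BT.node 445 (BT.node 436 (BT.node 432 (BT.node 430 (BT.node 429 (BT.node 428 (BT.leaf cJ428) (BT.leaf cJ429)) (BT.leaf cJ430)) (BT.node 431 (BT.leaf cJ431) (BT.leaf cJ432))) (BT.node 434 (BT.node 433 (BT.leaf cJ433) (BT.leaf cJ434)) (BT.node 435 (BT.leaf cJ435) (BT.leaf cJ436)))) (BT.node 441 (BT.node 439 (BT.node 438 (BT.node 437 (BT.leaf cJ437) (BT.leaf cJ438))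 (BT.leaf cJ439)) (BT.node 440 (BT.leaf cJ440) (BT.leaf cJ441))) (BT.node 443 (BT.node 442 (BT.leaf cJ442) (BT.leaf cJ443)) (BT.node 444 (BT.leaf cJ444) (BT.leaf cJ445))))) (BT.node 454 (BT.node 450 (BT.node 448 (BT.node 447 (BT.node 446 (BT.leaf cJ446) (BT.leaf cJ447)) (BT.leaf cJ448)) (BT.node 449 (BT.leaf cJ449) (BT.leaf cJ450))) (BT.node 452 (BT.node 451 (BT.leaf cJ451) (BT.leaf cJ452)) (BT.node 453 (BT.leaf cJ453) (BT.leaf cJ454)))) (BT.node 459 (BT.node 457 (BT.node 456 (BT.node 455 (BT.leaf cJ455) (BT.leaf cJ456)) (BT.leaf cJ457)) (BT.node 458 (BT.leaf cJ458) (BT.leaf cJ459))) (BT.node 461 (BT.node 460 (BT.leaf cJ460) (BT.leaf cJ461)) (BT.node 462 (BT.leaf cJ462) (BT.leaf cJ463)))))) (BT.node 481 (BT.node 472 (BT.node 468 (BT.node 466 (BT.node 465 (BT.node 464 (BT.leaf cJ464) (BT.leaf cJ465)) (BT.leaf cJ466)) (BT.node 467 (BT.leaf cJ467) (BT.leaf cJ468)))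 (BT.node 470 (BT.node 469 (BT.leaf cJ469) (BT.leaf cJ470)) (BT.node 471 (BT.leaf cJ471) (BT.leaf cJ472)))) (BT.node 477 (BT.node 475 (BT.node 474 (BT.node 473 (BT.leaf cJ473) (BT.leaf cJ474)) (BT.leaf cJ475)) (BT.node 476 (BT.leaf cJ476) (BT.leaf cJ477))) (BT.node 479 (BT.node 478 (BT.leaf cJ478) (BT.leaf cJ479)) (BT.node 480 (BT.leaf cJ480) (BT.leaf cJ481))))) (BT.node 490 (BT.node 486 (BT.node 484 (BT.node 483 (BT.node 482 (BT.leaf cJ482) (BT.leaf cJ483)) (BT.leaf cJ484)) (BT.node 485 (BT.leaf cJ485) (BT.leaf cJ486))) (BT.node 488 (BT.node 487 (BT.leaf cJ487) (BT.leaf cJ488)) (BT.node 489 (BT.leaf cJ489) (BT.leaf cJ490)))) (BT.node 494 (BT.node 492 (BT.node 491 (BT.leaf cJ491) (BT.leaf cJ492)) (BT.node 493 (BT.leaf cJ493) (BT.leaf cJ494))) (BT.node 496 (BT.node 495 (BT.leaf cJ495) (BT.leaf cJ496)) (BT.node 497 (BT.leaf cJ497) (BT.leaf cJ498))))))) (BT.node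 534 (BT.node 516 (BT.node 507 (BT.node 503 (BT.node 501 (BT.node 500 (BT.node 499 (BT.leaf cJ499) (BT.leaf cJ500)) (BT.leaf cJ501)) (BT.node 502 (BT.leaf cJ502) (BT.leaf cJ503))) (BT.node 505 (BT.node 504 (BT.leaf cJ504) (BT.leaf cJ505)) (BT.node 506 (BT.leaf cJ506) (BT.leaf cJ507)))) (BT.node 512 (BT.node 510 (BT.node 509 (BT.node 508 (BT.leaf cJ508) (BT.leaf cJ509)) (BT.leaf cJ510)) (BT.node 511 (BT.leaf cJ511) (BT.leaf cJ512))) (BT.node 514 (BT.node 513 (BT.leaf cJ513) (BT.leaf cJ514)) (BT.node 515 (BT.leaf cJ515) (BT.leaf cJ516))))) (BT.node 525 (BT.node 521 (BT.node 519 (BT.node 518 (BT.node 517 (BT.leaf cJ517) (BT.leaf cJ518)) (BT.leaf cJ519)) (BT.node 520 (BT.leaf cJ520) (BT.leaf cJ521))) (BT.node 523 (BT.node 522 (BT.leaf cJ522) (BT.leaf cJ523)) (BT.node 524 (BT.leaf cJ524) (BT.leaf cJ525)))) (BT.node 530 (BT.node 528 (BT.node 527 (BT.node 526 (BT.leaf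 cJ526) (BT.leaf cJ527)) (BT.leaf cJ528)) (BT.node 529 (BT.leaf cJ529) (BT.leaf cJ530))) (BT.node 532 (BT.node 531 (BT.leaf cJ531) (BT.leaf cJ532)) (BT.node 533 (BT.leaf cJ533) (BT.leaf cJ534)))))) (BT.node 552 (BT.node 543 (BT.node 539 (BT.node 537 (BT.node 536 (BT.node 535 (BT.leaf cJ535) (BT.leaf cJ536)) (BT.leaf cJ537)) (BT.node 538 (BT.leaf cJ538) (BT.leaf cJ539))) (BT.node 541 (BT.node 540 (BT.leaf cJ540) (BT.leaf cJ541)) (BT.node 542 (BT.leaf cJ542) (BT.leaf cJ543)))) (BT.node 548 (BT.node 546 (BT.node 545 (BT.node 544 (BT.leaf cJ544) (BT.leaf cJ545)) (BT.leaf cJ546)) (BT.node 547 (BT.leaf cJ547) (BT.leaf cJ548))) (BT.node 550 (BT.node 549 (BT.leaf cJ549) (BT.leaf cJ550)) (BT.node 551 (BT.leaf cJ551) (BT.leaf cJ552))))) (BT.node 561 (BT.node 557 (BT.node 555 (BT.node 554 (BT.node 553 (BT.leaf cJ553) (BT.leaf cJ554)) (BT.leaf cJ555)) (BT.node 556 (BT.leaf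 cJ556) (BT.leaf cJ557))) (BT.node 559 (BT.node 558 (BT.leaf cJ558) (BT.leaf cJ559)) (BT.node 560 (BT.leaf cJ560) (BT.leaf cJ561)))) (BT.node 565 (BT.node 563 (BT.node 562 (BT.leaf cJ562) (BT.leaf cJ563)) (BT.node 564 (BT.leaf cJ564) (BT.leaf cJ565))) (BT.node 567 (BT.node 566 (BT.leaf cJ566) (BT.leaf cJ567)) (BT.node 568 (BT.leaf cJ568) (BT.leaf cJ569)))))))))) (BT.node 854 (BT.node 712 (BT.node 641 (BT.node 605 (BT.node 587 (BT.node 578 (BT.node 574 (BT.node 572 (BT.node 571 (BT.node 570 (BT.leaf cJ570) (BT.leaf cJ571)) (BT.leaf cJ572)) (BT.node 573 (BT.leaf cJ573) (BT.leaf cJ574))) (BT.node 576 (BT.node 575 (BT.leaf cJ575) (BT.leaf cJ576)) (BT.node 577 (BT.leaf cJ577) (BT.leaf cJ578)))) (BT.node 583 (BT.node 581 (BT.node 580 (BT.node 579 (BT.leaf cJ579) (BT.leaf cJ580)) (BT.leaf cJ581)) (BT.node 582 (BT.leaf cJ582) (BT.leaf cJ583))) (BT.node 585 (BT.node 584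 (BT.leaf cJ584) (BT.leaf cJ585)) (BT.node 586 (BT.leaf cJ586) (BT.leaf cJ587))))) (BT.node 596 (BT.node 592 (BT.node 590 (BT.node 589 (BT.node 588 (BT.leaf cJ588) (BT.leaf cJ589)) (BT.leaf cJ590)) (BT.node 591 (BT.leaf cJ591) (BT.leaf cJ592))) (BT.node 594 (BT.node 593 (BT.leaf cJ593) (BT.leaf cJ594)) (BT.node 595 (BT.leaf cJ595) (BT.leaf cJ596)))) (BT.node 601 (BT.node 599 (BT.node 598 (BT.node 597 (BT.leaf cJ597) (BT.leaf cJ598)) (BT.leaf cJ599)) (BT.node 600 (BT.leaf cJ600) (BT.leaf cJ601))) (BT.node 603 (BT.node 602 (BT.leaf cJ602) (BT.leaf cJ603)) (BT.node 604 (BT.leaf cJ604) (BT.leaf cJ605)))))) (BT.node 623 (BT.node 614 (BT.node 610 (BT.node 608 (BT.node 607 (BT.node 606 (BT.leaf cJ606) (BT.leaf cJ607)) (BT.leaf cJ608)) (BT.node 609 (BT.leaf cJ609) (BT.leaf cJ610))) (BT.node 612 (BT.node 611 (BT.leaf cJ611) (BT.leaf cJ612)) (BT.node 613 (BT.leaf cJ613)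 (BT.leaf cJ614)))) (BT.node 619 (BT.node 617 (BT.node 616 (BT.node 615 (BT.leaf cJ615) (BT.leaf cJ616)) (BT.leaf cJ617)) (BT.node 618 (BT.leaf cJ618) (BT.leaf cJ619))) (BT.node 621 (BT.node 620 (BT.leaf cJ620) (BT.leaf cJ621)) (BT.node 622 (BT.leaf cJ622) (BT.leaf cJ623))))) (BT.node 632 (BT.node 628 (BT.node 626 (BT.node 625 (BT.node 624 (BT.leaf cJ624) (BT.leaf cJ625)) (BT.leaf cJ626)) (BT.node 627 (BT.leaf cJ627) (BT.leaf cJ628))) (BT.node 630 (BT.node 629 (BT.leaf cJ629) (BT.leaf cJ630)) (BT.node 631 (BT.leaf cJ631) (BT.leaf cJ632)))) (BT.node 637 (BT.node 635 (BT.node 634 (BT.node 633 (BT.leaf cJ633) (BT.leaf cJ634)) (BT.leaf cJ635)) (BT.node 636 (BT.leaf cJ636) (BT.leaf cJ637))) (BT.node 639 (BT.node 638 (BT.leaf cJ638) (BT.leaf cJ639)) (BT.node 640 (BT.leaf cJ640) (BT.leaf cJ641))))))) (BT.node 677 (BT.node 659 (BT.node 650 (BT.node 646 (BT.node 644 (BT.node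 643 (BT.node 642 (BT.leaf cJ642) (BT.leaf cJ643)) (BT.leaf cJ644)) (BT.node 645 (BT.leaf cJ645) (BT.leaf cJ646))) (BT.node 648 (BT.node 647 (BT.leaf cJ647) (BT.leaf cJ648)) (BT.node 649 (BT.leaf cJ649) (BT.leaf cJ650)))) (BT.node 655 (BT.node 653 (BT.node 652 (BT.node 651 (BT.leaf cJ651) (BT.leaf cJ652)) (BT.leaf cJ653)) (BT.node 654 (BT.leaf cJ654) (BT.leaf cJ655))) (BT.node 657 (BT.node 656 (BT.leaf cJ656) (BT.leaf cJ657)) (BT.node 658 (BT.leaf cJ658) (BT.leaf cJ659))))) (BT.node 668 (BT.node 664 (BT.node 662 (BT.node 661 (BT.node 660 (BT.leaf cJ660) (BT.leaf cJ661)) (BT.leaf cJ662)) (BT.node 663 (BT.leaf cJ663) (BT.leaf cJ664))) (BT.node 666 (BT.node 665 (BT.leaf cJ665) (BT.leaf cJ666)) (BT.node 667 (BT.leaf cJ667) (BT.leaf cJ668)))) (BT.node 673 (BT.node 671 (BT.node 670 (BT.node 669 (BT.leaf cJ669) (BT.leaf cJ670)) (BT.leaf cJ671)) (BT.node 672 (BT.leaf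 cJ672) (BT.leaf cJ673))) (BT.node 675 (BT.node 674 (BT.leaf cJ674) (BT.leaf cJ675)) (BT.node 676 (BT.leaf cJ676) (BT.leaf cJ677)))))) (BT.node 695 (BT.node 686 (BT.node 682 (BT.node 680 (BT.node 679 (BT.node 678 (BT.leaf cJ678) (BT.leaf cJ679)) (BT.leaf cJ680)) (BT.node 681 (BT.leaf cJ681) (BT.leaf cJ682))) (BT.node 684 (BT.node 683 (BT.leaf cJ683) (BT.leaf cJ684)) (BT.node 685 (BT.leaf cJ685) (BT.leaf cJ686)))) (BT.node 691 (BT.node 689 (BT.node 688 (BT.node 687 (BT.leaf cJ687) (BT.leaf cJ688)) (BT.leaf cJ689)) (BT.node 690 (BT.leaf cJ690) (BT.leaf cJ691))) (BT.node 693 (BT.node 692 (BT.leaf cJ692) (BT.leaf cJ693)) (BT.node 694 (BT.leaf cJ694) (BT.leaf cJ695))))) (BT.node 704 (BT.node 700 (BT.node 698 (BT.node 697 (BT.node 696 (BT.leaf cJ696) (BT.leaf cJ697)) (BT.leaf cJ698)) (BT.node 699 (BT.leaf cJ699) (BT.leaf cJ700))) (BT.node 702 (BT.node 701 (BT.leaf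 cJ701) (BT.leaf cJ702)) (BT.node 703 (BT.leaf cJ703) (BT.leaf cJ704)))) (BT.node 708 (BT.node 706 (BT.node 705 (BT.leaf cJ705) (BT.leaf cJ706)) (BT.node 707 (BT.leaf cJ707) (BT.leaf cJ708))) (BT.node 710 (BT.node 709 (BT.leaf cJ709) (BT.leaf cJ710)) (BT.node 711 (BT.leaf cJ711) (BT.leaf cJ712)))))))) (BT.node 783 (BT.node 748 (BT.node 730 (BT.node 721 (BT.node 717 (BT.node 715 (BT.node 714 (BT.node 713 (BT.leaf cJ713) (BT.leaf cJ714)) (BT.leaf cJ715)) (BT.node 716 (BT.leaf cJ716) (BT.leaf cJ717))) (BT.node 719 (BT.node 718 (BT.leaf cJ718) (BT.leaf cJ719)) (BT.node 720 (BT.leaf cJ720) (BT.leaf cJ721)))) (BT.node 726 (BT.node 724 (BT.node 723 (BT.node 722 (BT.leaf cJ722) (BT.leaf cJ723)) (BT.leaf cJ724)) (BT.node 725 (BT.leaf cJ725) (BT.leaf cJ726))) (BT.node 728 (BT.node 727 (BT.leaf cJ727) (BT.leaf cJ728)) (BT.node 729 (BT.leaf cJ729) (BT.leaf cJ730))))) (BT.node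 739 (BT.node 735 (BT.node 733 (BT.node 732 (BT.node 731 (BT.leaf cJ731) (BT.leaf cJ732)) (BT.leaf cJ733)) (BT.node 734 (BT.leaf cJ734) (BT.leaf cJ735))) (BT.node 737 (BT.node 736 (BT.leaf cJ736) (BT.leaf cJ737)) (BT.node 738 (BT.leaf cJ738) (BT.leaf cJ739)))) (BT.node 744 (BT.node 742 (BT.node 741 (BT.node 740 (BT.leaf cJ740) (BT.leaf cJ741)) (BT.leaf cJ742)) (BT.node 743 (BT.leaf cJ743) (BT.leaf cJ744))) (BT.node 746 (BT.node 745 (BT.leaf cJ745) (BT.leaf cJ746)) (BT.node 747 (BT.leaf cJ747) (BT.leaf cJ748)))))) (BT.node 766 (BT.node 757 (BT.node 753 (BT.node 751 (BT.node 750 (BT.node 749 (BT.leaf cJ749) (BT.leaf cJ750)) (BT.leaf cJ751)) (BT.node 752 (BT.leaf cJ752) (BT.leaf cJ753))) (BT.node 755 (BT.node 754 (BT.leaf cJ754) (BT.leaf cJ755)) (BT.node 756 (BT.leaf cJ756) (BT.leaf cJ757)))) (BT.node 762 (BT.node 760 (BT.node 759 (BT.node 758 (BT.leaf cJ758) (BT.leaf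 cJ759)) (BT.leaf cJ760)) (BT.node 761 (BT.leaf cJ761) (BT.leaf cJ762))) (BT.node 764 (BT.node 763 (BT.leaf cJ763) (BT.leaf cJ764)) (BT.node 765 (BT.leaf cJ765) (BT.leaf cJ766))))) (BT.node 775 (BT.node 771 (BT.node 769 (BT.node 768 (BT.node 767 (BT.leaf cJ767) (BT.leaf cJ768)) (BT.leaf cJ769)) (BT.node 770 (BT.leaf cJ770) (BT.leaf cJ771))) (BT.node 773 (BT.node 772 (BT.leaf cJ772) (BT.leaf cJ773)) (BT.node 774 (BT.leaf cJ774) (BT.leaf cJ775)))) (BT.node 779 (BT.node 777 (BT.node 776 (BT.leaf cJ776) (BT.leaf cJ777)) (BT.node 778 (BT.leaf cJ778) (BT.leaf cJ779))) (BT.node 781 (BT.node 780 (BT.leaf cJ780) (BT.leaf cJ781)) (BT.node 782 (BT.leaf cJ782) (BT.leaf cJ783))))))) (BT.node 819 (BT.node 801 (BT.node 792 (BT.node 788 (BT.node 786 (BT.node 785 (BT.node 784 (BT.leaf cJ784) (BT.leaf cJ785)) (BT.leaf cJ786)) (BT.node 787 (BT.leaf cJ787) (BT.leaf cJ788))) (BT.node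 790 (BT.node 789 (BT.leaf cJ789) (BT.leaf cJ790)) (BT.node 791 (BT.leaf cJ791) (BT.leaf cJ792)))) (BT.node 797 (BT.node 795 (BT.node 794 (BT.node 793 (BT.leaf cJ793) (BT.leaf cJ794)) (BT.leaf cJ795)) (BT.node 796 (BT.leaf cJ796) (BT.leaf cJ797))) (BT.node 799 (BT.node 798 (BT.leaf cJ798) (BT.leaf cJ799)) (BT.node 800 (BT.leaf cJ800) (BT.leaf cJ801))))) (BT.node 810 (BT.node 806 (BT.node 804 (BT.node 803 (BT.node 802 (BT.leaf cJ802) (BT.leaf cJ803)) (BT.leaf cJ804)) (BT.node 805 (BT.leaf cJ805) (BT.leaf cJ806))) (BT.node 808 (BT.node 807 (BT.leaf cJ807) (BT.leaf cJ808)) (BT.node 809 (BT.leaf cJ809) (BT.leaf cJ810)))) (BT.node 815 (BT.node 813 (BT.node 812 (BT.node 811 (BT.leaf cJ811) (BT.leaf cJ812)) (BT.leaf cJ813)) (BT.node 814 (BT.leaf cJ814) (BT.leaf cJ815))) (BT.node 817 (BT.node 816 (BT.leaf cJ816) (BT.leaf cJ817)) (BT.node 818 (BT.leaf cJ818) (BT.leaf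 cJ819)))))) (BT.node 837 (BT.node 828 (BT.node 824 (BT.node 822 (BT.node 821 (BT.node 820 (BT.leaf cJ820) (BT.leaf cJ821)) (BT.leaf cJ822)) (BT.node 823 (BT.leaf cJ823) (BT.leaf cJ824))) (BT.node 826 (BT.node 825 (BT.leaf cJ825) (BT.leaf cJ826)) (BT.node 827 (BT.leaf cJ827) (BT.leaf cJ828)))) (BT.node 833 (BT.node 831 (BT.node 830 (BT.node 829 (BT.leaf cJ829) (BT.leaf cJ830)) (BT.leaf cJ831)) (BT.node 832 (BT.leaf cJ832) (BT.leaf cJ833))) (BT.node 835 (BT.node 834 (BT.leaf cJ834) (BT.leaf cJ835)) (BT.node 836 (BT.leaf cJ836) (BT.leaf cJ837))))) (BT.node 846 (BT.node 842 (BT.node 840 (BT.node 839 (BT.node 838 (BT.leaf cJ838) (BT.leaf cJ839)) (BT.leaf cJ840)) (BT.node 841 (BT.leaf cJ841) (BT.leaf cJ842))) (BT.node 844 (BT.node 843 (BT.leaf cJ843) (BT.leaf cJ844)) (BT.node 845 (BT.leaf cJ845) (BT.leaf cJ846)))) (BT.node 850 (BT.node 848 (BT.node 847 (BT.leaf cJ847)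 (BT.leaf cJ848)) (BT.node 849 (BT.leaf cJ849) (BT.leaf cJ850))) (BT.node 852 (BT.node 851 (BT.leaf cJ851) (BT.leaf cJ852)) (BT.node 853 (BT.leaf cJ853) (BT.leaf cJ854))))))))) (BT.node 997 (BT.node 926 (BT.node 890 (BT.node 872 (BT.node 863 (BT.node 859 (BT.node 857 (BT.node 856 (BT.node 855 (BT.leaf cJ855) (BT.leaf cJ856)) (BT.leaf cJ857)) (BT.node 858 (BT.leaf cJ858) (BT.leaf cJ859))) (BT.node 861 (BT.node 860 (BT.leaf cJ860) (BT.leaf cJ861)) (BT.node 862 (BT.leaf cJ862) (BT.leaf cJ863)))) (BT.node 868 (BT.node 866 (BT.node 865 (BT.node 864 (BT.leaf cJ864) (BT.leaf cJ865)) (BT.leaf cJ866)) (BT.node 867 (BT.leaf cJ867) (BT.leaf cJ868))) (BT.node 870 (BT.node 869 (BT.leaf cJ869) (BT.leaf cJ870)) (BT.node 871 (BT.leaf cJ871) (BT.leaf cJ872))))) (BT.node 881 (BT.node 877 (BT.node 875 (BT.node 874 (BT.node 873 (BT.leaf cJ873) (BT.leaf cJ874)) (BT.leaf cJ875)) (BT.node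 876 (BT.leaf cJ876) (BT.leaf cJ877))) (BT.node 879 (BT.node 878 (BT.leaf cJ878) (BT.leaf cJ879)) (BT.node 880 (BT.leaf cJ880) (BT.leaf cJ881)))) (BT.node 886 (BT.node 884 (BT.node 883 (BT.node 882 (BT.leaf cJ882) (BT.leaf cJ883)) (BT.leaf cJ884)) (BT.node 885 (BT.leaf cJ885) (BT.leaf cJ886))) (BT.node 888 (BT.node 887 (BT.leaf cJ887) (BT.leaf cJ888)) (BT.node 889 (BT.leaf cJ889) (BT.leaf cJ890)))))) (BT.node 908 (BT.node 899 (BT.node 895 (BT.node 893 (BT.node 892 (BT.node 891 (BT.leaf cJ891) (BT.leaf cJ892)) (BT.leaf cJ893)) (BT.node 894 (BT.leaf cJ894) (BT.leaf cJ895))) (BT.node 897 (BT.node 896 (BT.leaf cJ896) (BT.leaf cJ897)) (BT.node 898 (BT.leaf cJ898) (BT.leaf cJ899)))) (BT.node 904 (BT.node 902 (BT.node 901 (BT.node 900 (BT.leaf cJ900) (BT.leaf cJ901)) (BT.leaf cJ902)) (BT.node 903 (BT.leaf cJ903) (BT.leaf cJ904))) (BT.node 906 (BT.node 905 (BT.leaf cJ905)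 (BT.leaf cJ906)) (BT.node 907 (BT.leaf cJ907) (BT.leaf cJ908))))) (BT.node 917 (BT.node 913 (BT.node 911 (BT.node 910 (BT.node 909 (BT.leaf cJ909) (BT.leaf cJ910)) (BT.leaf cJ911)) (BT.node 912 (BT.leaf cJ912) (BT.leaf cJ913))) (BT.node 915 (BT.node 914 (BT.leaf cJ914) (BT.leaf cJ915)) (BT.node 916 (BT.leaf cJ916) (BT.leaf cJ917)))) (BT.node 922 (BT.node 920 (BT.node 919 (BT.node 918 (BT.leaf cJ918) (BT.leaf cJ919)) (BT.leaf cJ920)) (BT.node 921 (BT.leaf cJ921) (BT.leaf cJ922))) (BT.node 924 (BT.node 923 (BT.leaf cJ923) (BT.leaf cJ924)) (BT.node 925 (BT.leaf cJ925) (BT.leaf cJ926))))))) (BT.node 962 (BT.node 944 (BT.node 935 (BT.node 931 (BT.node 929 (BT.node 928 (BT.node 927 (BT.leaf cJ927) (BT.leaf cJ928)) (BT.leaf cJ929)) (BT.node 930 (BT.leaf cJ930) (BT.leaf cJ931))) (BT.node 933 (BT.node 932 (BT.leaf cJ932) (BT.leaf cJ933)) (BT.node 934 (BT.leaf cJ934)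 (BT.leaf cJ935)))) (BT.node 940 (BT.node 938 (BT.node 937 (BT.node 936 (BT.leaf cJ936) (BT.leaf cJ937)) (BT.leaf cJ938)) (BT.node 939 (BT.leaf cJ939) (BT.leaf cJ940))) (BT.node 942 (BT.node 941 (BT.leaf cJ941) (BT.leaf cJ942)) (BT.node 943 (BT.leaf cJ943) (BT.leaf cJ944))))) (BT.node 953 (BT.node 949 (BT.node 947 (BT.node 946 (BT.node 945 (BT.leaf cJ945) (BT.leaf cJ946)) (BT.leaf cJ947)) (BT.node 948 (BT.leaf cJ948) (BT.leaf cJ949))) (BT.node 951 (BT.node 950 (BT.leaf cJ950) (BT.leaf cJ951)) (BT.node 952 (BT.leaf cJ952) (BT.leaf cJ953)))) (BT.node 958 (BT.node 956 (BT.node 955 (BT.node 954 (BT.leaf cJ954) (BT.leaf cJ955)) (BT.leaf cJ956)) (BT.node 957 (BT.leaf cJ957) (BT.leaf cJ958))) (BT.node 960 (BT.node 959 (BT.leaf cJ959) (BT.leaf cJ960)) (BT.node 961 (BT.leaf cJ961) (BT.leaf cJ962)))))) (BT.node 980 (BT.node 971 (BT.node 967 (BT.node 965 (BT.node 964 (BT.node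 963 (BT.leaf cJ963) (BT.leaf cJ964)) (BT.leaf cJ965)) (BT.node 966 (BT.leaf cJ966) (BT.leaf cJ967))) (BT.node 969 (BT.node 968 (BT.leaf cJ968) (BT.leaf cJ969)) (BT.node 970 (BT.leaf cJ970) (BT.leaf cJ971)))) (BT.node 976 (BT.node 974 (BT.node 973 (BT.node 972 (BT.leaf cJ972) (BT.leaf cJ973)) (BT.leaf cJ974)) (BT.node 975 (BT.leaf cJ975) (BT.leaf cJ976))) (BT.node 978 (BT.node 977 (BT.leaf cJ977) (BT.leaf cJ978)) (BT.node 979 (BT.leaf cJ979) (BT.leaf cJ980))))) (BT.node 989 (BT.node 985 (BT.node 983 (BT.node 982 (BT.node 981 (BT.leaf cJ981) (BT.leaf cJ982)) (BT.leaf cJ983)) (BT.node 984 (BT.leaf cJ984) (BT.leaf cJ985))) (BT.node 987 (BT.node 986 (BT.leaf cJ986) (BT.leaf cJ987)) (BT.node 988 (BT.leaf cJ988) (BT.leaf cJ989)))) (BT.node 993 (BT.node 991 (BT.node 990 (BT.leaf cJ990) (BT.leaf cJ991)) (BT.node 992 (BT.leaf cJ992) (BT.leaf cJ993))) (BT.node 995 (BT.node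 994 (BT.leaf cJ994) (BT.leaf cJ995)) (BT.node 996 (BT.leaf cJ996) (BT.leaf cJ997)))))))) (BT.node 1068 (BT.node 1033 (BT.node 1015 (BT.node 1006 (BT.node 1002 (BT.node 1000 (BT.node 999 (BT.node 998 (BT.leaf cJ998) (BT.leaf cJ999)) (BT.leaf cJ1000)) (BT.node 1001 (BT.leaf cJ1001) (BT.leaf cJ1002))) (BT.node 1004 (BT.node 1003 (BT.leaf cJ1003) (BT.leaf cJ1004)) (BT.node 1005 (BT.leaf cJ1005) (BT.leaf cJ1006)))) (BT.node 1011 (BT.node 1009 (BT.node 1008 (BT.node 1007 (BT.leaf cJ1007) (BT.leaf cJ1008)) (BT.leaf cJ1009)) (BT.node 1010 (BT.leaf cJ1010) (BT.leaf cJ1011))) (BT.node 1013 (BT.node 1012 (BT.leaf cJ1012) (BT.leaf cJ1013)) (BT.node 1014 (BT.leaf cJ1014) (BT.leaf cJ1015))))) (BT.node 1024 (BT.node 1020 (BT.node 1018 (BT.node 1017 (BT.node 1016 (BT.leaf cJ1016) (BT.leaf cJ1017)) (BT.leaf cJ1018)) (BT.node 1019 (BT.leaf cJ1019) (BT.leaf cJ1020))) (BT.node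 1022 (BT.node 1021 (BT.leaf cJ1021) (BT.leaf cJ1022)) (BT.node 1023 (BT.leaf cJ1023) (BT.leaf cJ1024)))) (BT.node 1029 (BT.node 1027 (BT.node 1026 (BT.node 1025 (BT.leaf cJ1025) (BT.leaf cJ1026)) (BT.leaf cJ1027)) (BT.node 1028 (BT.leaf cJ1028) (BT.leaf cJ1029))) (BT.node 1031 (BT.node 1030 (BT.leaf cJ1030) (BT.leaf cJ1031)) (BT.node 1032 (BT.leaf cJ1032) (BT.leaf cJ1033)))))) (BT.node 1051 (BT.node 1042 (BT.node 1038 (BT.node 1036 (BT.node 1035 (BT.node 1034 (BT.leaf cJ1034) (BT.leaf cJ1035)) (BT.leaf cJ1036)) (BT.node 1037 (BT.leaf cJ1037) (BT.leaf cJ1038))) (BT.node 1040 (BT.node 1039 (BT.leaf cJ1039) (BT.leaf cJ1040)) (BT.node 1041 (BT.leaf cJ1041) (BT.leaf cJ1042)))) (BT.node 1047 (BT.node 1045 (BT.node 1044 (BT.node 1043 (BT.leaf cJ1043) (BT.leaf cJ1044)) (BT.leaf cJ1045)) (BT.node 1046 (BT.leaf cJ1046) (BT.leaf cJ1047))) (BT.node 1049 (BT.node 1048 (BT.leaf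 cJ1048) (BT.leaf cJ1049)) (BT.node 1050 (BT.leaf cJ1050) (BT.leaf cJ1051))))) (BT.node 1060 (BT.node 1056 (BT.node 1054 (BT.node 1053 (BT.node 1052 (BT.leaf cJ1052) (BT.leaf cJ1053)) (BT.leaf cJ1054)) (BT.node 1055 (BT.leaf cJ1055) (BT.leaf cJ1056))) (BT.node 1058 (BT.node 1057 (BT.leaf cJ1057) (BT.leaf cJ1058)) (BT.node 1059 (BT.leaf cJ1059) (BT.leaf cJ1060)))) (BT.node 1064 (BT.node 1062 (BT.node 1061 (BT.leaf cJ1061) (BT.leaf cJ1062)) (BT.node 1063 (BT.leaf cJ1063) (BT.leaf cJ1064))) (BT.node 1066 (BT.node 1065 (BT.leaf cJ1065) (BT.leaf cJ1066)) (BT.node 1067 (BT.leaf cJ1067) (BT.leaf cJ1068))))))) (BT.node 1104 (BT.node 1086 (BT.node 1077 (BT.node 1073 (BT.node 1071 (BT.node 1070 (BT.node 1069 (BT.leaf cJ1069) (BT.leaf cJ1070)) (BT.leaf cJ1071)) (BT.node 1072 (BT.leaf cJ1072) (BT.leaf cJ1073))) (BT.node 1075 (BT.node 1074 (BT.leaf cJ1074) (BT.leaf cJ1075))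 (BT.node 1076 (BT.leaf cJ1076) (BT.leaf cJ1077)))) (BT.node 1082 (BT.node 1080 (BT.node 1079 (BT.node 1078 (BT.leaf cJ1078) (BT.leaf cJ1079)) (BT.leaf cJ1080)) (BT.node 1081 (BT.leaf cJ1081) (BT.leaf cJ1082))) (BT.node 1084 (BT.node 1083 (BT.leaf cJ1083) (BT.leaf cJ1084)) (BT.node 1085 (BT.leaf cJ1085) (BT.leaf cJ1086))))) (BT.node 1095 (BT.node 1091 (BT.node 1089 (BT.node 1088 (BT.node 1087 (BT.leaf cJ1087) (BT.leaf cJ1088)) (BT.leaf cJ1089)) (BT.node 1090 (BT.leaf cJ1090) (BT.leaf cJ1091))) (BT.node 1093 (BT.node 1092 (BT.leaf cJ1092) (BT.leaf cJ1093)) (BT.node 1094 (BT.leaf cJ1094) (BT.leaf cJ1095)))) (BT.node 1100 (BT.node 1098 (BT.node 1097 (BT.node 1096 (BT.leaf cJ1096) (BT.leaf cJ1097)) (BT.leaf cJ1098)) (BT.node 1099 (BT.leaf cJ1099) (BT.leaf cJ1100))) (BT.node 1102 (BT.node 1101 (BT.leaf cJ1101) (BT.leaf cJ1102)) (BT.node 1103 (BT.leaf cJ1103) (BT.leaf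 cJ1104)))))) (BT.node 1122 (BT.node 1113 (BT.node 1109 (BT.node 1107 (BT.node 1106 (BT.node 1105 (BT.leaf cJ1105) (BT.leaf cJ1106)) (BT.leaf cJ1107)) (BT.node 1108 (BT.leaf cJ1108) (BT.leaf cJ1109))) (BT.node 1111 (BT.node 1110 (BT.leaf cJ1110) (BT.leaf cJ1111)) (BT.node 1112 (BT.leaf cJ1112) (BT.leaf cJ1113)))) (BT.node 1118 (BT.node 1116 (BT.node 1115 (BT.node 1114 (BT.leaf cJ1114) (BT.leaf cJ1115)) (BT.leaf cJ1116)) (BT.node 1117 (BT.leaf cJ1117) (BT.leaf cJ1118))) (BT.node 1120 (BT.node 1119 (BT.leaf cJ1119) (BT.leaf cJ1120)) (BT.node 1121 (BT.leaf cJ1121) (BT.leaf cJ1122))))) (BT.node 1131 (BT.node 1127 (BT.node 1125 (BT.node 1124 (BT.node 1123 (BT.leaf cJ1123) (BT.leaf cJ1124)) (BT.leaf cJ1125)) (BT.node 1126 (BT.leaf cJ1126) (BT.leaf cJ1127))) (BT.node 1129 (BT.node 1128 (BT.leaf cJ1128) (BT.leaf cJ1129)) (BT.node 1130 (BT.leaf cJ1130) (BT.leaf cJ1131))))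 (BT.node 1135 (BT.node 1133 (BT.node 1132 (BT.leaf cJ1132) (BT.leaf cJ1133)) (BT.node 1134 (BT.leaf cJ1134) (BT.leaf cJ1135))) (BT.node 1137 (BT.node 1136 (BT.leaf cJ1136) (BT.leaf cJ1137)) (BT.node 1138 (BT.leaf cJ1138) (BT.leaf cJ1139))))))))))) (BT.node 1709 (BT.node 1424 (BT.node 1282 (BT.node 1211 (BT.node 1175 (BT.node 1157 (BT.node 1148 (BT.node 1144 (BT.node 1142 (BT.node 1141 (BT.node 1140 (BT.leaf cJ1140) (BT.leaf cJ1141)) (BT.leaf cJ1142)) (BT.node 1143 (BT.leaf cJ1143) (BT.leaf cJ1144))) (BT.node 1146 (BT.node 1145 (BT.leaf cJ1145) (BT.leaf cJ1146)) (BT.node 1147 (BT.leaf cJ1147) (BT.leaf cJ1148)))) (BT.node 1153 (BT.node 1151 (BT.node 1150 (BT.node 1149 (BT.leaf cJ1149) (BT.leaf cJ1150)) (BT.leaf cJ1151)) (BT.node 1152 (BT.leaf cJ1152) (BT.leaf cJ1153))) (BT.node 1155 (BT.node 1154 (BT.leaf cJ1154) (BT.leaf cJ1155)) (BT.node 1156 (BT.leaf cJ1156)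 (BT.leaf cJ1157))))) (BT.node 1166 (BT.node 1162 (BT.node 1160 (BT.node 1159 (BT.node 1158 (BT.leaf cJ1158) (BT.leaf cJ1159)) (BT.leaf cJ1160)) (BT.node 1161 (BT.leaf cJ1161) (BT.leaf cJ1162))) (BT.node 1164 (BT.node 1163 (BT.leaf cJ1163) (BT.leaf cJ1164)) (BT.node 1165 (BT.leaf cJ1165) (BT.leaf cJ1166)))) (BT.node 1171 (BT.node 1169 (BT.node 1168 (BT.node 1167 (BT.leaf cJ1167) (BT.leaf cJ1168)) (BT.leaf cJ1169)) (BT.node 1170 (BT.leaf cJ1170) (BT.leaf cJ1171))) (BT.node 1173 (BT.node 1172 (BT.leaf cJ1172) (BT.leaf cJ1173)) (BT.node 1174 (BT.leaf cJ1174) (BT.leaf cJ1175)))))) (BT.node 1193 (BT.node 1184 (BT.node 1180 (BT.node 1178 (BT.node 1177 (BT.node 1176 (BT.leaf cJ1176) (BT.leaf cJ1177)) (BT.leaf cJ1178)) (BT.node 1179 (BT.leaf cJ1179) (BT.leaf cJ1180))) (BT.node 1182 (BT.node 1181 (BT.leaf cJ1181) (BT.leaf cJ1182)) (BT.node 1183 (BT.leaf cJ1183) (BT.leaf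 cJ1184)))) (BT.node 1189 (BT.node 1187 (BT.node 1186 (BT.node 1185 (BT.leaf cJ1185) (BT.leaf cJ1186)) (BT.leaf cJ1187)) (BT.node 1188 (BT.leaf cJ1188) (BT.leaf cJ1189))) (BT.node 1191 (BT.node 1190 (BT.leaf cJ1190) (BT.leaf cJ1191)) (BT.node 1192 (BT.leaf cJ1192) (BT.leaf cJ1193))))) (BT.node 1202 (BT.node 1198 (BT.node 1196 (BT.node 1195 (BT.node 1194 (BT.leaf cJ1194) (BT.leaf cJ1195)) (BT.leaf cJ1196)) (BT.node 1197 (BT.leaf cJ1197) (BT.leaf cJ1198))) (BT.node 1200 (BT.node 1199 (BT.leaf cJ1199) (BT.leaf cJ1200)) (BT.node 1201 (BT.leaf cJ1201) (BT.leaf cJ1202)))) (BT.node 1207 (BT.node 1205 (BT.node 1204 (BT.node 1203 (BT.leaf cJ1203) (BT.leaf cJ1204)) (BT.leaf cJ1205)) (BT.node 1206 (BT.leaf cJ1206) (BT.leaf cJ1207))) (BT.node 1209 (BT.node 1208 (BT.leaf cJ1208) (BT.leaf cJ1209)) (BT.node 1210 (BT.leaf cJ1210) (BT.leaf cJ1211))))))) (BT.node 1247 (BT.node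 1229 (BT.node 1220 (BT.node 1216 (BT.node 1214 (BT.node 1213 (BT.node 1212 (BT.leaf cJ1212) (BT.leaf cJ1213)) (BT.leaf cJ1214)) (BT.node 1215 (BT.leaf cJ1215) (BT.leaf cJ1216))) (BT.node 1218 (BT.node 1217 (BT.leaf cJ1217) (BT.leaf cJ1218)) (BT.node 1219 (BT.leaf cJ1219) (BT.leaf cJ1220)))) (BT.node 1225 (BT.node 1223 (BT.node 1222 (BT.node 1221 (BT.leaf cJ1221) (BT.leaf cJ1222)) (BT.leaf cJ1223)) (BT.node 1224 (BT.leaf cJ1224) (BT.leaf cJ1225))) (BT.node 1227 (BT.node 1226 (BT.leaf cJ1226) (BT.leaf cJ1227)) (BT.node 1228 (BT.leaf cJ1228) (BT.leaf cJ1229))))) (BT.node 1238 (BT.node 1234 (BT.node 1232 (BT.node 1231 (BT.node 1230 (BT.leaf cJ1230) (BT.leaf cJ1231)) (BT.leaf cJ1232)) (BT.node 1233 (BT.leaf cJ1233) (BT.leaf cJ1234))) (BT.node 1236 (BT.node 1235 (BT.leaf cJ1235) (BT.leaf cJ1236)) (BT.node 1237 (BT.leaf cJ1237) (BT.leaf cJ1238)))) (BT.node 1243 (BT.node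 1241 (BT.node 1240 (BT.node 1239 (BT.leaf cJ1239) (BT.leaf cJ1240)) (BT.leaf cJ1241)) (BT.node 1242 (BT.leaf cJ1242) (BT.leaf cJ1243))) (BT.node 1245 (BT.node 1244 (BT.leaf cJ1244) (BT.leaf cJ1245)) (BT.node 1246 (BT.leaf cJ1246) (BT.leaf cJ1247)))))) (BT.node 1265 (BT.node 1256 (BT.node 1252 (BT.node 1250 (BT.node 1249 (BT.node 1248 (BT.leaf cJ1248) (BT.leaf cJ1249)) (BT.leaf cJ1250)) (BT.node 1251 (BT.leaf cJ1251) (BT.leaf cJ1252))) (BT.node 1254 (BT.node 1253 (BT.leaf cJ1253) (BT.leaf cJ1254)) (BT.node 1255 (BT.leaf cJ1255) (BT.leaf cJ1256)))) (BT.node 1261 (BT.node 1259 (BT.node 1258 (BT.node 1257 (BT.leaf cJ1257) (BT.leaf cJ1258)) (BT.leaf cJ1259)) (BT.node 1260 (BT.leaf cJ1260) (BT.leaf cJ1261))) (BT.node 1263 (BT.node 1262 (BT.leaf cJ1262) (BT.leaf cJ1263)) (BT.node 1264 (BT.leaf cJ1264) (BT.leaf cJ1265))))) (BT.node 1274 (BT.node 1270 (BT.node 1268 (BT.node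 1267 (BT.node 1266 (BT.leaf cJ1266) (BT.leaf cJ1267)) (BT.leaf cJ1268)) (BT.node 1269 (BT.leaf cJ1269) (BT.leaf cJ1270))) (BT.node 1272 (BT.node 1271 (BT.leaf cJ1271) (BT.leaf cJ1272)) (BT.node 1273 (BT.leaf cJ1273) (BT.leaf cJ1274)))) (BT.node 1278 (BT.node 1276 (BT.node 1275 (BT.leaf cJ1275) (BT.leaf cJ1276)) (BT.node 1277 (BT.leaf cJ1277) (BT.leaf cJ1278))) (BT.node 1280 (BT.node 1279 (BT.leaf cJ1279) (BT.leaf cJ1280)) (BT.node 1281 (BT.leaf cJ1281) (BT.leaf cJ1282)))))))) (BT.node 1353 (BT.node 1318 (BT.node 1300 (BT.node 1291 (BT.node 1287 (BT.node 1285 (BT.node 1284 (BT.node 1283 (BT.leaf cJ1283) (BT.leaf cJ1284)) (BT.leaf cJ1285)) (BT.node 1286 (BT.leaf cJ1286) (BT.leaf cJ1287))) (BT.node 1289 (BT.node 1288 (BT.leaf cJ1288) (BT.leaf cJ1289)) (BT.node 1290 (BT.leaf cJ1290) (BT.leaf cJ1291)))) (BT.node 1296 (BT.node 1294 (BT.node 1293 (BT.node 1292 (BT.leaf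 cJ1292) (BT.leaf cJ1293)) (BT.leaf cJ1294)) (BT.node 1295 (BT.leaf cJ1295) (BT.leaf cJ1296))) (BT.node 1298 (BT.node 1297 (BT.leaf cJ1297) (BT.leaf cJ1298)) (BT.node 1299 (BT.leaf cJ1299) (BT.leaf cJ1300))))) (BT.node 1309 (BT.node 1305 (BT.node 1303 (BT.node 1302 (BT.node 1301 (BT.leaf cJ1301) (BT.leaf cJ1302)) (BT.leaf cJ1303)) (BT.node 1304 (BT.leaf cJ1304) (BT.leaf cJ1305))) (BT.node 1307 (BT.node 1306 (BT.leaf cJ1306) (BT.leaf cJ1307)) (BT.node 1308 (BT.leaf cJ1308) (BT.leaf cJ1309)))) (BT.node 1314 (BT.node 1312 (BT.node 1311 (BT.node 1310 (BT.leaf cJ1310) (BT.leaf cJ1311)) (BT.leaf cJ1312)) (BT.node 1313 (BT.leaf cJ1313) (BT.leaf cJ1314))) (BT.node 1316 (BT.node 1315 (BT.leaf cJ1315) (BT.leaf cJ1316)) (BT.node 1317 (BT.leaf cJ1317) (BT.leaf cJ1318)))))) (BT.node 1336 (BT.node 1327 (BT.node 1323 (BT.node 1321 (BT.node 1320 (BT.node 1319 (BT.leaf cJ1319)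 (BT.leaf cJ1320)) (BT.leaf cJ1321)) (BT.node 1322 (BT.leaf cJ1322) (BT.leaf cJ1323))) (BT.node 1325 (BT.node 1324 (BT.leaf cJ1324) (BT.leaf cJ1325)) (BT.node 1326 (BT.leaf cJ1326) (BT.leaf cJ1327)))) (BT.node 1332 (BT.node 1330 (BT.node 1329 (BT.node 1328 (BT.leaf cJ1328) (BT.leaf cJ1329)) (BT.leaf cJ1330)) (BT.node 1331 (BT.leaf cJ1331) (BT.leaf cJ1332))) (BT.node 1334 (BT.node 1333 (BT.leaf cJ1333) (BT.leaf cJ1334)) (BT.node 1335 (BT.leaf cJ1335) (BT.leaf cJ1336))))) (BT.node 1345 (BT.node 1341 (BT.node 1339 (BT.node 1338 (BT.node 1337 (BT.leaf cJ1337) (BT.leaf cJ1338)) (BT.leaf cJ1339)) (BT.node 1340 (BT.leaf cJ1340) (BT.leaf cJ1341))) (BT.node 1343 (BT.node 1342 (BT.leaf cJ1342) (BT.leaf cJ1343)) (BT.node 1344 (BT.leaf cJ1344) (BT.leaf cJ1345)))) (BT.node 1349 (BT.node 1347 (BT.node 1346 (BT.leaf cJ1346) (BT.leaf cJ1347)) (BT.node 1348 (BT.leaf cJ1348) (BT.leaf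 cJ1349))) (BT.node 1351 (BT.node 1350 (BT.leaf cJ1350) (BT.leaf cJ1351)) (BT.node 1352 (BT.leaf cJ1352) (BT.leaf cJ1353))))))) (BT.node 1389 (BT.node 1371 (BT.node 1362 (BT.node 1358 (BT.node 1356 (BT.node 1355 (BT.node 1354 (BT.leaf cJ1354) (BT.leaf cJ1355)) (BT.leaf cJ1356)) (BT.node 1357 (BT.leaf cJ1357) (BT.leaf cJ1358))) (BT.node 1360 (BT.node 1359 (BT.leaf cJ1359) (BT.leaf cJ1360)) (BT.node 1361 (BT.leaf cJ1361) (BT.leaf cJ1362)))) (BT.node 1367 (BT.node 1365 (BT.node 1364 (BT.node 1363 (BT.leaf cJ1363) (BT.leaf cJ1364)) (BT.leaf cJ1365)) (BT.node 1366 (BT.leaf cJ1366) (BT.leaf cJ1367))) (BT.node 1369 (BT.node 1368 (BT.leaf cJ1368) (BT.leaf cJ1369)) (BT.node 1370 (BT.leaf cJ1370) (BT.leaf cJ1371))))) (BT.node 1380 (BT.node 1376 (BT.node 1374 (BT.node 1373 (BT.node 1372 (BT.leaf cJ1372) (BT.leaf cJ1373)) (BT.leaf cJ1374)) (BT.node 1375 (BT.leaf cJ1375)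 (BT.leaf cJ1376))) (BT.node 1378 (BT.node 1377 (BT.leaf cJ1377) (BT.leaf cJ1378)) (BT.node 1379 (BT.leaf cJ1379) (BT.leaf cJ1380)))) (BT.node 1385 (BT.node 1383 (BT.node 1382 (BT.node 1381 (BT.leaf cJ1381) (BT.leaf cJ1382)) (BT.leaf cJ1383)) (BT.node 1384 (BT.leaf cJ1384) (BT.leaf cJ1385))) (BT.node 1387 (BT.node 1386 (BT.leaf cJ1386) (BT.leaf cJ1387)) (BT.node 1388 (BT.leaf cJ1388) (BT.leaf cJ1389)))))) (BT.node 1407 (BT.node 1398 (BT.node 1394 (BT.node 1392 (BT.node 1391 (BT.node 1390 (BT.leaf cJ1390) (BT.leaf cJ1391)) (BT.leaf cJ1392)) (BT.node 1393 (BT.leaf cJ1393) (BT.leaf cJ1394))) (BT.node 1396 (BT.node 1395 (BT.leaf cJ1395) (BT.leaf cJ1396)) (BT.node 1397 (BT.leaf cJ1397) (BT.leaf cJ1398)))) (BT.node 1403 (BT.node 1401 (BT.node 1400 (BT.node 1399 (BT.leaf cJ1399) (BT.leaf cJ1400)) (BT.leaf cJ1401)) (BT.node 1402 (BT.leaf cJ1402) (BT.leaf cJ1403))) (BT.node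 1405 (BT.node 1404 (BT.leaf cJ1404) (BT.leaf cJ1405)) (BT.node 1406 (BT.leaf cJ1406) (BT.leaf cJ1407))))) (BT.node 1416 (BT.node 1412 (BT.node 1410 (BT.node 1409 (BT.node 1408 (BT.leaf cJ1408) (BT.leaf cJ1409)) (BT.leaf cJ1410)) (BT.node 1411 (BT.leaf cJ1411) (BT.leaf cJ1412))) (BT.node 1414 (BT.node 1413 (BT.leaf cJ1413) (BT.leaf cJ1414)) (BT.node 1415 (BT.leaf cJ1415) (BT.leaf cJ1416)))) (BT.node 1420 (BT.node 1418 (BT.node 1417 (BT.leaf cJ1417) (BT.leaf cJ1418)) (BT.node 1419 (BT.leaf cJ1419) (BT.leaf cJ1420))) (BT.node 1422 (BT.node 1421 (BT.leaf cJ1421) (BT.leaf cJ1422)) (BT.node 1423 (BT.leaf cJ1423) (BT.leaf cJ1424))))))))) (BT.node 1567 (BT.node 1496 (BT.node 1460 (BT.node 1442 (BT.node 1433 (BT.node 1429 (BT.node 1427 (BT.node 1426 (BT.node 1425 (BT.leaf cJ1425) (BT.leaf cJ1426)) (BT.leaf cJ1427)) (BT.node 1428 (BT.leaf cJ1428) (BT.leaf cJ1429))) (BT.node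 1431 (BT.node 1430 (BT.leaf cJ1430) (BT.leaf cJ1431)) (BT.node 1432 (BT.leaf cJ1432) (BT.leaf cJ1433)))) (BT.node 1438 (BT.node 1436 (BT.node 1435 (BT.node 1434 (BT.leaf cJ1434) (BT.leaf cJ1435)) (BT.leaf cJ1436)) (BT.node 1437 (BT.leaf cJ1437) (BT.leaf cJ1438))) (BT.node 1440 (BT.node 1439 (BT.leaf cJ1439) (BT.leaf cJ1440)) (BT.node 1441 (BT.leaf cJ1441) (BT.leaf cJ1442))))) (BT.node 1451 (BT.node 1447 (BT.node 1445 (BT.node 1444 (BT.node 1443 (BT.leaf cJ1443) (BT.leaf cJ1444)) (BT.leaf cJ1445)) (BT.node 1446 (BT.leaf cJ1446) (BT.leaf cJ1447))) (BT.node 1449 (BT.node 1448 (BT.leaf cJ1448) (BT.leaf cJ1449)) (BT.node 1450 (BT.leaf cJ1450) (BT.leaf cJ1451)))) (BT.node 1456 (BT.node 1454 (BT.node 1453 (BT.node 1452 (BT.leaf cJ1452) (BT.leaf cJ1453)) (BT.leaf cJ1454)) (BT.node 1455 (BT.leaf cJ1455) (BT.leaf cJ1456))) (BT.node 1458 (BT.node 1457 (BT.leaf cJ1457)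 (BT.leaf cJ1458)) (BT.node 1459 (BT.leaf cJ1459) (BT.leaf cJ1460)))))) (BT.node 1478 (BT.node 1469 (BT.node 1465 (BT.node 1463 (BT.node 1462 (BT.node 1461 (BT.leaf cJ1461) (BT.leaf cJ1462)) (BT.leaf cJ1463)) (BT.node 1464 (BT.leaf cJ1464) (BT.leaf cJ1465))) (BT.node 1467 (BT.node 1466 (BT.leaf cJ1466) (BT.leaf cJ1467)) (BT.node 1468 (BT.leaf cJ1468) (BT.leaf cJ1469)))) (BT.node 1474 (BT.node 1472 (BT.node 1471 (BT.node 1470 (BT.leaf cJ1470) (BT.leaf cJ1471)) (BT.leaf cJ1472)) (BT.node 1473 (BT.leaf cJ1473) (BT.leaf cJ1474))) (BT.node 1476 (BT.node 1475 (BT.leaf cJ1475) (BT.leaf cJ1476)) (BT.node 1477 (BT.leaf cJ1477) (BT.leaf cJ1478))))) (BT.node 1487 (BT.node 1483 (BT.node 1481 (BT.node 1480 (BT.node 1479 (BT.leaf cJ1479) (BT.leaf cJ1480)) (BT.leaf cJ1481)) (BT.node 1482 (BT.leaf cJ1482) (BT.leaf cJ1483))) (BT.node 1485 (BT.node 1484 (BT.leaf cJ1484) (BT.leaf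 cJ1485)) (BT.node 1486 (BT.leaf cJ1486) (BT.leaf cJ1487)))) (BT.node 1492 (BT.node 1490 (BT.node 1489 (BT.node 1488 (BT.leaf cJ1488) (BT.leaf cJ1489)) (BT.leaf cJ1490)) (BT.node 1491 (BT.leaf cJ1491) (BT.leaf cJ1492))) (BT.node 1494 (BT.node 1493 (BT.leaf cJ1493) (BT.leaf cJ1494)) (BT.node 1495 (BT.leaf cJ1495) (BT.leaf cJ1496))))))) (BT.node 1532 (BT.node 1514 (BT.node 1505 (BT.node 1501 (BT.node 1499 (BT.node 1498 (BT.node 1497 (BT.leaf cJ1497) (BT.leaf cJ1498)) (BT.leaf cJ1499)) (BT.node 1500 (BT.leaf cJ1500) (BT.leaf cJ1501))) (BT.node 1503 (BT.node 1502 (BT.leaf cJ1502) (BT.leaf cJ1503)) (BT.node 1504 (BT.leaf cJ1504) (BT.leaf cJ1505)))) (BT.node 1510 (BT.node 1508 (BT.node 1507 (BT.node 1506 (BT.leaf cJ1506) (BT.leaf cJ1507)) (BT.leaf cJ1508)) (BT.node 1509 (BT.leaf cJ1509) (BT.leaf cJ1510))) (BT.node 1512 (BT.node 1511 (BT.leaf cJ1511) (BT.leaf cJ1512))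 (BT.node 1513 (BT.leaf cJ1513) (BT.leaf cJ1514))))) (BT.node 1523 (BT.node 1519 (BT.node 1517 (BT.node 1516 (BT.node 1515 (BT.leaf cJ1515) (BT.leaf cJ1516)) (BT.leaf cJ1517)) (BT.node 1518 (BT.leaf cJ1518) (BT.leaf cJ1519))) (BT.node 1521 (BT.node 1520 (BT.leaf cJ1520) (BT.leaf cJ1521)) (BT.node 1522 (BT.leaf cJ1522) (BT.leaf cJ1523)))) (BT.node 1528 (BT.node 1526 (BT.node 1525 (BT.node 1524 (BT.leaf cJ1524) (BT.leaf cJ1525)) (BT.leaf cJ1526)) (BT.node 1527 (BT.leaf cJ1527) (BT.leaf cJ1528))) (BT.node 1530 (BT.node 1529 (BT.leaf cJ1529) (BT.leaf cJ1530)) (BT.node 1531 (BT.leaf cJ1531) (BT.leaf cJ1532)))))) (BT.node 1550 (BT.node 1541 (BT.node 1537 (BT.node 1535 (BT.node 1534 (BT.node 1533 (BT.leaf cJ1533) (BT.leaf cJ1534)) (BT.leaf cJ1535)) (BT.node 1536 (BT.leaf cJ1536) (BT.leaf cJ1537))) (BT.node 1539 (BT.node 1538 (BT.leaf cJ1538) (BT.leaf cJ1539)) (BT.node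 1540 (BT.leaf cJ1540) (BT.leaf cJ1541)))) (BT.node 1546 (BT.node 1544 (BT.node 1543 (BT.node 1542 (BT.leaf cJ1542) (BT.leaf cJ1543)) (BT.leaf cJ1544)) (BT.node 1545 (BT.leaf cJ1545) (BT.leaf cJ1546))) (BT.node 1548 (BT.node 1547 (BT.leaf cJ1547) (BT.leaf cJ1548)) (BT.node 1549 (BT.leaf cJ1549) (BT.leaf cJ1550))))) (BT.node 1559 (BT.node 1555 (BT.node 1553 (BT.node 1552 (BT.node 1551 (BT.leaf cJ1551) (BT.leaf cJ1552)) (BT.leaf cJ1553)) (BT.node 1554 (BT.leaf cJ1554) (BT.leaf cJ1555))) (BT.node 1557 (BT.node 1556 (BT.leaf cJ1556) (BT.leaf cJ1557)) (BT.node 1558 (BT.leaf cJ1558) (BT.leaf cJ1559)))) (BT.node 1563 (BT.node 1561 (BT.node 1560 (BT.leaf cJ1560) (BT.leaf cJ1561)) (BT.node 1562 (BT.leaf cJ1562) (BT.leaf cJ1563))) (BT.node 1565 (BT.node 1564 (BT.leaf cJ1564) (BT.leaf cJ1565)) (BT.node 1566 (BT.leaf cJ1566) (BT.leaf cJ1567)))))))) (BT.node 1638 (BT.node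 1603 (BT.node 1585 (BT.node 1576 (BT.node 1572 (BT.node 1570 (BT.node 1569 (BT.node 1568 (BT.leaf cJ1568) (BT.leaf cJ1569)) (BT.leaf cJ1570)) (BT.node 1571 (BT.leaf cJ1571) (BT.leaf cJ1572))) (BT.node 1574 (BT.node 1573 (BT.leaf cJ1573) (BT.leaf cJ1574)) (BT.node 1575 (BT.leaf cJ1575) (BT.leaf cJ1576)))) (BT.node 1581 (BT.node 1579 (BT.node 1578 (BT.node 1577 (BT.leaf cJ1577) (BT.leaf cJ1578)) (BT.leaf cJ1579)) (BT.node 1580 (BT.leaf cJ1580) (BT.leaf cJ1581))) (BT.node 1583 (BT.node 1582 (BT.leaf cJ1582) (BT.leaf cJ1583)) (BT.node 1584 (BT.leaf cJ1584) (BT.leaf cJ1585))))) (BT.node 1594 (BT.node 1590 (BT.node 1588 (BT.node 1587 (BT.node 1586 (BT.leaf cJ1586) (BT.leaf cJ1587)) (BT.leaf cJ1588)) (BT.node 1589 (BT.leaf cJ1589) (BT.leaf cJ1590))) (BT.node 1592 (BT.node 1591 (BT.leaf cJ1591) (BT.leaf cJ1592)) (BT.node 1593 (BT.leaf cJ1593) (BT.leaf cJ1594)))) (BT.node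 1599 (BT.node 1597 (BT.node 1596 (BT.node 1595 (BT.leaf cJ1595) (BT.leaf cJ1596)) (BT.leaf cJ1597)) (BT.node 1598 (BT.leaf cJ1598) (BT.leaf cJ1599))) (BT.node 1601 (BT.node 1600 (BT.leaf cJ1600) (BT.leaf cJ1601)) (BT.node 1602 (BT.leaf cJ1602) (BT.leaf cJ1603)))))) (BT.node 1621 (BT.node 1612 (BT.node 1608 (BT.node 1606 (BT.node 1605 (BT.node 1604 (BT.leaf cJ1604) (BT.leaf cJ1605)) (BT.leaf cJ1606)) (BT.node 1607 (BT.leaf cJ1607) (BT.leaf cJ1608))) (BT.node 1610 (BT.node 1609 (BT.leaf cJ1609) (BT.leaf cJ1610)) (BT.node 1611 (BT.leaf cJ1611) (BT.leaf cJ1612)))) (BT.node 1617 (BT.node 1615 (BT.node 1614 (BT.node 1613 (BT.leaf cJ1613) (BT.leaf cJ1614)) (BT.leaf cJ1615)) (BT.node 1616 (BT.leaf cJ1616) (BT.leaf cJ1617))) (BT.node 1619 (BT.node 1618 (BT.leaf cJ1618) (BT.leaf cJ1619)) (BT.node 1620 (BT.leaf cJ1620) (BT.leaf cJ1621))))) (BT.node 1630 (BT.node 1626 (BT.node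 1624 (BT.node 1623 (BT.node 1622 (BT.leaf cJ1622) (BT.leaf cJ1623)) (BT.leaf cJ1624)) (BT.node 1625 (BT.leaf cJ1625) (BT.leaf cJ1626))) (BT.node 1628 (BT.node 1627 (BT.leaf cJ1627) (BT.leaf cJ1628)) (BT.node 1629 (BT.leaf cJ1629) (BT.leaf cJ1630)))) (BT.node 1634 (BT.node 1632 (BT.node 1631 (BT.leaf cJ1631) (BT.leaf cJ1632)) (BT.node 1633 (BT.leaf cJ1633) (BT.leaf cJ1634))) (BT.node 1636 (BT.node 1635 (BT.leaf cJ1635) (BT.leaf cJ1636)) (BT.node 1637 (BT.leaf cJ1637) (BT.leaf cJ1638))))))) (BT.node 1674 (BT.node 1656 (BT.node 1647 (BT.node 1643 (BT.node 1641 (BT.node 1640 (BT.node 1639 (BT.leaf cJ1639) (BT.leaf cJ1640)) (BT.leaf cJ1641)) (BT.node 1642 (BT.leaf cJ1642) (BT.leaf cJ1643))) (BT.node 1645 (BT.node 1644 (BT.leaf cJ1644) (BT.leaf cJ1645)) (BT.node 1646 (BT.leaf cJ1646) (BT.leaf cJ1647)))) (BT.node 1652 (BT.node 1650 (BT.node 1649 (BT.node 1648 (BT.leaf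 cJ1648) (BT.leaf cJ1649)) (BT.leaf cJ1650)) (BT.node 1651 (BT.leaf cJ1651) (BT.leaf cJ1652))) (BT.node 1654 (BT.node 1653 (BT.leaf cJ1653) (BT.leaf cJ1654)) (BT.node 1655 (BT.leaf cJ1655) (BT.leaf cJ1656))))) (BT.node 1665 (BT.node 1661 (BT.node 1659 (BT.node 1658 (BT.node 1657 (BT.leaf cJ1657) (BT.leaf cJ1658)) (BT.leaf cJ1659)) (BT.node 1660 (BT.leaf cJ1660) (BT.leaf cJ1661))) (BT.node 1663 (BT.node 1662 (BT.leaf cJ1662) (BT.leaf cJ1663)) (BT.node 1664 (BT.leaf cJ1664) (BT.leaf cJ1665)))) (BT.node 1670 (BT.node 1668 (BT.node 1667 (BT.node 1666 (BT.leaf cJ1666) (BT.leaf cJ1667)) (BT.leaf cJ1668)) (BT.node 1669 (BT.leaf cJ1669) (BT.leaf cJ1670))) (BT.node 1672 (BT.node 1671 (BT.leaf cJ1671) (BT.leaf cJ1672)) (BT.node 1673 (BT.leaf cJ1673) (BT.leaf cJ1674)))))) (BT.node 1692 (BT.node 1683 (BT.node 1679 (BT.node 1677 (BT.node 1676 (BT.node 1675 (BT.leaf cJ1675)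 (BT.leaf cJ1676)) (BT.leaf cJ1677)) (BT.node 1678 (BT.leaf cJ1678) (BT.leaf cJ1679))) (BT.node 1681 (BT.node 1680 (BT.leaf cJ1680) (BT.leaf cJ1681)) (BT.node 1682 (BT.leaf cJ1682) (BT.leaf cJ1683)))) (BT.node 1688 (BT.node 1686 (BT.node 1685 (BT.node 1684 (BT.leaf cJ1684) (BT.leaf cJ1685)) (BT.leaf cJ1686)) (BT.node 1687 (BT.leaf cJ1687) (BT.leaf cJ1688))) (BT.node 1690 (BT.node 1689 (BT.leaf cJ1689) (BT.leaf cJ1690)) (BT.node 1691 (BT.leaf cJ1691) (BT.leaf cJ1692))))) (BT.node 1701 (BT.node 1697 (BT.node 1695 (BT.node 1694 (BT.node 1693 (BT.leaf cJ1693) (BT.leaf cJ1694)) (BT.leaf cJ1695)) (BT.node 1696 (BT.leaf cJ1696) (BT.leaf cJ1697))) (BT.node 1699 (BT.node 1698 (BT.leaf cJ1698) (BT.leaf cJ1699)) (BT.node 1700 (BT.leaf cJ1700) (BT.leaf cJ1701)))) (BT.node 1705 (BT.node 1703 (BT.node 1702 (BT.leaf cJ1702) (BT.leaf cJ1703)) (BT.node 1704 (BT.leaf cJ1704) (BT.leaf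 cJ1705))) (BT.node 1707 (BT.node 1706 (BT.leaf cJ1706) (BT.leaf cJ1707)) (BT.node 1708 (BT.leaf cJ1708) (BT.leaf cJ1709)))))))))) (BT.node 1994 (BT.node 1852 (BT.node 1781 (BT.node 1745 (BT.node 1727 (BT.node 1718 (BT.node 1714 (BT.node 1712 (BT.node 1711 (BT.node 1710 (BT.leaf cJ1710) (BT.leaf cJ1711)) (BT.leaf cJ1712)) (BT.node 1713 (BT.leaf cJ1713) (BT.leaf cJ1714))) (BT.node 1716 (BT.node 1715 (BT.leaf cJ1715) (BT.leaf cJ1716)) (BT.node 1717 (BT.leaf cJ1717) (BT.leaf cJ1718)))) (BT.node 1723 (BT.node 1721 (BT.node 1720 (BT.node 1719 (BT.leaf cJ1719) (BT.leaf cJ1720)) (BT.leaf cJ1721)) (BT.node 1722 (BT.leaf cJ1722) (BT.leaf cJ1723))) (BT.node 1725 (BT.node 1724 (BT.leaf cJ1724) (BT.leaf cJ1725)) (BT.node 1726 (BT.leaf cJ1726) (BT.leaf cJ1727))))) (BT.node 1736 (BT.node 1732 (BT.node 1730 (BT.node 1729 (BT.node 1728 (BT.leaf cJ1728) (BT.leaf cJ1729)) (BT.leaf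 cJ1730)) (BT.node 1731 (BT.leaf cJ1731) (BT.leaf cJ1732))) (BT.node 1734 (BT.node 1733 (BT.leaf cJ1733) (BT.leaf cJ1734)) (BT.node 1735 (BT.leaf cJ1735) (BT.leaf cJ1736)))) (BT.node 1741 (BT.node 1739 (BT.node 1738 (BT.node 1737 (BT.leaf cJ1737) (BT.leaf cJ1738)) (BT.leaf cJ1739)) (BT.node 1740 (BT.leaf cJ1740) (BT.leaf cJ1741))) (BT.node 1743 (BT.node 1742 (BT.leaf cJ1742) (BT.leaf cJ1743)) (BT.node 1744 (BT.leaf cJ1744) (BT.leaf cJ1745)))))) (BT.node 1763 (BT.node 1754 (BT.node 1750 (BT.node 1748 (BT.node 1747 (BT.node 1746 (BT.leaf cJ1746) (BT.leaf cJ1747)) (BT.leaf cJ1748)) (BT.node 1749 (BT.leaf cJ1749) (BT.leaf cJ1750))) (BT.node 1752 (BT.node 1751 (BT.leaf cJ1751) (BT.leaf cJ1752)) (BT.node 1753 (BT.leaf cJ1753) (BT.leaf cJ1754)))) (BT.node 1759 (BT.node 1757 (BT.node 1756 (BT.node 1755 (BT.leaf cJ1755) (BT.leaf cJ1756)) (BT.leaf cJ1757)) (BT.node 1758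 (BT.leaf cJ1758) (BT.leaf cJ1759))) (BT.node 1761 (BT.node 1760 (BT.leaf cJ1760) (BT.leaf cJ1761)) (BT.node 1762 (BT.leaf cJ1762) (BT.leaf cJ1763))))) (BT.node 1772 (BT.node 1768 (BT.node 1766 (BT.node 1765 (BT.node 1764 (BT.leaf cJ1764) (BT.leaf cJ1765)) (BT.leaf cJ1766)) (BT.node 1767 (BT.leaf cJ1767) (BT.leaf cJ1768))) (BT.node 1770 (BT.node 1769 (BT.leaf cJ1769) (BT.leaf cJ1770)) (BT.node 1771 (BT.leaf cJ1771) (BT.leaf cJ1772)))) (BT.node 1777 (BT.node 1775 (BT.node 1774 (BT.node 1773 (BT.leaf cJ1773) (BT.leaf cJ1774)) (BT.leaf cJ1775)) (BT.node 1776 (BT.leaf cJ1776) (BT.leaf cJ1777))) (BT.node 1779 (BT.node 1778 (BT.leaf cJ1778) (BT.leaf cJ1779)) (BT.node 1780 (BT.leaf cJ1780) (BT.leaf cJ1781))))))) (BT.node 1817 (BT.node 1799 (BT.node 1790 (BT.node 1786 (BT.node 1784 (BT.node 1783 (BT.node 1782 (BT.leaf cJ1782) (BT.leaf cJ1783)) (BT.leaf cJ1784)) (BT.node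 1785 (BT.leaf cJ1785) (BT.leaf cJ1786))) (BT.node 1788 (BT.node 1787 (BT.leaf cJ1787) (BT.leaf cJ1788)) (BT.node 1789 (BT.leaf cJ1789) (BT.leaf cJ1790)))) (BT.node 1795 (BT.node 1793 (BT.node 1792 (BT.node 1791 (BT.leaf cJ1791) (BT.leaf cJ1792)) (BT.leaf cJ1793)) (BT.node 1794 (BT.leaf cJ1794) (BT.leaf cJ1795))) (BT.node 1797 (BT.node 1796 (BT.leaf cJ1796) (BT.leaf cJ1797)) (BT.node 1798 (BT.leaf cJ1798) (BT.leaf cJ1799))))) (BT.node 1808 (BT.node 1804 (BT.node 1802 (BT.node 1801 (BT.node 1800 (BT.leaf cJ1800) (BT.leaf cJ1801)) (BT.leaf cJ1802)) (BT.node 1803 (BT.leaf cJ1803) (BT.leaf cJ1804))) (BT.node 1806 (BT.node 1805 (BT.leaf cJ1805) (BT.leaf cJ1806)) (BT.node 1807 (BT.leaf cJ1807) (BT.leaf cJ1808)))) (BT.node 1813 (BT.node 1811 (BT.node 1810 (BT.node 1809 (BT.leaf cJ1809) (BT.leaf cJ1810)) (BT.leaf cJ1811)) (BT.node 1812 (BT.leaf cJ1812) (BT.leaf cJ1813)))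 (BT.node 1815 (BT.node 1814 (BT.leaf cJ1814) (BT.leaf cJ1815)) (BT.node 1816 (BT.leaf cJ1816) (BT.leaf cJ1817)))))) (BT.node 1835 (BT.node 1826 (BT.node 1822 (BT.node 1820 (BT.node 1819 (BT.node 1818 (BT.leaf cJ1818) (BT.leaf cJ1819)) (BT.leaf cJ1820)) (BT.node 1821 (BT.leaf cJ1821) (BT.leaf cJ1822))) (BT.node 1824 (BT.node 1823 (BT.leaf cJ1823) (BT.leaf cJ1824)) (BT.node 1825 (BT.leaf cJ1825) (BT.leaf cJ1826)))) (BT.node 1831 (BT.node 1829 (BT.node 1828 (BT.node 1827 (BT.leaf cJ1827) (BT.leaf cJ1828)) (BT.leaf cJ1829)) (BT.node 1830 (BT.leaf cJ1830) (BT.leaf cJ1831))) (BT.node 1833 (BT.node 1832 (BT.leaf cJ1832) (BT.leaf cJ1833)) (BT.node 1834 (BT.leaf cJ1834) (BT.leaf cJ1835))))) (BT.node 1844 (BT.node 1840 (BT.node 1838 (BT.node 1837 (BT.node 1836 (BT.leaf cJ1836) (BT.leaf cJ1837)) (BT.leaf cJ1838)) (BT.node 1839 (BT.leaf cJ1839) (BT.leaf cJ1840))) (BT.node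 1842 (BT.node 1841 (BT.leaf cJ1841) (BT.leaf cJ1842)) (BT.node 1843 (BT.leaf cJ1843) (BT.leaf cJ1844)))) (BT.node 1848 (BT.node 1846 (BT.node 1845 (BT.leaf cJ1845) (BT.leaf cJ1846)) (BT.node 1847 (BT.leaf cJ1847) (BT.leaf cJ1848))) (BT.node 1850 (BT.node 1849 (BT.leaf cJ1849) (BT.leaf cJ1850)) (BT.node 1851 (BT.leaf cJ1851) (BT.leaf cJ1852)))))))) (BT.node 1923 (BT.node 1888 (BT.node 1870 (BT.node 1861 (BT.node 1857 (BT.node 1855 (BT.node 1854 (BT.node 1853 (BT.leaf cJ1853) (BT.leaf cJ1854)) (BT.leaf cJ1855)) (BT.node 1856 (BT.leaf cJ1856) (BT.leaf cJ1857))) (BT.node 1859 (BT.node 1858 (BT.leaf cJ1858) (BT.leaf cJ1859)) (BT.node 1860 (BT.leaf cJ1860) (BT.leaf cJ1861)))) (BT.node 1866 (BT.node 1864 (BT.node 1863 (BT.node 1862 (BT.leaf cJ1862) (BT.leaf cJ1863)) (BT.leaf cJ1864)) (BT.node 1865 (BT.leaf cJ1865) (BT.leaf cJ1866))) (BT.node 1868 (BT.node 1867 (BT.leaf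 cJ1867) (BT.leaf cJ1868)) (BT.node 1869 (BT.leaf cJ1869) (BT.leaf cJ1870))))) (BT.node 1879 (BT.node 1875 (BT.node 1873 (BT.node 1872 (BT.node 1871 (BT.leaf cJ1871) (BT.leaf cJ1872)) (BT.leaf cJ1873)) (BT.node 1874 (BT.leaf cJ1874) (BT.leaf cJ1875))) (BT.node 1877 (BT.node 1876 (BT.leaf cJ1876) (BT.leaf cJ1877)) (BT.node 1878 (BT.leaf cJ1878) (BT.leaf cJ1879)))) (BT.node 1884 (BT.node 1882 (BT.node 1881 (BT.node 1880 (BT.leaf cJ1880) (BT.leaf cJ1881)) (BT.leaf cJ1882)) (BT.node 1883 (BT.leaf cJ1883) (BT.leaf cJ1884))) (BT.node 1886 (BT.node 1885 (BT.leaf cJ1885) (BT.leaf cJ1886)) (BT.node 1887 (BT.leaf cJ1887) (BT.leaf cJ1888)))))) (BT.node 1906 (BT.node 1897 (BT.node 1893 (BT.node 1891 (BT.node 1890 (BT.node 1889 (BT.leaf cJ1889) (BT.leaf cJ1890)) (BT.leaf cJ1891)) (BT.node 1892 (BT.leaf cJ1892) (BT.leaf cJ1893))) (BT.node 1895 (BT.node 1894 (BT.leaf cJ1894)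 (BT.leaf cJ1895)) (BT.node 1896 (BT.leaf cJ1896) (BT.leaf cJ1897)))) (BT.node 1902 (BT.node 1900 (BT.node 1899 (BT.node 1898 (BT.leaf cJ1898) (BT.leaf cJ1899)) (BT.leaf cJ1900)) (BT.node 1901 (BT.leaf cJ1901) (BT.leaf cJ1902))) (BT.node 1904 (BT.node 1903 (BT.leaf cJ1903) (BT.leaf cJ1904)) (BT.node 1905 (BT.leaf cJ1905) (BT.leaf cJ1906))))) (BT.node 1915 (BT.node 1911 (BT.node 1909 (BT.node 1908 (BT.node 1907 (BT.leaf cJ1907) (BT.leaf cJ1908)) (BT.leaf cJ1909)) (BT.node 1910 (BT.leaf cJ1910) (BT.leaf cJ1911))) (BT.node 1913 (BT.node 1912 (BT.leaf cJ1912) (BT.leaf cJ1913)) (BT.node 1914 (BT.leaf cJ1914) (BT.leaf cJ1915)))) (BT.node 1919 (BT.node 1917 (BT.node 1916 (BT.leaf cJ1916) (BT.leaf cJ1917)) (BT.node 1918 (BT.leaf cJ1918) (BT.leaf cJ1919))) (BT.node 1921 (BT.node 1920 (BT.leaf cJ1920) (BT.leaf cJ1921)) (BT.node 1922 (BT.leaf cJ1922) (BT.leaf cJ1923)))))))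 (BT.node 1959 (BT.node 1941 (BT.node 1932 (BT.node 1928 (BT.node 1926 (BT.node 1925 (BT.node 1924 (BT.leaf cJ1924) (BT.leaf cJ1925)) (BT.leaf cJ1926)) (BT.node 1927 (BT.leaf cJ1927) (BT.leaf cJ1928))) (BT.node 1930 (BT.node 1929 (BT.leaf cJ1929) (BT.leaf cJ1930)) (BT.node 1931 (BT.leaf cJ1931) (BT.leaf cJ1932)))) (BT.node 1937 (BT.node 1935 (BT.node 1934 (BT.node 1933 (BT.leaf cJ1933) (BT.leaf cJ1934)) (BT.leaf cJ1935)) (BT.node 1936 (BT.leaf cJ1936) (BT.leaf cJ1937))) (BT.node 1939 (BT.node 1938 (BT.leaf cJ1938) (BT.leaf cJ1939)) (BT.node 1940 (BT.leaf cJ1940) (BT.leaf cJ1941))))) (BT.node 1950 (BT.node 1946 (BT.node 1944 (BT.node 1943 (BT.node 1942 (BT.leaf cJ1942) (BT.leaf cJ1943)) (BT.leaf cJ1944)) (BT.node 1945 (BT.leaf cJ1945) (BT.leaf cJ1946))) (BT.node 1948 (BT.node 1947 (BT.leaf cJ1947) (BT.leaf cJ1948)) (BT.node 1949 (BT.leaf cJ1949) (BT.leaf cJ1950))))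 (BT.node 1955 (BT.node 1953 (BT.node 1952 (BT.node 1951 (BT.leaf cJ1951) (BT.leaf cJ1952)) (BT.leaf cJ1953)) (BT.node 1954 (BT.leaf cJ1954) (BT.leaf cJ1955))) (BT.node 1957 (BT.node 1956 (BT.leaf cJ1956) (BT.leaf cJ1957)) (BT.node 1958 (BT.leaf cJ1958) (BT.leaf cJ1959)))))) (BT.node 1977 (BT.node 1968 (BT.node 1964 (BT.node 1962 (BT.node 1961 (BT.node 1960 (BT.leaf cJ1960) (BT.leaf cJ1961)) (BT.leaf cJ1962)) (BT.node 1963 (BT.leaf cJ1963) (BT.leaf cJ1964))) (BT.node 1966 (BT.node 1965 (BT.leaf cJ1965) (BT.leaf cJ1966)) (BT.node 1967 (BT.leaf cJ1967) (BT.leaf cJ1968)))) (BT.node 1973 (BT.node 1971 (BT.node 1970 (BT.node 1969 (BT.leaf cJ1969) (BT.leaf cJ1970)) (BT.leaf cJ1971)) (BT.node 1972 (BT.leaf cJ1972) (BT.leaf cJ1973))) (BT.node 1975 (BT.node 1974 (BT.leaf cJ1974) (BT.leaf cJ1975)) (BT.node 1976 (BT.leaf cJ1976) (BT.leaf cJ1977))))) (BT.node 1986 (BT.node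 1982 (BT.node 1980 (BT.node 1979 (BT.node 1978 (BT.leaf cJ1978) (BT.leaf cJ1979)) (BT.leaf cJ1980)) (BT.node 1981 (BT.leaf cJ1981) (BT.leaf cJ1982))) (BT.node 1984 (BT.node 1983 (BT.leaf cJ1983) (BT.leaf cJ1984)) (BT.node 1985 (BT.leaf cJ1985) (BT.leaf cJ1986)))) (BT.node 1990 (BT.node 1988 (BT.node 1987 (BT.leaf cJ1987) (BT.leaf cJ1988)) (BT.node 1989 (BT.leaf cJ1989) (BT.leaf cJ1990))) (BT.node 1992 (BT.node 1991 (BT.leaf cJ1991) (BT.leaf cJ1992)) (BT.node 1993 (BT.leaf cJ1993) (BT.leaf cJ1994))))))))) (BT.node 2137 (BT.node 2066 (BT.node 2030 (BT.node 2012 (BT.node 2003 (BT.node 1999 (BT.node 1997 (BT.node 1996 (BT.node 1995 (BT.leaf cJ1995) (BT.leaf cJ1996)) (BT.leaf cJ1997)) (BT.node 1998 (BT.leaf cJ1998) (BT.leaf cJ1999))) (BT.node 2001 (BT.node 2000 (BT.leaf cJ2000) (BT.leaf cJ2001)) (BT.node 2002 (BT.leaf cJ2002) (BT.leaf cJ2003)))) (BT.node 2008 (BT.node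 2006 (BT.node 2005 (BT.node 2004 (BT.leaf cJ2004) (BT.leaf cJ2005)) (BT.leaf cJ2006)) (BT.node 2007 (BT.leaf cJ2007) (BT.leaf cJ2008))) (BT.node 2010 (BT.node 2009 (BT.leaf cJ2009) (BT.leaf cJ2010)) (BT.node 2011 (BT.leaf cJ2011) (BT.leaf cJ2012))))) (BT.node 2021 (BT.node 2017 (BT.node 2015 (BT.node 2014 (BT.node 2013 (BT.leaf cJ2013) (BT.leaf cJ2014)) (BT.leaf cJ2015)) (BT.node 2016 (BT.leaf cJ2016) (BT.leaf cJ2017))) (BT.node 2019 (BT.node 2018 (BT.leaf cJ2018) (BT.leaf cJ2019)) (BT.node 2020 (BT.leaf cJ2020) (BT.leaf cJ2021)))) (BT.node 2026 (BT.node 2024 (BT.node 2023 (BT.node 2022 (BT.leaf cJ2022) (BT.leaf cJ2023)) (BT.leaf cJ2024)) (BT.node 2025 (BT.leaf cJ2025) (BT.leaf cJ2026))) (BT.node 2028 (BT.node 2027 (BT.leaf cJ2027) (BT.leaf cJ2028)) (BT.node 2029 (BT.leaf cJ2029) (BT.leaf cJ2030)))))) (BT.node 2048 (BT.node 2039 (BT.node 2035 (BT.node 2033 (BT.node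 2032 (BT.node 2031 (BT.leaf cJ2031) (BT.leaf cJ2032)) (BT.leaf cJ2033)) (BT.node 2034 (BT.leaf cJ2034) (BT.leaf cJ2035))) (BT.node 2037 (BT.node 2036 (BT.leaf cJ2036) (BT.leaf cJ2037)) (BT.node 2038 (BT.leaf cJ2038) (BT.leaf cJ2039)))) (BT.node 2044 (BT.node 2042 (BT.node 2041 (BT.node 2040 (BT.leaf cJ2040) (BT.leaf cJ2041)) (BT.leaf cJ2042)) (BT.node 2043 (BT.leaf cJ2043) (BT.leaf cJ2044))) (BT.node 2046 (BT.node 2045 (BT.leaf cJ2045) (BT.leaf cJ2046)) (BT.node 2047 (BT.leaf cJ2047) (BT.leaf cJ2048))))) (BT.node 2057 (BT.node 2053 (BT.node 2051 (BT.node 2050 (BT.node 2049 (BT.leaf cJ2049) (BT.leaf cJ2050)) (BT.leaf cJ2051)) (BT.node 2052 (BT.leaf cJ2052) (BT.leaf cJ2053))) (BT.node 2055 (BT.node 2054 (BT.leaf cJ2054) (BT.leaf cJ2055)) (BT.node 2056 (BT.leaf cJ2056) (BT.leaf cJ2057)))) (BT.node 2062 (BT.node 2060 (BT.node 2059 (BT.node 2058 (BT.leaf cJ2058)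 (BT.leaf cJ2059)) (BT.leaf cJ2060)) (BT.node 2061 (BT.leaf cJ2061) (BT.leaf cJ2062))) (BT.node 2064 (BT.node 2063 (BT.leaf cJ2063) (BT.leaf cJ2064)) (BT.node 2065 (BT.leaf cJ2065) (BT.leaf cJ2066))))))) (BT.node 2102 (BT.node 2084 (BT.node 2075 (BT.node 2071 (BT.node 2069 (BT.node 2068 (BT.node 2067 (BT.leaf cJ2067) (BT.leaf cJ2068)) (BT.leaf cJ2069)) (BT.node 2070 (BT.leaf cJ2070) (BT.leaf cJ2071))) (BT.node 2073 (BT.node 2072 (BT.leaf cJ2072) (BT.leaf cJ2073)) (BT.node 2074 (BT.leaf cJ2074) (BT.leaf cJ2075)))) (BT.node 2080 (BT.node 2078 (BT.node 2077 (BT.node 2076 (BT.leaf cJ2076) (BT.leaf cJ2077)) (BT.leaf cJ2078)) (BT.node 2079 (BT.leaf cJ2079) (BT.leaf cJ2080))) (BT.node 2082 (BT.node 2081 (BT.leaf cJ2081) (BT.leaf cJ2082)) (BT.node 2083 (BT.leaf cJ2083) (BT.leaf cJ2084))))) (BT.node 2093 (BT.node 2089 (BT.node 2087 (BT.node 2086 (BT.node 2085 (BT.leaf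 cJ2085) (BT.leaf cJ2086)) (BT.leaf cJ2087)) (BT.node 2088 (BT.leaf cJ2088) (BT.leaf cJ2089))) (BT.node 2091 (BT.node 2090 (BT.leaf cJ2090) (BT.leaf cJ2091)) (BT.node 2092 (BT.leaf cJ2092) (BT.leaf cJ2093)))) (BT.node 2098 (BT.node 2096 (BT.node 2095 (BT.node 2094 (BT.leaf cJ2094) (BT.leaf cJ2095)) (BT.leaf cJ2096)) (BT.node 2097 (BT.leaf cJ2097) (BT.leaf cJ2098))) (BT.node 2100 (BT.node 2099 (BT.leaf cJ2099) (BT.leaf cJ2100)) (BT.node 2101 (BT.leaf cJ2101) (BT.leaf cJ2102)))))) (BT.node 2120 (BT.node 2111 (BT.node 2107 (BT.node 2105 (BT.node 2104 (BT.node 2103 (BT.leaf cJ2103) (BT.leaf cJ2104)) (BT.leaf cJ2105)) (BT.node 2106 (BT.leaf cJ2106) (BT.leaf cJ2107))) (BT.node 2109 (BT.node 2108 (BT.leaf cJ2108) (BT.leaf cJ2109)) (BT.node 2110 (BT.leaf cJ2110) (BT.leaf cJ2111)))) (BT.node 2116 (BT.node 2114 (BT.node 2113 (BT.node 2112 (BT.leaf cJ2112) (BT.leaf cJ2113))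 (BT.leaf cJ2114)) (BT.node 2115 (BT.leaf cJ2115) (BT.leaf cJ2116))) (BT.node 2118 (BT.node 2117 (BT.leaf cJ2117) (BT.leaf cJ2118)) (BT.node 2119 (BT.leaf cJ2119) (BT.leaf cJ2120))))) (BT.node 2129 (BT.node 2125 (BT.node 2123 (BT.node 2122 (BT.node 2121 (BT.leaf cJ2121) (BT.leaf cJ2122)) (BT.leaf cJ2123)) (BT.node 2124 (BT.leaf cJ2124) (BT.leaf cJ2125))) (BT.node 2127 (BT.node 2126 (BT.leaf cJ2126) (BT.leaf cJ2127)) (BT.node 2128 (BT.leaf cJ2128) (BT.leaf cJ2129)))) (BT.node 2133 (BT.node 2131 (BT.node 2130 (BT.leaf cJ2130) (BT.leaf cJ2131)) (BT.node 2132 (BT.leaf cJ2132) (BT.leaf cJ2133))) (BT.node 2135 (BT.node 2134 (BT.leaf cJ2134) (BT.leaf cJ2135)) (BT.node 2136 (BT.leaf cJ2136) (BT.leaf cJ2137)))))))) (BT.node 2208 (BT.node 2173 (BT.node 2155 (BT.node 2146 (BT.node 2142 (BT.node 2140 (BT.node 2139 (BT.node 2138 (BT.leaf cJ2138) (BT.leaf cJ2139)) (BT.leaf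 cJ2140)) (BT.node 2141 (BT.leaf cJ2141) (BT.leaf cJ2142))) (BT.node 2144 (BT.node 2143 (BT.leaf cJ2143) (BT.leaf cJ2144)) (BT.node 2145 (BT.leaf cJ2145) (BT.leaf cJ2146)))) (BT.node 2151 (BT.node 2149 (BT.node 2148 (BT.node 2147 (BT.leaf cJ2147) (BT.leaf cJ2148)) (BT.leaf cJ2149)) (BT.node 2150 (BT.leaf cJ2150) (BT.leaf cJ2151))) (BT.node 2153 (BT.node 2152 (BT.leaf cJ2152) (BT.leaf cJ2153)) (BT.node 2154 (BT.leaf cJ2154) (BT.leaf cJ2155))))) (BT.node 2164 (BT.node 2160 (BT.node 2158 (BT.node 2157 (BT.node 2156 (BT.leaf cJ2156) (BT.leaf cJ2157)) (BT.leaf cJ2158)) (BT.node 2159 (BT.leaf cJ2159) (BT.leaf cJ2160))) (BT.node 2162 (BT.node 2161 (BT.leaf cJ2161) (BT.leaf cJ2162)) (BT.node 2163 (BT.leaf cJ2163) (BT.leaf cJ2164)))) (BT.node 2169 (BT.node 2167 (BT.node 2166 (BT.node 2165 (BT.leaf cJ2165) (BT.leaf cJ2166)) (BT.leaf cJ2167)) (BT.node 2168 (BT.leaf cJ2168)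 (BT.leaf cJ2169))) (BT.node 2171 (BT.node 2170 (BT.leaf cJ2170) (BT.leaf cJ2171)) (BT.node 2172 (BT.leaf cJ2172) (BT.leaf cJ2173)))))) (BT.node 2191 (BT.node 2182 (BT.node 2178 (BT.node 2176 (BT.node 2175 (BT.node 2174 (BT.leaf cJ2174) (BT.leaf cJ2175)) (BT.leaf cJ2176)) (BT.node 2177 (BT.leaf cJ2177) (BT.leaf cJ2178))) (BT.node 2180 (BT.node 2179 (BT.leaf cJ2179) (BT.leaf cJ2180)) (BT.node 2181 (BT.leaf cJ2181) (BT.leaf cJ2182)))) (BT.node 2187 (BT.node 2185 (BT.node 2184 (BT.node 2183 (BT.leaf cJ2183) (BT.leaf cJ2184)) (BT.leaf cJ2185)) (BT.node 2186 (BT.leaf cJ2186) (BT.leaf cJ2187))) (BT.node 2189 (BT.node 2188 (BT.leaf cJ2188) (BT.leaf cJ2189)) (BT.node 2190 (BT.leaf cJ2190) (BT.leaf cJ2191))))) (BT.node 2200 (BT.node 2196 (BT.node 2194 (BT.node 2193 (BT.node 2192 (BT.leaf cJ2192) (BT.leaf cJ2193)) (BT.leaf cJ2194)) (BT.node 2195 (BT.leaf cJ2195) (BT.leaf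 cJ2196))) (BT.node 2198 (BT.node 2197 (BT.leaf cJ2197) (BT.leaf cJ2198)) (BT.node 2199 (BT.leaf cJ2199) (BT.leaf cJ2200)))) (BT.node 2204 (BT.node 2202 (BT.node 2201 (BT.leaf cJ2201) (BT.leaf cJ2202)) (BT.node 2203 (BT.leaf cJ2203) (BT.leaf cJ2204))) (BT.node 2206 (BT.node 2205 (BT.leaf cJ2205) (BT.leaf cJ2206)) (BT.node 2207 (BT.leaf cJ2207) (BT.leaf cJ2208))))))) (BT.node 2244 (BT.node 2226 (BT.node 2217 (BT.node 2213 (BT.node 2211 (BT.node 2210 (BT.node 2209 (BT.leaf cJ2209) (BT.leaf cJ2210)) (BT.leaf cJ2211)) (BT.node 2212 (BT.leaf cJ2212) (BT.leaf cJ2213))) (BT.node 2215 (BT.node 2214 (BT.leaf cJ2214) (BT.leaf cJ2215)) (BT.node 2216 (BT.leaf cJ2216) (BT.leaf cJ2217)))) (BT.node 2222 (BT.node 2220 (BT.node 2219 (BT.node 2218 (BT.leaf cJ2218) (BT.leaf cJ2219)) (BT.leaf cJ2220)) (BT.node 2221 (BT.leaf cJ2221) (BT.leaf cJ2222))) (BT.node 2224 (BT.node 2223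 (BT.leaf cJ2223) (BT.leaf cJ2224)) (BT.node 2225 (BT.leaf cJ2225) (BT.leaf cJ2226))))) (BT.node 2235 (BT.node 2231 (BT.node 2229 (BT.node 2228 (BT.node 2227 (BT.leaf cJ2227) (BT.leaf cJ2228)) (BT.leaf cJ2229)) (BT.node 2230 (BT.leaf cJ2230) (BT.leaf cJ2231))) (BT.node 2233 (BT.node 2232 (BT.leaf cJ2232) (BT.leaf cJ2233)) (BT.node 2234 (BT.leaf cJ2234) (BT.leaf cJ2235)))) (BT.node 2240 (BT.node 2238 (BT.node 2237 (BT.node 2236 (BT.leaf cJ2236) (BT.leaf cJ2237)) (BT.leaf cJ2238)) (BT.node 2239 (BT.leaf cJ2239) (BT.leaf cJ2240))) (BT.node 2242 (BT.node 2241 (BT.leaf cJ2241) (BT.leaf cJ2242)) (BT.node 2243 (BT.leaf cJ2243) (BT.leaf cJ2244)))))) (BT.node 2262 (BT.node 2253 (BT.node 2249 (BT.node 2247 (BT.node 2246 (BT.node 2245 (BT.leaf cJ2245) (BT.leaf cJ2246)) (BT.leaf cJ2247)) (BT.node 2248 (BT.leaf cJ2248) (BT.leaf cJ2249))) (BT.node 2251 (BT.node 2250 (BT.leaf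 cJ2250) (BT.leaf cJ2251)) (BT.node 2252 (BT.leaf cJ2252) (BT.leaf cJ2253)))) (BT.node 2258 (BT.node 2256 (BT.node 2255 (BT.node 2254 (BT.leaf cJ2254) (BT.leaf cJ2255)) (BT.leaf cJ2256)) (BT.node 2257 (BT.leaf cJ2257) (BT.leaf cJ2258))) (BT.node 2260 (BT.node 2259 (BT.leaf cJ2259) (BT.leaf cJ2260)) (BT.node 2261 (BT.leaf cJ2261) (BT.leaf cJ2262))))) (BT.node 2271 (BT.node 2267 (BT.node 2265 (BT.node 2264 (BT.node 2263 (BT.leaf cJ2263) (BT.leaf cJ2264)) (BT.leaf cJ2265)) (BT.node 2266 (BT.leaf cJ2266) (BT.leaf cJ2267))) (BT.node 2269 (BT.node 2268 (BT.leaf cJ2268) (BT.leaf cJ2269)) (BT.node 2270 (BT.leaf cJ2270) (BT.leaf cJ2271)))) (BT.node 2275 (BT.node 2273 (BT.node 2272 (BT.leaf cJ2272) (BT.leaf cJ2273)) (BT.node 2274 (BT.leaf cJ2274) (BT.leaf cJ2275))) (BT.node 2277 (BT.node 2276 (BT.leaf cJ2276) (BT.leaf cJ2277)) (BT.node 2278 (BT.leaf cJ2278) (BT.leaf cJ2279))))))))))))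
/-- parent chunks -/
def parCT : BT ℕ := (BT.node 75 (BT.node 37 (BT.node 18 (BT.node 9 (BT.node 4 (BT.node 2 (BT.node 1 (BT.node 0 (BT.leaf cP0) (BT.leaf cP1)) (BT.leaf cP2)) (BT.node 3 (BT.leaf cP3) (BT.leaf cP4))) (BT.node 7 (BT.node 6 (BT.node 5 (BT.leaf cP5) (BT.leaf cP6)) (BT.leaf cP7)) (BT.node 8 (BT.leaf cP8) (BT.leaf cP9)))) (BT.node 14 (BT.node 12 (BT.node 11 (BT.node 10 (BT.leaf cP10) (BT.leaf cP11)) (BT.leaf cP12)) (BT.node 13 (BT.leaf cP13) (BT.leaf cP14))) (BT.node 16 (BT.node 15 (BT.leaf cP15) (BT.leaf cP16)) (BT.node 17 (BT.leaf cP17) (BT.leaf cP18))))) (BT.node 28 (BT.node 23 (BT.node 21 (BT.node 20 (BT.node 19 (BT.leaf cP19) (BT.leaf cP20)) (BT.leaf cP21)) (BT.node 22 (BT.leaf cP22) (BT.leaf cP23))) (BT.node 26 (BT.node 25 (BT.node 24 (BT.leaf cP24) (BT.leaf cP25)) (BT.leaf cP26)) (BT.node 27 (BT.leaf cP27) (BT.leaf cP28)))) (BT.node 33 (BT.node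 31 (BT.node 30 (BT.node 29 (BT.leaf cP29) (BT.leaf cP30)) (BT.leaf cP31)) (BT.node 32 (BT.leaf cP32) (BT.leaf cP33))) (BT.node 35 (BT.node 34 (BT.leaf cP34) (BT.leaf cP35)) (BT.node 36 (BT.leaf cP36) (BT.leaf cP37)))))) (BT.node 56 (BT.node 47 (BT.node 42 (BT.node 40 (BT.node 39 (BT.node 38 (BT.leaf cP38) (BT.leaf cP39)) (BT.leaf cP40)) (BT.node 41 (BT.leaf cP41) (BT.leaf cP42))) (BT.node 45 (BT.node 44 (BT.node 43 (BT.leaf cP43) (BT.leaf cP44)) (BT.leaf cP45)) (BT.node 46 (BT.leaf cP46) (BT.leaf cP47)))) (BT.node 52 (BT.node 50 (BT.node 49 (BT.node 48 (BT.leaf cP48) (BT.leaf cP49)) (BT.leaf cP50)) (BT.node 51 (BT.leaf cP51) (BT.leaf cP52))) (BT.node 54 (BT.node 53 (BT.leaf cP53) (BT.leaf cP54)) (BT.node 55 (BT.leaf cP55) (BT.leaf cP56))))) (BT.node 66 (BT.node 61 (BT.node 59 (BT.node 58 (BT.node 57 (BT.leaf cP57) (BT.leaf cP58)) (BT.leaf cP59)) (BT.node 60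 (BT.leaf cP60) (BT.leaf cP61))) (BT.node 64 (BT.node 63 (BT.node 62 (BT.leaf cP62) (BT.leaf cP63)) (BT.leaf cP64)) (BT.node 65 (BT.leaf cP65) (BT.leaf cP66)))) (BT.node 71 (BT.node 69 (BT.node 68 (BT.node 67 (BT.leaf cP67) (BT.leaf cP68)) (BT.leaf cP69)) (BT.node 70 (BT.leaf cP70) (BT.leaf cP71))) (BT.node 73 (BT.node 72 (BT.leaf cP72) (BT.leaf cP73)) (BT.node 74 (BT.leaf cP74) (BT.leaf cP75))))))) (BT.node 113 (BT.node 94 (BT.node 85 (BT.node 80 (BT.node 78 (BT.node 77 (BT.node 76 (BT.leaf cP76) (BT.leaf cP77)) (BT.leaf cP78)) (BT.node 79 (BT.leaf cP79) (BT.leaf cP80))) (BT.node 83 (BT.node 82 (BT.node 81 (BT.leaf cP81) (BT.leaf cP82)) (BT.leaf cP83)) (BT.node 84 (BT.leaf cP84) (BT.leaf cP85)))) (BT.node 90 (BT.node 88 (BT.node 87 (BT.node 86 (BT.leaf cP86) (BT.leaf cP87)) (BT.leaf cP88)) (BT.node 89 (BT.leaf cP89) (BT.leaf cP90))) (BT.node 92 (BT.node 91 (BT.leaf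 cP91) (BT.leaf cP92)) (BT.node 93 (BT.leaf cP93) (BT.leaf cP94))))) (BT.node 104 (BT.node 99 (BT.node 97 (BT.node 96 (BT.node 95 (BT.leaf cP95) (BT.leaf cP96)) (BT.leaf cP97)) (BT.node 98 (BT.leaf cP98) (BT.leaf cP99))) (BT.node 102 (BT.node 101 (BT.node 100 (BT.leaf cP100) (BT.leaf cP101)) (BT.leaf cP102)) (BT.node 103 (BT.leaf cP103) (BT.leaf cP104)))) (BT.node 109 (BT.node 107 (BT.node 106 (BT.node 105 (BT.leaf cP105) (BT.leaf cP106)) (BT.leaf cP107)) (BT.node 108 (BT.leaf cP108) (BT.leaf cP109))) (BT.node 111 (BT.node 110 (BT.leaf cP110) (BT.leaf cP111)) (BT.node 112 (BT.leaf cP112) (BT.leaf cP113)))))) (BT.node 132 (BT.node 123 (BT.node 118 (BT.node 116 (BT.node 115 (BT.node 114 (BT.leaf cP114) (BT.leaf cP115)) (BT.leaf cP116)) (BT.node 117 (BT.leaf cP117) (BT.leaf cP118))) (BT.node 121 (BT.node 120 (BT.node 119 (BT.leaf cP119) (BT.leaf cP120)) (BT.leaf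 cP121)) (BT.node 122 (BT.leaf cP122) (BT.leaf cP123)))) (BT.node 128 (BT.node 126 (BT.node 125 (BT.node 124 (BT.leaf cP124) (BT.leaf cP125)) (BT.leaf cP126)) (BT.node 127 (BT.leaf cP127) (BT.leaf cP128))) (BT.node 130 (BT.node 129 (BT.leaf cP129) (BT.leaf cP130)) (BT.node 131 (BT.leaf cP131) (BT.leaf cP132))))) (BT.node 142 (BT.node 137 (BT.node 135 (BT.node 134 (BT.node 133 (BT.leaf cP133) (BT.leaf cP134)) (BT.leaf cP135)) (BT.node 136 (BT.leaf cP136) (BT.leaf cP137))) (BT.node 140 (BT.node 139 (BT.node 138 (BT.leaf cP138) (BT.leaf cP139)) (BT.leaf cP140)) (BT.node 141 (BT.leaf cP141) (BT.leaf cP142)))) (BT.node 147 (BT.node 145 (BT.node 144 (BT.node 143 (BT.leaf cP143) (BT.leaf cP144)) (BT.leaf cP145)) (BT.node 146 (BT.leaf cP146) (BT.leaf cP147))) (BT.node 149 (BT.node 148 (BT.leaf cP148) (BT.leaf cP149)) (BT.node 150 (BT.leaf cP150) (BT.leaf cP151))))))))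
/-- the certificate -/
def data : Data where
  k := 14
  N := 77370
  W := 36
  MW := 68719476736
  B := 131072
  CH := 512
  NCH := 152
  colE := colET
  JW := 64
  MJ := 18446744073709551616
  A := 1048576
  colJ := colJT
  PW := 27
  MP := 134217728
  parC := parCT
  inv := (BT.node 7 (BT.node 3 (BT.node 1 (BT.node 0 (BT.leaf 1) (BT.leaf 0)) (BT.node 2 (BT.leaf 3) (BT.leaf 2))) (BT.node 5 (BT.node 4 (BT.leaf 5) (BT.leaf 4)) (BT.node 6 (BT.leaf 7) (BT.leaf 6)))) (BT.node 11 (BT.node 9 (BT.node 8 (BT.leaf 9) (BT.leaf 8)) (BT.node 10 (BT.leaf 11) (BT.leaf 10))) (BT.node 13 (BT.node 12 (BT.leaf 13) (BT.leaf 12)) (BT.leaf 14))))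
  rel := relT
  sub := subT
  fuel := 64

end Cfsg.Agent.Lib.Helper3.Cover.PF22Data
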