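import Cfsg.Agent.Lib.Helper28.TC2Range
import Cfsg.Agent.Lib.Helper3.Cover.PF22Data
import Cfsg.Agent.Lib.Helper3.Cover.PF22Table
set_option autoImplicit false
set_option maxRecDepth 100000
set_option maxHeartbeats 0

namespace Cfsg.Agent.Lib.Helper3.Cover.PF22M3
open Cfsg.Agent.Lib.Helper28.TC2Upper Cfsg.Agent.Lib.Helper28.TC2Lower Cfsg.Agent.Lib.Helper28.TC2Range Cfsg.Agent.Lib.Helper3.Cover.PF22Data Cfsg.Agent.Lib.Helper3.Cover.PF22Table

theorem cnt2 : Data.countFrom data 12000 6000 = 274 := by decide +kernel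
theorem cnt3 : Data.countFrom data 18000 6000 = 71 := by decide +kernel
theorem cnt4 : Data.countFrom data 24000 6000 = 19 := by decide +kernel
theorem cnt5 : Data.countFrom data 30000 6000 = 10 := by decide +kernel
theorem cnt6 : Data.countFrom data 36000 6000 = 8 := by decide +kernel

end Cfsg.Agent.Lib.Helper3.Cover.PF22M3
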