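import Cfsg.Agent.Lib.Helper3.Cover.PF22Data
set_option autoImplicit false
set_option maxRecDepth 100000
set_option maxHeartbeats 0

namespace Cfsg.Agent.Lib.Helper3.Cover.PF22U12
open Cfsg.Agent.Lib.Helper28.TC2Upper Cfsg.Agent.Lib.Helper3.Cover.PF22Data

theorem chk60 : data.checkRange 64532 1615 = true := by decide +kernel
theorem chk61 : data.checkRange 66147 1610 = true := by decide +kernel
theorem chk62 : data.checkRange 67757 1704 = true := by decide +kernel
theorem chk63 : data.checkRange 69461 1610 = true := by decide +kernel
theorem chk64 : data.checkRange 71071 1611 = true := by decide +kernel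

end Cfsg.Agent.Lib.Helper3.Cover.PF22U12
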