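import Cfsg.Agent.Lib.Helper28.TC2GlueOrb
import Cfsg.Agent.Lib.Helper28.TC2Range
import Cfsg.Agent.Lib.Helper3.Cover.PF22Link
import Cfsg.Agent.Lib.Helper3.Cover.PF22M
import Cfsg.Agent.Lib.Helper3.Cover.PF22M0
import Cfsg.Agent.Lib.Helper3.Cover.PF22M1
import Cfsg.Agent.Lib.Helper3.Cover.PF22M2
import Cfsg.Agent.Lib.Helper3.Cover.PF22M3
import Cfsg.Agent.Lib.Helper3.Cover.PF22M4
import Cfsg.Agent.Lib.Helper3.Cover.PF22M5
import Cfsg.Agent.Lib.Helper3.Cover.PF22U0
import Cfsg.Agent.Lib.Helper3.Cover.PF22U1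
import Cfsg.Agent.Lib.Helper3.Cover.PF22U2
import Cfsg.Agent.Lib.Helper3.Cover.PF22U3
import Cfsg.Agent.Lib.Helper3.Cover.PF22U4
import Cfsg.Agent.Lib.Helper3.Cover.PF22U5
import Cfsg.Agent.Lib.Helper3.Cover.PF22U6
import Cfsg.Agent.Lib.Helper3.Cover.PF22U7
import Cfsg.Agent.Lib.Helper3.Cover.PF22U8
import Cfsg.Agent.Lib.Helper3.Cover.PF22U9
import Cfsg.Agent.Lib.Helper3.Cover.PF22U10
import Cfsg.Agent.Lib.Helper3.Cover.PF22U11
import Cfsg.Agent.Lib.Helper3.Cover.PF22U12
import Cfsg.Agent.Lib.Helper3.Cover.PF22U13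
import Cfsg.Agent.Lib.Helper3.Cover.PF22L0

set_option autoImplicit false
set_option maxRecDepth 100000
open Cfsg

namespace Cfsg.Agent.Lib.Helper3.Cover.PF22Main
open Cfsg.Agent.Lib.Helper28.TC2Upper Cfsg.Agent.Lib.Helper28.TC2Lower Cfsg.Agent.Lib.Helper28.TC2Glue Cfsg.Agent.Lib.Helper28.TC2GlueOrb Cfsg.Agent.Lib.Helper28.TC2Orbit Cfsg.Agent.Lib.Helper28.TC2Range
open Cfsg.Agent.Lib.Helper3.Cover.PF22Data Cfsg.Agent.Lib.Helper3.Cover.PF22Table Cfsg.Agent.Lib.Helper3.Cover.PF22Link Cfsg.Agent.Lib.Helper3.Cover.PF22M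

theorem hchk : ∀ v, v < data.N → data.checkNode v = true := by
  intro v hv
  have hv' : v < 77370 := hv
  rcases Nat.lt_or_ge v 447 with h0 | h0
  · exact (data.checkRange_iff 0 447).mp Cfsg.Agent.Lib.Helper3.Cover.PF22U0.chk0 v (by omega) (by omega)
  rcases Nat.lt_or_ge v 937 with h1 | h1
  · exact (data.checkRange_iff 447 490).mp Cfsg.Agent.Lib.Helper3.Cover.PF22U0.chk1 v (by omega) (by omega)
  rcases Nat.lt_or_ge v 1458 with h2 | h2
  · exact (data.checkRange_iff 937 521).mp Cfsg.Agent.Lib.Helper3.Cover.PF22U0.chk2 v (by omega) (by omega)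
  rcases Nat.lt_or_ge v 2040 with h3 | h3
  · exact (data.checkRange_iff 1458 582).mp Cfsg.Agent.Lib.Helper3.Cover.PF22U0.chk3 v (by omega) (by omega)
  rcases Nat.lt_or_ge v 2615 with h4 | h4
  · exact (data.checkRange_iff 2040 575).mp Cfsg.Agent.Lib.Helper3.Cover.PF22U0.chk4 v (by omega) (by omega)
  rcases Nat.lt_or_ge v 3213 with h5 | h5
  · exact (data.checkRange_iff 2615 598).mp Cfsg.Agent.Lib.Helper3.Cover.PF22U1.chk5 v (by omega) (by omega)
  rcases Nat.lt_or_ge v 3777 with h6 | h6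
  · exact (data.checkRange_iff 3213 564).mp Cfsg.Agent.Lib.Helper3.Cover.PF22U1.chk6 v (by omega) (by omega)
  rcases Nat.lt_or_ge v 4337 with h7 | h7
  · exact (data.checkRange_iff 3777 560).mp Cfsg.Agent.Lib.Helper3.Cover.PF22U1.chk7 v (by omega) (by omega)
  rcases Nat.lt_or_ge v 4973 with h8 | h8
  · exact (data.checkRange_iff 4337 636).mp Cfsg.Agent.Lib.Helper3.Cover.PF22U1.chk8 v (by omega) (by omega)
  rcases Nat.lt_or_ge v 5683 with h9 | h9
  · exact (data.checkRange_iff 4973 710).mp Cfsg.Agent.Lib.Helper3.Cover.PF22U1.chk9 v (by omega) (by omega)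
  rcases Nat.lt_or_ge v 6331 with h10 | h10
  · exact (data.checkRange_iff 5683 648).mp Cfsg.Agent.Lib.Helper3.Cover.PF22U2.chk10 v (by omega) (by omega)
  rcases Nat.lt_or_ge v 7076 with h11 | h11
  · exact (data.checkRange_iff 6331 745).mp Cfsg.Agent.Lib.Helper3.Cover.PF22U2.chk11 v (by omega) (by omega)
  rcases Nat.lt_or_ge v 7780 with h12 | h12
  · exact (data.checkRange_iff 7076 704).mp Cfsg.Agent.Lib.Helper3.Cover.PF22U2.chk12 v (by omega) (by omega)
  rcases Nat.lt_or_ge v 8595 with h13 | h13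
  · exact (data.checkRange_iff 7780 815).mp Cfsg.Agent.Lib.Helper3.Cover.PF22U2.chk13 v (by omega) (by omega)
  rcases Nat.lt_or_ge v 9400 with h14 | h14
  · exact (data.checkRange_iff 8595 805).mp Cfsg.Agent.Lib.Helper3.Cover.PF22U2.chk14 v (by omega) (by omega)
  rcases Nat.lt_or_ge v 10238 with h15 | h15
  · exact (data.checkRange_iff 9400 838).mp Cfsg.Agent.Lib.Helper3.Cover.PF22U3.chk15 v (by omega) (by omega)
  rcases Nat.lt_or_ge v 11144 with h16 | h16
  · exact (data.checkRange_iff 10238 906).mp Cfsg.Agent.Lib.Helper3.Cover.PF22U3.chk16 v (by omega) (by omega)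
  rcases Nat.lt_or_ge v 12008 with h17 | h17
  · exact (data.checkRange_iff 11144 864).mp Cfsg.Agent.Lib.Helper3.Cover.PF22U3.chk17 v (by omega) (by omega)
  rcases Nat.lt_or_ge v 12899 with h18 | h18
  · exact (data.checkRange_iff 12008 891).mp Cfsg.Agent.Lib.Helper3.Cover.PF22U3.chk18 v (by omega) (by omega)
  rcases Nat.lt_or_ge v 13790 with h19 | h19
  · exact (data.checkRange_iff 12899 891).mp Cfsg.Agent.Lib.Helper3.Cover.PF22U3.chk19 v (by omega) (by omega)
  rcases Nat.lt_or_ge v 14686 with h20 | h20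
  · exact (data.checkRange_iff 13790 896).mp Cfsg.Agent.Lib.Helper3.Cover.PF22U4.chk20 v (by omega) (by omega)
  rcases Nat.lt_or_ge v 15595 with h21 | h21
  · exact (data.checkRange_iff 14686 909).mp Cfsg.Agent.Lib.Helper3.Cover.PF22U4.chk21 v (by omega) (by omega)
  rcases Nat.lt_or_ge v 16541 with h22 | h22
  · exact (data.checkRange_iff 15595 946).mp Cfsg.Agent.Lib.Helper3.Cover.PF22U4.chk22 v (by omega) (by omega)
  rcases Nat.lt_or_ge v 17566 with h23 | h23
  · exact (data.checkRange_iff 16541 1025).mp Cfsg.Agent.Lib.Helper3.Cover.PF22U4.chk23 v (by omega) (by omega)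
  rcases Nat.lt_or_ge v 18637 with h24 | h24
  · exact (data.checkRange_iff 17566 1071).mp Cfsg.Agent.Lib.Helper3.Cover.PF22U4.chk24 v (by omega) (by omega)
  rcases Nat.lt_or_ge v 19661 with h25 | h25
  · exact (data.checkRange_iff 18637 1024).mp Cfsg.Agent.Lib.Helper3.Cover.PF22U5.chk25 v (by omega) (by omega)
  rcases Nat.lt_or_ge v 20617 with h26 | h26
  · exact (data.checkRange_iff 19661 956).mp Cfsg.Agent.Lib.Helper3.Cover.PF22U5.chk26 v (by omega) (by omega)
  rcases Nat.lt_or_ge v 21646 with h27 | h27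
  · exact (data.checkRange_iff 20617 1029).mp Cfsg.Agent.Lib.Helper3.Cover.PF22U5.chk27 v (by omega) (by omega)
  rcases Nat.lt_or_ge v 22746 with h28 | h28
  · exact (data.checkRange_iff 21646 1100).mp Cfsg.Agent.Lib.Helper3.Cover.PF22U5.chk28 v (by omega) (by omega)
  rcases Nat.lt_or_ge v 23794 with h29 | h29
  · exact (data.checkRange_iff 22746 1048).mp Cfsg.Agent.Lib.Helper3.Cover.PF22U5.chk29 v (by omega) (by omega)
  rcases Nat.lt_or_ge v 24859 with h30 | h30
  · exact (data.checkRange_iff 23794 1065).mp Cfsg.Agent.Lib.Helper3.Cover.PF22U6.chk30 v (by omega) (by omega)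
  rcases Nat.lt_or_ge v 26091 with h31 | h31
  · exact (data.checkRange_iff 24859 1232).mp Cfsg.Agent.Lib.Helper3.Cover.PF22U6.chk31 v (by omega) (by omega)
  rcases Nat.lt_or_ge v 27331 with h32 | h32
  · exact (data.checkRange_iff 26091 1240).mp Cfsg.Agent.Lib.Helper3.Cover.PF22U6.chk32 v (by omega) (by omega)
  rcases Nat.lt_or_ge v 28554 with h33 | h33
  · exact (data.checkRange_iff 27331 1223).mp Cfsg.Agent.Lib.Helper3.Cover.PF22U6.chk33 v (by omega) (by omega)
  rcases Nat.lt_or_ge v 29808 with h34 | h34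
  · exact (data.checkRange_iff 28554 1254).mp Cfsg.Agent.Lib.Helper3.Cover.PF22U6.chk34 v (by omega) (by omega)
  rcases Nat.lt_or_ge v 31125 with h35 | h35
  · exact (data.checkRange_iff 29808 1317).mp Cfsg.Agent.Lib.Helper3.Cover.PF22U7.chk35 v (by omega) (by omega)
  rcases Nat.lt_or_ge v 32351 with h36 | h36
  · exact (data.checkRange_iff 31125 1226).mp Cfsg.Agent.Lib.Helper3.Cover.PF22U7.chk36 v (by omega) (by omega)
  rcases Nat.lt_or_ge v 33690 with h37 | h37
  · exact (data.checkRange_iff 32351 1339).mp Cfsg.Agent.Lib.Helper3.Cover.PF22U7.chk37 v (by omega) (by omega)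
  rcases Nat.lt_or_ge v 34937 with h38 | h38
  · exact (data.checkRange_iff 33690 1247).mp Cfsg.Agent.Lib.Helper3.Cover.PF22U7.chk38 v (by omega) (by omega)
  rcases Nat.lt_or_ge v 36212 with h39 | h39
  · exact (data.checkRange_iff 34937 1275).mp Cfsg.Agent.Lib.Helper3.Cover.PF22U7.chk39 v (by omega) (by omega)
  rcases Nat.lt_or_ge v 37493 with h40 | h40
  · exact (data.checkRange_iff 36212 1281).mp Cfsg.Agent.Lib.Helper3.Cover.PF22U8.chk40 v (by omega) (by omega)
  rcases Nat.lt_or_ge v 38748 with h41 | h41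
  · exact (data.checkRange_iff 37493 1255).mp Cfsg.Agent.Lib.Helper3.Cover.PF22U8.chk41 v (by omega) (by omega)
  rcases Nat.lt_or_ge v 40026 with h42 | h42
  · exact (data.checkRange_iff 38748 1278).mp Cfsg.Agent.Lib.Helper3.Cover.PF22U8.chk42 v (by omega) (by omega)
  rcases Nat.lt_or_ge v 41259 with h43 | h43
  · exact (data.checkRange_iff 40026 1233).mp Cfsg.Agent.Lib.Helper3.Cover.PF22U8.chk43 v (by omega) (by omega)
  rcases Nat.lt_or_ge v 42570 with h44 | h44
  · exact (data.checkRange_iff 41259 1311).mp Cfsg.Agent.Lib.Helper3.Cover.PF22U8.chk44 v (by omega) (by omega)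
  rcases Nat.lt_or_ge v 43996 with h45 | h45
  · exact (data.checkRange_iff 42570 1426).mp Cfsg.Agent.Lib.Helper3.Cover.PF22U9.chk45 v (by omega) (by omega)
  rcases Nat.lt_or_ge v 45308 with h46 | h46
  · exact (data.checkRange_iff 43996 1312).mp Cfsg.Agent.Lib.Helper3.Cover.PF22U9.chk46 v (by omega) (by omega)
  rcases Nat.lt_or_ge v 46622 with h47 | h47
  · exact (data.checkRange_iff 45308 1314).mp Cfsg.Agent.Lib.Helper3.Cover.PF22U9.chk47 v (by omega) (by omega)
  rcases Nat.lt_or_ge v 47905 with h48 | h48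
  · exact (data.checkRange_iff 46622 1283).mp Cfsg.Agent.Lib.Helper3.Cover.PF22U9.chk48 v (by omega) (by omega)
  rcases Nat.lt_or_ge v 49246 with h49 | h49
  · exact (data.checkRange_iff 47905 1341).mp Cfsg.Agent.Lib.Helper3.Cover.PF22U9.chk49 v (by omega) (by omega)
  rcases Nat.lt_or_ge v 50602 with h50 | h50
  · exact (data.checkRange_iff 49246 1356).mp Cfsg.Agent.Lib.Helper3.Cover.PF22U10.chk50 v (by omega) (by omega)
  rcases Nat.lt_or_ge v 51919 with h51 | h51
  · exact (data.checkRange_iff 50602 1317).mp Cfsg.Agent.Lib.Helper3.Cover.PF22U10.chk51 v (by omega) (by omega)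
  rcases Nat.lt_or_ge v 53270 with h52 | h52
  · exact (data.checkRange_iff 51919 1351).mp Cfsg.Agent.Lib.Helper3.Cover.PF22U10.chk52 v (by omega) (by omega)
  rcases Nat.lt_or_ge v 54626 with h53 | h53
  · exact (data.checkRange_iff 53270 1356).mp Cfsg.Agent.Lib.Helper3.Cover.PF22U10.chk53 v (by omega) (by omega)
  rcases Nat.lt_or_ge v 56280 with h54 | h54
  · exact (data.checkRange_iff 54626 1654).mp Cfsg.Agent.Lib.Helper3.Cover.PF22U10.chk54 v (by omega) (by omega)
  rcases Nat.lt_or_ge v 57913 with h55 | h55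
  · exact (data.checkRange_iff 56280 1633).mp Cfsg.Agent.Lib.Helper3.Cover.PF22U11.chk55 v (by omega) (by omega)
  rcases Nat.lt_or_ge v 59624 with h56 | h56
  · exact (data.checkRange_iff 57913 1711).mp Cfsg.Agent.Lib.Helper3.Cover.PF22U11.chk56 v (by omega) (by omega)
  rcases Nat.lt_or_ge v 61272 with h57 | h57
  · exact (data.checkRange_iff 59624 1648).mp Cfsg.Agent.Lib.Helper3.Cover.PF22U11.chk57 v (by omega) (by omega)
  rcases Nat.lt_or_ge v 62922 with h58 | h58
  · exact (data.checkRange_iff 61272 1650).mp Cfsg.Agent.Lib.Helper3.Cover.PF22U11.chk58 v (by omega) (by omega)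
  rcases Nat.lt_or_ge v 64532 with h59 | h59
  · exact (data.checkRange_iff 62922 1610).mp Cfsg.Agent.Lib.Helper3.Cover.PF22U11.chk59 v (by omega) (by omega)
  rcases Nat.lt_or_ge v 66147 with h60 | h60
  · exact (data.checkRange_iff 64532 1615).mp Cfsg.Agent.Lib.Helper3.Cover.PF22U12.chk60 v (by omega) (by omega)
  rcases Nat.lt_or_ge v 67757 with h61 | h61
  · exact (data.checkRange_iff 66147 1610).mp Cfsg.Agent.Lib.Helper3.Cover.PF22U12.chk61 v (by omega) (by omega)
  rcases Nat.lt_or_ge v 69461 with h62 | h62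
  · exact (data.checkRange_iff 67757 1704).mp Cfsg.Agent.Lib.Helper3.Cover.PF22U12.chk62 v (by omega) (by omega)
  rcases Nat.lt_or_ge v 71071 with h63 | h63
  · exact (data.checkRange_iff 69461 1610).mp Cfsg.Agent.Lib.Helper3.Cover.PF22U12.chk63 v (by omega) (by omega)
  rcases Nat.lt_or_ge v 72682 with h64 | h64
  · exact (data.checkRange_iff 71071 1611).mp Cfsg.Agent.Lib.Helper3.Cover.PF22U12.chk64 v (by omega) (by omega)
  rcases Nat.lt_or_ge v 74358 with h65 | h65
  · exact (data.checkRange_iff 72682 1676).mp Cfsg.Agent.Lib.Helper3.Cover.PF22U13.chk65 v (by omega) (by omega)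
  rcases Nat.lt_or_ge v 75976 with h66 | h66
  · exact (data.checkRange_iff 74358 1618).mp Cfsg.Agent.Lib.Helper3.Cover.PF22U13.chk66 v (by omega) (by omega)
  exact (data.checkRange_iff 75976 1394).mp Cfsg.Agent.Lib.Helper3.Cover.PF22U13.chk67 v (by omega) (by omega)

theorem hrows : ∀ v, v < data.N → Data.rowOK data v = true := by
  intro v hv
  have hv' : v < 77370 := hv
  rcases Nat.lt_or_ge v 6000 with h0 | h0
  · exact (Data.finalRange_iff data 0 6000).mp Cfsg.Agent.Lib.Helper3.Cover.PF22M0.fin0 v (by omega) (by omega)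
  rcases Nat.lt_or_ge v 12000 with h1 | h1
  · exact (Data.finalRange_iff data 6000 6000).mp Cfsg.Agent.Lib.Helper3.Cover.PF22M0.fin1 v (by omega) (by omega)
  rcases Nat.lt_or_ge v 18000 with h2 | h2
  · exact (Data.finalRange_iff data 12000 6000).mp Cfsg.Agent.Lib.Helper3.Cover.PF22M0.fin2 v (by omega) (by omega)
  rcases Nat.lt_or_ge v 24000 with h3 | h3
  · exact (Data.finalRange_iff data 18000 6000).mp Cfsg.Agent.Lib.Helper3.Cover.PF22M0.fin3 v (by omega) (by omega)
  rcases Nat.lt_or_ge v 30000 with h4 | h4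
  · exact (Data.finalRange_iff data 24000 6000).mp Cfsg.Agent.Lib.Helper3.Cover.PF22M0.fin4 v (by omega) (by omega)
  rcases Nat.lt_or_ge v 36000 with h5 | h5
  · exact (Data.finalRange_iff data 30000 6000).mp Cfsg.Agent.Lib.Helper3.Cover.PF22M1.fin5 v (by omega) (by omega)
  rcases Nat.lt_or_ge v 42000 with h6 | h6
  · exact (Data.finalRange_iff data 36000 6000).mp Cfsg.Agent.Lib.Helper3.Cover.PF22M1.fin6 v (by omega) (by omega)
  rcases Nat.lt_or_ge v 48000 with h7 | h7
  · exact (Data.finalRange_iff data 42000 6000).mp Cfsg.Agent.Lib.Helper3.Cover.PF22M1.fin7 v (by omega) (by omega)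
  rcases Nat.lt_or_ge v 54000 with h8 | h8
  · exact (Data.finalRange_iff data 48000 6000).mp Cfsg.Agent.Lib.Helper3.Cover.PF22M1.fin8 v (by omega) (by omega)
  rcases Nat.lt_or_ge v 60000 with h9 | h9
  · exact (Data.finalRange_iff data 54000 6000).mp Cfsg.Agent.Lib.Helper3.Cover.PF22M1.fin9 v (by omega) (by omega)
  rcases Nat.lt_or_ge v 66000 with h10 | h10
  · exact (Data.finalRange_iff data 60000 6000).mp Cfsg.Agent.Lib.Helper3.Cover.PF22M2.fin10 v (by omega) (by omega)
  rcases Nat.lt_or_ge v 72000 with h11 | h11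
  · exact (Data.finalRange_iff data 66000 6000).mp Cfsg.Agent.Lib.Helper3.Cover.PF22M2.fin11 v (by omega) (by omega)
  exact (Data.finalRange_iff data 72000 5370).mp Cfsg.Agent.Lib.Helper3.Cover.PF22M2.fin12 v (by omega) (by omega)

theorem hfin : data.finalOK = true := Data.finalOK_of_rows data hlive0 (by decide) hrows

theorem pc0 : Data.countFrom data 0 6000 = 2429 := Cfsg.Agent.Lib.Helper3.Cover.PF22M2.cnt0
theorem pc1 : Data.countFrom data 0 12000 = 3121 := Data.countFrom_step data pc0 Cfsg.Agent.Lib.Helper3.Cover.PF22M2.cnt1 (by norm_num) (by norm_num)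
theorem pc2 : Data.countFrom data 0 18000 = 3395 := Data.countFrom_step data pc1 Cfsg.Agent.Lib.Helper3.Cover.PF22M3.cnt2 (by norm_num) (by norm_num)
theorem pc3 : Data.countFrom data 0 24000 = 3466 := Data.countFrom_step data pc2 Cfsg.Agent.Lib.Helper3.Cover.PF22M3.cnt3 (by norm_num) (by norm_num)
theorem pc4 : Data.countFrom data 0 30000 = 3485 := Data.countFrom_step data pc3 Cfsg.Agent.Lib.Helper3.Cover.PF22M3.cnt4 (by norm_num) (by norm_num)
theorem pc5 : Data.countFrom data 0 36000 = 3495 := Data.countFrom_step data pc4 Cfsg.Agent.Lib.Helper3.Cover.PF22M3.cnt5 (by norm_num) (by norm_num)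
theorem pc6 : Data.countFrom data 0 42000 = 3503 := Data.countFrom_step data pc5 Cfsg.Agent.Lib.Helper3.Cover.PF22M3.cnt6 (by norm_num) (by norm_num)
theorem pc7 : Data.countFrom data 0 48000 = 3510 := Data.countFrom_step data pc6 Cfsg.Agent.Lib.Helper3.Cover.PF22M4.cnt7 (by norm_num) (by norm_num)
theorem pc8 : Data.countFrom data 0 54000 = 3510 := Data.countFrom_step data pc7 Cfsg.Agent.Lib.Helper3.Cover.PF22M4.cnt8 (by norm_num) (by norm_num)
theorem pc9 : Data.countFrom data 0 60000 = 3510 := Data.countFrom_step data pc8 Cfsg.Agent.Lib.Helper3.Cover.PF22M4.cnt9 (by norm_num) (by norm_num)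
theorem pc10 : Data.countFrom data 0 66000 = 3510 := Data.countFrom_step data pc9 Cfsg.Agent.Lib.Helper3.Cover.PF22M4.cnt10 (by norm_num) (by norm_num)
theorem pc11 : Data.countFrom data 0 72000 = 3510 := Data.countFrom_step data pc10 Cfsg.Agent.Lib.Helper3.Cover.PF22M4.cnt11 (by norm_num) (by norm_num)
theorem pc12 : Data.countFrom data 0 77370 = 3510 := Data.countFrom_step data pc11 Cfsg.Agent.Lib.Helper3.Cover.PF22M5.cnt12 (by norm_num) (by norm_num)

theorem hcount : data.countLive = table.n := by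
  rw [Data.countLive_eq]
  exact pc12

theorem hpermAll : ∀ p, p < table.n → Table.permRow table p = true := by
  intro p hv
  have hv' : p < 3510 := hv
  exact (Table.permRange_iff table 0 3510).mp Cfsg.Agent.Lib.Helper3.Cover.PF22M5.prm0 p (by omega) (by omega)

theorem hT : table.OK := Table.ok_of_rows table hinvOK hpermAll

theorem htreeAll : ∀ i, i < Nat.pred table.n → Table.treeRow table i = true := by
  intro p hv
  have hv' : p < 3509 := hv
  exact (Table.treeRange_iff table 0 3509).mp Cfsg.Agent.Lib.Helper3.Cover.PF22M5.tre0 p (by omega) (by omega)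

theorem htree : table.treeOK = true := Table.treeOK_of_rows table htreeAll

theorem hchkT : ∀ P ∈ chkPaths, ∀ p, p < table.n → table.walkT P p = p := by
  intro P hm p hv
  have hv' : p < 3510 := hv
  rcases Nat.lt_or_ge p 2000 with h0 | h0
  · exact (Table.relOK_iff chkPaths 0 2000).mp Cfsg.Agent.Lib.Helper3.Cover.PF22L0.rel0 p (by omega) (by omega) _ hm
  exact (Table.relOK_iff chkPaths 2000 1510).mp Cfsg.Agent.Lib.Helper3.Cover.PF22L0.rel1 p (by omega) (by omega) _ hm

theorem hrelT : ∀ L ∈ relWords, ∀ p, p < table.n → table.walkT (pathOf lw L) p = p :=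
  fun L hL => Table.fix_of_covered hT chkPaths hchkT _ (hcov _ (hrelmem L hL)).1 (hcov _ (hrelmem L hL)).2

theorem hsubT : ∀ L ∈ subWords, table.walkT (pathOf lw L) 0 = 0 :=
  fun L hL => (Table.subOK_iff subPaths).mp hsub0 _ (hsubmem L hL)

theorem hn : 0 < table.n := by decide

theorem main : ((Subgroup.closure S).map (PresentedGroup.mk rels)).index = table.n ∧
    ∃ φ : PresentedGroup rels →* Equiv.Perm (Fin table.n),
      (∀ x, φ (PresentedGroup.of x) = Table.sigma hT (lw (x, true))) ∧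
      ∃ f : PresentedGroup rels ⧸ (Subgroup.closure S).map (PresentedGroup.mk rels) → Fin table.n,
        Function.Bijective f ∧ (∀ g q, f (g • q) = φ g (f q)) ∧ f (QuotientGroup.mk 1) = ⟨0, hn⟩ :=
  index_eq link hchk hfin hcount hT hn hrelT hsubT htree

end Cfsg.Agent.Lib.Helper3.Cover.PF22Main
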