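import Cfsg.Agent.Lib.Helper28.TC2Upper
import Cfsg.Agent.Lib.Helper3.Cover.QF22DataC0
import Cfsg.Agent.Lib.Helper3.Cover.QF22DataC1
import Cfsg.Agent.Lib.Helper3.Cover.QF22DataC2
import Cfsg.Agent.Lib.Helper3.Cover.QF22DataC3
import Cfsg.Agent.Lib.Helper3.Cover.QF22DataC4
import Cfsg.Agent.Lib.Helper3.Cover.QF22DataC5
import Cfsg.Agent.Lib.Helper3.Cover.QF22DataC6
import Cfsg.Agent.Lib.Helper3.Cover.QF22DataC7
import Cfsg.Agent.Lib.Helper3.Cover.QF22DataC8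
set_option autoImplicit false
set_option maxRecDepth 100000

namespace Cfsg.Agent.Lib.Helper3.Cover.QF22Data
open Cfsg.Agent.Lib.Helper28.TC2Upper

/-- relators -/
def relT : BT (ℕ × List ℕ × List ℕ) := (BT.node 32 (BT.node 16 (BT.node 8 (BT.node 4 (BT.node 2 (BT.node 1 (BT.node 0 (BT.leaf (2, [0, 0], [1, 1])) (BT.leaf (6, [2, 2, 2, 2, 2, 2], [3, 3, 3, 3, 3, 3]))) (BT.leaf (14, [2, 0, 2, 0, 2, 0, 2, 0, 2, 0, 2, 0, 2, 0], [1, 3, 1, 3, 1, 3, 1, 3, 1, 3, 1, 3, 1, 3]))) (BT.node 3 (BT.leaf (18, [0, 2, 2, 0, 2, 2, 0, 2, 2, 0, 3, 3, 0, 3, 3, 0, 3, 3], [2, 2, 1, 2, 2, 1, 2, 2, 1, 3, 3, 1, 3, 3, 1, 3, 3, 1])) (BT.leaf (21, [0, 2, 0, 3, 0, 3, 0, 2, 0, 3, 3, 0, 2, 0, 3, 3, 0, 2, 0, 3, 3], [2, 2, 1, 3, 1, 2, 2, 1, 3, 1, 2, 2, 1, 3, 1, 2, 1, 2, 1, 3, 1])))) (BT.node 6 (BT.node 5 (BT.leaf (2, [4, 4], [5, 5])) (BT.leaf (8, [0, 4, 2, 2, 4, 0, 3, 3], [2, 2, 1, 5, 3, 3,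 5, 1]))) (BT.node 7 (BT.leaf (15, [4, 0, 2, 0, 2, 4, 0, 3, 0, 2, 4, 0, 3, 0, 3], [2, 1, 2, 1, 5, 3, 1, 2, 1, 5, 3, 1, 3, 1, 5])) (BT.leaf (18, [0, 4, 2, 4, 3, 4, 3, 4, 3, 4, 3, 4, 3, 4, 3, 0, 3, 3], [2, 2, 1, 2, 5, 2, 5, 2, 5, 2, 5, 2, 5, 2, 5, 3, 5, 1]))))) (BT.node 12 (BT.node 10 (BT.node 9 (BT.leaf (20, [0, 2, 2, 0, 3, 3, 4, 2, 4, 0, 2, 4, 0, 3, 4, 0, 2, 0, 3, 3], [2, 2, 1, 3, 1, 5, 2, 1, 5, 3, 1, 5, 3, 5, 2, 2, 1, 3, 3, 1])) (BT.leaf (2, [6, 6], [7, 7]))) (BT.node 11 (BT.leaf (4, [1, 6, 0, 6], [7, 1, 7, 0])) (BT.leaf (18, [5, 2, 5, 1, 5, 2, 1, 3, 1, 3, 1, 3, 3, 3, 5, 6, 2, 6], [7, 3, 7, 4, 2, 2, 2, 0, 2, 0, 2, 0, 3, 4, 0, 4, 3, 4])))) (BT.node 14 (BT.node 13 (BT.leaf (4, [5, 6, 4, 6], [7, 5, 7, 4])) (BT.leaf (2, [8, 8], [9, 9]))) (BT.node 15 (BT.leaf (12, [2, 2, 5, 3, 3, 9, 2, 2, 4, 3, 3, 8], [9, 2, 2, 5, 3, 3, 8, 2, 2, 4, 3, 3])) (BT.leaf (24, [3, 5,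 2, 1, 2, 5, 2, 5, 2, 1, 5, 9, 4, 0, 3, 4, 3, 4, 3, 0, 3, 4, 2, 8], [9, 3, 5, 2, 1, 2, 5, 2, 5, 2, 1, 5, 8, 4, 0, 3, 4, 3, 4, 3, 0, 3, 4, 2])))))) (BT.node 24 (BT.node 20 (BT.node 18 (BT.node 17 (BT.leaf (6, [8, 6, 8, 6, 8, 6], [7, 9, 7, 9, 7, 9])) (BT.leaf (25, [4, 3, 4, 3, 0, 2, 8, 0, 4, 8, 4, 6, 8, 0, 2, 4, 2, 0, 8, 2, 2, 4, 3, 3, 3], [2, 2, 2, 5, 3, 3, 9, 1, 3, 5, 3, 1, 9, 7, 5, 9, 5, 1, 9, 3, 1, 2, 5, 2, 5]))) (BT.node 19 (BT.leaf (16, [6, 8, 2, 2, 0, 6, 3, 4, 0, 8, 0, 4, 2, 0, 3, 3], [2, 2, 1, 3, 5, 1, 9, 1, 5, 2, 7, 1, 3, 3, 9, 7])) (BT.leaf (4, [1, 13, 0, 12], [13, 1, 12, 0])))) (BT.node 22 (BT.node 21 (BT.leaf (4, [3, 13, 2, 12], [13, 3, 12, 2])) (BT.leaf (4, [5, 13, 4, 12], [13, 5, 12, 4]))) (BT.node 23 (BT.leaf (4, [7, 13, 6, 12], [13, 7, 12, 6])) (BT.leaf (4, [9, 13, 8, 12], [13, 9, 12, 8]))))) (BT.node 28 (BT.node 26 (BT.node 25 (BT.leaf (4,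 [1, 11, 0, 10], [11, 1, 10, 0])) (BT.leaf (4, [3, 11, 2, 10], [11, 3, 10, 2]))) (BT.node 27 (BT.leaf (4, [5, 11, 4, 10], [11, 5, 10, 4])) (BT.leaf (4, [7, 11, 6, 10], [11, 7, 10, 6])))) (BT.node 30 (BT.node 29 (BT.leaf (40, [1, 2, 2, 1, 3, 3, 9, 5, 1, 9, 5, 9, 7, 9, 1, 9, 7, 5, 9, 12, 0, 13, 8, 4, 6, 8, 0, 8, 6, 8, 4, 8, 0, 4, 8, 2, 2, 0, 3, 3], [2, 2, 1, 3, 3, 9, 5, 1, 9, 5, 9, 7, 9, 1, 9, 7, 5, 9, 12, 1, 13, 8, 4, 6, 8, 0, 8, 6, 8, 4, 8, 0, 4, 8, 2, 2, 0, 3, 3, 0])) (BT.leaf (40, [3, 2, 2, 1, 3, 3, 9, 5, 1, 9, 5, 9, 7, 9, 1, 9, 7, 5, 9, 12, 2, 13, 8, 4, 6, 8, 0, 8, 6, 8, 4, 8, 0, 4, 8, 2, 2, 0, 3, 3], [2, 2, 1, 3, 3, 9, 5, 1, 9, 5, 9, 7, 9, 1, 9, 7, 5, 9, 12, 3, 13, 8, 4, 6, 8, 0, 8, 6, 8, 4, 8, 0, 4, 8, 2, 2, 0, 3, 3, 2]))) (BT.node 31 (BT.leaf (40, [5, 2, 2, 1, 3, 3, 9, 5, 1, 9, 5, 9, 7, 9, 1, 9, 7, 5, 9, 12, 4, 13, 8, 4, 6, 8, 0, 8, 6, 8, 4, 8, 0, 4,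 8, 2, 2, 0, 3, 3], [2, 2, 1, 3, 3, 9, 5, 1, 9, 5, 9, 7, 9, 1, 9, 7, 5, 9, 12, 5, 13, 8, 4, 6, 8, 0, 8, 6, 8, 4, 8, 0, 4, 8, 2, 2, 0, 3, 3, 4])) (BT.leaf (40, [7, 2, 2, 1, 3, 3, 9, 5, 1, 9, 5, 9, 7, 9, 1, 9, 7, 5, 9, 12, 6, 13, 8, 4, 6, 8, 0, 8, 6, 8, 4, 8, 0, 4, 8, 2, 2, 0, 3, 3], [2, 2, 1, 3, 3, 9, 5, 1, 9, 5, 9, 7, 9, 1, 9, 7, 5, 9, 12, 7, 13, 8, 4, 6, 8, 0, 8, 6, 8, 4, 8, 0, 4, 8, 2, 2, 0, 3, 3, 6]))))))) (BT.node 49 (BT.node 41 (BT.node 37 (BT.node 35 (BT.node 34 (BT.node 33 (BT.leaf (40, [9, 2, 2, 1, 3, 3, 9, 5, 1, 9, 5, 9, 7, 9, 1, 9, 7, 5, 9, 12, 8, 13, 8, 4, 6, 8, 0, 8, 6, 8, 4, 8, 0, 4, 8, 2, 2, 0, 3, 3], [2, 2, 1, 3, 3, 9, 5, 1, 9, 5, 9, 7, 9, 1, 9, 7, 5, 9, 12, 9, 13, 8, 4, 6, 8, 0, 8, 6, 8, 4, 8, 0, 4, 8, 2, 2, 0, 3, 3, 8])) (BT.leaf (40, [11, 2, 2, 1, 3, 3, 9, 5, 1, 9, 5, 9, 7, 9, 1, 9, 7, 5, 9, 12, 10, 13, 8, 4, 6, 8, 0, 8, 6, 8, 4, 8, 0, 4,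 8, 2, 2, 0, 3, 3], [2, 2, 1, 3, 3, 9, 5, 1, 9, 5, 9, 7, 9, 1, 9, 7, 5, 9, 12, 11, 13, 8, 4, 6, 8, 0, 8, 6, 8, 4, 8, 0, 4, 8, 2, 2, 0, 3, 3, 10]))) (BT.leaf (40, [13, 2, 2, 1, 3, 3, 9, 5, 1, 9, 5, 9, 7, 9, 1, 9, 7, 5, 9, 12, 12, 13, 8, 4, 6, 8, 0, 8, 6, 8, 4, 8, 0, 4, 8, 2, 2, 0, 3, 3], [2, 2, 1, 3, 3, 9, 5, 1, 9, 5, 9, 7, 9, 1, 9, 7, 5, 9, 12, 13, 13, 8, 4, 6, 8, 0, 8, 6, 8, 4, 8, 0, 4, 8, 2, 2, 0, 3, 3, 12]))) (BT.node 36 (BT.leaf (6, [1, 13, 13, 0, 12, 12], [13, 13, 1, 12, 12, 0])) (BT.leaf (6, [3, 13, 13, 2, 12, 12], [13, 13, 3, 12, 12, 2])))) (BT.node 39 (BT.node 38 (BT.leaf (6, [5, 13, 13, 4, 12, 12], [13, 13, 5, 12, 12, 4])) (BT.leaf (6, [7, 13, 13, 6, 12, 12], [13, 13, 7, 12, 12, 6]))) (BT.node 40 (BT.leaf (6, [9, 13, 13, 8, 12, 12], [13, 13, 9, 12, 12, 8])) (BT.leaf (6, [11, 13, 13, 10, 12, 12], [13, 13, 11, 12, 12, 10]))))) (BT.node 45 (BT.node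 43 (BT.node 42 (BT.leaf (6, [13, 13, 13, 12, 12, 12], [13, 13, 13, 12, 12, 12])) (BT.leaf (6, [1, 11, 11, 0, 10, 10], [11, 11, 1, 10, 10, 0]))) (BT.node 44 (BT.leaf (6, [3, 11, 11, 2, 10, 10], [11, 11, 3, 10, 10, 2])) (BT.leaf (6, [5, 11, 11, 4, 10, 10], [11, 11, 5, 10, 10, 4])))) (BT.node 47 (BT.node 46 (BT.leaf (6, [7, 11, 11, 6, 10, 10], [11, 11, 7, 10, 10, 6])) (BT.leaf (6, [9, 11, 11, 8, 10, 10], [11, 11, 9, 10, 10, 8]))) (BT.node 48 (BT.leaf (6, [11, 11, 11, 10, 10, 10], [11, 11, 11, 10, 10, 10])) (BT.leaf (6, [13, 11, 11, 12, 10, 10], [11, 11, 13, 10, 10, 12])))))) (BT.node 57 (BT.node 53 (BT.node 51 (BT.node 50 (BT.leaf (14, [1, 11, 9, 11, 9, 11, 9, 0, 8, 10, 8, 10, 8, 10], [11, 9, 11, 9, 11, 9, 1, 8, 10, 8, 10, 8, 10, 0])) (BT.leaf (14, [3, 11, 9, 11, 9, 11, 9, 2, 8, 10, 8, 10, 8, 10], [11, 9, 11, 9, 11, 9, 3, 8, 10, 8, 10, 8, 10, 2]))) (BT.node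 52 (BT.leaf (14, [5, 11, 9, 11, 9, 11, 9, 4, 8, 10, 8, 10, 8, 10], [11, 9, 11, 9, 11, 9, 5, 8, 10, 8, 10, 8, 10, 4])) (BT.leaf (14, [7, 11, 9, 11, 9, 11, 9, 6, 8, 10, 8, 10, 8, 10], [11, 9, 11, 9, 11, 9, 7, 8, 10, 8, 10, 8, 10, 6])))) (BT.node 55 (BT.node 54 (BT.leaf (14, [9, 11, 9, 11, 9, 11, 9, 8, 8, 10, 8, 10, 8, 10], [11, 9, 11, 9, 11, 9, 9, 8, 10, 8, 10, 8, 10, 8])) (BT.leaf (14, [11, 11, 9, 11, 9, 11, 9, 10, 8, 10, 8, 10, 8, 10], [11, 9, 11, 9, 11, 9, 11, 8, 10, 8, 10, 8, 10, 10]))) (BT.node 56 (BT.leaf (14, [13, 11, 9, 11, 9, 11, 9, 12, 8, 10, 8, 10, 8, 10], [11, 9, 11, 9, 11, 9, 13, 8, 10, 8, 10, 8, 10, 12])) (BT.leaf (14, [1, 11, 13, 11, 13, 11, 13, 0, 12, 10, 12, 10, 12, 10], [11, 13, 11, 13, 11, 13, 1, 12, 10, 12, 10, 12, 10, 0]))))) (BT.node 61 (BT.node 59 (BT.node 58 (BT.leaf (14, [3, 11, 13, 11, 13, 11, 13, 2, 12, 10, 12, 10, 12, 10], [11,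 13, 11, 13, 11, 13, 3, 12, 10, 12, 10, 12, 10, 2])) (BT.leaf (14, [5, 11, 13, 11, 13, 11, 13, 4, 12, 10, 12, 10, 12, 10], [11, 13, 11, 13, 11, 13, 5, 12, 10, 12, 10, 12, 10, 4]))) (BT.node 60 (BT.leaf (14, [7, 11, 13, 11, 13, 11, 13, 6, 12, 10, 12, 10, 12, 10], [11, 13, 11, 13, 11, 13, 7, 12, 10, 12, 10, 12, 10, 6])) (BT.leaf (14, [9, 11, 13, 11, 13, 11, 13, 8, 12, 10, 12, 10, 12, 10], [11, 13, 11, 13, 11, 13, 9, 12, 10, 12, 10, 12, 10, 8])))) (BT.node 63 (BT.node 62 (BT.leaf (14, [11, 11, 13, 11, 13, 11, 13, 10, 12, 10, 12, 10, 12, 10], [11, 13, 11, 13, 11, 13, 11, 12, 10, 12, 10, 12, 10, 10])) (BT.leaf (14, [13, 11, 13, 11, 13, 11, 13, 12, 12, 10, 12, 10, 12, 10], [11, 13, 11, 13, 11, 13, 13, 12, 10, 12, 10, 12, 10, 12]))) (BT.node 64 (BT.leaf (59, [7, 9, 7, 9, 7, 9, 6, 6, 8, 8, 9, 9, 9, 9, 5, 5, 5, 5, 5, 5, 1, 1, 1, 1, 4, 3, 4, 3, 0, 2, 8, 0, 4, 8, 4,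 6, 8, 0, 2, 4, 2, 0, 8, 2, 2, 4, 3, 3, 3, 9, 9, 11, 11, 8, 10, 8, 10, 8, 10], [11, 9, 11, 9, 11, 9, 10, 10, 8, 8, 2, 2, 2, 5, 3, 3, 9, 1, 3, 5, 3, 1, 9, 7, 5, 9, 5, 1, 9, 3, 1, 2, 5, 2, 5, 0, 0, 0, 0, 4, 4, 4, 4, 4, 4, 8, 8, 8, 8, 9, 9, 7, 7, 8, 6, 8, 6, 8, 6])) (BT.leaf (69, [11, 9, 11, 9, 11, 9, 10, 10, 8, 8, 2, 2, 2, 5, 3, 3, 9, 1, 3, 5, 3, 1, 9, 7, 5, 9, 5, 1, 9, 3, 1, 2, 5, 2, 5, 0, 0, 0, 0, 4, 4, 4, 4, 4, 4, 8, 8, 8, 8, 9, 9, 7, 7, 8, 6, 8, 6, 8, 6, 11, 11, 13, 13, 12, 10, 12, 10, 12, 10], [11, 13, 11, 13, 11, 13, 12, 12, 10, 10, 7, 9, 7, 9, 7, 9, 6, 6, 8, 8, 9, 9, 9, 9, 5, 5, 5, 5, 5, 5, 1, 1, 1, 1, 4, 3, 4, 3, 0, 2, 8, 0, 4, 8, 4, 6, 8, 0, 2, 4, 2, 0, 8, 2, 2, 4, 3, 3, 3, 9, 9, 11, 11, 8, 10, 8, 10, 8, 10]))))))))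
/-- subgroup generators -/
def subT : BT (ℕ × List ℕ × List ℕ) := (BT.node 2 (BT.node 1 (BT.node 0 (BT.leaf (1, [0], [1])) (BT.leaf (1, [2], [3]))) (BT.leaf (1, [4], [5]))) (BT.node 3 (BT.leaf (1, [6], [7])) (BT.leaf (1, [8], [9]))))
/-- fact chunks -/
def colET : BT ℕ := (BT.node 1829 (BT.node 914 (BT.node 457 (BT.node 228 (BT.node 114 (BT.node 57 (BT.node 28 (BT.node 14 (BT.node 7 (BT.node 3 (BT.node 1 (BT.node 0 (BT.leaf cE0) (BT.leaf cE1)) (BT.node 2 (BT.leaf cE2) (BT.leaf cE3))) (BT.node 5 (BT.node 4 (BT.leaf cE4) (BT.leaf cE5)) (BT.node 6 (BT.leaf cE6) (BT.leaf cE7)))) (BT.node 11 (BT.node 9 (BT.node 8 (BT.leaf cE8) (BT.leaf cE9)) (BT.node 10 (BT.leaf cE10) (BT.leaf cE11))) (BT.node 13 (BT.node 12 (BT.leaf cE12) (BT.leaf cE13)) (BT.leaf cE14)))) (BT.node 21 (BT.node 18 (BT.node 16 (BT.node 15 (BT.leaf cE15) (BT.leaf cE16)) (BT.node 17 (BT.leaf cE17) (BT.leaf cE18))) (BT.node 20 (BT.node 19 (BT.leaf cE19) (BT.leaf cE20)) (BT.leaf cE21))) (BT.node 25 (BT.node 23 (BT.node 22 (BT.leaf cE22) (BT.leaf cE23)) (BT.node 24 (BT.leaf cE24) (BT.leaf cE25))) (BT.node 27 (BT.node 26 (BT.leaf cE26) (BT.leaf cE27)) (BT.leaf cE28))))) (BT.node 43 (BT.node 36 (BT.node 32 (BT.node 30 (BT.node 29 (BT.leaf cE29) (BT.leaf cE30)) (BT.node 31 (BT.leaf cE31) (BT.leaf cE32))) (BT.node 34 (BT.node 33 (BT.leaf cE33) (BT.leaf cE34)) (BT.node 35 (BT.leaf cE35) (BT.leaf cE36)))) (BT.node 40 (BT.node 38 (BT.node 37 (BT.leaf cE37) (BT.leaf cE38)) (BT.node 39 (BT.leaf cE39) (BT.leaf cE40))) (BT.node 42 (BT.node 41 (BT.leaf cE41) (BT.leaf cE42)) (BT.leaf cE43)))) (BT.node 50 (BT.node 47 (BT.node 45 (BT.node 44 (BT.leaf cE44) (BT.leaf cE45)) (BT.node 46 (BT.leaf cE46) (BT.leaf cE47))) (BT.node 49 (BT.node 48 (BT.leaf cE48) (BT.leaf cE49)) (BT.leaf cE50))) (BT.node 54 (BT.node 52 (BT.node 51 (BT.leaf cE51) (BT.leaf cE52)) (BT.node 53 (BT.leaf cE53) (BT.leaf cE54))) (BT.node 56 (BT.node 55 (BT.leaf cE55) (BT.leaf cE56)) (BT.leaf cE57)))))) (BT.node 86 (BT.node 72 (BT.node 65 (BT.node 61 (BT.node 59 (BT.node 58 (BT.leaf cE58) (BT.leaf cE59)) (BT.node 60 (BT.leaf cE60) (BT.leaf cE61))) (BT.node 63 (BT.node 62 (BT.leaf cE62) (BT.leaf cE63)) (BT.node 64 (BT.leaf cE64) (BT.leaf cE65)))) (BT.node 69 (BT.node 67 (BT.node 66 (BT.leaf cE66) (BT.leaf cE67)) (BT.node 68 (BT.leaf cE68) (BT.leaf cE69))) (BT.node 71 (BT.node 70 (BT.leaf cE70) (BT.leaf cE71)) (BT.leaf cE72)))) (BT.node 79 (BT.node 76 (BT.node 74 (BT.node 73 (BT.leaf cE73) (BT.leaf cE74)) (BT.node 75 (BT.leaf cE75) (BT.leaf cE76))) (BT.node 78 (BT.node 77 (BT.leaf cE77) (BT.leaf cE78)) (BT.leaf cE79))) (BT.node 83 (BT.node 81 (BT.node 80 (BT.leaf cE80) (BT.leaf cE81)) (BT.node 82 (BT.leaf cE82) (BT.leaf cE83))) (BT.node 85 (BT.node 84 (BT.leaf cE84) (BT.leaf cE85)) (BT.leaf cE86))))) (BT.node 100 (BT.node 93 (BT.node 90 (BT.node 88 (BT.node 87 (BT.leaf cE87) (BT.leaf cE88)) (BT.node 89 (BT.leaf cE89) (BT.leaf cE90))) (BT.node 92 (BT.node 91 (BT.leaf cE91) (BT.leaf cE92)) (BT.leaf cE93))) (BT.node 97 (BT.node 95 (BT.node 94 (BT.leaf cE94) (BT.leaf cE95)) (BT.node 96 (BT.leaf cE96) (BT.leaf cE97))) (BT.node 99 (BT.node 98 (BT.leaf cE98) (BT.leaf cE99)) (BT.leaf cE100)))) (BT.node 107 (BT.node 104 (BT.node 102 (BT.node 101 (BT.leaf cE101) (BT.leaf cE102)) (BT.node 103 (BT.leaf cE103) (BT.leaf cE104))) (BT.node 106 (BT.node 105 (BT.leaf cE105) (BT.leaf cE106)) (BT.leaf cE107))) (BT.node 111 (BT.node 109 (BT.node 108 (BT.leaf cE108) (BT.leaf cE109)) (BT.node 110 (BT.leaf cE110) (BT.leaf cE111))) (BT.node 113 (BT.node 112 (BT.leaf cE112) (BT.leaf cE113)) (BT.leaf cE114))))))) (BT.node 171 (BT.node 143 (BT.node 129 (BT.node 122 (BT.node 118 (BT.node 116 (BT.node 115 (BT.leaf cE115) (BT.leaf cE116)) (BT.node 117 (BT.leaf cE117) (BT.leaf cE118))) (BT.node 120 (BT.node 119 (BT.leaf cE119) (BT.leaf cE120)) (BT.node 121 (BT.leaf cE121) (BT.leaf cE122)))) (BT.node 126 (BT.node 124 (BT.node 123 (BT.leaf cE123) (BT.leaf cE124)) (BT.node 125 (BT.leaf cE125) (BT.leaf cE126))) (BT.node 128 (BT.node 127 (BT.leaf cE127) (BT.leaf cE128)) (BT.leaf cE129)))) (BT.node 136 (BT.node 133 (BT.node 131 (BT.node 130 (BT.leaf cE130) (BT.leaf cE131)) (BT.node 132 (BT.leaf cE132) (BT.leaf cE133))) (BT.node 135 (BT.node 134 (BT.leaf cE134) (BT.leaf cE135)) (BT.leaf cE136))) (BT.node 140 (BT.node 138 (BT.node 137 (BT.leaf cE137) (BT.leaf cE138)) (BT.node 139 (BT.leaf cE139) (BT.leaf cE140))) (BT.node 142 (BT.node 141 (BT.leaf cE141) (BT.leaf cE142)) (BT.leaf cE143))))) (BT.node 157 (BT.node 150 (BT.node 147 (BT.node 145 (BT.node 144 (BT.leaf cE144) (BT.leaf cE145)) (BT.node 146 (BT.leaf cE146) (BT.leaf cE147))) (BT.node 149 (BT.node 148 (BT.leaf cE148) (BT.leaf cE149)) (BT.leaf cE150))) (BT.node 154 (BT.node 152 (BT.node 151 (BT.leaf cE151) (BT.leaf cE152)) (BT.node 153 (BT.leaf cE153) (BT.leaf cE154))) (BT.node 156 (BT.node 155 (BT.leaf cE155) (BT.leaf cE156)) (BT.leaf cE157)))) (BT.node 164 (BT.node 161 (BT.node 159 (BT.node 158 (BT.leaf cE158) (BT.leaf cE159)) (BT.node 160 (BT.leaf cE160) (BT.leaf cE161))) (BT.node 163 (BT.node 162 (BT.leaf cE162) (BT.leaf cE163)) (BT.leaf cE164))) (BT.node 168 (BT.node 166 (BT.node 165 (BT.leaf cE165) (BT.leaf cE166)) (BT.node 167 (BT.leaf cE167) (BT.leaf cE168))) (BT.node 170 (BT.node 169 (BT.leaf cE169) (BT.leaf cE170)) (BT.leaf cE171)))))) (BT.node 200 (BT.node 186 (BT.node 179 (BT.node 175 (BT.node 173 (BT.node 172 (BT.leaf cE172) (BT.leaf cE173)) (BT.node 174 (BT.leaf cE174) (BT.leaf cE175))) (BT.node 177 (BT.node 176 (BT.leaf cE176) (BT.leaf cE177)) (BT.node 178 (BT.leaf cE178) (BT.leaf cE179)))) (BT.node 183 (BT.node 181 (BT.node 180 (BT.leaf cE180) (BT.leaf cE181)) (BT.node 182 (BT.leaf cE182) (BT.leaf cE183))) (BT.node 185 (BT.node 184 (BT.leaf cE184) (BT.leaf cE185)) (BT.leaf cE186)))) (BT.node 193 (BT.node 190 (BT.node 188 (BT.node 187 (BT.leaf cE187) (BT.leaf cE188)) (BT.node 189 (BT.leaf cE189) (BT.leaf cE190))) (BT.node 192 (BT.node 191 (BT.leaf cE191) (BT.leaf cE192)) (BT.leaf cE193))) (BT.node 197 (BT.node 195 (BT.node 194 (BT.leaf cE194) (BT.leaf cE195)) (BT.node 196 (BT.leaf cE196) (BT.leaf cE197))) (BT.node 199 (BT.node 198 (BT.leaf cE198) (BT.leaf cE199)) (BT.leaf cE200))))) (BT.node 214 (BT.node 207 (BT.node 204 (BT.node 202 (BT.node 201 (BT.leaf cE201) (BT.leaf cE202)) (BT.node 203 (BT.leaf cE203) (BT.leaf cE204))) (BT.node 206 (BT.node 205 (BT.leaf cE205) (BT.leaf cE206)) (BT.leaf cE207))) (BT.node 211 (BT.node 209 (BT.node 208 (BT.leaf cE208) (BT.leaf cE209)) (BT.node 210 (BT.leaf cE210) (BT.leaf cE211))) (BT.node 213 (BT.node 212 (BT.leaf cE212) (BT.leaf cE213)) (BT.leaf cE214)))) (BT.node 221 (BT.node 218 (BT.node 216 (BT.node 215 (BT.leaf cE215) (BT.leaf cE216)) (BT.node 217 (BT.leaf cE217) (BT.leaf cE218))) (BT.node 220 (BT.node 219 (BT.leaf cE219) (BT.leaf cE220)) (BT.leaf cE221))) (BT.node 225 (BT.node 223 (BT.node 222 (BT.leaf cE222) (BT.leaf cE223)) (BT.node 224 (BT.leaf cE224) (BT.leaf cE225))) (BT.node 227 (BT.node 226 (BT.leaf cE226) (BT.leaf cE227)) (BT.leaf cE228)))))))) (BT.node 343 (BT.node 286 (BT.node 257 (BT.node 243 (BT.node 236 (BT.node 232 (BT.node 230 (BT.node 229 (BT.leaf cE229) (BT.leaf cE230)) (BT.node 231 (BT.leaf cE231) (BT.leaf cE232))) (BT.node 234 (BT.node 233 (BT.leaf cE233) (BT.leaf cE234)) (BT.node 235 (BT.leaf cE235) (BT.leaf cE236)))) (BT.node 240 (BT.node 238 (BT.node 237 (BT.leaf cE237) (BT.leaf cE238)) (BT.node 239 (BT.leaf cE239) (BT.leaf cE240))) (BT.node 242 (BT.node 241 (BT.leaf cE241) (BT.leaf cE242)) (BT.leaf cE243)))) (BT.node 250 (BT.node 247 (BT.node 245 (BT.node 244 (BT.leaf cE244) (BT.leaf cE245)) (BT.node 246 (BT.leaf cE246) (BT.leaf cE247))) (BT.node 249 (BT.node 248 (BT.leaf cE248) (BT.leaf cE249)) (BT.leaf cE250))) (BT.node 254 (BT.node 252 (BT.node 251 (BT.leaf cE251) (BT.leaf cE252)) (BT.node 253 (BT.leaf cE253) (BT.leaf cE254))) (BT.node 256 (BT.node 255 (BT.leaf cE255) (BT.leaf cE256)) (BT.leaf cE257))))) (BT.node 272 (BT.node 265 (BT.node 261 (BT.node 259 (BT.node 258 (BT.leaf cE258) (BT.leaf cE259)) (BT.node 260 (BT.leaf cE260) (BT.leaf cE261))) (BT.node 263 (BT.node 262 (BT.leaf cE262) (BT.leaf cE263)) (BT.node 264 (BT.leaf cE264) (BT.leaf cE265)))) (BT.node 269 (BT.node 267 (BT.node 266 (BT.leaf cE266) (BT.leaf cE267)) (BT.node 268 (BT.leaf cE268) (BT.leaf cE269))) (BT.node 271 (BT.node 270 (BT.leaf cE270) (BT.leaf cE271)) (BT.leaf cE272)))) (BT.node 279 (BT.node 276 (BT.node 274 (BT.node 273 (BT.leaf cE273) (BT.leaf cE274)) (BT.node 275 (BT.leaf cE275) (BT.leaf cE276))) (BT.node 278 (BT.node 277 (BT.leaf cE277) (BT.leaf cE278)) (BT.leaf cE279))) (BT.node 283 (BT.node 281 (BT.node 280 (BT.leaf cE280) (BT.leaf cE281)) (BT.node 282 (BT.leaf cE282) (BT.leaf cE283))) (BT.node 285 (BT.node 284 (BT.leaf cE284) (BT.leaf cE285)) (BT.leaf cE286)))))) (BT.node 315 (BT.node 301 (BT.node 294 (BT.node 290 (BT.node 288 (BT.node 287 (BT.leaf cE287) (BT.leaf cE288)) (BT.node 289 (BT.leaf cE289) (BT.leaf cE290))) (BT.node 292 (BT.node 291 (BT.leaf cE291) (BT.leaf cE292)) (BT.node 293 (BT.leaf cE293) (BT.leaf cE294)))) (BT.node 298 (BT.node 296 (BT.node 295 (BT.leaf cE295) (BT.leaf cE296)) (BT.node 297 (BT.leaf cE297) (BT.leaf cE298))) (BT.node 300 (BT.node 299 (BT.leaf cE299) (BT.leaf cE300)) (BT.leaf cE301)))) (BT.node 308 (BT.node 305 (BT.node 303 (BT.node 302 (BT.leaf cE302) (BT.leaf cE303)) (BT.node 304 (BT.leaf cE304) (BT.leaf cE305))) (BT.node 307 (BT.node 306 (BT.leaf cE306) (BT.leaf cE307)) (BT.leaf cE308))) (BT.node 312 (BT.node 310 (BT.node 309 (BT.leaf cE309) (BT.leaf cE310)) (BT.node 311 (BT.leaf cE311) (BT.leaf cE312))) (BT.node 314 (BT.node 313 (BT.leaf cE313) (BT.leaf cE314)) (BT.leaf cE315))))) (BT.node 329 (BT.node 322 (BT.node 319 (BT.node 317 (BT.node 316 (BT.leaf cE316) (BT.leaf cE317)) (BT.node 318 (BT.leaf cE318) (BT.leaf cE319))) (BT.node 321 (BT.node 320 (BT.leaf cE320) (BT.leaf cE321)) (BT.leaf cE322))) (BT.node 326 (BT.node 324 (BT.node 323 (BT.leaf cE323) (BT.leaf cE324)) (BT.node 325 (BT.leaf cE325) (BT.leaf cE326))) (BT.node 328 (BT.node 327 (BT.leaf cE327) (BT.leaf cE328)) (BT.leaf cE329)))) (BT.node 336 (BT.node 333 (BT.node 331 (BT.node 330 (BT.leaf cE330) (BT.leaf cE331)) (BT.node 332 (BT.leaf cE332) (BT.leaf cE333))) (BT.node 335 (BT.node 334 (BT.leaf cE334) (BT.leaf cE335)) (BT.leaf cE336))) (BT.node 340 (BT.node 338 (BT.node 337 (BT.leaf cE337) (BT.leaf cE338)) (BT.node 339 (BT.leaf cE339) (BT.leaf cE340))) (BT.node 342 (BT.node 341 (BT.leaf cE341) (BT.leaf cE342)) (BT.leaf cE343))))))) (BT.node 400 (BT.node 372 (BT.node 358 (BT.node 351 (BT.node 347 (BT.node 345 (BT.node 344 (BT.leaf cE344) (BT.leaf cE345)) (BT.node 346 (BT.leaf cE346) (BT.leaf cE347))) (BT.node 349 (BT.node 348 (BT.leaf cE348) (BT.leaf cE349)) (BT.node 350 (BT.leaf cE350) (BT.leaf cE351)))) (BT.node 355 (BT.node 353 (BT.node 352 (BT.leaf cE352) (BT.leaf cE353)) (BT.node 354 (BT.leaf cE354) (BT.leaf cE355))) (BT.node 357 (BT.node 356 (BT.leaf cE356) (BT.leaf cE357)) (BT.leaf cE358)))) (BT.node 365 (BT.node 362 (BT.node 360 (BT.node 359 (BT.leaf cE359) (BT.leaf cE360)) (BT.node 361 (BT.leaf cE361) (BT.leaf cE362))) (BT.node 364 (BT.node 363 (BT.leaf cE363) (BT.leaf cE364)) (BT.leaf cE365))) (BT.node 369 (BT.node 367 (BT.node 366 (BT.leaf cE366) (BT.leaf cE367)) (BT.node 368 (BT.leaf cE368) (BT.leaf cE369))) (BT.node 371 (BT.node 370 (BT.leaf cE370) (BT.leaf cE371)) (BT.leaf cE372))))) (BT.node 386 (BT.node 379 (BT.node 376 (BT.node 374 (BT.node 373 (BT.leaf cE373) (BT.leaf cE374)) (BT.node 375 (BT.leaf cE375) (BT.leaf cE376))) (BT.node 378 (BT.node 377 (BT.leaf cE377) (BT.leaf cE378)) (BT.leaf cE379))) (BT.node 383 (BT.node 381 (BT.node 380 (BT.leaf cE380) (BT.leaf cE381)) (BT.node 382 (BT.leaf cE382) (BT.leaf cE383))) (BT.node 385 (BT.node 384 (BT.leaf cE384) (BT.leaf cE385)) (BT.leaf cE386)))) (BT.node 393 (BT.node 390 (BT.node 388 (BT.node 387 (BT.leaf cE387) (BT.leaf cE388)) (BT.node 389 (BT.leaf cE389) (BT.leaf cE390))) (BT.node 392 (BT.node 391 (BT.leaf cE391) (BT.leaf cE392)) (BT.leaf cE393))) (BT.node 397 (BT.node 395 (BT.node 394 (BT.leaf cE394) (BT.leaf cE395)) (BT.node 396 (BT.leaf cE396) (BT.leaf cE397))) (BT.node 399 (BT.node 398 (BT.leaf cE398) (BT.leaf cE399)) (BT.leaf cE400)))))) (BT.node 429 (BT.node 415 (BT.node 408 (BT.node 404 (BT.node 402 (BT.node 401 (BT.leaf cE401) (BT.leaf cE402)) (BT.node 403 (BT.leaf cE403) (BT.leaf cE404))) (BT.node 406 (BT.node 405 (BT.leaf cE405) (BT.leaf cE406)) (BT.node 407 (BT.leaf cE407) (BT.leaf cE408)))) (BT.node 412 (BT.node 410 (BT.node 409 (BT.leaf cE409) (BT.leaf cE410)) (BT.node 411 (BT.leaf cE411) (BT.leaf cE412))) (BT.node 414 (BT.node 413 (BT.leaf cE413) (BT.leaf cE414)) (BT.leaf cE415)))) (BT.node 422 (BT.node 419 (BT.node 417 (BT.node 416 (BT.leaf cE416) (BT.leaf cE417)) (BT.node 418 (BT.leaf cE418) (BT.leaf cE419))) (BT.node 421 (BT.node 420 (BT.leaf cE420) (BT.leaf cE421)) (BT.leaf cE422))) (BT.node 426 (BT.node 424 (BT.node 423 (BT.leaf cE423) (BT.leaf cE424)) (BT.node 425 (BT.leaf cE425) (BT.leaf cE426))) (BT.node 428 (BT.node 427 (BT.leaf cE427) (BT.leaf cE428)) (BT.leaf cE429))))) (BT.node 443 (BT.node 436 (BT.node 433 (BT.node 431 (BT.node 430 (BT.leaf cE430) (BT.leaf cE431)) (BT.node 432 (BT.leaf cE432) (BT.leaf cE433))) (BT.node 435 (BT.node 434 (BT.leaf cE434) (BT.leaf cE435)) (BT.leaf cE436))) (BT.node 440 (BT.node 438 (BT.node 437 (BT.leaf cE437) (BT.leaf cE438)) (BT.node 439 (BT.leaf cE439) (BT.leaf cE440))) (BT.node 442 (BT.node 441 (BT.leaf cE441) (BT.leaf cE442)) (BT.leaf cE443)))) (BT.node 450 (BT.node 447 (BT.node 445 (BT.node 444 (BT.leaf cE444) (BT.leaf cE445)) (BT.node 446 (BT.leaf cE446) (BT.leaf cE447))) (BT.node 449 (BT.node 448 (BT.leaf cE448) (BT.leaf cE449)) (BT.leaf cE450))) (BT.node 454 (BT.node 452 (BT.node 451 (BT.leaf cE451) (BT.leaf cE452)) (BT.node 453 (BT.leaf cE453) (BT.leaf cE454))) (BT.node 456 (BT.node 455 (BT.leaf cE455) (BT.leaf cE456)) (BT.leaf cE457))))))))) (BT.node 686 (BT.node 572 (BT.node 515 (BT.node 486 (BT.node 472 (BT.node 465 (BT.node 461 (BT.node 459 (BT.node 458 (BT.leaf cE458) (BT.leaf cE459)) (BT.node 460 (BT.leaf cE460) (BT.leaf cE461))) (BT.node 463 (BT.node 462 (BT.leaf cE462) (BT.leaf cE463)) (BT.node 464 (BT.leaf cE464) (BT.leaf cE465)))) (BT.node 469 (BT.node 467 (BT.node 466 (BT.leaf cE466) (BT.leaf cE467)) (BT.node 468 (BT.leaf cE468) (BT.leaf cE469))) (BT.node 471 (BT.node 470 (BT.leaf cE470) (BT.leaf cE471)) (BT.leaf cE472)))) (BT.node 479 (BT.node 476 (BT.node 474 (BT.node 473 (BT.leaf cE473) (BT.leaf cE474)) (BT.node 475 (BT.leaf cE475) (BT.leaf cE476))) (BT.node 478 (BT.node 477 (BT.leaf cE477) (BT.leaf cE478)) (BT.leaf cE479))) (BT.node 483 (BT.node 481 (BT.node 480 (BT.leaf cE480) (BT.leaf cE481)) (BT.node 482 (BT.leaf cE482) (BT.leaf cE483))) (BT.node 485 (BT.node 484 (BT.leaf cE484) (BT.leaf cE485)) (BT.leaf cE486))))) (BT.node 501 (BT.node 494 (BT.node 490 (BT.node 488 (BT.node 487 (BT.leaf cE487) (BT.leaf cE488)) (BT.node 489 (BT.leaf cE489) (BT.leaf cE490))) (BT.node 492 (BT.node 491 (BT.leaf cE491) (BT.leaf cE492)) (BT.node 493 (BT.leaf cE493) (BT.leaf cE494)))) (BT.node 498 (BT.node 496 (BT.node 495 (BT.leaf cE495) (BT.leaf cE496)) (BT.node 497 (BT.leaf cE497) (BT.leaf cE498))) (BT.node 500 (BT.node 499 (BT.leaf cE499) (BT.leaf cE500)) (BT.leaf cE501)))) (BT.node 508 (BT.node 505 (BT.node 503 (BT.node 502 (BT.leaf cE502) (BT.leaf cE503)) (BT.node 504 (BT.leaf cE504) (BT.leaf cE505))) (BT.node 507 (BT.node 506 (BT.leaf cE506) (BT.leaf cE507)) (BT.leaf cE508))) (BT.node 512 (BT.node 510 (BT.node 509 (BT.leaf cE509) (BT.leaf cE510)) (BT.node 511 (BT.leaf cE511) (BT.leaf cE512))) (BT.node 514 (BT.node 513 (BT.leaf cE513) (BT.leaf cE514)) (BT.leaf cE515)))))) (BT.node 544 (BT.node 530 (BT.node 523 (BT.node 519 (BT.node 517 (BT.node 516 (BT.leaf cE516) (BT.leaf cE517)) (BT.node 518 (BT.leaf cE518) (BT.leaf cE519))) (BT.node 521 (BT.node 520 (BT.leaf cE520) (BT.leaf cE521)) (BT.node 522 (BT.leaf cE522) (BT.leaf cE523)))) (BT.node 527 (BT.node 525 (BT.node 524 (BT.leaf cE524) (BT.leaf cE525)) (BT.node 526 (BT.leaf cE526) (BT.leaf cE527))) (BT.node 529 (BT.node 528 (BT.leaf cE528) (BT.leaf cE529)) (BT.leaf cE530)))) (BT.node 537 (BT.node 534 (BT.node 532 (BT.node 531 (BT.leaf cE531) (BT.leaf cE532)) (BT.node 533 (BT.leaf cE533) (BT.leaf cE534))) (BT.node 536 (BT.node 535 (BT.leaf cE535) (BT.leaf cE536)) (BT.leaf cE537))) (BT.node 541 (BT.node 539 (BT.node 538 (BT.leaf cE538) (BT.leaf cE539)) (BT.node 540 (BT.leaf cE540) (BT.leaf cE541))) (BT.node 543 (BT.node 542 (BT.leaf cE542) (BT.leaf cE543)) (BT.leaf cE544))))) (BT.node 558 (BT.node 551 (BT.node 548 (BT.node 546 (BT.node 545 (BT.leaf cE545) (BT.leaf cE546)) (BT.node 547 (BT.leaf cE547) (BT.leaf cE548))) (BT.node 550 (BT.node 549 (BT.leaf cE549) (BT.leaf cE550)) (BT.leaf cE551))) (BT.node 555 (BT.node 553 (BT.node 552 (BT.leaf cE552) (BT.leaf cE553)) (BT.node 554 (BT.leaf cE554) (BT.leaf cE555))) (BT.node 557 (BT.node 556 (BT.leaf cE556) (BT.leaf cE557)) (BT.leaf cE558)))) (BT.node 565 (BT.node 562 (BT.node 560 (BT.node 559 (BT.leaf cE559) (BT.leaf cE560)) (BT.node 561 (BT.leaf cE561) (BT.leaf cE562))) (BT.node 564 (BT.node 563 (BT.leaf cE563) (BT.leaf cE564)) (BT.leaf cE565))) (BT.node 569 (BT.node 567 (BT.node 566 (BT.leaf cE566) (BT.leaf cE567)) (BT.node 568 (BT.leaf cE568) (BT.leaf cE569))) (BT.node 571 (BT.node 570 (BT.leaf cE570) (BT.leaf cE571)) (BT.leaf cE572))))))) (BT.node 629 (BT.node 601 (BT.node 587 (BT.node 580 (BT.node 576 (BT.node 574 (BT.node 573 (BT.leaf cE573) (BT.leaf cE574)) (BT.node 575 (BT.leaf cE575) (BT.leaf cE576))) (BT.node 578 (BT.node 577 (BT.leaf cE577) (BT.leaf cE578)) (BT.node 579 (BT.leaf cE579) (BT.leaf cE580)))) (BT.node 584 (BT.node 582 (BT.node 581 (BT.leaf cE581) (BT.leaf cE582)) (BT.node 583 (BT.leaf cE583) (BT.leaf cE584))) (BT.node 586 (BT.node 585 (BT.leaf cE585) (BT.leaf cE586)) (BT.leaf cE587)))) (BT.node 594 (BT.node 591 (BT.node 589 (BT.node 588 (BT.leaf cE588) (BT.leaf cE589)) (BT.node 590 (BT.leaf cE590) (BT.leaf cE591))) (BT.node 593 (BT.node 592 (BT.leaf cE592) (BT.leaf cE593)) (BT.leaf cE594))) (BT.node 598 (BT.node 596 (BT.node 595 (BT.leaf cE595) (BT.leaf cE596)) (BT.node 597 (BT.leaf cE597) (BT.leaf cE598))) (BT.node 600 (BT.node 599 (BT.leaf cE599) (BT.leaf cE600)) (BT.leaf cE601))))) (BT.node 615 (BT.node 608 (BT.node 605 (BT.node 603 (BT.node 602 (BT.leaf cE602) (BT.leaf cE603)) (BT.node 604 (BT.leaf cE604) (BT.leaf cE605))) (BT.node 607 (BT.node 606 (BT.leaf cE606) (BT.leaf cE607)) (BT.leaf cE608))) (BT.node 612 (BT.node 610 (BT.node 609 (BT.leaf cE609) (BT.leaf cE610)) (BT.node 611 (BT.leaf cE611) (BT.leaf cE612))) (BT.node 614 (BT.node 613 (BT.leaf cE613) (BT.leaf cE614)) (BT.leaf cE615)))) (BT.node 622 (BT.node 619 (BT.node 617 (BT.node 616 (BT.leaf cE616) (BT.leaf cE617)) (BT.node 618 (BT.leaf cE618) (BT.leaf cE619))) (BT.node 621 (BT.node 620 (BT.leaf cE620) (BT.leaf cE621)) (BT.leaf cE622))) (BT.node 626 (BT.node 624 (BT.node 623 (BT.leaf cE623) (BT.leaf cE624)) (BT.node 625 (BT.leaf cE625) (BT.leaf cE626))) (BT.node 628 (BT.node 627 (BT.leaf cE627) (BT.leaf cE628)) (BT.leaf cE629)))))) (BT.node 658 (BT.node 644 (BT.node 637 (BT.node 633 (BT.node 631 (BT.node 630 (BT.leaf cE630) (BT.leaf cE631)) (BT.node 632 (BT.leaf cE632) (BT.leaf cE633))) (BT.node 635 (BT.node 634 (BT.leaf cE634) (BT.leaf cE635)) (BT.node 636 (BT.leaf cE636) (BT.leaf cE637)))) (BT.node 641 (BT.node 639 (BT.node 638 (BT.leaf cE638) (BT.leaf cE639)) (BT.node 640 (BT.leaf cE640) (BT.leaf cE641))) (BT.node 643 (BT.node 642 (BT.leaf cE642) (BT.leaf cE643)) (BT.leaf cE644)))) (BT.node 651 (BT.node 648 (BT.node 646 (BT.node 645 (BT.leaf cE645) (BT.leaf cE646)) (BT.node 647 (BT.leaf cE647) (BT.leaf cE648))) (BT.node 650 (BT.node 649 (BT.leaf cE649) (BT.leaf cE650)) (BT.leaf cE651))) (BT.node 655 (BT.node 653 (BT.node 652 (BT.leaf cE652) (BT.leaf cE653)) (BT.node 654 (BT.leaf cE654) (BT.leaf cE655))) (BT.node 657 (BT.node 656 (BT.leaf cE656) (BT.leaf cE657)) (BT.leaf cE658))))) (BT.node 672 (BT.node 665 (BT.node 662 (BT.node 660 (BT.node 659 (BT.leaf cE659) (BT.leaf cE660)) (BT.node 661 (BT.leaf cE661) (BT.leaf cE662))) (BT.node 664 (BT.node 663 (BT.leaf cE663) (BT.leaf cE664)) (BT.leaf cE665))) (BT.node 669 (BT.node 667 (BT.node 666 (BT.leaf cE666) (BT.leaf cE667)) (BT.node 668 (BT.leaf cE668) (BT.leaf cE669))) (BT.node 671 (BT.node 670 (BT.leaf cE670) (BT.leaf cE671)) (BT.leaf cE672)))) (BT.node 679 (BT.node 676 (BT.node 674 (BT.node 673 (BT.leaf cE673) (BT.leaf cE674)) (BT.node 675 (BT.leaf cE675) (BT.leaf cE676))) (BT.node 678 (BT.node 677 (BT.leaf cE677) (BT.leaf cE678)) (BT.leaf cE679))) (BT.node 683 (BT.node 681 (BT.node 680 (BT.leaf cE680) (BT.leaf cE681)) (BT.node 682 (BT.leaf cE682) (BT.leaf cE683))) (BT.node 685 (BT.node 684 (BT.leaf cE684) (BT.leaf cE685)) (BT.leaf cE686)))))))) (BT.node 800 (BT.node 743 (BT.node 715 (BT.node 701 (BT.node 694 (BT.node 690 (BT.node 688 (BT.node 687 (BT.leaf cE687) (BT.leaf cE688)) (BT.node 689 (BT.leaf cE689) (BT.leaf cE690))) (BT.node 692 (BT.node 691 (BT.leaf cE691) (BT.leaf cE692)) (BT.node 693 (BT.leaf cE693) (BT.leaf cE694)))) (BT.node 698 (BT.node 696 (BT.node 695 (BT.leaf cE695) (BT.leaf cE696)) (BT.node 697 (BT.leaf cE697) (BT.leaf cE698))) (BT.node 700 (BT.node 699 (BT.leaf cE699) (BT.leaf cE700)) (BT.leaf cE701)))) (BT.node 708 (BT.node 705 (BT.node 703 (BT.node 702 (BT.leaf cE702) (BT.leaf cE703)) (BT.node 704 (BT.leaf cE704) (BT.leaf cE705))) (BT.node 707 (BT.node 706 (BT.leaf cE706) (BT.leaf cE707)) (BT.leaf cE708))) (BT.node 712 (BT.node 710 (BT.node 709 (BT.leaf cE709) (BT.leaf cE710)) (BT.node 711 (BT.leaf cE711) (BT.leaf cE712))) (BT.node 714 (BT.node 713 (BT.leaf cE713) (BT.leaf cE714)) (BT.leaf cE715))))) (BT.node 729 (BT.node 722 (BT.node 719 (BT.node 717 (BT.node 716 (BT.leaf cE716) (BT.leaf cE717)) (BT.node 718 (BT.leaf cE718) (BT.leaf cE719))) (BT.node 721 (BT.node 720 (BT.leaf cE720) (BT.leaf cE721)) (BT.leaf cE722))) (BT.node 726 (BT.node 724 (BT.node 723 (BT.leaf cE723) (BT.leaf cE724)) (BT.node 725 (BT.leaf cE725) (BT.leaf cE726))) (BT.node 728 (BT.node 727 (BT.leaf cE727) (BT.leaf cE728)) (BT.leaf cE729)))) (BT.node 736 (BT.node 733 (BT.node 731 (BT.node 730 (BT.leaf cE730) (BT.leaf cE731)) (BT.node 732 (BT.leaf cE732) (BT.leaf cE733))) (BT.node 735 (BT.node 734 (BT.leaf cE734) (BT.leaf cE735)) (BT.leaf cE736))) (BT.node 740 (BT.node 738 (BT.node 737 (BT.leaf cE737) (BT.leaf cE738)) (BT.node 739 (BT.leaf cE739) (BT.leaf cE740))) (BT.node 742 (BT.node 741 (BT.leaf cE741) (BT.leaf cE742)) (BT.leaf cE743)))))) (BT.node 772 (BT.node 758 (BT.node 751 (BT.node 747 (BT.node 745 (BT.node 744 (BT.leaf cE744) (BT.leaf cE745)) (BT.node 746 (BT.leaf cE746) (BT.leaf cE747))) (BT.node 749 (BT.node 748 (BT.leaf cE748) (BT.leaf cE749)) (BT.node 750 (BT.leaf cE750) (BT.leaf cE751)))) (BT.node 755 (BT.node 753 (BT.node 752 (BT.leaf cE752) (BT.leaf cE753)) (BT.node 754 (BT.leaf cE754) (BT.leaf cE755))) (BT.node 757 (BT.node 756 (BT.leaf cE756) (BT.leaf cE757)) (BT.leaf cE758)))) (BT.node 765 (BT.node 762 (BT.node 760 (BT.node 759 (BT.leaf cE759) (BT.leaf cE760)) (BT.node 761 (BT.leaf cE761) (BT.leaf cE762))) (BT.node 764 (BT.node 763 (BT.leaf cE763) (BT.leaf cE764)) (BT.leaf cE765))) (BT.node 769 (BT.node 767 (BT.node 766 (BT.leaf cE766) (BT.leaf cE767)) (BT.node 768 (BT.leaf cE768) (BT.leaf cE769))) (BT.node 771 (BT.node 770 (BT.leaf cE770) (BT.leaf cE771)) (BT.leaf cE772))))) (BT.node 786 (BT.node 779 (BT.node 776 (BT.node 774 (BT.node 773 (BT.leaf cE773) (BT.leaf cE774)) (BT.node 775 (BT.leaf cE775) (BT.leaf cE776))) (BT.node 778 (BT.node 777 (BT.leaf cE777) (BT.leaf cE778)) (BT.leaf cE779))) (BT.node 783 (BT.node 781 (BT.node 780 (BT.leaf cE780) (BT.leaf cE781)) (BT.node 782 (BT.leaf cE782) (BT.leaf cE783))) (BT.node 785 (BT.node 784 (BT.leaf cE784) (BT.leaf cE785)) (BT.leaf cE786)))) (BT.node 793 (BT.node 790 (BT.node 788 (BT.node 787 (BT.leaf cE787) (BT.leaf cE788)) (BT.node 789 (BT.leaf cE789) (BT.leaf cE790))) (BT.node 792 (BT.node 791 (BT.leaf cE791) (BT.leaf cE792)) (BT.leaf cE793))) (BT.node 797 (BT.node 795 (BT.node 794 (BT.leaf cE794) (BT.leaf cE795)) (BT.node 796 (BT.leaf cE796) (BT.leaf cE797))) (BT.node 799 (BT.node 798 (BT.leaf cE798) (BT.leaf cE799)) (BT.leaf cE800))))))) (BT.node 857 (BT.node 829 (BT.node 815 (BT.node 808 (BT.node 804 (BT.node 802 (BT.node 801 (BT.leaf cE801) (BT.leaf cE802)) (BT.node 803 (BT.leaf cE803) (BT.leaf cE804))) (BT.node 806 (BT.node 805 (BT.leaf cE805) (BT.leaf cE806)) (BT.node 807 (BT.leaf cE807) (BT.leaf cE808)))) (BT.node 812 (BT.node 810 (BT.node 809 (BT.leaf cE809) (BT.leaf cE810)) (BT.node 811 (BT.leaf cE811) (BT.leaf cE812))) (BT.node 814 (BT.node 813 (BT.leaf cE813) (BT.leaf cE814)) (BT.leaf cE815)))) (BT.node 822 (BT.node 819 (BT.node 817 (BT.node 816 (BT.leaf cE816) (BT.leaf cE817)) (BT.node 818 (BT.leaf cE818) (BT.leaf cE819))) (BT.node 821 (BT.node 820 (BT.leaf cE820) (BT.leaf cE821)) (BT.leaf cE822))) (BT.node 826 (BT.node 824 (BT.node 823 (BT.leaf cE823) (BT.leaf cE824)) (BT.node 825 (BT.leaf cE825) (BT.leaf cE826))) (BT.node 828 (BT.node 827 (BT.leaf cE827) (BT.leaf cE828)) (BT.leaf cE829))))) (BT.node 843 (BT.node 836 (BT.node 833 (BT.node 831 (BT.node 830 (BT.leaf cE830) (BT.leaf cE831)) (BT.node 832 (BT.leaf cE832) (BT.leaf cE833))) (BT.node 835 (BT.node 834 (BT.leaf cE834) (BT.leaf cE835)) (BT.leaf cE836))) (BT.node 840 (BT.node 838 (BT.node 837 (BT.leaf cE837) (BT.leaf cE838)) (BT.node 839 (BT.leaf cE839) (BT.leaf cE840))) (BT.node 842 (BT.node 841 (BT.leaf cE841) (BT.leaf cE842)) (BT.leaf cE843)))) (BT.node 850 (BT.node 847 (BT.node 845 (BT.node 844 (BT.leaf cE844) (BT.leaf cE845)) (BT.node 846 (BT.leaf cE846) (BT.leaf cE847))) (BT.node 849 (BT.node 848 (BT.leaf cE848) (BT.leaf cE849)) (BT.leaf cE850))) (BT.node 854 (BT.node 852 (BT.node 851 (BT.leaf cE851) (BT.leaf cE852)) (BT.node 853 (BT.leaf cE853) (BT.leaf cE854))) (BT.node 856 (BT.node 855 (BT.leaf cE855) (BT.leaf cE856)) (BT.leaf cE857)))))) (BT.node 886 (BT.node 872 (BT.node 865 (BT.node 861 (BT.node 859 (BT.node 858 (BT.leaf cE858) (BT.leaf cE859)) (BT.node 860 (BT.leaf cE860) (BT.leaf cE861))) (BT.node 863 (BT.node 862 (BT.leaf cE862) (BT.leaf cE863)) (BT.node 864 (BT.leaf cE864) (BT.leaf cE865)))) (BT.node 869 (BT.node 867 (BT.node 866 (BT.leaf cE866) (BT.leaf cE867)) (BT.node 868 (BT.leaf cE868) (BT.leaf cE869))) (BT.node 871 (BT.node 870 (BT.leaf cE870) (BT.leaf cE871)) (BT.leaf cE872)))) (BT.node 879 (BT.node 876 (BT.node 874 (BT.node 873 (BT.leaf cE873) (BT.leaf cE874)) (BT.node 875 (BT.leaf cE875) (BT.leaf cE876))) (BT.node 878 (BT.node 877 (BT.leaf cE877) (BT.leaf cE878)) (BT.leaf cE879))) (BT.node 883 (BT.node 881 (BT.node 880 (BT.leaf cE880) (BT.leaf cE881)) (BT.node 882 (BT.leaf cE882) (BT.leaf cE883))) (BT.node 885 (BT.node 884 (BT.leaf cE884) (BT.leaf cE885)) (BT.leaf cE886))))) (BT.node 900 (BT.node 893 (BT.node 890 (BT.node 888 (BT.node 887 (BT.leaf cE887) (BT.leaf cE888)) (BT.node 889 (BT.leaf cE889) (BT.leaf cE890))) (BT.node 892 (BT.node 891 (BT.leaf cE891) (BT.leaf cE892)) (BT.leaf cE893))) (BT.node 897 (BT.node 895 (BT.node 894 (BT.leaf cE894) (BT.leaf cE895)) (BT.node 896 (BT.leaf cE896) (BT.leaf cE897))) (BT.node 899 (BT.node 898 (BT.leaf cE898) (BT.leaf cE899)) (BT.leaf cE900)))) (BT.node 907 (BT.node 904 (BT.node 902 (BT.node 901 (BT.leaf cE901) (BT.leaf cE902)) (BT.node 903 (BT.leaf cE903) (BT.leaf cE904))) (BT.node 906 (BT.node 905 (BT.leaf cE905) (BT.leaf cE906)) (BT.leaf cE907))) (BT.node 911 (BT.node 909 (BT.node 908 (BT.leaf cE908) (BT.leaf cE909)) (BT.node 910 (BT.leaf cE910) (BT.leaf cE911))) (BT.node 913 (BT.node 912 (BT.leaf cE912) (BT.leaf cE913)) (BT.leaf cE914)))))))))) (BT.node 1372 (BT.node 1143 (BT.node 1029 (BT.node 972 (BT.node 943 (BT.node 929 (BT.node 922 (BT.node 918 (BT.node 916 (BT.node 915 (BT.leaf cE915) (BT.leaf cE916)) (BT.node 917 (BT.leaf cE917) (BT.leaf cE918))) (BT.node 920 (BT.node 919 (BT.leaf cE919) (BT.leaf cE920)) (BT.node 921 (BT.leaf cE921) (BT.leaf cE922)))) (BT.node 926 (BT.node 924 (BT.node 923 (BT.leaf cE923) (BT.leaf cE924)) (BT.node 925 (BT.leaf cE925) (BT.leaf cE926))) (BT.node 928 (BT.node 927 (BT.leaf cE927) (BT.leaf cE928)) (BT.leaf cE929)))) (BT.node 936 (BT.node 933 (BT.node 931 (BT.node 930 (BT.leaf cE930) (BT.leaf cE931)) (BT.node 932 (BT.leaf cE932) (BT.leaf cE933))) (BT.node 935 (BT.node 934 (BT.leaf cE934) (BT.leaf cE935)) (BT.leaf cE936))) (BT.node 940 (BT.node 938 (BT.node 937 (BT.leaf cE937) (BT.leaf cE938)) (BT.node 939 (BT.leaf cE939) (BT.leaf cE940))) (BT.node 942 (BT.node 941 (BT.leaf cE941) (BT.leaf cE942)) (BT.leaf cE943))))) (BT.node 958 (BT.node 951 (BT.node 947 (BT.node 945 (BT.node 944 (BT.leaf cE944) (BT.leaf cE945)) (BT.node 946 (BT.leaf cE946) (BT.leaf cE947))) (BT.node 949 (BT.node 948 (BT.leaf cE948) (BT.leaf cE949)) (BT.node 950 (BT.leaf cE950) (BT.leaf cE951)))) (BT.node 955 (BT.node 953 (BT.node 952 (BT.leaf cE952) (BT.leaf cE953)) (BT.node 954 (BT.leaf cE954) (BT.leaf cE955))) (BT.node 957 (BT.node 956 (BT.leaf cE956) (BT.leaf cE957)) (BT.leaf cE958)))) (BT.node 965 (BT.node 962 (BT.node 960 (BT.node 959 (BT.leaf cE959) (BT.leaf cE960)) (BT.node 961 (BT.leaf cE961) (BT.leaf cE962))) (BT.node 964 (BT.node 963 (BT.leaf cE963) (BT.leaf cE964)) (BT.leaf cE965))) (BT.node 969 (BT.node 967 (BT.node 966 (BT.leaf cE966) (BT.leaf cE967)) (BT.node 968 (BT.leaf cE968) (BT.leaf cE969))) (BT.node 971 (BT.node 970 (BT.leaf cE970) (BT.leaf cE971)) (BT.leaf cE972)))))) (BT.node 1001 (BT.node 987 (BT.node 980 (BT.node 976 (BT.node 974 (BT.node 973 (BT.leaf cE973) (BT.leaf cE974)) (BT.node 975 (BT.leaf cE975) (BT.leaf cE976))) (BT.node 978 (BT.node 977 (BT.leaf cE977) (BT.leaf cE978)) (BT.node 979 (BT.leaf cE979) (BT.leaf cE980)))) (BT.node 984 (BT.node 982 (BT.node 981 (BT.leaf cE981) (BT.leaf cE982)) (BT.node 983 (BT.leaf cE983) (BT.leaf cE984))) (BT.node 986 (BT.node 985 (BT.leaf cE985) (BT.leaf cE986)) (BT.leaf cE987)))) (BT.node 994 (BT.node 991 (BT.node 989 (BT.node 988 (BT.leaf cE988) (BT.leaf cE989)) (BT.node 990 (BT.leaf cE990) (BT.leaf cE991))) (BT.node 993 (BT.node 992 (BT.leaf cE992) (BT.leaf cE993)) (BT.leaf cE994))) (BT.node 998 (BT.node 996 (BT.node 995 (BT.leaf cE995) (BT.leaf cE996)) (BT.node 997 (BT.leaf cE997) (BT.leaf cE998))) (BT.node 1000 (BT.node 999 (BT.leaf cE999) (BT.leaf cE1000)) (BT.leaf cE1001))))) (BT.node 1015 (BT.node 1008 (BT.node 1005 (BT.node 1003 (BT.node 1002 (BT.leaf cE1002) (BT.leaf cE1003)) (BT.node 1004 (BT.leaf cE1004) (BT.leaf cE1005))) (BT.node 1007 (BT.node 1006 (BT.leaf cE1006) (BT.leaf cE1007)) (BT.leaf cE1008))) (BT.node 1012 (BT.node 1010 (BT.node 1009 (BT.leaf cE1009) (BT.leaf cE1010)) (BT.node 1011 (BT.leaf cE1011) (BT.leaf cE1012))) (BT.node 1014 (BT.node 1013 (BT.leaf cE1013) (BT.leaf cE1014)) (BT.leaf cE1015)))) (BT.node 1022 (BT.node 1019 (BT.node 1017 (BT.node 1016 (BT.leaf cE1016) (BT.leaf cE1017)) (BT.node 1018 (BT.leaf cE1018) (BT.leaf cE1019))) (BT.node 1021 (BT.node 1020 (BT.leaf cE1020) (BT.leaf cE1021)) (BT.leaf cE1022))) (BT.node 1026 (BT.node 1024 (BT.node 1023 (BT.leaf cE1023) (BT.leaf cE1024)) (BT.node 1025 (BT.leaf cE1025) (BT.leaf cE1026))) (BT.node 1028 (BT.node 1027 (BT.leaf cE1027) (BT.leaf cE1028)) (BT.leaf cE1029))))))) (BT.node 1086 (BT.node 1058 (BT.node 1044 (BT.node 1037 (BT.node 1033 (BT.node 1031 (BT.node 1030 (BT.leaf cE1030) (BT.leaf cE1031)) (BT.node 1032 (BT.leaf cE1032) (BT.leaf cE1033))) (BT.node 1035 (BT.node 1034 (BT.leaf cE1034) (BT.leaf cE1035)) (BT.node 1036 (BT.leaf cE1036) (BT.leaf cE1037)))) (BT.node 1041 (BT.node 1039 (BT.node 1038 (BT.leaf cE1038) (BT.leaf cE1039)) (BT.node 1040 (BT.leaf cE1040) (BT.leaf cE1041))) (BT.node 1043 (BT.node 1042 (BT.leaf cE1042) (BT.leaf cE1043)) (BT.leaf cE1044)))) (BT.node 1051 (BT.node 1048 (BT.node 1046 (BT.node 1045 (BT.leaf cE1045) (BT.leaf cE1046)) (BT.node 1047 (BT.leaf cE1047) (BT.leaf cE1048))) (BT.node 1050 (BT.node 1049 (BT.leaf cE1049) (BT.leaf cE1050)) (BT.leaf cE1051))) (BT.node 1055 (BT.node 1053 (BT.node 1052 (BT.leaf cE1052) (BT.leaf cE1053)) (BT.node 1054 (BT.leaf cE1054) (BT.leaf cE1055))) (BT.node 1057 (BT.node 1056 (BT.leaf cE1056) (BT.leaf cE1057)) (BT.leaf cE1058))))) (BT.node 1072 (BT.node 1065 (BT.node 1062 (BT.node 1060 (BT.node 1059 (BT.leaf cE1059) (BT.leaf cE1060)) (BT.node 1061 (BT.leaf cE1061) (BT.leaf cE1062))) (BT.node 1064 (BT.node 1063 (BT.leaf cE1063) (BT.leaf cE1064)) (BT.leaf cE1065))) (BT.node 1069 (BT.node 1067 (BT.node 1066 (BT.leaf cE1066) (BT.leaf cE1067)) (BT.node 1068 (BT.leaf cE1068) (BT.leaf cE1069))) (BT.node 1071 (BT.node 1070 (BT.leaf cE1070) (BT.leaf cE1071)) (BT.leaf cE1072)))) (BT.node 1079 (BT.node 1076 (BT.node 1074 (BT.node 1073 (BT.leaf cE1073) (BT.leaf cE1074)) (BT.node 1075 (BT.leaf cE1075) (BT.leaf cE1076))) (BT.node 1078 (BT.node 1077 (BT.leaf cE1077) (BT.leaf cE1078)) (BT.leaf cE1079))) (BT.node 1083 (BT.node 1081 (BT.node 1080 (BT.leaf cE1080) (BT.leaf cE1081)) (BT.node 1082 (BT.leaf cE1082) (BT.leaf cE1083))) (BT.node 1085 (BT.node 1084 (BT.leaf cE1084) (BT.leaf cE1085)) (BT.leaf cE1086)))))) (BT.node 1115 (BT.node 1101 (BT.node 1094 (BT.node 1090 (BT.node 1088 (BT.node 1087 (BT.leaf cE1087) (BT.leaf cE1088)) (BT.node 1089 (BT.leaf cE1089) (BT.leaf cE1090))) (BT.node 1092 (BT.node 1091 (BT.leaf cE1091) (BT.leaf cE1092)) (BT.node 1093 (BT.leaf cE1093) (BT.leaf cE1094)))) (BT.node 1098 (BT.node 1096 (BT.node 1095 (BT.leaf cE1095) (BT.leaf cE1096)) (BT.node 1097 (BT.leaf cE1097) (BT.leaf cE1098))) (BT.node 1100 (BT.node 1099 (BT.leaf cE1099) (BT.leaf cE1100)) (BT.leaf cE1101)))) (BT.node 1108 (BT.node 1105 (BT.node 1103 (BT.node 1102 (BT.leaf cE1102) (BT.leaf cE1103)) (BT.node 1104 (BT.leaf cE1104) (BT.leaf cE1105))) (BT.node 1107 (BT.node 1106 (BT.leaf cE1106) (BT.leaf cE1107)) (BT.leaf cE1108))) (BT.node 1112 (BT.node 1110 (BT.node 1109 (BT.leaf cE1109) (BT.leaf cE1110)) (BT.node 1111 (BT.leaf cE1111) (BT.leaf cE1112))) (BT.node 1114 (BT.node 1113 (BT.leaf cE1113) (BT.leaf cE1114)) (BT.leaf cE1115))))) (BT.node 1129 (BT.node 1122 (BT.node 1119 (BT.node 1117 (BT.node 1116 (BT.leaf cE1116) (BT.leaf cE1117)) (BT.node 1118 (BT.leaf cE1118) (BT.leaf cE1119))) (BT.node 1121 (BT.node 1120 (BT.leaf cE1120) (BT.leaf cE1121)) (BT.leaf cE1122))) (BT.node 1126 (BT.node 1124 (BT.node 1123 (BT.leaf cE1123) (BT.leaf cE1124)) (BT.node 1125 (BT.leaf cE1125) (BT.leaf cE1126))) (BT.node 1128 (BT.node 1127 (BT.leaf cE1127) (BT.leaf cE1128)) (BT.leaf cE1129)))) (BT.node 1136 (BT.node 1133 (BT.node 1131 (BT.node 1130 (BT.leaf cE1130) (BT.leaf cE1131)) (BT.node 1132 (BT.leaf cE1132) (BT.leaf cE1133))) (BT.node 1135 (BT.node 1134 (BT.leaf cE1134) (BT.leaf cE1135)) (BT.leaf cE1136))) (BT.node 1140 (BT.node 1138 (BT.node 1137 (BT.leaf cE1137) (BT.leaf cE1138)) (BT.node 1139 (BT.leaf cE1139) (BT.leaf cE1140))) (BT.node 1142 (BT.node 1141 (BT.leaf cE1141) (BT.leaf cE1142)) (BT.leaf cE1143)))))))) (BT.node 1258 (BT.node 1201 (BT.node 1172 (BT.node 1158 (BT.node 1151 (BT.node 1147 (BT.node 1145 (BT.node 1144 (BT.leaf cE1144) (BT.leaf cE1145)) (BT.node 1146 (BT.leaf cE1146) (BT.leaf cE1147))) (BT.node 1149 (BT.node 1148 (BT.leaf cE1148) (BT.leaf cE1149)) (BT.node 1150 (BT.leaf cE1150) (BT.leaf cE1151)))) (BT.node 1155 (BT.node 1153 (BT.node 1152 (BT.leaf cE1152) (BT.leaf cE1153)) (BT.node 1154 (BT.leaf cE1154) (BT.leaf cE1155))) (BT.node 1157 (BT.node 1156 (BT.leaf cE1156) (BT.leaf cE1157)) (BT.leaf cE1158)))) (BT.node 1165 (BT.node 1162 (BT.node 1160 (BT.node 1159 (BT.leaf cE1159) (BT.leaf cE1160)) (BT.node 1161 (BT.leaf cE1161) (BT.leaf cE1162))) (BT.node 1164 (BT.node 1163 (BT.leaf cE1163) (BT.leaf cE1164)) (BT.leaf cE1165))) (BT.node 1169 (BT.node 1167 (BT.node 1166 (BT.leaf cE1166) (BT.leaf cE1167)) (BT.node 1168 (BT.leaf cE1168) (BT.leaf cE1169))) (BT.node 1171 (BT.node 1170 (BT.leaf cE1170) (BT.leaf cE1171)) (BT.leaf cE1172))))) (BT.node 1187 (BT.node 1180 (BT.node 1176 (BT.node 1174 (BT.node 1173 (BT.leaf cE1173) (BT.leaf cE1174)) (BT.node 1175 (BT.leaf cE1175) (BT.leaf cE1176))) (BT.node 1178 (BT.node 1177 (BT.leaf cE1177) (BT.leaf cE1178)) (BT.node 1179 (BT.leaf cE1179) (BT.leaf cE1180)))) (BT.node 1184 (BT.node 1182 (BT.node 1181 (BT.leaf cE1181) (BT.leaf cE1182)) (BT.node 1183 (BT.leaf cE1183) (BT.leaf cE1184))) (BT.node 1186 (BT.node 1185 (BT.leaf cE1185) (BT.leaf cE1186)) (BT.leaf cE1187)))) (BT.node 1194 (BT.node 1191 (BT.node 1189 (BT.node 1188 (BT.leaf cE1188) (BT.leaf cE1189)) (BT.node 1190 (BT.leaf cE1190) (BT.leaf cE1191))) (BT.node 1193 (BT.node 1192 (BT.leaf cE1192) (BT.leaf cE1193)) (BT.leaf cE1194))) (BT.node 1198 (BT.node 1196 (BT.node 1195 (BT.leaf cE1195) (BT.leaf cE1196)) (BT.node 1197 (BT.leaf cE1197) (BT.leaf cE1198))) (BT.node 1200 (BT.node 1199 (BT.leaf cE1199) (BT.leaf cE1200)) (BT.leaf cE1201)))))) (BT.node 1230 (BT.node 1216 (BT.node 1209 (BT.node 1205 (BT.node 1203 (BT.node 1202 (BT.leaf cE1202) (BT.leaf cE1203)) (BT.node 1204 (BT.leaf cE1204) (BT.leaf cE1205))) (BT.node 1207 (BT.node 1206 (BT.leaf cE1206) (BT.leaf cE1207)) (BT.node 1208 (BT.leaf cE1208) (BT.leaf cE1209)))) (BT.node 1213 (BT.node 1211 (BT.node 1210 (BT.leaf cE1210) (BT.leaf cE1211)) (BT.node 1212 (BT.leaf cE1212) (BT.leaf cE1213))) (BT.node 1215 (BT.node 1214 (BT.leaf cE1214) (BT.leaf cE1215)) (BT.leaf cE1216)))) (BT.node 1223 (BT.node 1220 (BT.node 1218 (BT.node 1217 (BT.leaf cE1217) (BT.leaf cE1218)) (BT.node 1219 (BT.leaf cE1219) (BT.leaf cE1220))) (BT.node 1222 (BT.node 1221 (BT.leaf cE1221) (BT.leaf cE1222)) (BT.leaf cE1223))) (BT.node 1227 (BT.node 1225 (BT.node 1224 (BT.leaf cE1224) (BT.leaf cE1225)) (BT.node 1226 (BT.leaf cE1226) (BT.leaf cE1227))) (BT.node 1229 (BT.node 1228 (BT.leaf cE1228) (BT.leaf cE1229)) (BT.leaf cE1230))))) (BT.node 1244 (BT.node 1237 (BT.node 1234 (BT.node 1232 (BT.node 1231 (BT.leaf cE1231) (BT.leaf cE1232)) (BT.node 1233 (BT.leaf cE1233) (BT.leaf cE1234))) (BT.node 1236 (BT.node 1235 (BT.leaf cE1235) (BT.leaf cE1236)) (BT.leaf cE1237))) (BT.node 1241 (BT.node 1239 (BT.node 1238 (BT.leaf cE1238) (BT.leaf cE1239)) (BT.node 1240 (BT.leaf cE1240) (BT.leaf cE1241))) (BT.node 1243 (BT.node 1242 (BT.leaf cE1242) (BT.leaf cE1243)) (BT.leaf cE1244)))) (BT.node 1251 (BT.node 1248 (BT.node 1246 (BT.node 1245 (BT.leaf cE1245) (BT.leaf cE1246)) (BT.node 1247 (BT.leaf cE1247) (BT.leaf cE1248))) (BT.node 1250 (BT.node 1249 (BT.leaf cE1249) (BT.leaf cE1250)) (BT.leaf cE1251))) (BT.node 1255 (BT.node 1253 (BT.node 1252 (BT.leaf cE1252) (BT.leaf cE1253)) (BT.node 1254 (BT.leaf cE1254) (BT.leaf cE1255))) (BT.node 1257 (BT.node 1256 (BT.leaf cE1256) (BT.leaf cE1257)) (BT.leaf cE1258))))))) (BT.node 1315 (BT.node 1287 (BT.node 1273 (BT.node 1266 (BT.node 1262 (BT.node 1260 (BT.node 1259 (BT.leaf cE1259) (BT.leaf cE1260)) (BT.node 1261 (BT.leaf cE1261) (BT.leaf cE1262))) (BT.node 1264 (BT.node 1263 (BT.leaf cE1263) (BT.leaf cE1264)) (BT.node 1265 (BT.leaf cE1265) (BT.leaf cE1266)))) (BT.node 1270 (BT.node 1268 (BT.node 1267 (BT.leaf cE1267) (BT.leaf cE1268)) (BT.node 1269 (BT.leaf cE1269) (BT.leaf cE1270))) (BT.node 1272 (BT.node 1271 (BT.leaf cE1271) (BT.leaf cE1272)) (BT.leaf cE1273)))) (BT.node 1280 (BT.node 1277 (BT.node 1275 (BT.node 1274 (BT.leaf cE1274) (BT.leaf cE1275)) (BT.node 1276 (BT.leaf cE1276) (BT.leaf cE1277))) (BT.node 1279 (BT.node 1278 (BT.leaf cE1278) (BT.leaf cE1279)) (BT.leaf cE1280))) (BT.node 1284 (BT.node 1282 (BT.node 1281 (BT.leaf cE1281) (BT.leaf cE1282)) (BT.node 1283 (BT.leaf cE1283) (BT.leaf cE1284))) (BT.node 1286 (BT.node 1285 (BT.leaf cE1285) (BT.leaf cE1286)) (BT.leaf cE1287))))) (BT.node 1301 (BT.node 1294 (BT.node 1291 (BT.node 1289 (BT.node 1288 (BT.leaf cE1288) (BT.leaf cE1289)) (BT.node 1290 (BT.leaf cE1290) (BT.leaf cE1291))) (BT.node 1293 (BT.node 1292 (BT.leaf cE1292) (BT.leaf cE1293)) (BT.leaf cE1294))) (BT.node 1298 (BT.node 1296 (BT.node 1295 (BT.leaf cE1295) (BT.leaf cE1296)) (BT.node 1297 (BT.leaf cE1297) (BT.leaf cE1298))) (BT.node 1300 (BT.node 1299 (BT.leaf cE1299) (BT.leaf cE1300)) (BT.leaf cE1301)))) (BT.node 1308 (BT.node 1305 (BT.node 1303 (BT.node 1302 (BT.leaf cE1302) (BT.leaf cE1303)) (BT.node 1304 (BT.leaf cE1304) (BT.leaf cE1305))) (BT.node 1307 (BT.node 1306 (BT.leaf cE1306) (BT.leaf cE1307)) (BT.leaf cE1308))) (BT.node 1312 (BT.node 1310 (BT.node 1309 (BT.leaf cE1309) (BT.leaf cE1310)) (BT.node 1311 (BT.leaf cE1311) (BT.leaf cE1312))) (BT.node 1314 (BT.node 1313 (BT.leaf cE1313) (BT.leaf cE1314)) (BT.leaf cE1315)))))) (BT.node 1344 (BT.node 1330 (BT.node 1323 (BT.node 1319 (BT.node 1317 (BT.node 1316 (BT.leaf cE1316) (BT.leaf cE1317)) (BT.node 1318 (BT.leaf cE1318) (BT.leaf cE1319))) (BT.node 1321 (BT.node 1320 (BT.leaf cE1320) (BT.leaf cE1321)) (BT.node 1322 (BT.leaf cE1322) (BT.leaf cE1323)))) (BT.node 1327 (BT.node 1325 (BT.node 1324 (BT.leaf cE1324) (BT.leaf cE1325)) (BT.node 1326 (BT.leaf cE1326) (BT.leaf cE1327))) (BT.node 1329 (BT.node 1328 (BT.leaf cE1328) (BT.leaf cE1329)) (BT.leaf cE1330)))) (BT.node 1337 (BT.node 1334 (BT.node 1332 (BT.node 1331 (BT.leaf cE1331) (BT.leaf cE1332)) (BT.node 1333 (BT.leaf cE1333) (BT.leaf cE1334))) (BT.node 1336 (BT.node 1335 (BT.leaf cE1335) (BT.leaf cE1336)) (BT.leaf cE1337))) (BT.node 1341 (BT.node 1339 (BT.node 1338 (BT.leaf cE1338) (BT.leaf cE1339)) (BT.node 1340 (BT.leaf cE1340) (BT.leaf cE1341))) (BT.node 1343 (BT.node 1342 (BT.leaf cE1342) (BT.leaf cE1343)) (BT.leaf cE1344))))) (BT.node 1358 (BT.node 1351 (BT.node 1348 (BT.node 1346 (BT.node 1345 (BT.leaf cE1345) (BT.leaf cE1346)) (BT.node 1347 (BT.leaf cE1347) (BT.leaf cE1348))) (BT.node 1350 (BT.node 1349 (BT.leaf cE1349) (BT.leaf cE1350)) (BT.leaf cE1351))) (BT.node 1355 (BT.node 1353 (BT.node 1352 (BT.leaf cE1352) (BT.leaf cE1353)) (BT.node 1354 (BT.leaf cE1354) (BT.leaf cE1355))) (BT.node 1357 (BT.node 1356 (BT.leaf cE1356) (BT.leaf cE1357)) (BT.leaf cE1358)))) (BT.node 1365 (BT.node 1362 (BT.node 1360 (BT.node 1359 (BT.leaf cE1359) (BT.leaf cE1360)) (BT.node 1361 (BT.leaf cE1361) (BT.leaf cE1362))) (BT.node 1364 (BT.node 1363 (BT.leaf cE1363) (BT.leaf cE1364)) (BT.leaf cE1365))) (BT.node 1369 (BT.node 1367 (BT.node 1366 (BT.leaf cE1366) (BT.leaf cE1367)) (BT.node 1368 (BT.leaf cE1368) (BT.leaf cE1369))) (BT.node 1371 (BT.node 1370 (BT.leaf cE1370) (BT.leaf cE1371)) (BT.leaf cE1372))))))))) (BT.node 1601 (BT.node 1487 (BT.node 1430 (BT.node 1401 (BT.node 1387 (BT.node 1380 (BT.node 1376 (BT.node 1374 (BT.node 1373 (BT.leaf cE1373) (BT.leaf cE1374)) (BT.node 1375 (BT.leaf cE1375) (BT.leaf cE1376))) (BT.node 1378 (BT.node 1377 (BT.leaf cE1377) (BT.leaf cE1378)) (BT.node 1379 (BT.leaf cE1379) (BT.leaf cE1380)))) (BT.node 1384 (BT.node 1382 (BT.node 1381 (BT.leaf cE1381) (BT.leaf cE1382)) (BT.node 1383 (BT.leaf cE1383) (BT.leaf cE1384))) (BT.node 1386 (BT.node 1385 (BT.leaf cE1385) (BT.leaf cE1386)) (BT.leaf cE1387)))) (BT.node 1394 (BT.node 1391 (BT.node 1389 (BT.node 1388 (BT.leaf cE1388) (BT.leaf cE1389)) (BT.node 1390 (BT.leaf cE1390) (BT.leaf cE1391))) (BT.node 1393 (BT.node 1392 (BT.leaf cE1392) (BT.leaf cE1393)) (BT.leaf cE1394))) (BT.node 1398 (BT.node 1396 (BT.node 1395 (BT.leaf cE1395) (BT.leaf cE1396)) (BT.node 1397 (BT.leaf cE1397) (BT.leaf cE1398))) (BT.node 1400 (BT.node 1399 (BT.leaf cE1399) (BT.leaf cE1400)) (BT.leaf cE1401))))) (BT.node 1416 (BT.node 1409 (BT.node 1405 (BT.node 1403 (BT.node 1402 (BT.leaf cE1402) (BT.leaf cE1403)) (BT.node 1404 (BT.leaf cE1404) (BT.leaf cE1405))) (BT.node 1407 (BT.node 1406 (BT.leaf cE1406) (BT.leaf cE1407)) (BT.node 1408 (BT.leaf cE1408) (BT.leaf cE1409)))) (BT.node 1413 (BT.node 1411 (BT.node 1410 (BT.leaf cE1410) (BT.leaf cE1411)) (BT.node 1412 (BT.leaf cE1412) (BT.leaf cE1413))) (BT.node 1415 (BT.node 1414 (BT.leaf cE1414) (BT.leaf cE1415)) (BT.leaf cE1416)))) (BT.node 1423 (BT.node 1420 (BT.node 1418 (BT.node 1417 (BT.leaf cE1417) (BT.leaf cE1418)) (BT.node 1419 (BT.leaf cE1419) (BT.leaf cE1420))) (BT.node 1422 (BT.node 1421 (BT.leaf cE1421) (BT.leaf cE1422)) (BT.leaf cE1423))) (BT.node 1427 (BT.node 1425 (BT.node 1424 (BT.leaf cE1424) (BT.leaf cE1425)) (BT.node 1426 (BT.leaf cE1426) (BT.leaf cE1427))) (BT.node 1429 (BT.node 1428 (BT.leaf cE1428) (BT.leaf cE1429)) (BT.leaf cE1430)))))) (BT.node 1459 (BT.node 1445 (BT.node 1438 (BT.node 1434 (BT.node 1432 (BT.node 1431 (BT.leaf cE1431) (BT.leaf cE1432)) (BT.node 1433 (BT.leaf cE1433) (BT.leaf cE1434))) (BT.node 1436 (BT.node 1435 (BT.leaf cE1435) (BT.leaf cE1436)) (BT.node 1437 (BT.leaf cE1437) (BT.leaf cE1438)))) (BT.node 1442 (BT.node 1440 (BT.node 1439 (BT.leaf cE1439) (BT.leaf cE1440)) (BT.node 1441 (BT.leaf cE1441) (BT.leaf cE1442))) (BT.node 1444 (BT.node 1443 (BT.leaf cE1443) (BT.leaf cE1444)) (BT.leaf cE1445)))) (BT.node 1452 (BT.node 1449 (BT.node 1447 (BT.node 1446 (BT.leaf cE1446) (BT.leaf cE1447)) (BT.node 1448 (BT.leaf cE1448) (BT.leaf cE1449))) (BT.node 1451 (BT.node 1450 (BT.leaf cE1450) (BT.leaf cE1451)) (BT.leaf cE1452))) (BT.node 1456 (BT.node 1454 (BT.node 1453 (BT.leaf cE1453) (BT.leaf cE1454)) (BT.node 1455 (BT.leaf cE1455) (BT.leaf cE1456))) (BT.node 1458 (BT.node 1457 (BT.leaf cE1457) (BT.leaf cE1458)) (BT.leaf cE1459))))) (BT.node 1473 (BT.node 1466 (BT.node 1463 (BT.node 1461 (BT.node 1460 (BT.leaf cE1460) (BT.leaf cE1461)) (BT.node 1462 (BT.leaf cE1462) (BT.leaf cE1463))) (BT.node 1465 (BT.node 1464 (BT.leaf cE1464) (BT.leaf cE1465)) (BT.leaf cE1466))) (BT.node 1470 (BT.node 1468 (BT.node 1467 (BT.leaf cE1467) (BT.leaf cE1468)) (BT.node 1469 (BT.leaf cE1469) (BT.leaf cE1470))) (BT.node 1472 (BT.node 1471 (BT.leaf cE1471) (BT.leaf cE1472)) (BT.leaf cE1473)))) (BT.node 1480 (BT.node 1477 (BT.node 1475 (BT.node 1474 (BT.leaf cE1474) (BT.leaf cE1475)) (BT.node 1476 (BT.leaf cE1476) (BT.leaf cE1477))) (BT.node 1479 (BT.node 1478 (BT.leaf cE1478) (BT.leaf cE1479)) (BT.leaf cE1480))) (BT.node 1484 (BT.node 1482 (BT.node 1481 (BT.leaf cE1481) (BT.leaf cE1482)) (BT.node 1483 (BT.leaf cE1483) (BT.leaf cE1484))) (BT.node 1486 (BT.node 1485 (BT.leaf cE1485) (BT.leaf cE1486)) (BT.leaf cE1487))))))) (BT.node 1544 (BT.node 1516 (BT.node 1502 (BT.node 1495 (BT.node 1491 (BT.node 1489 (BT.node 1488 (BT.leaf cE1488) (BT.leaf cE1489)) (BT.node 1490 (BT.leaf cE1490) (BT.leaf cE1491))) (BT.node 1493 (BT.node 1492 (BT.leaf cE1492) (BT.leaf cE1493)) (BT.node 1494 (BT.leaf cE1494) (BT.leaf cE1495)))) (BT.node 1499 (BT.node 1497 (BT.node 1496 (BT.leaf cE1496) (BT.leaf cE1497)) (BT.node 1498 (BT.leaf cE1498) (BT.leaf cE1499))) (BT.node 1501 (BT.node 1500 (BT.leaf cE1500) (BT.leaf cE1501)) (BT.leaf cE1502)))) (BT.node 1509 (BT.node 1506 (BT.node 1504 (BT.node 1503 (BT.leaf cE1503) (BT.leaf cE1504)) (BT.node 1505 (BT.leaf cE1505) (BT.leaf cE1506))) (BT.node 1508 (BT.node 1507 (BT.leaf cE1507) (BT.leaf cE1508)) (BT.leaf cE1509))) (BT.node 1513 (BT.node 1511 (BT.node 1510 (BT.leaf cE1510) (BT.leaf cE1511)) (BT.node 1512 (BT.leaf cE1512) (BT.leaf cE1513))) (BT.node 1515 (BT.node 1514 (BT.leaf cE1514) (BT.leaf cE1515)) (BT.leaf cE1516))))) (BT.node 1530 (BT.node 1523 (BT.node 1520 (BT.node 1518 (BT.node 1517 (BT.leaf cE1517) (BT.leaf cE1518)) (BT.node 1519 (BT.leaf cE1519) (BT.leaf cE1520))) (BT.node 1522 (BT.node 1521 (BT.leaf cE1521) (BT.leaf cE1522)) (BT.leaf cE1523))) (BT.node 1527 (BT.node 1525 (BT.node 1524 (BT.leaf cE1524) (BT.leaf cE1525)) (BT.node 1526 (BT.leaf cE1526) (BT.leaf cE1527))) (BT.node 1529 (BT.node 1528 (BT.leaf cE1528) (BT.leaf cE1529)) (BT.leaf cE1530)))) (BT.node 1537 (BT.node 1534 (BT.node 1532 (BT.node 1531 (BT.leaf cE1531) (BT.leaf cE1532)) (BT.node 1533 (BT.leaf cE1533) (BT.leaf cE1534))) (BT.node 1536 (BT.node 1535 (BT.leaf cE1535) (BT.leaf cE1536)) (BT.leaf cE1537))) (BT.node 1541 (BT.node 1539 (BT.node 1538 (BT.leaf cE1538) (BT.leaf cE1539)) (BT.node 1540 (BT.leaf cE1540) (BT.leaf cE1541))) (BT.node 1543 (BT.node 1542 (BT.leaf cE1542) (BT.leaf cE1543)) (BT.leaf cE1544)))))) (BT.node 1573 (BT.node 1559 (BT.node 1552 (BT.node 1548 (BT.node 1546 (BT.node 1545 (BT.leaf cE1545) (BT.leaf cE1546)) (BT.node 1547 (BT.leaf cE1547) (BT.leaf cE1548))) (BT.node 1550 (BT.node 1549 (BT.leaf cE1549) (BT.leaf cE1550)) (BT.node 1551 (BT.leaf cE1551) (BT.leaf cE1552)))) (BT.node 1556 (BT.node 1554 (BT.node 1553 (BT.leaf cE1553) (BT.leaf cE1554)) (BT.node 1555 (BT.leaf cE1555) (BT.leaf cE1556))) (BT.node 1558 (BT.node 1557 (BT.leaf cE1557) (BT.leaf cE1558)) (BT.leaf cE1559)))) (BT.node 1566 (BT.node 1563 (BT.node 1561 (BT.node 1560 (BT.leaf cE1560) (BT.leaf cE1561)) (BT.node 1562 (BT.leaf cE1562) (BT.leaf cE1563))) (BT.node 1565 (BT.node 1564 (BT.leaf cE1564) (BT.leaf cE1565)) (BT.leaf cE1566))) (BT.node 1570 (BT.node 1568 (BT.node 1567 (BT.leaf cE1567) (BT.leaf cE1568)) (BT.node 1569 (BT.leaf cE1569) (BT.leaf cE1570))) (BT.node 1572 (BT.node 1571 (BT.leaf cE1571) (BT.leaf cE1572)) (BT.leaf cE1573))))) (BT.node 1587 (BT.node 1580 (BT.node 1577 (BT.node 1575 (BT.node 1574 (BT.leaf cE1574) (BT.leaf cE1575)) (BT.node 1576 (BT.leaf cE1576) (BT.leaf cE1577))) (BT.node 1579 (BT.node 1578 (BT.leaf cE1578) (BT.leaf cE1579)) (BT.leaf cE1580))) (BT.node 1584 (BT.node 1582 (BT.node 1581 (BT.leaf cE1581) (BT.leaf cE1582)) (BT.node 1583 (BT.leaf cE1583) (BT.leaf cE1584))) (BT.node 1586 (BT.node 1585 (BT.leaf cE1585) (BT.leaf cE1586)) (BT.leaf cE1587)))) (BT.node 1594 (BT.node 1591 (BT.node 1589 (BT.node 1588 (BT.leaf cE1588) (BT.leaf cE1589)) (BT.node 1590 (BT.leaf cE1590) (BT.leaf cE1591))) (BT.node 1593 (BT.node 1592 (BT.leaf cE1592) (BT.leaf cE1593)) (BT.leaf cE1594))) (BT.node 1598 (BT.node 1596 (BT.node 1595 (BT.leaf cE1595) (BT.leaf cE1596)) (BT.node 1597 (BT.leaf cE1597) (BT.leaf cE1598))) (BT.node 1600 (BT.node 1599 (BT.leaf cE1599) (BT.leaf cE1600)) (BT.leaf cE1601)))))))) (BT.node 1715 (BT.node 1658 (BT.node 1630 (BT.node 1616 (BT.node 1609 (BT.node 1605 (BT.node 1603 (BT.node 1602 (BT.leaf cE1602) (BT.leaf cE1603)) (BT.node 1604 (BT.leaf cE1604) (BT.leaf cE1605))) (BT.node 1607 (BT.node 1606 (BT.leaf cE1606) (BT.leaf cE1607)) (BT.node 1608 (BT.leaf cE1608) (BT.leaf cE1609)))) (BT.node 1613 (BT.node 1611 (BT.node 1610 (BT.leaf cE1610) (BT.leaf cE1611)) (BT.node 1612 (BT.leaf cE1612) (BT.leaf cE1613))) (BT.node 1615 (BT.node 1614 (BT.leaf cE1614) (BT.leaf cE1615)) (BT.leaf cE1616)))) (BT.node 1623 (BT.node 1620 (BT.node 1618 (BT.node 1617 (BT.leaf cE1617) (BT.leaf cE1618)) (BT.node 1619 (BT.leaf cE1619) (BT.leaf cE1620))) (BT.node 1622 (BT.node 1621 (BT.leaf cE1621) (BT.leaf cE1622)) (BT.leaf cE1623))) (BT.node 1627 (BT.node 1625 (BT.node 1624 (BT.leaf cE1624) (BT.leaf cE1625)) (BT.node 1626 (BT.leaf cE1626) (BT.leaf cE1627))) (BT.node 1629 (BT.node 1628 (BT.leaf cE1628) (BT.leaf cE1629)) (BT.leaf cE1630))))) (BT.node 1644 (BT.node 1637 (BT.node 1634 (BT.node 1632 (BT.node 1631 (BT.leaf cE1631) (BT.leaf cE1632)) (BT.node 1633 (BT.leaf cE1633) (BT.leaf cE1634))) (BT.node 1636 (BT.node 1635 (BT.leaf cE1635) (BT.leaf cE1636)) (BT.leaf cE1637))) (BT.node 1641 (BT.node 1639 (BT.node 1638 (BT.leaf cE1638) (BT.leaf cE1639)) (BT.node 1640 (BT.leaf cE1640) (BT.leaf cE1641))) (BT.node 1643 (BT.node 1642 (BT.leaf cE1642) (BT.leaf cE1643)) (BT.leaf cE1644)))) (BT.node 1651 (BT.node 1648 (BT.node 1646 (BT.node 1645 (BT.leaf cE1645) (BT.leaf cE1646)) (BT.node 1647 (BT.leaf cE1647) (BT.leaf cE1648))) (BT.node 1650 (BT.node 1649 (BT.leaf cE1649) (BT.leaf cE1650)) (BT.leaf cE1651))) (BT.node 1655 (BT.node 1653 (BT.node 1652 (BT.leaf cE1652) (BT.leaf cE1653)) (BT.node 1654 (BT.leaf cE1654) (BT.leaf cE1655))) (BT.node 1657 (BT.node 1656 (BT.leaf cE1656) (BT.leaf cE1657)) (BT.leaf cE1658)))))) (BT.node 1687 (BT.node 1673 (BT.node 1666 (BT.node 1662 (BT.node 1660 (BT.node 1659 (BT.leaf cE1659) (BT.leaf cE1660)) (BT.node 1661 (BT.leaf cE1661) (BT.leaf cE1662))) (BT.node 1664 (BT.node 1663 (BT.leaf cE1663) (BT.leaf cE1664)) (BT.node 1665 (BT.leaf cE1665) (BT.leaf cE1666)))) (BT.node 1670 (BT.node 1668 (BT.node 1667 (BT.leaf cE1667) (BT.leaf cE1668)) (BT.node 1669 (BT.leaf cE1669) (BT.leaf cE1670))) (BT.node 1672 (BT.node 1671 (BT.leaf cE1671) (BT.leaf cE1672)) (BT.leaf cE1673)))) (BT.node 1680 (BT.node 1677 (BT.node 1675 (BT.node 1674 (BT.leaf cE1674) (BT.leaf cE1675)) (BT.node 1676 (BT.leaf cE1676) (BT.leaf cE1677))) (BT.node 1679 (BT.node 1678 (BT.leaf cE1678) (BT.leaf cE1679)) (BT.leaf cE1680))) (BT.node 1684 (BT.node 1682 (BT.node 1681 (BT.leaf cE1681) (BT.leaf cE1682)) (BT.node 1683 (BT.leaf cE1683) (BT.leaf cE1684))) (BT.node 1686 (BT.node 1685 (BT.leaf cE1685) (BT.leaf cE1686)) (BT.leaf cE1687))))) (BT.node 1701 (BT.node 1694 (BT.node 1691 (BT.node 1689 (BT.node 1688 (BT.leaf cE1688) (BT.leaf cE1689)) (BT.node 1690 (BT.leaf cE1690) (BT.leaf cE1691))) (BT.node 1693 (BT.node 1692 (BT.leaf cE1692) (BT.leaf cE1693)) (BT.leaf cE1694))) (BT.node 1698 (BT.node 1696 (BT.node 1695 (BT.leaf cE1695) (BT.leaf cE1696)) (BT.node 1697 (BT.leaf cE1697) (BT.leaf cE1698))) (BT.node 1700 (BT.node 1699 (BT.leaf cE1699) (BT.leaf cE1700)) (BT.leaf cE1701)))) (BT.node 1708 (BT.node 1705 (BT.node 1703 (BT.node 1702 (BT.leaf cE1702) (BT.leaf cE1703)) (BT.node 1704 (BT.leaf cE1704) (BT.leaf cE1705))) (BT.node 1707 (BT.node 1706 (BT.leaf cE1706) (BT.leaf cE1707)) (BT.leaf cE1708))) (BT.node 1712 (BT.node 1710 (BT.node 1709 (BT.leaf cE1709) (BT.leaf cE1710)) (BT.node 1711 (BT.leaf cE1711) (BT.leaf cE1712))) (BT.node 1714 (BT.node 1713 (BT.leaf cE1713) (BT.leaf cE1714)) (BT.leaf cE1715))))))) (BT.node 1772 (BT.node 1744 (BT.node 1730 (BT.node 1723 (BT.node 1719 (BT.node 1717 (BT.node 1716 (BT.leaf cE1716) (BT.leaf cE1717)) (BT.node 1718 (BT.leaf cE1718) (BT.leaf cE1719))) (BT.node 1721 (BT.node 1720 (BT.leaf cE1720) (BT.leaf cE1721)) (BT.node 1722 (BT.leaf cE1722) (BT.leaf cE1723)))) (BT.node 1727 (BT.node 1725 (BT.node 1724 (BT.leaf cE1724) (BT.leaf cE1725)) (BT.node 1726 (BT.leaf cE1726) (BT.leaf cE1727))) (BT.node 1729 (BT.node 1728 (BT.leaf cE1728) (BT.leaf cE1729)) (BT.leaf cE1730)))) (BT.node 1737 (BT.node 1734 (BT.node 1732 (BT.node 1731 (BT.leaf cE1731) (BT.leaf cE1732)) (BT.node 1733 (BT.leaf cE1733) (BT.leaf cE1734))) (BT.node 1736 (BT.node 1735 (BT.leaf cE1735) (BT.leaf cE1736)) (BT.leaf cE1737))) (BT.node 1741 (BT.node 1739 (BT.node 1738 (BT.leaf cE1738) (BT.leaf cE1739)) (BT.node 1740 (BT.leaf cE1740) (BT.leaf cE1741))) (BT.node 1743 (BT.node 1742 (BT.leaf cE1742) (BT.leaf cE1743)) (BT.leaf cE1744))))) (BT.node 1758 (BT.node 1751 (BT.node 1748 (BT.node 1746 (BT.node 1745 (BT.leaf cE1745) (BT.leaf cE1746)) (BT.node 1747 (BT.leaf cE1747) (BT.leaf cE1748))) (BT.node 1750 (BT.node 1749 (BT.leaf cE1749) (BT.leaf cE1750)) (BT.leaf cE1751))) (BT.node 1755 (BT.node 1753 (BT.node 1752 (BT.leaf cE1752) (BT.leaf cE1753)) (BT.node 1754 (BT.leaf cE1754) (BT.leaf cE1755))) (BT.node 1757 (BT.node 1756 (BT.leaf cE1756) (BT.leaf cE1757)) (BT.leaf cE1758)))) (BT.node 1765 (BT.node 1762 (BT.node 1760 (BT.node 1759 (BT.leaf cE1759) (BT.leaf cE1760)) (BT.node 1761 (BT.leaf cE1761) (BT.leaf cE1762))) (BT.node 1764 (BT.node 1763 (BT.leaf cE1763) (BT.leaf cE1764)) (BT.leaf cE1765))) (BT.node 1769 (BT.node 1767 (BT.node 1766 (BT.leaf cE1766) (BT.leaf cE1767)) (BT.node 1768 (BT.leaf cE1768) (BT.leaf cE1769))) (BT.node 1771 (BT.node 1770 (BT.leaf cE1770) (BT.leaf cE1771)) (BT.leaf cE1772)))))) (BT.node 1801 (BT.node 1787 (BT.node 1780 (BT.node 1776 (BT.node 1774 (BT.node 1773 (BT.leaf cE1773) (BT.leaf cE1774)) (BT.node 1775 (BT.leaf cE1775) (BT.leaf cE1776))) (BT.node 1778 (BT.node 1777 (BT.leaf cE1777) (BT.leaf cE1778)) (BT.node 1779 (BT.leaf cE1779) (BT.leaf cE1780)))) (BT.node 1784 (BT.node 1782 (BT.node 1781 (BT.leaf cE1781) (BT.leaf cE1782)) (BT.node 1783 (BT.leaf cE1783) (BT.leaf cE1784))) (BT.node 1786 (BT.node 1785 (BT.leaf cE1785) (BT.leaf cE1786)) (BT.leaf cE1787)))) (BT.node 1794 (BT.node 1791 (BT.node 1789 (BT.node 1788 (BT.leaf cE1788) (BT.leaf cE1789)) (BT.node 1790 (BT.leaf cE1790) (BT.leaf cE1791))) (BT.node 1793 (BT.node 1792 (BT.leaf cE1792) (BT.leaf cE1793)) (BT.leaf cE1794))) (BT.node 1798 (BT.node 1796 (BT.node 1795 (BT.leaf cE1795) (BT.leaf cE1796)) (BT.node 1797 (BT.leaf cE1797) (BT.leaf cE1798))) (BT.node 1800 (BT.node 1799 (BT.leaf cE1799) (BT.leaf cE1800)) (BT.leaf cE1801))))) (BT.node 1815 (BT.node 1808 (BT.node 1805 (BT.node 1803 (BT.node 1802 (BT.leaf cE1802) (BT.leaf cE1803)) (BT.node 1804 (BT.leaf cE1804) (BT.leaf cE1805))) (BT.node 1807 (BT.node 1806 (BT.leaf cE1806) (BT.leaf cE1807)) (BT.leaf cE1808))) (BT.node 1812 (BT.node 1810 (BT.node 1809 (BT.leaf cE1809) (BT.leaf cE1810)) (BT.node 1811 (BT.leaf cE1811) (BT.leaf cE1812))) (BT.node 1814 (BT.node 1813 (BT.leaf cE1813) (BT.leaf cE1814)) (BT.leaf cE1815)))) (BT.node 1822 (BT.node 1819 (BT.node 1817 (BT.node 1816 (BT.leaf cE1816) (BT.leaf cE1817)) (BT.node 1818 (BT.leaf cE1818) (BT.leaf cE1819))) (BT.node 1821 (BT.node 1820 (BT.leaf cE1820) (BT.leaf cE1821)) (BT.leaf cE1822))) (BT.node 1826 (BT.node 1824 (BT.node 1823 (BT.leaf cE1823) (BT.leaf cE1824)) (BT.node 1825 (BT.leaf cE1825) (BT.leaf cE1826))) (BT.node 1828 (BT.node 1827 (BT.leaf cE1827) (BT.leaf cE1828)) (BT.leaf cE1829))))))))))) (BT.node 2744 (BT.node 2287 (BT.node 2058 (BT.node 1944 (BT.node 1887 (BT.node 1858 (BT.node 1844 (BT.node 1837 (BT.node 1833 (BT.node 1831 (BT.node 1830 (BT.leaf cE1830) (BT.leaf cE1831)) (BT.node 1832 (BT.leaf cE1832) (BT.leaf cE1833))) (BT.node 1835 (BT.node 1834 (BT.leaf cE1834) (BT.leaf cE1835)) (BT.node 1836 (BT.leaf cE1836) (BT.leaf cE1837)))) (BT.node 1841 (BT.node 1839 (BT.node 1838 (BT.leaf cE1838) (BT.leaf cE1839)) (BT.node 1840 (BT.leaf cE1840) (BT.leaf cE1841))) (BT.node 1843 (BT.node 1842 (BT.leaf cE1842) (BT.leaf cE1843)) (BT.leaf cE1844)))) (BT.node 1851 (BT.node 1848 (BT.node 1846 (BT.node 1845 (BT.leaf cE1845) (BT.leaf cE1846)) (BT.node 1847 (BT.leaf cE1847) (BT.leaf cE1848))) (BT.node 1850 (BT.node 1849 (BT.leaf cE1849) (BT.leaf cE1850)) (BT.leaf cE1851))) (BT.node 1855 (BT.node 1853 (BT.node 1852 (BT.leaf cE1852) (BT.leaf cE1853)) (BT.node 1854 (BT.leaf cE1854) (BT.leaf cE1855))) (BT.node 1857 (BT.node 1856 (BT.leaf cE1856) (BT.leaf cE1857)) (BT.leaf cE1858))))) (BT.node 1873 (BT.node 1866 (BT.node 1862 (BT.node 1860 (BT.node 1859 (BT.leaf cE1859) (BT.leaf cE1860)) (BT.node 1861 (BT.leaf cE1861) (BT.leaf cE1862))) (BT.node 1864 (BT.node 1863 (BT.leaf cE1863) (BT.leaf cE1864)) (BT.node 1865 (BT.leaf cE1865) (BT.leaf cE1866)))) (BT.node 1870 (BT.node 1868 (BT.node 1867 (BT.leaf cE1867) (BT.leaf cE1868)) (BT.node 1869 (BT.leaf cE1869) (BT.leaf cE1870))) (BT.node 1872 (BT.node 1871 (BT.leaf cE1871) (BT.leaf cE1872)) (BT.leaf cE1873)))) (BT.node 1880 (BT.node 1877 (BT.node 1875 (BT.node 1874 (BT.leaf cE1874) (BT.leaf cE1875)) (BT.node 1876 (BT.leaf cE1876) (BT.leaf cE1877))) (BT.node 1879 (BT.node 1878 (BT.leaf cE1878) (BT.leaf cE1879)) (BT.leaf cE1880))) (BT.node 1884 (BT.node 1882 (BT.node 1881 (BT.leaf cE1881) (BT.leaf cE1882)) (BT.node 1883 (BT.leaf cE1883) (BT.leaf cE1884))) (BT.node 1886 (BT.node 1885 (BT.leaf cE1885) (BT.leaf cE1886)) (BT.leaf cE1887)))))) (BT.node 1916 (BT.node 1902 (BT.node 1895 (BT.node 1891 (BT.node 1889 (BT.node 1888 (BT.leaf cE1888) (BT.leaf cE1889)) (BT.node 1890 (BT.leaf cE1890) (BT.leaf cE1891))) (BT.node 1893 (BT.node 1892 (BT.leaf cE1892) (BT.leaf cE1893)) (BT.node 1894 (BT.leaf cE1894) (BT.leaf cE1895)))) (BT.node 1899 (BT.node 1897 (BT.node 1896 (BT.leaf cE1896) (BT.leaf cE1897)) (BT.node 1898 (BT.leaf cE1898) (BT.leaf cE1899))) (BT.node 1901 (BT.node 1900 (BT.leaf cE1900) (BT.leaf cE1901)) (BT.leaf cE1902)))) (BT.node 1909 (BT.node 1906 (BT.node 1904 (BT.node 1903 (BT.leaf cE1903) (BT.leaf cE1904)) (BT.node 1905 (BT.leaf cE1905) (BT.leaf cE1906))) (BT.node 1908 (BT.node 1907 (BT.leaf cE1907) (BT.leaf cE1908)) (BT.leaf cE1909))) (BT.node 1913 (BT.node 1911 (BT.node 1910 (BT.leaf cE1910) (BT.leaf cE1911)) (BT.node 1912 (BT.leaf cE1912) (BT.leaf cE1913))) (BT.node 1915 (BT.node 1914 (BT.leaf cE1914) (BT.leaf cE1915)) (BT.leaf cE1916))))) (BT.node 1930 (BT.node 1923 (BT.node 1920 (BT.node 1918 (BT.node 1917 (BT.leaf cE1917) (BT.leaf cE1918)) (BT.node 1919 (BT.leaf cE1919) (BT.leaf cE1920))) (BT.node 1922 (BT.node 1921 (BT.leaf cE1921) (BT.leaf cE1922)) (BT.leaf cE1923))) (BT.node 1927 (BT.node 1925 (BT.node 1924 (BT.leaf cE1924) (BT.leaf cE1925)) (BT.node 1926 (BT.leaf cE1926) (BT.leaf cE1927))) (BT.node 1929 (BT.node 1928 (BT.leaf cE1928) (BT.leaf cE1929)) (BT.leaf cE1930)))) (BT.node 1937 (BT.node 1934 (BT.node 1932 (BT.node 1931 (BT.leaf cE1931) (BT.leaf cE1932)) (BT.node 1933 (BT.leaf cE1933) (BT.leaf cE1934))) (BT.node 1936 (BT.node 1935 (BT.leaf cE1935) (BT.leaf cE1936)) (BT.leaf cE1937))) (BT.node 1941 (BT.node 1939 (BT.node 1938 (BT.leaf cE1938) (BT.leaf cE1939)) (BT.node 1940 (BT.leaf cE1940) (BT.leaf cE1941))) (BT.node 1943 (BT.node 1942 (BT.leaf cE1942) (BT.leaf cE1943)) (BT.leaf cE1944))))))) (BT.node 2001 (BT.node 1973 (BT.node 1959 (BT.node 1952 (BT.node 1948 (BT.node 1946 (BT.node 1945 (BT.leaf cE1945) (BT.leaf cE1946)) (BT.node 1947 (BT.leaf cE1947) (BT.leaf cE1948))) (BT.node 1950 (BT.node 1949 (BT.leaf cE1949) (BT.leaf cE1950)) (BT.node 1951 (BT.leaf cE1951) (BT.leaf cE1952)))) (BT.node 1956 (BT.node 1954 (BT.node 1953 (BT.leaf cE1953) (BT.leaf cE1954)) (BT.node 1955 (BT.leaf cE1955) (BT.leaf cE1956))) (BT.node 1958 (BT.node 1957 (BT.leaf cE1957) (BT.leaf cE1958)) (BT.leaf cE1959)))) (BT.node 1966 (BT.node 1963 (BT.node 1961 (BT.node 1960 (BT.leaf cE1960) (BT.leaf cE1961)) (BT.node 1962 (BT.leaf cE1962) (BT.leaf cE1963))) (BT.node 1965 (BT.node 1964 (BT.leaf cE1964) (BT.leaf cE1965)) (BT.leaf cE1966))) (BT.node 1970 (BT.node 1968 (BT.node 1967 (BT.leaf cE1967) (BT.leaf cE1968)) (BT.node 1969 (BT.leaf cE1969) (BT.leaf cE1970))) (BT.node 1972 (BT.node 1971 (BT.leaf cE1971) (BT.leaf cE1972)) (BT.leaf cE1973))))) (BT.node 1987 (BT.node 1980 (BT.node 1977 (BT.node 1975 (BT.node 1974 (BT.leaf cE1974) (BT.leaf cE1975)) (BT.node 1976 (BT.leaf cE1976) (BT.leaf cE1977))) (BT.node 1979 (BT.node 1978 (BT.leaf cE1978) (BT.leaf cE1979)) (BT.leaf cE1980))) (BT.node 1984 (BT.node 1982 (BT.node 1981 (BT.leaf cE1981) (BT.leaf cE1982)) (BT.node 1983 (BT.leaf cE1983) (BT.leaf cE1984))) (BT.node 1986 (BT.node 1985 (BT.leaf cE1985) (BT.leaf cE1986)) (BT.leaf cE1987)))) (BT.node 1994 (BT.node 1991 (BT.node 1989 (BT.node 1988 (BT.leaf cE1988) (BT.leaf cE1989)) (BT.node 1990 (BT.leaf cE1990) (BT.leaf cE1991))) (BT.node 1993 (BT.node 1992 (BT.leaf cE1992) (BT.leaf cE1993)) (BT.leaf cE1994))) (BT.node 1998 (BT.node 1996 (BT.node 1995 (BT.leaf cE1995) (BT.leaf cE1996)) (BT.node 1997 (BT.leaf cE1997) (BT.leaf cE1998))) (BT.node 2000 (BT.node 1999 (BT.leaf cE1999) (BT.leaf cE2000)) (BT.leaf cE2001)))))) (BT.node 2030 (BT.node 2016 (BT.node 2009 (BT.node 2005 (BT.node 2003 (BT.node 2002 (BT.leaf cE2002) (BT.leaf cE2003)) (BT.node 2004 (BT.leaf cE2004) (BT.leaf cE2005))) (BT.node 2007 (BT.node 2006 (BT.leaf cE2006) (BT.leaf cE2007)) (BT.node 2008 (BT.leaf cE2008) (BT.leaf cE2009)))) (BT.node 2013 (BT.node 2011 (BT.node 2010 (BT.leaf cE2010) (BT.leaf cE2011)) (BT.node 2012 (BT.leaf cE2012) (BT.leaf cE2013))) (BT.node 2015 (BT.node 2014 (BT.leaf cE2014) (BT.leaf cE2015)) (BT.leaf cE2016)))) (BT.node 2023 (BT.node 2020 (BT.node 2018 (BT.node 2017 (BT.leaf cE2017) (BT.leaf cE2018)) (BT.node 2019 (BT.leaf cE2019) (BT.leaf cE2020))) (BT.node 2022 (BT.node 2021 (BT.leaf cE2021) (BT.leaf cE2022)) (BT.leaf cE2023))) (BT.node 2027 (BT.node 2025 (BT.node 2024 (BT.leaf cE2024) (BT.leaf cE2025)) (BT.node 2026 (BT.leaf cE2026) (BT.leaf cE2027))) (BT.node 2029 (BT.node 2028 (BT.leaf cE2028) (BT.leaf cE2029)) (BT.leaf cE2030))))) (BT.node 2044 (BT.node 2037 (BT.node 2034 (BT.node 2032 (BT.node 2031 (BT.leaf cE2031) (BT.leaf cE2032)) (BT.node 2033 (BT.leaf cE2033) (BT.leaf cE2034))) (BT.node 2036 (BT.node 2035 (BT.leaf cE2035) (BT.leaf cE2036)) (BT.leaf cE2037))) (BT.node 2041 (BT.node 2039 (BT.node 2038 (BT.leaf cE2038) (BT.leaf cE2039)) (BT.node 2040 (BT.leaf cE2040) (BT.leaf cE2041))) (BT.node 2043 (BT.node 2042 (BT.leaf cE2042) (BT.leaf cE2043)) (BT.leaf cE2044)))) (BT.node 2051 (BT.node 2048 (BT.node 2046 (BT.node 2045 (BT.leaf cE2045) (BT.leaf cE2046)) (BT.node 2047 (BT.leaf cE2047) (BT.leaf cE2048))) (BT.node 2050 (BT.node 2049 (BT.leaf cE2049) (BT.leaf cE2050)) (BT.leaf cE2051))) (BT.node 2055 (BT.node 2053 (BT.node 2052 (BT.leaf cE2052) (BT.leaf cE2053)) (BT.node 2054 (BT.leaf cE2054) (BT.leaf cE2055))) (BT.node 2057 (BT.node 2056 (BT.leaf cE2056) (BT.leaf cE2057)) (BT.leaf cE2058)))))))) (BT.node 2173 (BT.node 2116 (BT.node 2087 (BT.node 2073 (BT.node 2066 (BT.node 2062 (BT.node 2060 (BT.node 2059 (BT.leaf cE2059) (BT.leaf cE2060)) (BT.node 2061 (BT.leaf cE2061) (BT.leaf cE2062))) (BT.node 2064 (BT.node 2063 (BT.leaf cE2063) (BT.leaf cE2064)) (BT.node 2065 (BT.leaf cE2065) (BT.leaf cE2066)))) (BT.node 2070 (BT.node 2068 (BT.node 2067 (BT.leaf cE2067) (BT.leaf cE2068)) (BT.node 2069 (BT.leaf cE2069) (BT.leaf cE2070))) (BT.node 2072 (BT.node 2071 (BT.leaf cE2071) (BT.leaf cE2072)) (BT.leaf cE2073)))) (BT.node 2080 (BT.node 2077 (BT.node 2075 (BT.node 2074 (BT.leaf cE2074) (BT.leaf cE2075)) (BT.node 2076 (BT.leaf cE2076) (BT.leaf cE2077))) (BT.node 2079 (BT.node 2078 (BT.leaf cE2078) (BT.leaf cE2079)) (BT.leaf cE2080))) (BT.node 2084 (BT.node 2082 (BT.node 2081 (BT.leaf cE2081) (BT.leaf cE2082)) (BT.node 2083 (BT.leaf cE2083) (BT.leaf cE2084))) (BT.node 2086 (BT.node 2085 (BT.leaf cE2085) (BT.leaf cE2086)) (BT.leaf cE2087))))) (BT.node 2102 (BT.node 2095 (BT.node 2091 (BT.node 2089 (BT.node 2088 (BT.leaf cE2088) (BT.leaf cE2089)) (BT.node 2090 (BT.leaf cE2090) (BT.leaf cE2091))) (BT.node 2093 (BT.node 2092 (BT.leaf cE2092) (BT.leaf cE2093)) (BT.node 2094 (BT.leaf cE2094) (BT.leaf cE2095)))) (BT.node 2099 (BT.node 2097 (BT.node 2096 (BT.leaf cE2096) (BT.leaf cE2097)) (BT.node 2098 (BT.leaf cE2098) (BT.leaf cE2099))) (BT.node 2101 (BT.node 2100 (BT.leaf cE2100) (BT.leaf cE2101)) (BT.leaf cE2102)))) (BT.node 2109 (BT.node 2106 (BT.node 2104 (BT.node 2103 (BT.leaf cE2103) (BT.leaf cE2104)) (BT.node 2105 (BT.leaf cE2105) (BT.leaf cE2106))) (BT.node 2108 (BT.node 2107 (BT.leaf cE2107) (BT.leaf cE2108)) (BT.leaf cE2109))) (BT.node 2113 (BT.node 2111 (BT.node 2110 (BT.leaf cE2110) (BT.leaf cE2111)) (BT.node 2112 (BT.leaf cE2112) (BT.leaf cE2113))) (BT.node 2115 (BT.node 2114 (BT.leaf cE2114) (BT.leaf cE2115)) (BT.leaf cE2116)))))) (BT.node 2145 (BT.node 2131 (BT.node 2124 (BT.node 2120 (BT.node 2118 (BT.node 2117 (BT.leaf cE2117) (BT.leaf cE2118)) (BT.node 2119 (BT.leaf cE2119) (BT.leaf cE2120))) (BT.node 2122 (BT.node 2121 (BT.leaf cE2121) (BT.leaf cE2122)) (BT.node 2123 (BT.leaf cE2123) (BT.leaf cE2124)))) (BT.node 2128 (BT.node 2126 (BT.node 2125 (BT.leaf cE2125) (BT.leaf cE2126)) (BT.node 2127 (BT.leaf cE2127) (BT.leaf cE2128))) (BT.node 2130 (BT.node 2129 (BT.leaf cE2129) (BT.leaf cE2130)) (BT.leaf cE2131)))) (BT.node 2138 (BT.node 2135 (BT.node 2133 (BT.node 2132 (BT.leaf cE2132) (BT.leaf cE2133)) (BT.node 2134 (BT.leaf cE2134) (BT.leaf cE2135))) (BT.node 2137 (BT.node 2136 (BT.leaf cE2136) (BT.leaf cE2137)) (BT.leaf cE2138))) (BT.node 2142 (BT.node 2140 (BT.node 2139 (BT.leaf cE2139) (BT.leaf cE2140)) (BT.node 2141 (BT.leaf cE2141) (BT.leaf cE2142))) (BT.node 2144 (BT.node 2143 (BT.leaf cE2143) (BT.leaf cE2144)) (BT.leaf cE2145))))) (BT.node 2159 (BT.node 2152 (BT.node 2149 (BT.node 2147 (BT.node 2146 (BT.leaf cE2146) (BT.leaf cE2147)) (BT.node 2148 (BT.leaf cE2148) (BT.leaf cE2149))) (BT.node 2151 (BT.node 2150 (BT.leaf cE2150) (BT.leaf cE2151)) (BT.leaf cE2152))) (BT.node 2156 (BT.node 2154 (BT.node 2153 (BT.leaf cE2153) (BT.leaf cE2154)) (BT.node 2155 (BT.leaf cE2155) (BT.leaf cE2156))) (BT.node 2158 (BT.node 2157 (BT.leaf cE2157) (BT.leaf cE2158)) (BT.leaf cE2159)))) (BT.node 2166 (BT.node 2163 (BT.node 2161 (BT.node 2160 (BT.leaf cE2160) (BT.leaf cE2161)) (BT.node 2162 (BT.leaf cE2162) (BT.leaf cE2163))) (BT.node 2165 (BT.node 2164 (BT.leaf cE2164) (BT.leaf cE2165)) (BT.leaf cE2166))) (BT.node 2170 (BT.node 2168 (BT.node 2167 (BT.leaf cE2167) (BT.leaf cE2168)) (BT.node 2169 (BT.leaf cE2169) (BT.leaf cE2170))) (BT.node 2172 (BT.node 2171 (BT.leaf cE2171) (BT.leaf cE2172)) (BT.leaf cE2173))))))) (BT.node 2230 (BT.node 2202 (BT.node 2188 (BT.node 2181 (BT.node 2177 (BT.node 2175 (BT.node 2174 (BT.leaf cE2174) (BT.leaf cE2175)) (BT.node 2176 (BT.leaf cE2176) (BT.leaf cE2177))) (BT.node 2179 (BT.node 2178 (BT.leaf cE2178) (BT.leaf cE2179)) (BT.node 2180 (BT.leaf cE2180) (BT.leaf cE2181)))) (BT.node 2185 (BT.node 2183 (BT.node 2182 (BT.leaf cE2182) (BT.leaf cE2183)) (BT.node 2184 (BT.leaf cE2184) (BT.leaf cE2185))) (BT.node 2187 (BT.node 2186 (BT.leaf cE2186) (BT.leaf cE2187)) (BT.leaf cE2188)))) (BT.node 2195 (BT.node 2192 (BT.node 2190 (BT.node 2189 (BT.leaf cE2189) (BT.leaf cE2190)) (BT.node 2191 (BT.leaf cE2191) (BT.leaf cE2192))) (BT.node 2194 (BT.node 2193 (BT.leaf cE2193) (BT.leaf cE2194)) (BT.leaf cE2195))) (BT.node 2199 (BT.node 2197 (BT.node 2196 (BT.leaf cE2196) (BT.leaf cE2197)) (BT.node 2198 (BT.leaf cE2198) (BT.leaf cE2199))) (BT.node 2201 (BT.node 2200 (BT.leaf cE2200) (BT.leaf cE2201)) (BT.leaf cE2202))))) (BT.node 2216 (BT.node 2209 (BT.node 2206 (BT.node 2204 (BT.node 2203 (BT.leaf cE2203) (BT.leaf cE2204)) (BT.node 2205 (BT.leaf cE2205) (BT.leaf cE2206))) (BT.node 2208 (BT.node 2207 (BT.leaf cE2207) (BT.leaf cE2208)) (BT.leaf cE2209))) (BT.node 2213 (BT.node 2211 (BT.node 2210 (BT.leaf cE2210) (BT.leaf cE2211)) (BT.node 2212 (BT.leaf cE2212) (BT.leaf cE2213))) (BT.node 2215 (BT.node 2214 (BT.leaf cE2214) (BT.leaf cE2215)) (BT.leaf cE2216)))) (BT.node 2223 (BT.node 2220 (BT.node 2218 (BT.node 2217 (BT.leaf cE2217) (BT.leaf cE2218)) (BT.node 2219 (BT.leaf cE2219) (BT.leaf cE2220))) (BT.node 2222 (BT.node 2221 (BT.leaf cE2221) (BT.leaf cE2222)) (BT.leaf cE2223))) (BT.node 2227 (BT.node 2225 (BT.node 2224 (BT.leaf cE2224) (BT.leaf cE2225)) (BT.node 2226 (BT.leaf cE2226) (BT.leaf cE2227))) (BT.node 2229 (BT.node 2228 (BT.leaf cE2228) (BT.leaf cE2229)) (BT.leaf cE2230)))))) (BT.node 2259 (BT.node 2245 (BT.node 2238 (BT.node 2234 (BT.node 2232 (BT.node 2231 (BT.leaf cE2231) (BT.leaf cE2232)) (BT.node 2233 (BT.leaf cE2233) (BT.leaf cE2234))) (BT.node 2236 (BT.node 2235 (BT.leaf cE2235) (BT.leaf cE2236)) (BT.node 2237 (BT.leaf cE2237) (BT.leaf cE2238)))) (BT.node 2242 (BT.node 2240 (BT.node 2239 (BT.leaf cE2239) (BT.leaf cE2240)) (BT.node 2241 (BT.leaf cE2241) (BT.leaf cE2242))) (BT.node 2244 (BT.node 2243 (BT.leaf cE2243) (BT.leaf cE2244)) (BT.leaf cE2245)))) (BT.node 2252 (BT.node 2249 (BT.node 2247 (BT.node 2246 (BT.leaf cE2246) (BT.leaf cE2247)) (BT.node 2248 (BT.leaf cE2248) (BT.leaf cE2249))) (BT.node 2251 (BT.node 2250 (BT.leaf cE2250) (BT.leaf cE2251)) (BT.leaf cE2252))) (BT.node 2256 (BT.node 2254 (BT.node 2253 (BT.leaf cE2253) (BT.leaf cE2254)) (BT.node 2255 (BT.leaf cE2255) (BT.leaf cE2256))) (BT.node 2258 (BT.node 2257 (BT.leaf cE2257) (BT.leaf cE2258)) (BT.leaf cE2259))))) (BT.node 2273 (BT.node 2266 (BT.node 2263 (BT.node 2261 (BT.node 2260 (BT.leaf cE2260) (BT.leaf cE2261)) (BT.node 2262 (BT.leaf cE2262) (BT.leaf cE2263))) (BT.node 2265 (BT.node 2264 (BT.leaf cE2264) (BT.leaf cE2265)) (BT.leaf cE2266))) (BT.node 2270 (BT.node 2268 (BT.node 2267 (BT.leaf cE2267) (BT.leaf cE2268)) (BT.node 2269 (BT.leaf cE2269) (BT.leaf cE2270))) (BT.node 2272 (BT.node 2271 (BT.leaf cE2271) (BT.leaf cE2272)) (BT.leaf cE2273)))) (BT.node 2280 (BT.node 2277 (BT.node 2275 (BT.node 2274 (BT.leaf cE2274) (BT.leaf cE2275)) (BT.node 2276 (BT.leaf cE2276) (BT.leaf cE2277))) (BT.node 2279 (BT.node 2278 (BT.leaf cE2278) (BT.leaf cE2279)) (BT.leaf cE2280))) (BT.node 2284 (BT.node 2282 (BT.node 2281 (BT.leaf cE2281) (BT.leaf cE2282)) (BT.node 2283 (BT.leaf cE2283) (BT.leaf cE2284))) (BT.node 2286 (BT.node 2285 (BT.leaf cE2285) (BT.leaf cE2286)) (BT.leaf cE2287))))))))) (BT.node 2516 (BT.node 2402 (BT.node 2345 (BT.node 2316 (BT.node 2302 (BT.node 2295 (BT.node 2291 (BT.node 2289 (BT.node 2288 (BT.leaf cE2288) (BT.leaf cE2289)) (BT.node 2290 (BT.leaf cE2290) (BT.leaf cE2291))) (BT.node 2293 (BT.node 2292 (BT.leaf cE2292) (BT.leaf cE2293)) (BT.node 2294 (BT.leaf cE2294) (BT.leaf cE2295)))) (BT.node 2299 (BT.node 2297 (BT.node 2296 (BT.leaf cE2296) (BT.leaf cE2297)) (BT.node 2298 (BT.leaf cE2298) (BT.leaf cE2299))) (BT.node 2301 (BT.node 2300 (BT.leaf cE2300) (BT.leaf cE2301)) (BT.leaf cE2302)))) (BT.node 2309 (BT.node 2306 (BT.node 2304 (BT.node 2303 (BT.leaf cE2303) (BT.leaf cE2304)) (BT.node 2305 (BT.leaf cE2305) (BT.leaf cE2306))) (BT.node 2308 (BT.node 2307 (BT.leaf cE2307) (BT.leaf cE2308)) (BT.leaf cE2309))) (BT.node 2313 (BT.node 2311 (BT.node 2310 (BT.leaf cE2310) (BT.leaf cE2311)) (BT.node 2312 (BT.leaf cE2312) (BT.leaf cE2313))) (BT.node 2315 (BT.node 2314 (BT.leaf cE2314) (BT.leaf cE2315)) (BT.leaf cE2316))))) (BT.node 2331 (BT.node 2324 (BT.node 2320 (BT.node 2318 (BT.node 2317 (BT.leaf cE2317) (BT.leaf cE2318)) (BT.node 2319 (BT.leaf cE2319) (BT.leaf cE2320))) (BT.node 2322 (BT.node 2321 (BT.leaf cE2321) (BT.leaf cE2322)) (BT.node 2323 (BT.leaf cE2323) (BT.leaf cE2324)))) (BT.node 2328 (BT.node 2326 (BT.node 2325 (BT.leaf cE2325) (BT.leaf cE2326)) (BT.node 2327 (BT.leaf cE2327) (BT.leaf cE2328))) (BT.node 2330 (BT.node 2329 (BT.leaf cE2329) (BT.leaf cE2330)) (BT.leaf cE2331)))) (BT.node 2338 (BT.node 2335 (BT.node 2333 (BT.node 2332 (BT.leaf cE2332) (BT.leaf cE2333)) (BT.node 2334 (BT.leaf cE2334) (BT.leaf cE2335))) (BT.node 2337 (BT.node 2336 (BT.leaf cE2336) (BT.leaf cE2337)) (BT.leaf cE2338))) (BT.node 2342 (BT.node 2340 (BT.node 2339 (BT.leaf cE2339) (BT.leaf cE2340)) (BT.node 2341 (BT.leaf cE2341) (BT.leaf cE2342))) (BT.node 2344 (BT.node 2343 (BT.leaf cE2343) (BT.leaf cE2344)) (BT.leaf cE2345)))))) (BT.node 2374 (BT.node 2360 (BT.node 2353 (BT.node 2349 (BT.node 2347 (BT.node 2346 (BT.leaf cE2346) (BT.leaf cE2347)) (BT.node 2348 (BT.leaf cE2348) (BT.leaf cE2349))) (BT.node 2351 (BT.node 2350 (BT.leaf cE2350) (BT.leaf cE2351)) (BT.node 2352 (BT.leaf cE2352) (BT.leaf cE2353)))) (BT.node 2357 (BT.node 2355 (BT.node 2354 (BT.leaf cE2354) (BT.leaf cE2355)) (BT.node 2356 (BT.leaf cE2356) (BT.leaf cE2357))) (BT.node 2359 (BT.node 2358 (BT.leaf cE2358) (BT.leaf cE2359)) (BT.leaf cE2360)))) (BT.node 2367 (BT.node 2364 (BT.node 2362 (BT.node 2361 (BT.leaf cE2361) (BT.leaf cE2362)) (BT.node 2363 (BT.leaf cE2363) (BT.leaf cE2364))) (BT.node 2366 (BT.node 2365 (BT.leaf cE2365) (BT.leaf cE2366)) (BT.leaf cE2367))) (BT.node 2371 (BT.node 2369 (BT.node 2368 (BT.leaf cE2368) (BT.leaf cE2369)) (BT.node 2370 (BT.leaf cE2370) (BT.leaf cE2371))) (BT.node 2373 (BT.node 2372 (BT.leaf cE2372) (BT.leaf cE2373)) (BT.leaf cE2374))))) (BT.node 2388 (BT.node 2381 (BT.node 2378 (BT.node 2376 (BT.node 2375 (BT.leaf cE2375) (BT.leaf cE2376)) (BT.node 2377 (BT.leaf cE2377) (BT.leaf cE2378))) (BT.node 2380 (BT.node 2379 (BT.leaf cE2379) (BT.leaf cE2380)) (BT.leaf cE2381))) (BT.node 2385 (BT.node 2383 (BT.node 2382 (BT.leaf cE2382) (BT.leaf cE2383)) (BT.node 2384 (BT.leaf cE2384) (BT.leaf cE2385))) (BT.node 2387 (BT.node 2386 (BT.leaf cE2386) (BT.leaf cE2387)) (BT.leaf cE2388)))) (BT.node 2395 (BT.node 2392 (BT.node 2390 (BT.node 2389 (BT.leaf cE2389) (BT.leaf cE2390)) (BT.node 2391 (BT.leaf cE2391) (BT.leaf cE2392))) (BT.node 2394 (BT.node 2393 (BT.leaf cE2393) (BT.leaf cE2394)) (BT.leaf cE2395))) (BT.node 2399 (BT.node 2397 (BT.node 2396 (BT.leaf cE2396) (BT.leaf cE2397)) (BT.node 2398 (BT.leaf cE2398) (BT.leaf cE2399))) (BT.node 2401 (BT.node 2400 (BT.leaf cE2400) (BT.leaf cE2401)) (BT.leaf cE2402))))))) (BT.node 2459 (BT.node 2431 (BT.node 2417 (BT.node 2410 (BT.node 2406 (BT.node 2404 (BT.node 2403 (BT.leaf cE2403) (BT.leaf cE2404)) (BT.node 2405 (BT.leaf cE2405) (BT.leaf cE2406))) (BT.node 2408 (BT.node 2407 (BT.leaf cE2407) (BT.leaf cE2408)) (BT.node 2409 (BT.leaf cE2409) (BT.leaf cE2410)))) (BT.node 2414 (BT.node 2412 (BT.node 2411 (BT.leaf cE2411) (BT.leaf cE2412)) (BT.node 2413 (BT.leaf cE2413) (BT.leaf cE2414))) (BT.node 2416 (BT.node 2415 (BT.leaf cE2415) (BT.leaf cE2416)) (BT.leaf cE2417)))) (BT.node 2424 (BT.node 2421 (BT.node 2419 (BT.node 2418 (BT.leaf cE2418) (BT.leaf cE2419)) (BT.node 2420 (BT.leaf cE2420) (BT.leaf cE2421))) (BT.node 2423 (BT.node 2422 (BT.leaf cE2422) (BT.leaf cE2423)) (BT.leaf cE2424))) (BT.node 2428 (BT.node 2426 (BT.node 2425 (BT.leaf cE2425) (BT.leaf cE2426)) (BT.node 2427 (BT.leaf cE2427) (BT.leaf cE2428))) (BT.node 2430 (BT.node 2429 (BT.leaf cE2429) (BT.leaf cE2430)) (BT.leaf cE2431))))) (BT.node 2445 (BT.node 2438 (BT.node 2435 (BT.node 2433 (BT.node 2432 (BT.leaf cE2432) (BT.leaf cE2433)) (BT.node 2434 (BT.leaf cE2434) (BT.leaf cE2435))) (BT.node 2437 (BT.node 2436 (BT.leaf cE2436) (BT.leaf cE2437)) (BT.leaf cE2438))) (BT.node 2442 (BT.node 2440 (BT.node 2439 (BT.leaf cE2439) (BT.leaf cE2440)) (BT.node 2441 (BT.leaf cE2441) (BT.leaf cE2442))) (BT.node 2444 (BT.node 2443 (BT.leaf cE2443) (BT.leaf cE2444)) (BT.leaf cE2445)))) (BT.node 2452 (BT.node 2449 (BT.node 2447 (BT.node 2446 (BT.leaf cE2446) (BT.leaf cE2447)) (BT.node 2448 (BT.leaf cE2448) (BT.leaf cE2449))) (BT.node 2451 (BT.node 2450 (BT.leaf cE2450) (BT.leaf cE2451)) (BT.leaf cE2452))) (BT.node 2456 (BT.node 2454 (BT.node 2453 (BT.leaf cE2453) (BT.leaf cE2454)) (BT.node 2455 (BT.leaf cE2455) (BT.leaf cE2456))) (BT.node 2458 (BT.node 2457 (BT.leaf cE2457) (BT.leaf cE2458)) (BT.leaf cE2459)))))) (BT.node 2488 (BT.node 2474 (BT.node 2467 (BT.node 2463 (BT.node 2461 (BT.node 2460 (BT.leaf cE2460) (BT.leaf cE2461)) (BT.node 2462 (BT.leaf cE2462) (BT.leaf cE2463))) (BT.node 2465 (BT.node 2464 (BT.leaf cE2464) (BT.leaf cE2465)) (BT.node 2466 (BT.leaf cE2466) (BT.leaf cE2467)))) (BT.node 2471 (BT.node 2469 (BT.node 2468 (BT.leaf cE2468) (BT.leaf cE2469)) (BT.node 2470 (BT.leaf cE2470) (BT.leaf cE2471))) (BT.node 2473 (BT.node 2472 (BT.leaf cE2472) (BT.leaf cE2473)) (BT.leaf cE2474)))) (BT.node 2481 (BT.node 2478 (BT.node 2476 (BT.node 2475 (BT.leaf cE2475) (BT.leaf cE2476)) (BT.node 2477 (BT.leaf cE2477) (BT.leaf cE2478))) (BT.node 2480 (BT.node 2479 (BT.leaf cE2479) (BT.leaf cE2480)) (BT.leaf cE2481))) (BT.node 2485 (BT.node 2483 (BT.node 2482 (BT.leaf cE2482) (BT.leaf cE2483)) (BT.node 2484 (BT.leaf cE2484) (BT.leaf cE2485))) (BT.node 2487 (BT.node 2486 (BT.leaf cE2486) (BT.leaf cE2487)) (BT.leaf cE2488))))) (BT.node 2502 (BT.node 2495 (BT.node 2492 (BT.node 2490 (BT.node 2489 (BT.leaf cE2489) (BT.leaf cE2490)) (BT.node 2491 (BT.leaf cE2491) (BT.leaf cE2492))) (BT.node 2494 (BT.node 2493 (BT.leaf cE2493) (BT.leaf cE2494)) (BT.leaf cE2495))) (BT.node 2499 (BT.node 2497 (BT.node 2496 (BT.leaf cE2496) (BT.leaf cE2497)) (BT.node 2498 (BT.leaf cE2498) (BT.leaf cE2499))) (BT.node 2501 (BT.node 2500 (BT.leaf cE2500) (BT.leaf cE2501)) (BT.leaf cE2502)))) (BT.node 2509 (BT.node 2506 (BT.node 2504 (BT.node 2503 (BT.leaf cE2503) (BT.leaf cE2504)) (BT.node 2505 (BT.leaf cE2505) (BT.leaf cE2506))) (BT.node 2508 (BT.node 2507 (BT.leaf cE2507) (BT.leaf cE2508)) (BT.leaf cE2509))) (BT.node 2513 (BT.node 2511 (BT.node 2510 (BT.leaf cE2510) (BT.leaf cE2511)) (BT.node 2512 (BT.leaf cE2512) (BT.leaf cE2513))) (BT.node 2515 (BT.node 2514 (BT.leaf cE2514) (BT.leaf cE2515)) (BT.leaf cE2516)))))))) (BT.node 2630 (BT.node 2573 (BT.node 2545 (BT.node 2531 (BT.node 2524 (BT.node 2520 (BT.node 2518 (BT.node 2517 (BT.leaf cE2517) (BT.leaf cE2518)) (BT.node 2519 (BT.leaf cE2519) (BT.leaf cE2520))) (BT.node 2522 (BT.node 2521 (BT.leaf cE2521) (BT.leaf cE2522)) (BT.node 2523 (BT.leaf cE2523) (BT.leaf cE2524)))) (BT.node 2528 (BT.node 2526 (BT.node 2525 (BT.leaf cE2525) (BT.leaf cE2526)) (BT.node 2527 (BT.leaf cE2527) (BT.leaf cE2528))) (BT.node 2530 (BT.node 2529 (BT.leaf cE2529) (BT.leaf cE2530)) (BT.leaf cE2531)))) (BT.node 2538 (BT.node 2535 (BT.node 2533 (BT.node 2532 (BT.leaf cE2532) (BT.leaf cE2533)) (BT.node 2534 (BT.leaf cE2534) (BT.leaf cE2535))) (BT.node 2537 (BT.node 2536 (BT.leaf cE2536) (BT.leaf cE2537)) (BT.leaf cE2538))) (BT.node 2542 (BT.node 2540 (BT.node 2539 (BT.leaf cE2539) (BT.leaf cE2540)) (BT.node 2541 (BT.leaf cE2541) (BT.leaf cE2542))) (BT.node 2544 (BT.node 2543 (BT.leaf cE2543) (BT.leaf cE2544)) (BT.leaf cE2545))))) (BT.node 2559 (BT.node 2552 (BT.node 2549 (BT.node 2547 (BT.node 2546 (BT.leaf cE2546) (BT.leaf cE2547)) (BT.node 2548 (BT.leaf cE2548) (BT.leaf cE2549))) (BT.node 2551 (BT.node 2550 (BT.leaf cE2550) (BT.leaf cE2551)) (BT.leaf cE2552))) (BT.node 2556 (BT.node 2554 (BT.node 2553 (BT.leaf cE2553) (BT.leaf cE2554)) (BT.node 2555 (BT.leaf cE2555) (BT.leaf cE2556))) (BT.node 2558 (BT.node 2557 (BT.leaf cE2557) (BT.leaf cE2558)) (BT.leaf cE2559)))) (BT.node 2566 (BT.node 2563 (BT.node 2561 (BT.node 2560 (BT.leaf cE2560) (BT.leaf cE2561)) (BT.node 2562 (BT.leaf cE2562) (BT.leaf cE2563))) (BT.node 2565 (BT.node 2564 (BT.leaf cE2564) (BT.leaf cE2565)) (BT.leaf cE2566))) (BT.node 2570 (BT.node 2568 (BT.node 2567 (BT.leaf cE2567) (BT.leaf cE2568)) (BT.node 2569 (BT.leaf cE2569) (BT.leaf cE2570))) (BT.node 2572 (BT.node 2571 (BT.leaf cE2571) (BT.leaf cE2572)) (BT.leaf cE2573)))))) (BT.node 2602 (BT.node 2588 (BT.node 2581 (BT.node 2577 (BT.node 2575 (BT.node 2574 (BT.leaf cE2574) (BT.leaf cE2575)) (BT.node 2576 (BT.leaf cE2576) (BT.leaf cE2577))) (BT.node 2579 (BT.node 2578 (BT.leaf cE2578) (BT.leaf cE2579)) (BT.node 2580 (BT.leaf cE2580) (BT.leaf cE2581)))) (BT.node 2585 (BT.node 2583 (BT.node 2582 (BT.leaf cE2582) (BT.leaf cE2583)) (BT.node 2584 (BT.leaf cE2584) (BT.leaf cE2585))) (BT.node 2587 (BT.node 2586 (BT.leaf cE2586) (BT.leaf cE2587)) (BT.leaf cE2588)))) (BT.node 2595 (BT.node 2592 (BT.node 2590 (BT.node 2589 (BT.leaf cE2589) (BT.leaf cE2590)) (BT.node 2591 (BT.leaf cE2591) (BT.leaf cE2592))) (BT.node 2594 (BT.node 2593 (BT.leaf cE2593) (BT.leaf cE2594)) (BT.leaf cE2595))) (BT.node 2599 (BT.node 2597 (BT.node 2596 (BT.leaf cE2596) (BT.leaf cE2597)) (BT.node 2598 (BT.leaf cE2598) (BT.leaf cE2599))) (BT.node 2601 (BT.node 2600 (BT.leaf cE2600) (BT.leaf cE2601)) (BT.leaf cE2602))))) (BT.node 2616 (BT.node 2609 (BT.node 2606 (BT.node 2604 (BT.node 2603 (BT.leaf cE2603) (BT.leaf cE2604)) (BT.node 2605 (BT.leaf cE2605) (BT.leaf cE2606))) (BT.node 2608 (BT.node 2607 (BT.leaf cE2607) (BT.leaf cE2608)) (BT.leaf cE2609))) (BT.node 2613 (BT.node 2611 (BT.node 2610 (BT.leaf cE2610) (BT.leaf cE2611)) (BT.node 2612 (BT.leaf cE2612) (BT.leaf cE2613))) (BT.node 2615 (BT.node 2614 (BT.leaf cE2614) (BT.leaf cE2615)) (BT.leaf cE2616)))) (BT.node 2623 (BT.node 2620 (BT.node 2618 (BT.node 2617 (BT.leaf cE2617) (BT.leaf cE2618)) (BT.node 2619 (BT.leaf cE2619) (BT.leaf cE2620))) (BT.node 2622 (BT.node 2621 (BT.leaf cE2621) (BT.leaf cE2622)) (BT.leaf cE2623))) (BT.node 2627 (BT.node 2625 (BT.node 2624 (BT.leaf cE2624) (BT.leaf cE2625)) (BT.node 2626 (BT.leaf cE2626) (BT.leaf cE2627))) (BT.node 2629 (BT.node 2628 (BT.leaf cE2628) (BT.leaf cE2629)) (BT.leaf cE2630))))))) (BT.node 2687 (BT.node 2659 (BT.node 2645 (BT.node 2638 (BT.node 2634 (BT.node 2632 (BT.node 2631 (BT.leaf cE2631) (BT.leaf cE2632)) (BT.node 2633 (BT.leaf cE2633) (BT.leaf cE2634))) (BT.node 2636 (BT.node 2635 (BT.leaf cE2635) (BT.leaf cE2636)) (BT.node 2637 (BT.leaf cE2637) (BT.leaf cE2638)))) (BT.node 2642 (BT.node 2640 (BT.node 2639 (BT.leaf cE2639) (BT.leaf cE2640)) (BT.node 2641 (BT.leaf cE2641) (BT.leaf cE2642))) (BT.node 2644 (BT.node 2643 (BT.leaf cE2643) (BT.leaf cE2644)) (BT.leaf cE2645)))) (BT.node 2652 (BT.node 2649 (BT.node 2647 (BT.node 2646 (BT.leaf cE2646) (BT.leaf cE2647)) (BT.node 2648 (BT.leaf cE2648) (BT.leaf cE2649))) (BT.node 2651 (BT.node 2650 (BT.leaf cE2650) (BT.leaf cE2651)) (BT.leaf cE2652))) (BT.node 2656 (BT.node 2654 (BT.node 2653 (BT.leaf cE2653) (BT.leaf cE2654)) (BT.node 2655 (BT.leaf cE2655) (BT.leaf cE2656))) (BT.node 2658 (BT.node 2657 (BT.leaf cE2657) (BT.leaf cE2658)) (BT.leaf cE2659))))) (BT.node 2673 (BT.node 2666 (BT.node 2663 (BT.node 2661 (BT.node 2660 (BT.leaf cE2660) (BT.leaf cE2661)) (BT.node 2662 (BT.leaf cE2662) (BT.leaf cE2663))) (BT.node 2665 (BT.node 2664 (BT.leaf cE2664) (BT.leaf cE2665)) (BT.leaf cE2666))) (BT.node 2670 (BT.node 2668 (BT.node 2667 (BT.leaf cE2667) (BT.leaf cE2668)) (BT.node 2669 (BT.leaf cE2669) (BT.leaf cE2670))) (BT.node 2672 (BT.node 2671 (BT.leaf cE2671) (BT.leaf cE2672)) (BT.leaf cE2673)))) (BT.node 2680 (BT.node 2677 (BT.node 2675 (BT.node 2674 (BT.leaf cE2674) (BT.leaf cE2675)) (BT.node 2676 (BT.leaf cE2676) (BT.leaf cE2677))) (BT.node 2679 (BT.node 2678 (BT.leaf cE2678) (BT.leaf cE2679)) (BT.leaf cE2680))) (BT.node 2684 (BT.node 2682 (BT.node 2681 (BT.leaf cE2681) (BT.leaf cE2682)) (BT.node 2683 (BT.leaf cE2683) (BT.leaf cE2684))) (BT.node 2686 (BT.node 2685 (BT.leaf cE2685) (BT.leaf cE2686)) (BT.leaf cE2687)))))) (BT.node 2716 (BT.node 2702 (BT.node 2695 (BT.node 2691 (BT.node 2689 (BT.node 2688 (BT.leaf cE2688) (BT.leaf cE2689)) (BT.node 2690 (BT.leaf cE2690) (BT.leaf cE2691))) (BT.node 2693 (BT.node 2692 (BT.leaf cE2692) (BT.leaf cE2693)) (BT.node 2694 (BT.leaf cE2694) (BT.leaf cE2695)))) (BT.node 2699 (BT.node 2697 (BT.node 2696 (BT.leaf cE2696) (BT.leaf cE2697)) (BT.node 2698 (BT.leaf cE2698) (BT.leaf cE2699))) (BT.node 2701 (BT.node 2700 (BT.leaf cE2700) (BT.leaf cE2701)) (BT.leaf cE2702)))) (BT.node 2709 (BT.node 2706 (BT.node 2704 (BT.node 2703 (BT.leaf cE2703) (BT.leaf cE2704)) (BT.node 2705 (BT.leaf cE2705) (BT.leaf cE2706))) (BT.node 2708 (BT.node 2707 (BT.leaf cE2707) (BT.leaf cE2708)) (BT.leaf cE2709))) (BT.node 2713 (BT.node 2711 (BT.node 2710 (BT.leaf cE2710) (BT.leaf cE2711)) (BT.node 2712 (BT.leaf cE2712) (BT.leaf cE2713))) (BT.node 2715 (BT.node 2714 (BT.leaf cE2714) (BT.leaf cE2715)) (BT.leaf cE2716))))) (BT.node 2730 (BT.node 2723 (BT.node 2720 (BT.node 2718 (BT.node 2717 (BT.leaf cE2717) (BT.leaf cE2718)) (BT.node 2719 (BT.leaf cE2719) (BT.leaf cE2720))) (BT.node 2722 (BT.node 2721 (BT.leaf cE2721) (BT.leaf cE2722)) (BT.leaf cE2723))) (BT.node 2727 (BT.node 2725 (BT.node 2724 (BT.leaf cE2724) (BT.leaf cE2725)) (BT.node 2726 (BT.leaf cE2726) (BT.leaf cE2727))) (BT.node 2729 (BT.node 2728 (BT.leaf cE2728) (BT.leaf cE2729)) (BT.leaf cE2730)))) (BT.node 2737 (BT.node 2734 (BT.node 2732 (BT.node 2731 (BT.leaf cE2731) (BT.leaf cE2732)) (BT.node 2733 (BT.leaf cE2733) (BT.leaf cE2734))) (BT.node 2736 (BT.node 2735 (BT.leaf cE2735) (BT.leaf cE2736)) (BT.leaf cE2737))) (BT.node 2741 (BT.node 2739 (BT.node 2738 (BT.leaf cE2738) (BT.leaf cE2739)) (BT.node 2740 (BT.leaf cE2740) (BT.leaf cE2741))) (BT.node 2743 (BT.node 2742 (BT.leaf cE2742) (BT.leaf cE2743)) (BT.leaf cE2744)))))))))) (BT.node 3202 (BT.node 2973 (BT.node 2859 (BT.node 2802 (BT.node 2773 (BT.node 2759 (BT.node 2752 (BT.node 2748 (BT.node 2746 (BT.node 2745 (BT.leaf cE2745) (BT.leaf cE2746)) (BT.node 2747 (BT.leaf cE2747) (BT.leaf cE2748))) (BT.node 2750 (BT.node 2749 (BT.leaf cE2749) (BT.leaf cE2750)) (BT.node 2751 (BT.leaf cE2751) (BT.leaf cE2752)))) (BT.node 2756 (BT.node 2754 (BT.node 2753 (BT.leaf cE2753) (BT.leaf cE2754)) (BT.node 2755 (BT.leaf cE2755) (BT.leaf cE2756))) (BT.node 2758 (BT.node 2757 (BT.leaf cE2757) (BT.leaf cE2758)) (BT.leaf cE2759)))) (BT.node 2766 (BT.node 2763 (BT.node 2761 (BT.node 2760 (BT.leaf cE2760) (BT.leaf cE2761)) (BT.node 2762 (BT.leaf cE2762) (BT.leaf cE2763))) (BT.node 2765 (BT.node 2764 (BT.leaf cE2764) (BT.leaf cE2765)) (BT.leaf cE2766))) (BT.node 2770 (BT.node 2768 (BT.node 2767 (BT.leaf cE2767) (BT.leaf cE2768)) (BT.node 2769 (BT.leaf cE2769) (BT.leaf cE2770))) (BT.node 2772 (BT.node 2771 (BT.leaf cE2771) (BT.leaf cE2772)) (BT.leaf cE2773))))) (BT.node 2788 (BT.node 2781 (BT.node 2777 (BT.node 2775 (BT.node 2774 (BT.leaf cE2774) (BT.leaf cE2775)) (BT.node 2776 (BT.leaf cE2776) (BT.leaf cE2777))) (BT.node 2779 (BT.node 2778 (BT.leaf cE2778) (BT.leaf cE2779)) (BT.node 2780 (BT.leaf cE2780) (BT.leaf cE2781)))) (BT.node 2785 (BT.node 2783 (BT.node 2782 (BT.leaf cE2782) (BT.leaf cE2783)) (BT.node 2784 (BT.leaf cE2784) (BT.leaf cE2785))) (BT.node 2787 (BT.node 2786 (BT.leaf cE2786) (BT.leaf cE2787)) (BT.leaf cE2788)))) (BT.node 2795 (BT.node 2792 (BT.node 2790 (BT.node 2789 (BT.leaf cE2789) (BT.leaf cE2790)) (BT.node 2791 (BT.leaf cE2791) (BT.leaf cE2792))) (BT.node 2794 (BT.node 2793 (BT.leaf cE2793) (BT.leaf cE2794)) (BT.leaf cE2795))) (BT.node 2799 (BT.node 2797 (BT.node 2796 (BT.leaf cE2796) (BT.leaf cE2797)) (BT.node 2798 (BT.leaf cE2798) (BT.leaf cE2799))) (BT.node 2801 (BT.node 2800 (BT.leaf cE2800) (BT.leaf cE2801)) (BT.leaf cE2802)))))) (BT.node 2831 (BT.node 2817 (BT.node 2810 (BT.node 2806 (BT.node 2804 (BT.node 2803 (BT.leaf cE2803) (BT.leaf cE2804)) (BT.node 2805 (BT.leaf cE2805) (BT.leaf cE2806))) (BT.node 2808 (BT.node 2807 (BT.leaf cE2807) (BT.leaf cE2808)) (BT.node 2809 (BT.leaf cE2809) (BT.leaf cE2810)))) (BT.node 2814 (BT.node 2812 (BT.node 2811 (BT.leaf cE2811) (BT.leaf cE2812)) (BT.node 2813 (BT.leaf cE2813) (BT.leaf cE2814))) (BT.node 2816 (BT.node 2815 (BT.leaf cE2815) (BT.leaf cE2816)) (BT.leaf cE2817)))) (BT.node 2824 (BT.node 2821 (BT.node 2819 (BT.node 2818 (BT.leaf cE2818) (BT.leaf cE2819)) (BT.node 2820 (BT.leaf cE2820) (BT.leaf cE2821))) (BT.node 2823 (BT.node 2822 (BT.leaf cE2822) (BT.leaf cE2823)) (BT.leaf cE2824))) (BT.node 2828 (BT.node 2826 (BT.node 2825 (BT.leaf cE2825) (BT.leaf cE2826)) (BT.node 2827 (BT.leaf cE2827) (BT.leaf cE2828))) (BT.node 2830 (BT.node 2829 (BT.leaf cE2829) (BT.leaf cE2830)) (BT.leaf cE2831))))) (BT.node 2845 (BT.node 2838 (BT.node 2835 (BT.node 2833 (BT.node 2832 (BT.leaf cE2832) (BT.leaf cE2833)) (BT.node 2834 (BT.leaf cE2834) (BT.leaf cE2835))) (BT.node 2837 (BT.node 2836 (BT.leaf cE2836) (BT.leaf cE2837)) (BT.leaf cE2838))) (BT.node 2842 (BT.node 2840 (BT.node 2839 (BT.leaf cE2839) (BT.leaf cE2840)) (BT.node 2841 (BT.leaf cE2841) (BT.leaf cE2842))) (BT.node 2844 (BT.node 2843 (BT.leaf cE2843) (BT.leaf cE2844)) (BT.leaf cE2845)))) (BT.node 2852 (BT.node 2849 (BT.node 2847 (BT.node 2846 (BT.leaf cE2846) (BT.leaf cE2847)) (BT.node 2848 (BT.leaf cE2848) (BT.leaf cE2849))) (BT.node 2851 (BT.node 2850 (BT.leaf cE2850) (BT.leaf cE2851)) (BT.leaf cE2852))) (BT.node 2856 (BT.node 2854 (BT.node 2853 (BT.leaf cE2853) (BT.leaf cE2854)) (BT.node 2855 (BT.leaf cE2855) (BT.leaf cE2856))) (BT.node 2858 (BT.node 2857 (BT.leaf cE2857) (BT.leaf cE2858)) (BT.leaf cE2859))))))) (BT.node 2916 (BT.node 2888 (BT.node 2874 (BT.node 2867 (BT.node 2863 (BT.node 2861 (BT.node 2860 (BT.leaf cE2860) (BT.leaf cE2861)) (BT.node 2862 (BT.leaf cE2862) (BT.leaf cE2863))) (BT.node 2865 (BT.node 2864 (BT.leaf cE2864) (BT.leaf cE2865)) (BT.node 2866 (BT.leaf cE2866) (BT.leaf cE2867)))) (BT.node 2871 (BT.node 2869 (BT.node 2868 (BT.leaf cE2868) (BT.leaf cE2869)) (BT.node 2870 (BT.leaf cE2870) (BT.leaf cE2871))) (BT.node 2873 (BT.node 2872 (BT.leaf cE2872) (BT.leaf cE2873)) (BT.leaf cE2874)))) (BT.node 2881 (BT.node 2878 (BT.node 2876 (BT.node 2875 (BT.leaf cE2875) (BT.leaf cE2876)) (BT.node 2877 (BT.leaf cE2877) (BT.leaf cE2878))) (BT.node 2880 (BT.node 2879 (BT.leaf cE2879) (BT.leaf cE2880)) (BT.leaf cE2881))) (BT.node 2885 (BT.node 2883 (BT.node 2882 (BT.leaf cE2882) (BT.leaf cE2883)) (BT.node 2884 (BT.leaf cE2884) (BT.leaf cE2885))) (BT.node 2887 (BT.node 2886 (BT.leaf cE2886) (BT.leaf cE2887)) (BT.leaf cE2888))))) (BT.node 2902 (BT.node 2895 (BT.node 2892 (BT.node 2890 (BT.node 2889 (BT.leaf cE2889) (BT.leaf cE2890)) (BT.node 2891 (BT.leaf cE2891) (BT.leaf cE2892))) (BT.node 2894 (BT.node 2893 (BT.leaf cE2893) (BT.leaf cE2894)) (BT.leaf cE2895))) (BT.node 2899 (BT.node 2897 (BT.node 2896 (BT.leaf cE2896) (BT.leaf cE2897)) (BT.node 2898 (BT.leaf cE2898) (BT.leaf cE2899))) (BT.node 2901 (BT.node 2900 (BT.leaf cE2900) (BT.leaf cE2901)) (BT.leaf cE2902)))) (BT.node 2909 (BT.node 2906 (BT.node 2904 (BT.node 2903 (BT.leaf cE2903) (BT.leaf cE2904)) (BT.node 2905 (BT.leaf cE2905) (BT.leaf cE2906))) (BT.node 2908 (BT.node 2907 (BT.leaf cE2907) (BT.leaf cE2908)) (BT.leaf cE2909))) (BT.node 2913 (BT.node 2911 (BT.node 2910 (BT.leaf cE2910) (BT.leaf cE2911)) (BT.node 2912 (BT.leaf cE2912) (BT.leaf cE2913))) (BT.node 2915 (BT.node 2914 (BT.leaf cE2914) (BT.leaf cE2915)) (BT.leaf cE2916)))))) (BT.node 2945 (BT.node 2931 (BT.node 2924 (BT.node 2920 (BT.node 2918 (BT.node 2917 (BT.leaf cE2917) (BT.leaf cE2918)) (BT.node 2919 (BT.leaf cE2919) (BT.leaf cE2920))) (BT.node 2922 (BT.node 2921 (BT.leaf cE2921) (BT.leaf cE2922)) (BT.node 2923 (BT.leaf cE2923) (BT.leaf cE2924)))) (BT.node 2928 (BT.node 2926 (BT.node 2925 (BT.leaf cE2925) (BT.leaf cE2926)) (BT.node 2927 (BT.leaf cE2927) (BT.leaf cE2928))) (BT.node 2930 (BT.node 2929 (BT.leaf cE2929) (BT.leaf cE2930)) (BT.leaf cE2931)))) (BT.node 2938 (BT.node 2935 (BT.node 2933 (BT.node 2932 (BT.leaf cE2932) (BT.leaf cE2933)) (BT.node 2934 (BT.leaf cE2934) (BT.leaf cE2935))) (BT.node 2937 (BT.node 2936 (BT.leaf cE2936) (BT.leaf cE2937)) (BT.leaf cE2938))) (BT.node 2942 (BT.node 2940 (BT.node 2939 (BT.leaf cE2939) (BT.leaf cE2940)) (BT.node 2941 (BT.leaf cE2941) (BT.leaf cE2942))) (BT.node 2944 (BT.node 2943 (BT.leaf cE2943) (BT.leaf cE2944)) (BT.leaf cE2945))))) (BT.node 2959 (BT.node 2952 (BT.node 2949 (BT.node 2947 (BT.node 2946 (BT.leaf cE2946) (BT.leaf cE2947)) (BT.node 2948 (BT.leaf cE2948) (BT.leaf cE2949))) (BT.node 2951 (BT.node 2950 (BT.leaf cE2950) (BT.leaf cE2951)) (BT.leaf cE2952))) (BT.node 2956 (BT.node 2954 (BT.node 2953 (BT.leaf cE2953) (BT.leaf cE2954)) (BT.node 2955 (BT.leaf cE2955) (BT.leaf cE2956))) (BT.node 2958 (BT.node 2957 (BT.leaf cE2957) (BT.leaf cE2958)) (BT.leaf cE2959)))) (BT.node 2966 (BT.node 2963 (BT.node 2961 (BT.node 2960 (BT.leaf cE2960) (BT.leaf cE2961)) (BT.node 2962 (BT.leaf cE2962) (BT.leaf cE2963))) (BT.node 2965 (BT.node 2964 (BT.leaf cE2964) (BT.leaf cE2965)) (BT.leaf cE2966))) (BT.node 2970 (BT.node 2968 (BT.node 2967 (BT.leaf cE2967) (BT.leaf cE2968)) (BT.node 2969 (BT.leaf cE2969) (BT.leaf cE2970))) (BT.node 2972 (BT.node 2971 (BT.leaf cE2971) (BT.leaf cE2972)) (BT.leaf cE2973)))))))) (BT.node 3088 (BT.node 3031 (BT.node 3002 (BT.node 2988 (BT.node 2981 (BT.node 2977 (BT.node 2975 (BT.node 2974 (BT.leaf cE2974) (BT.leaf cE2975)) (BT.node 2976 (BT.leaf cE2976) (BT.leaf cE2977))) (BT.node 2979 (BT.node 2978 (BT.leaf cE2978) (BT.leaf cE2979)) (BT.node 2980 (BT.leaf cE2980) (BT.leaf cE2981)))) (BT.node 2985 (BT.node 2983 (BT.node 2982 (BT.leaf cE2982) (BT.leaf cE2983)) (BT.node 2984 (BT.leaf cE2984) (BT.leaf cE2985))) (BT.node 2987 (BT.node 2986 (BT.leaf cE2986) (BT.leaf cE2987)) (BT.leaf cE2988)))) (BT.node 2995 (BT.node 2992 (BT.node 2990 (BT.node 2989 (BT.leaf cE2989) (BT.leaf cE2990)) (BT.node 2991 (BT.leaf cE2991) (BT.leaf cE2992))) (BT.node 2994 (BT.node 2993 (BT.leaf cE2993) (BT.leaf cE2994)) (BT.leaf cE2995))) (BT.node 2999 (BT.node 2997 (BT.node 2996 (BT.leaf cE2996) (BT.leaf cE2997)) (BT.node 2998 (BT.leaf cE2998) (BT.leaf cE2999))) (BT.node 3001 (BT.node 3000 (BT.leaf cE3000) (BT.leaf cE3001)) (BT.leaf cE3002))))) (BT.node 3017 (BT.node 3010 (BT.node 3006 (BT.node 3004 (BT.node 3003 (BT.leaf cE3003) (BT.leaf cE3004)) (BT.node 3005 (BT.leaf cE3005) (BT.leaf cE3006))) (BT.node 3008 (BT.node 3007 (BT.leaf cE3007) (BT.leaf cE3008)) (BT.node 3009 (BT.leaf cE3009) (BT.leaf cE3010)))) (BT.node 3014 (BT.node 3012 (BT.node 3011 (BT.leaf cE3011) (BT.leaf cE3012)) (BT.node 3013 (BT.leaf cE3013) (BT.leaf cE3014))) (BT.node 3016 (BT.node 3015 (BT.leaf cE3015) (BT.leaf cE3016)) (BT.leaf cE3017)))) (BT.node 3024 (BT.node 3021 (BT.node 3019 (BT.node 3018 (BT.leaf cE3018) (BT.leaf cE3019)) (BT.node 3020 (BT.leaf cE3020) (BT.leaf cE3021))) (BT.node 3023 (BT.node 3022 (BT.leaf cE3022) (BT.leaf cE3023)) (BT.leaf cE3024))) (BT.node 3028 (BT.node 3026 (BT.node 3025 (BT.leaf cE3025) (BT.leaf cE3026)) (BT.node 3027 (BT.leaf cE3027) (BT.leaf cE3028))) (BT.node 3030 (BT.node 3029 (BT.leaf cE3029) (BT.leaf cE3030)) (BT.leaf cE3031)))))) (BT.node 3060 (BT.node 3046 (BT.node 3039 (BT.node 3035 (BT.node 3033 (BT.node 3032 (BT.leaf cE3032) (BT.leaf cE3033)) (BT.node 3034 (BT.leaf cE3034) (BT.leaf cE3035))) (BT.node 3037 (BT.node 3036 (BT.leaf cE3036) (BT.leaf cE3037)) (BT.node 3038 (BT.leaf cE3038) (BT.leaf cE3039)))) (BT.node 3043 (BT.node 3041 (BT.node 3040 (BT.leaf cE3040) (BT.leaf cE3041)) (BT.node 3042 (BT.leaf cE3042) (BT.leaf cE3043))) (BT.node 3045 (BT.node 3044 (BT.leaf cE3044) (BT.leaf cE3045)) (BT.leaf cE3046)))) (BT.node 3053 (BT.node 3050 (BT.node 3048 (BT.node 3047 (BT.leaf cE3047) (BT.leaf cE3048)) (BT.node 3049 (BT.leaf cE3049) (BT.leaf cE3050))) (BT.node 3052 (BT.node 3051 (BT.leaf cE3051) (BT.leaf cE3052)) (BT.leaf cE3053))) (BT.node 3057 (BT.node 3055 (BT.node 3054 (BT.leaf cE3054) (BT.leaf cE3055)) (BT.node 3056 (BT.leaf cE3056) (BT.leaf cE3057))) (BT.node 3059 (BT.node 3058 (BT.leaf cE3058) (BT.leaf cE3059)) (BT.leaf cE3060))))) (BT.node 3074 (BT.node 3067 (BT.node 3064 (BT.node 3062 (BT.node 3061 (BT.leaf cE3061) (BT.leaf cE3062)) (BT.node 3063 (BT.leaf cE3063) (BT.leaf cE3064))) (BT.node 3066 (BT.node 3065 (BT.leaf cE3065) (BT.leaf cE3066)) (BT.leaf cE3067))) (BT.node 3071 (BT.node 3069 (BT.node 3068 (BT.leaf cE3068) (BT.leaf cE3069)) (BT.node 3070 (BT.leaf cE3070) (BT.leaf cE3071))) (BT.node 3073 (BT.node 3072 (BT.leaf cE3072) (BT.leaf cE3073)) (BT.leaf cE3074)))) (BT.node 3081 (BT.node 3078 (BT.node 3076 (BT.node 3075 (BT.leaf cE3075) (BT.leaf cE3076)) (BT.node 3077 (BT.leaf cE3077) (BT.leaf cE3078))) (BT.node 3080 (BT.node 3079 (BT.leaf cE3079) (BT.leaf cE3080)) (BT.leaf cE3081))) (BT.node 3085 (BT.node 3083 (BT.node 3082 (BT.leaf cE3082) (BT.leaf cE3083)) (BT.node 3084 (BT.leaf cE3084) (BT.leaf cE3085))) (BT.node 3087 (BT.node 3086 (BT.leaf cE3086) (BT.leaf cE3087)) (BT.leaf cE3088))))))) (BT.node 3145 (BT.node 3117 (BT.node 3103 (BT.node 3096 (BT.node 3092 (BT.node 3090 (BT.node 3089 (BT.leaf cE3089) (BT.leaf cE3090)) (BT.node 3091 (BT.leaf cE3091) (BT.leaf cE3092))) (BT.node 3094 (BT.node 3093 (BT.leaf cE3093) (BT.leaf cE3094)) (BT.node 3095 (BT.leaf cE3095) (BT.leaf cE3096)))) (BT.node 3100 (BT.node 3098 (BT.node 3097 (BT.leaf cE3097) (BT.leaf cE3098)) (BT.node 3099 (BT.leaf cE3099) (BT.leaf cE3100))) (BT.node 3102 (BT.node 3101 (BT.leaf cE3101) (BT.leaf cE3102)) (BT.leaf cE3103)))) (BT.node 3110 (BT.node 3107 (BT.node 3105 (BT.node 3104 (BT.leaf cE3104) (BT.leaf cE3105)) (BT.node 3106 (BT.leaf cE3106) (BT.leaf cE3107))) (BT.node 3109 (BT.node 3108 (BT.leaf cE3108) (BT.leaf cE3109)) (BT.leaf cE3110))) (BT.node 3114 (BT.node 3112 (BT.node 3111 (BT.leaf cE3111) (BT.leaf cE3112)) (BT.node 3113 (BT.leaf cE3113) (BT.leaf cE3114))) (BT.node 3116 (BT.node 3115 (BT.leaf cE3115) (BT.leaf cE3116)) (BT.leaf cE3117))))) (BT.node 3131 (BT.node 3124 (BT.node 3121 (BT.node 3119 (BT.node 3118 (BT.leaf cE3118) (BT.leaf cE3119)) (BT.node 3120 (BT.leaf cE3120) (BT.leaf cE3121))) (BT.node 3123 (BT.node 3122 (BT.leaf cE3122) (BT.leaf cE3123)) (BT.leaf cE3124))) (BT.node 3128 (BT.node 3126 (BT.node 3125 (BT.leaf cE3125) (BT.leaf cE3126)) (BT.node 3127 (BT.leaf cE3127) (BT.leaf cE3128))) (BT.node 3130 (BT.node 3129 (BT.leaf cE3129) (BT.leaf cE3130)) (BT.leaf cE3131)))) (BT.node 3138 (BT.node 3135 (BT.node 3133 (BT.node 3132 (BT.leaf cE3132) (BT.leaf cE3133)) (BT.node 3134 (BT.leaf cE3134) (BT.leaf cE3135))) (BT.node 3137 (BT.node 3136 (BT.leaf cE3136) (BT.leaf cE3137)) (BT.leaf cE3138))) (BT.node 3142 (BT.node 3140 (BT.node 3139 (BT.leaf cE3139) (BT.leaf cE3140)) (BT.node 3141 (BT.leaf cE3141) (BT.leaf cE3142))) (BT.node 3144 (BT.node 3143 (BT.leaf cE3143) (BT.leaf cE3144)) (BT.leaf cE3145)))))) (BT.node 3174 (BT.node 3160 (BT.node 3153 (BT.node 3149 (BT.node 3147 (BT.node 3146 (BT.leaf cE3146) (BT.leaf cE3147)) (BT.node 3148 (BT.leaf cE3148) (BT.leaf cE3149))) (BT.node 3151 (BT.node 3150 (BT.leaf cE3150) (BT.leaf cE3151)) (BT.node 3152 (BT.leaf cE3152) (BT.leaf cE3153)))) (BT.node 3157 (BT.node 3155 (BT.node 3154 (BT.leaf cE3154) (BT.leaf cE3155)) (BT.node 3156 (BT.leaf cE3156) (BT.leaf cE3157))) (BT.node 3159 (BT.node 3158 (BT.leaf cE3158) (BT.leaf cE3159)) (BT.leaf cE3160)))) (BT.node 3167 (BT.node 3164 (BT.node 3162 (BT.node 3161 (BT.leaf cE3161) (BT.leaf cE3162)) (BT.node 3163 (BT.leaf cE3163) (BT.leaf cE3164))) (BT.node 3166 (BT.node 3165 (BT.leaf cE3165) (BT.leaf cE3166)) (BT.leaf cE3167))) (BT.node 3171 (BT.node 3169 (BT.node 3168 (BT.leaf cE3168) (BT.leaf cE3169)) (BT.node 3170 (BT.leaf cE3170) (BT.leaf cE3171))) (BT.node 3173 (BT.node 3172 (BT.leaf cE3172) (BT.leaf cE3173)) (BT.leaf cE3174))))) (BT.node 3188 (BT.node 3181 (BT.node 3178 (BT.node 3176 (BT.node 3175 (BT.leaf cE3175) (BT.leaf cE3176)) (BT.node 3177 (BT.leaf cE3177) (BT.leaf cE3178))) (BT.node 3180 (BT.node 3179 (BT.leaf cE3179) (BT.leaf cE3180)) (BT.leaf cE3181))) (BT.node 3185 (BT.node 3183 (BT.node 3182 (BT.leaf cE3182) (BT.leaf cE3183)) (BT.node 3184 (BT.leaf cE3184) (BT.leaf cE3185))) (BT.node 3187 (BT.node 3186 (BT.leaf cE3186) (BT.leaf cE3187)) (BT.leaf cE3188)))) (BT.node 3195 (BT.node 3192 (BT.node 3190 (BT.node 3189 (BT.leaf cE3189) (BT.leaf cE3190)) (BT.node 3191 (BT.leaf cE3191) (BT.leaf cE3192))) (BT.node 3194 (BT.node 3193 (BT.leaf cE3193) (BT.leaf cE3194)) (BT.leaf cE3195))) (BT.node 3199 (BT.node 3197 (BT.node 3196 (BT.leaf cE3196) (BT.leaf cE3197)) (BT.node 3198 (BT.leaf cE3198) (BT.leaf cE3199))) (BT.node 3201 (BT.node 3200 (BT.leaf cE3200) (BT.leaf cE3201)) (BT.leaf cE3202))))))))) (BT.node 3431 (BT.node 3317 (BT.node 3260 (BT.node 3231 (BT.node 3217 (BT.node 3210 (BT.node 3206 (BT.node 3204 (BT.node 3203 (BT.leaf cE3203) (BT.leaf cE3204)) (BT.node 3205 (BT.leaf cE3205) (BT.leaf cE3206))) (BT.node 3208 (BT.node 3207 (BT.leaf cE3207) (BT.leaf cE3208)) (BT.node 3209 (BT.leaf cE3209) (BT.leaf cE3210)))) (BT.node 3214 (BT.node 3212 (BT.node 3211 (BT.leaf cE3211) (BT.leaf cE3212)) (BT.node 3213 (BT.leaf cE3213) (BT.leaf cE3214))) (BT.node 3216 (BT.node 3215 (BT.leaf cE3215) (BT.leaf cE3216)) (BT.leaf cE3217)))) (BT.node 3224 (BT.node 3221 (BT.node 3219 (BT.node 3218 (BT.leaf cE3218) (BT.leaf cE3219)) (BT.node 3220 (BT.leaf cE3220) (BT.leaf cE3221))) (BT.node 3223 (BT.node 3222 (BT.leaf cE3222) (BT.leaf cE3223)) (BT.leaf cE3224))) (BT.node 3228 (BT.node 3226 (BT.node 3225 (BT.leaf cE3225) (BT.leaf cE3226)) (BT.node 3227 (BT.leaf cE3227) (BT.leaf cE3228))) (BT.node 3230 (BT.node 3229 (BT.leaf cE3229) (BT.leaf cE3230)) (BT.leaf cE3231))))) (BT.node 3246 (BT.node 3239 (BT.node 3235 (BT.node 3233 (BT.node 3232 (BT.leaf cE3232) (BT.leaf cE3233)) (BT.node 3234 (BT.leaf cE3234) (BT.leaf cE3235))) (BT.node 3237 (BT.node 3236 (BT.leaf cE3236) (BT.leaf cE3237)) (BT.node 3238 (BT.leaf cE3238) (BT.leaf cE3239)))) (BT.node 3243 (BT.node 3241 (BT.node 3240 (BT.leaf cE3240) (BT.leaf cE3241)) (BT.node 3242 (BT.leaf cE3242) (BT.leaf cE3243))) (BT.node 3245 (BT.node 3244 (BT.leaf cE3244) (BT.leaf cE3245)) (BT.leaf cE3246)))) (BT.node 3253 (BT.node 3250 (BT.node 3248 (BT.node 3247 (BT.leaf cE3247) (BT.leaf cE3248)) (BT.node 3249 (BT.leaf cE3249) (BT.leaf cE3250))) (BT.node 3252 (BT.node 3251 (BT.leaf cE3251) (BT.leaf cE3252)) (BT.leaf cE3253))) (BT.node 3257 (BT.node 3255 (BT.node 3254 (BT.leaf cE3254) (BT.leaf cE3255)) (BT.node 3256 (BT.leaf cE3256) (BT.leaf cE3257))) (BT.node 3259 (BT.node 3258 (BT.leaf cE3258) (BT.leaf cE3259)) (BT.leaf cE3260)))))) (BT.node 3289 (BT.node 3275 (BT.node 3268 (BT.node 3264 (BT.node 3262 (BT.node 3261 (BT.leaf cE3261) (BT.leaf cE3262)) (BT.node 3263 (BT.leaf cE3263) (BT.leaf cE3264))) (BT.node 3266 (BT.node 3265 (BT.leaf cE3265) (BT.leaf cE3266)) (BT.node 3267 (BT.leaf cE3267) (BT.leaf cE3268)))) (BT.node 3272 (BT.node 3270 (BT.node 3269 (BT.leaf cE3269) (BT.leaf cE3270)) (BT.node 3271 (BT.leaf cE3271) (BT.leaf cE3272))) (BT.node 3274 (BT.node 3273 (BT.leaf cE3273) (BT.leaf cE3274)) (BT.leaf cE3275)))) (BT.node 3282 (BT.node 3279 (BT.node 3277 (BT.node 3276 (BT.leaf cE3276) (BT.leaf cE3277)) (BT.node 3278 (BT.leaf cE3278) (BT.leaf cE3279))) (BT.node 3281 (BT.node 3280 (BT.leaf cE3280) (BT.leaf cE3281)) (BT.leaf cE3282))) (BT.node 3286 (BT.node 3284 (BT.node 3283 (BT.leaf cE3283) (BT.leaf cE3284)) (BT.node 3285 (BT.leaf cE3285) (BT.leaf cE3286))) (BT.node 3288 (BT.node 3287 (BT.leaf cE3287) (BT.leaf cE3288)) (BT.leaf cE3289))))) (BT.node 3303 (BT.node 3296 (BT.node 3293 (BT.node 3291 (BT.node 3290 (BT.leaf cE3290) (BT.leaf cE3291)) (BT.node 3292 (BT.leaf cE3292) (BT.leaf cE3293))) (BT.node 3295 (BT.node 3294 (BT.leaf cE3294) (BT.leaf cE3295)) (BT.leaf cE3296))) (BT.node 3300 (BT.node 3298 (BT.node 3297 (BT.leaf cE3297) (BT.leaf cE3298)) (BT.node 3299 (BT.leaf cE3299) (BT.leaf cE3300))) (BT.node 3302 (BT.node 3301 (BT.leaf cE3301) (BT.leaf cE3302)) (BT.leaf cE3303)))) (BT.node 3310 (BT.node 3307 (BT.node 3305 (BT.node 3304 (BT.leaf cE3304) (BT.leaf cE3305)) (BT.node 3306 (BT.leaf cE3306) (BT.leaf cE3307))) (BT.node 3309 (BT.node 3308 (BT.leaf cE3308) (BT.leaf cE3309)) (BT.leaf cE3310))) (BT.node 3314 (BT.node 3312 (BT.node 3311 (BT.leaf cE3311) (BT.leaf cE3312)) (BT.node 3313 (BT.leaf cE3313) (BT.leaf cE3314))) (BT.node 3316 (BT.node 3315 (BT.leaf cE3315) (BT.leaf cE3316)) (BT.leaf cE3317))))))) (BT.node 3374 (BT.node 3346 (BT.node 3332 (BT.node 3325 (BT.node 3321 (BT.node 3319 (BT.node 3318 (BT.leaf cE3318) (BT.leaf cE3319)) (BT.node 3320 (BT.leaf cE3320) (BT.leaf cE3321))) (BT.node 3323 (BT.node 3322 (BT.leaf cE3322) (BT.leaf cE3323)) (BT.node 3324 (BT.leaf cE3324) (BT.leaf cE3325)))) (BT.node 3329 (BT.node 3327 (BT.node 3326 (BT.leaf cE3326) (BT.leaf cE3327)) (BT.node 3328 (BT.leaf cE3328) (BT.leaf cE3329))) (BT.node 3331 (BT.node 3330 (BT.leaf cE3330) (BT.leaf cE3331)) (BT.leaf cE3332)))) (BT.node 3339 (BT.node 3336 (BT.node 3334 (BT.node 3333 (BT.leaf cE3333) (BT.leaf cE3334)) (BT.node 3335 (BT.leaf cE3335) (BT.leaf cE3336))) (BT.node 3338 (BT.node 3337 (BT.leaf cE3337) (BT.leaf cE3338)) (BT.leaf cE3339))) (BT.node 3343 (BT.node 3341 (BT.node 3340 (BT.leaf cE3340) (BT.leaf cE3341)) (BT.node 3342 (BT.leaf cE3342) (BT.leaf cE3343))) (BT.node 3345 (BT.node 3344 (BT.leaf cE3344) (BT.leaf cE3345)) (BT.leaf cE3346))))) (BT.node 3360 (BT.node 3353 (BT.node 3350 (BT.node 3348 (BT.node 3347 (BT.leaf cE3347) (BT.leaf cE3348)) (BT.node 3349 (BT.leaf cE3349) (BT.leaf cE3350))) (BT.node 3352 (BT.node 3351 (BT.leaf cE3351) (BT.leaf cE3352)) (BT.leaf cE3353))) (BT.node 3357 (BT.node 3355 (BT.node 3354 (BT.leaf cE3354) (BT.leaf cE3355)) (BT.node 3356 (BT.leaf cE3356) (BT.leaf cE3357))) (BT.node 3359 (BT.node 3358 (BT.leaf cE3358) (BT.leaf cE3359)) (BT.leaf cE3360)))) (BT.node 3367 (BT.node 3364 (BT.node 3362 (BT.node 3361 (BT.leaf cE3361) (BT.leaf cE3362)) (BT.node 3363 (BT.leaf cE3363) (BT.leaf cE3364))) (BT.node 3366 (BT.node 3365 (BT.leaf cE3365) (BT.leaf cE3366)) (BT.leaf cE3367))) (BT.node 3371 (BT.node 3369 (BT.node 3368 (BT.leaf cE3368) (BT.leaf cE3369)) (BT.node 3370 (BT.leaf cE3370) (BT.leaf cE3371))) (BT.node 3373 (BT.node 3372 (BT.leaf cE3372) (BT.leaf cE3373)) (BT.leaf cE3374)))))) (BT.node 3403 (BT.node 3389 (BT.node 3382 (BT.node 3378 (BT.node 3376 (BT.node 3375 (BT.leaf cE3375) (BT.leaf cE3376)) (BT.node 3377 (BT.leaf cE3377) (BT.leaf cE3378))) (BT.node 3380 (BT.node 3379 (BT.leaf cE3379) (BT.leaf cE3380)) (BT.node 3381 (BT.leaf cE3381) (BT.leaf cE3382)))) (BT.node 3386 (BT.node 3384 (BT.node 3383 (BT.leaf cE3383) (BT.leaf cE3384)) (BT.node 3385 (BT.leaf cE3385) (BT.leaf cE3386))) (BT.node 3388 (BT.node 3387 (BT.leaf cE3387) (BT.leaf cE3388)) (BT.leaf cE3389)))) (BT.node 3396 (BT.node 3393 (BT.node 3391 (BT.node 3390 (BT.leaf cE3390) (BT.leaf cE3391)) (BT.node 3392 (BT.leaf cE3392) (BT.leaf cE3393))) (BT.node 3395 (BT.node 3394 (BT.leaf cE3394) (BT.leaf cE3395)) (BT.leaf cE3396))) (BT.node 3400 (BT.node 3398 (BT.node 3397 (BT.leaf cE3397) (BT.leaf cE3398)) (BT.node 3399 (BT.leaf cE3399) (BT.leaf cE3400))) (BT.node 3402 (BT.node 3401 (BT.leaf cE3401) (BT.leaf cE3402)) (BT.leaf cE3403))))) (BT.node 3417 (BT.node 3410 (BT.node 3407 (BT.node 3405 (BT.node 3404 (BT.leaf cE3404) (BT.leaf cE3405)) (BT.node 3406 (BT.leaf cE3406) (BT.leaf cE3407))) (BT.node 3409 (BT.node 3408 (BT.leaf cE3408) (BT.leaf cE3409)) (BT.leaf cE3410))) (BT.node 3414 (BT.node 3412 (BT.node 3411 (BT.leaf cE3411) (BT.leaf cE3412)) (BT.node 3413 (BT.leaf cE3413) (BT.leaf cE3414))) (BT.node 3416 (BT.node 3415 (BT.leaf cE3415) (BT.leaf cE3416)) (BT.leaf cE3417)))) (BT.node 3424 (BT.node 3421 (BT.node 3419 (BT.node 3418 (BT.leaf cE3418) (BT.leaf cE3419)) (BT.node 3420 (BT.leaf cE3420) (BT.leaf cE3421))) (BT.node 3423 (BT.node 3422 (BT.leaf cE3422) (BT.leaf cE3423)) (BT.leaf cE3424))) (BT.node 3428 (BT.node 3426 (BT.node 3425 (BT.leaf cE3425) (BT.leaf cE3426)) (BT.node 3427 (BT.leaf cE3427) (BT.leaf cE3428))) (BT.node 3430 (BT.node 3429 (BT.leaf cE3429) (BT.leaf cE3430)) (BT.leaf cE3431)))))))) (BT.node 3545 (BT.node 3488 (BT.node 3460 (BT.node 3446 (BT.node 3439 (BT.node 3435 (BT.node 3433 (BT.node 3432 (BT.leaf cE3432) (BT.leaf cE3433)) (BT.node 3434 (BT.leaf cE3434) (BT.leaf cE3435))) (BT.node 3437 (BT.node 3436 (BT.leaf cE3436) (BT.leaf cE3437)) (BT.node 3438 (BT.leaf cE3438) (BT.leaf cE3439)))) (BT.node 3443 (BT.node 3441 (BT.node 3440 (BT.leaf cE3440) (BT.leaf cE3441)) (BT.node 3442 (BT.leaf cE3442) (BT.leaf cE3443))) (BT.node 3445 (BT.node 3444 (BT.leaf cE3444) (BT.leaf cE3445)) (BT.leaf cE3446)))) (BT.node 3453 (BT.node 3450 (BT.node 3448 (BT.node 3447 (BT.leaf cE3447) (BT.leaf cE3448)) (BT.node 3449 (BT.leaf cE3449) (BT.leaf cE3450))) (BT.node 3452 (BT.node 3451 (BT.leaf cE3451) (BT.leaf cE3452)) (BT.leaf cE3453))) (BT.node 3457 (BT.node 3455 (BT.node 3454 (BT.leaf cE3454) (BT.leaf cE3455)) (BT.node 3456 (BT.leaf cE3456) (BT.leaf cE3457))) (BT.node 3459 (BT.node 3458 (BT.leaf cE3458) (BT.leaf cE3459)) (BT.leaf cE3460))))) (BT.node 3474 (BT.node 3467 (BT.node 3464 (BT.node 3462 (BT.node 3461 (BT.leaf cE3461) (BT.leaf cE3462)) (BT.node 3463 (BT.leaf cE3463) (BT.leaf cE3464))) (BT.node 3466 (BT.node 3465 (BT.leaf cE3465) (BT.leaf cE3466)) (BT.leaf cE3467))) (BT.node 3471 (BT.node 3469 (BT.node 3468 (BT.leaf cE3468) (BT.leaf cE3469)) (BT.node 3470 (BT.leaf cE3470) (BT.leaf cE3471))) (BT.node 3473 (BT.node 3472 (BT.leaf cE3472) (BT.leaf cE3473)) (BT.leaf cE3474)))) (BT.node 3481 (BT.node 3478 (BT.node 3476 (BT.node 3475 (BT.leaf cE3475) (BT.leaf cE3476)) (BT.node 3477 (BT.leaf cE3477) (BT.leaf cE3478))) (BT.node 3480 (BT.node 3479 (BT.leaf cE3479) (BT.leaf cE3480)) (BT.leaf cE3481))) (BT.node 3485 (BT.node 3483 (BT.node 3482 (BT.leaf cE3482) (BT.leaf cE3483)) (BT.node 3484 (BT.leaf cE3484) (BT.leaf cE3485))) (BT.node 3487 (BT.node 3486 (BT.leaf cE3486) (BT.leaf cE3487)) (BT.leaf cE3488)))))) (BT.node 3517 (BT.node 3503 (BT.node 3496 (BT.node 3492 (BT.node 3490 (BT.node 3489 (BT.leaf cE3489) (BT.leaf cE3490)) (BT.node 3491 (BT.leaf cE3491) (BT.leaf cE3492))) (BT.node 3494 (BT.node 3493 (BT.leaf cE3493) (BT.leaf cE3494)) (BT.node 3495 (BT.leaf cE3495) (BT.leaf cE3496)))) (BT.node 3500 (BT.node 3498 (BT.node 3497 (BT.leaf cE3497) (BT.leaf cE3498)) (BT.node 3499 (BT.leaf cE3499) (BT.leaf cE3500))) (BT.node 3502 (BT.node 3501 (BT.leaf cE3501) (BT.leaf cE3502)) (BT.leaf cE3503)))) (BT.node 3510 (BT.node 3507 (BT.node 3505 (BT.node 3504 (BT.leaf cE3504) (BT.leaf cE3505)) (BT.node 3506 (BT.leaf cE3506) (BT.leaf cE3507))) (BT.node 3509 (BT.node 3508 (BT.leaf cE3508) (BT.leaf cE3509)) (BT.leaf cE3510))) (BT.node 3514 (BT.node 3512 (BT.node 3511 (BT.leaf cE3511) (BT.leaf cE3512)) (BT.node 3513 (BT.leaf cE3513) (BT.leaf cE3514))) (BT.node 3516 (BT.node 3515 (BT.leaf cE3515) (BT.leaf cE3516)) (BT.leaf cE3517))))) (BT.node 3531 (BT.node 3524 (BT.node 3521 (BT.node 3519 (BT.node 3518 (BT.leaf cE3518) (BT.leaf cE3519)) (BT.node 3520 (BT.leaf cE3520) (BT.leaf cE3521))) (BT.node 3523 (BT.node 3522 (BT.leaf cE3522) (BT.leaf cE3523)) (BT.leaf cE3524))) (BT.node 3528 (BT.node 3526 (BT.node 3525 (BT.leaf cE3525) (BT.leaf cE3526)) (BT.node 3527 (BT.leaf cE3527) (BT.leaf cE3528))) (BT.node 3530 (BT.node 3529 (BT.leaf cE3529) (BT.leaf cE3530)) (BT.leaf cE3531)))) (BT.node 3538 (BT.node 3535 (BT.node 3533 (BT.node 3532 (BT.leaf cE3532) (BT.leaf cE3533)) (BT.node 3534 (BT.leaf cE3534) (BT.leaf cE3535))) (BT.node 3537 (BT.node 3536 (BT.leaf cE3536) (BT.leaf cE3537)) (BT.leaf cE3538))) (BT.node 3542 (BT.node 3540 (BT.node 3539 (BT.leaf cE3539) (BT.leaf cE3540)) (BT.node 3541 (BT.leaf cE3541) (BT.leaf cE3542))) (BT.node 3544 (BT.node 3543 (BT.leaf cE3543) (BT.leaf cE3544)) (BT.leaf cE3545))))))) (BT.node 3602 (BT.node 3574 (BT.node 3560 (BT.node 3553 (BT.node 3549 (BT.node 3547 (BT.node 3546 (BT.leaf cE3546) (BT.leaf cE3547)) (BT.node 3548 (BT.leaf cE3548) (BT.leaf cE3549))) (BT.node 3551 (BT.node 3550 (BT.leaf cE3550) (BT.leaf cE3551)) (BT.node 3552 (BT.leaf cE3552) (BT.leaf cE3553)))) (BT.node 3557 (BT.node 3555 (BT.node 3554 (BT.leaf cE3554) (BT.leaf cE3555)) (BT.node 3556 (BT.leaf cE3556) (BT.leaf cE3557))) (BT.node 3559 (BT.node 3558 (BT.leaf cE3558) (BT.leaf cE3559)) (BT.leaf cE3560)))) (BT.node 3567 (BT.node 3564 (BT.node 3562 (BT.node 3561 (BT.leaf cE3561) (BT.leaf cE3562)) (BT.node 3563 (BT.leaf cE3563) (BT.leaf cE3564))) (BT.node 3566 (BT.node 3565 (BT.leaf cE3565) (BT.leaf cE3566)) (BT.leaf cE3567))) (BT.node 3571 (BT.node 3569 (BT.node 3568 (BT.leaf cE3568) (BT.leaf cE3569)) (BT.node 3570 (BT.leaf cE3570) (BT.leaf cE3571))) (BT.node 3573 (BT.node 3572 (BT.leaf cE3572) (BT.leaf cE3573)) (BT.leaf cE3574))))) (BT.node 3588 (BT.node 3581 (BT.node 3578 (BT.node 3576 (BT.node 3575 (BT.leaf cE3575) (BT.leaf cE3576)) (BT.node 3577 (BT.leaf cE3577) (BT.leaf cE3578))) (BT.node 3580 (BT.node 3579 (BT.leaf cE3579) (BT.leaf cE3580)) (BT.leaf cE3581))) (BT.node 3585 (BT.node 3583 (BT.node 3582 (BT.leaf cE3582) (BT.leaf cE3583)) (BT.node 3584 (BT.leaf cE3584) (BT.leaf cE3585))) (BT.node 3587 (BT.node 3586 (BT.leaf cE3586) (BT.leaf cE3587)) (BT.leaf cE3588)))) (BT.node 3595 (BT.node 3592 (BT.node 3590 (BT.node 3589 (BT.leaf cE3589) (BT.leaf cE3590)) (BT.node 3591 (BT.leaf cE3591) (BT.leaf cE3592))) (BT.node 3594 (BT.node 3593 (BT.leaf cE3593) (BT.leaf cE3594)) (BT.leaf cE3595))) (BT.node 3599 (BT.node 3597 (BT.node 3596 (BT.leaf cE3596) (BT.leaf cE3597)) (BT.node 3598 (BT.leaf cE3598) (BT.leaf cE3599))) (BT.node 3601 (BT.node 3600 (BT.leaf cE3600) (BT.leaf cE3601)) (BT.leaf cE3602)))))) (BT.node 3631 (BT.node 3617 (BT.node 3610 (BT.node 3606 (BT.node 3604 (BT.node 3603 (BT.leaf cE3603) (BT.leaf cE3604)) (BT.node 3605 (BT.leaf cE3605) (BT.leaf cE3606))) (BT.node 3608 (BT.node 3607 (BT.leaf cE3607) (BT.leaf cE3608)) (BT.node 3609 (BT.leaf cE3609) (BT.leaf cE3610)))) (BT.node 3614 (BT.node 3612 (BT.node 3611 (BT.leaf cE3611) (BT.leaf cE3612)) (BT.node 3613 (BT.leaf cE3613) (BT.leaf cE3614))) (BT.node 3616 (BT.node 3615 (BT.leaf cE3615) (BT.leaf cE3616)) (BT.leaf cE3617)))) (BT.node 3624 (BT.node 3621 (BT.node 3619 (BT.node 3618 (BT.leaf cE3618) (BT.leaf cE3619)) (BT.node 3620 (BT.leaf cE3620) (BT.leaf cE3621))) (BT.node 3623 (BT.node 3622 (BT.leaf cE3622) (BT.leaf cE3623)) (BT.leaf cE3624))) (BT.node 3628 (BT.node 3626 (BT.node 3625 (BT.leaf cE3625) (BT.leaf cE3626)) (BT.node 3627 (BT.leaf cE3627) (BT.leaf cE3628))) (BT.node 3630 (BT.node 3629 (BT.leaf cE3629) (BT.leaf cE3630)) (BT.leaf cE3631))))) (BT.node 3645 (BT.node 3638 (BT.node 3635 (BT.node 3633 (BT.node 3632 (BT.leaf cE3632) (BT.leaf cE3633)) (BT.node 3634 (BT.leaf cE3634) (BT.leaf cE3635))) (BT.node 3637 (BT.node 3636 (BT.leaf cE3636) (BT.leaf cE3637)) (BT.leaf cE3638))) (BT.node 3642 (BT.node 3640 (BT.node 3639 (BT.leaf cE3639) (BT.leaf cE3640)) (BT.node 3641 (BT.leaf cE3641) (BT.leaf cE3642))) (BT.node 3644 (BT.node 3643 (BT.leaf cE3643) (BT.leaf cE3644)) (BT.leaf cE3645)))) (BT.node 3652 (BT.node 3649 (BT.node 3647 (BT.node 3646 (BT.leaf cE3646) (BT.leaf cE3647)) (BT.node 3648 (BT.leaf cE3648) (BT.leaf cE3649))) (BT.node 3651 (BT.node 3650 (BT.leaf cE3650) (BT.leaf cE3651)) (BT.leaf cE3652))) (BT.node 3656 (BT.node 3654 (BT.node 3653 (BT.leaf cE3653) (BT.leaf cE3654)) (BT.node 3655 (BT.leaf cE3655) (BT.leaf cE3656))) (BT.node 3658 (BT.node 3657 (BT.leaf cE3657) (BT.leaf cE3658)) (BT.leaf cE3659))))))))))))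
/-- justification chunks -/
def colJT : BT ℕ := (BT.node 1829 (BT.node 914 (BT.node 457 (BT.node 228 (BT.node 114 (BT.node 57 (BT.node 28 (BT.node 14 (BT.node 7 (BT.node 3 (BT.node 1 (BT.node 0 (BT.leaf cJ0) (BT.leaf cJ1)) (BT.node 2 (BT.leaf cJ2) (BT.leaf cJ3))) (BT.node 5 (BT.node 4 (BT.leaf cJ4) (BT.leaf cJ5)) (BT.node 6 (BT.leaf cJ6) (BT.leaf cJ7)))) (BT.node 11 (BT.node 9 (BT.node 8 (BT.leaf cJ8) (BT.leaf cJ9)) (BT.node 10 (BT.leaf cJ10) (BT.leaf cJ11))) (BT.node 13 (BT.node 12 (BT.leaf cJ12) (BT.leaf cJ13)) (BT.leaf cJ14)))) (BT.node 21 (BT.node 18 (BT.node 16 (BT.node 15 (BT.leaf cJ15) (BT.leaf cJ16)) (BT.node 17 (BT.leaf cJ17) (BT.leaf cJ18))) (BT.node 20 (BT.node 19 (BT.leaf cJ19) (BT.leaf cJ20)) (BT.leaf cJ21))) (BT.node 25 (BT.node 23 (BT.node 22 (BT.leaf cJ22) (BT.leaf cJ23)) (BT.node 24 (BT.leaf cJ24) (BT.leaf cJ25))) (BT.node 27 (BT.node 26 (BT.leaf cJ26) (BT.leaf cJ27)) (BT.leaf cJ28))))) (BT.node 43 (BT.node 36 (BT.node 32 (BT.node 30 (BT.node 29 (BT.leaf cJ29) (BT.leaf cJ30)) (BT.node 31 (BT.leaf cJ31) (BT.leaf cJ32))) (BT.node 34 (BT.node 33 (BT.leaf cJ33) (BT.leaf cJ34)) (BT.node 35 (BT.leaf cJ35) (BT.leaf cJ36)))) (BT.node 40 (BT.node 38 (BT.node 37 (BT.leaf cJ37) (BT.leaf cJ38)) (BT.node 39 (BT.leaf cJ39) (BT.leaf cJ40))) (BT.node 42 (BT.node 41 (BT.leaf cJ41) (BT.leaf cJ42)) (BT.leaf cJ43)))) (BT.node 50 (BT.node 47 (BT.node 45 (BT.node 44 (BT.leaf cJ44) (BT.leaf cJ45)) (BT.node 46 (BT.leaf cJ46) (BT.leaf cJ47))) (BT.node 49 (BT.node 48 (BT.leaf cJ48) (BT.leaf cJ49)) (BT.leaf cJ50))) (BT.node 54 (BT.node 52 (BT.node 51 (BT.leaf cJ51) (BT.leaf cJ52)) (BT.node 53 (BT.leaf cJ53) (BT.leaf cJ54))) (BT.node 56 (BT.node 55 (BT.leaf cJ55) (BT.leaf cJ56)) (BT.leaf cJ57)))))) (BT.node 86 (BT.node 72 (BT.node 65 (BT.node 61 (BT.node 59 (BT.node 58 (BT.leaf cJ58) (BT.leaf cJ59)) (BT.node 60 (BT.leaf cJ60) (BT.leaf cJ61))) (BT.node 63 (BT.node 62 (BT.leaf cJ62) (BT.leaf cJ63)) (BT.node 64 (BT.leaf cJ64) (BT.leaf cJ65)))) (BT.node 69 (BT.node 67 (BT.node 66 (BT.leaf cJ66) (BT.leaf cJ67)) (BT.node 68 (BT.leaf cJ68) (BT.leaf cJ69))) (BT.node 71 (BT.node 70 (BT.leaf cJ70) (BT.leaf cJ71)) (BT.leaf cJ72)))) (BT.node 79 (BT.node 76 (BT.node 74 (BT.node 73 (BT.leaf cJ73) (BT.leaf cJ74)) (BT.node 75 (BT.leaf cJ75) (BT.leaf cJ76))) (BT.node 78 (BT.node 77 (BT.leaf cJ77) (BT.leaf cJ78)) (BT.leaf cJ79))) (BT.node 83 (BT.node 81 (BT.node 80 (BT.leaf cJ80) (BT.leaf cJ81)) (BT.node 82 (BT.leaf cJ82) (BT.leaf cJ83))) (BT.node 85 (BT.node 84 (BT.leaf cJ84) (BT.leaf cJ85)) (BT.leaf cJ86))))) (BT.node 100 (BT.node 93 (BT.node 90 (BT.node 88 (BT.node 87 (BT.leaf cJ87) (BT.leaf cJ88)) (BT.node 89 (BT.leaf cJ89) (BT.leaf cJ90))) (BT.node 92 (BT.node 91 (BT.leaf cJ91) (BT.leaf cJ92)) (BT.leaf cJ93))) (BT.node 97 (BT.node 95 (BT.node 94 (BT.leaf cJ94) (BT.leaf cJ95)) (BT.node 96 (BT.leaf cJ96) (BT.leaf cJ97))) (BT.node 99 (BT.node 98 (BT.leaf cJ98) (BT.leaf cJ99)) (BT.leaf cJ100)))) (BT.node 107 (BT.node 104 (BT.node 102 (BT.node 101 (BT.leaf cJ101) (BT.leaf cJ102)) (BT.node 103 (BT.leaf cJ103) (BT.leaf cJ104))) (BT.node 106 (BT.node 105 (BT.leaf cJ105) (BT.leaf cJ106)) (BT.leaf cJ107))) (BT.node 111 (BT.node 109 (BT.node 108 (BT.leaf cJ108) (BT.leaf cJ109)) (BT.node 110 (BT.leaf cJ110) (BT.leaf cJ111))) (BT.node 113 (BT.node 112 (BT.leaf cJ112) (BT.leaf cJ113)) (BT.leaf cJ114))))))) (BT.node 171 (BT.node 143 (BT.node 129 (BT.node 122 (BT.node 118 (BT.node 116 (BT.node 115 (BT.leaf cJ115) (BT.leaf cJ116)) (BT.node 117 (BT.leaf cJ117) (BT.leaf cJ118))) (BT.node 120 (BT.node 119 (BT.leaf cJ119) (BT.leaf cJ120)) (BT.node 121 (BT.leaf cJ121) (BT.leaf cJ122)))) (BT.node 126 (BT.node 124 (BT.node 123 (BT.leaf cJ123) (BT.leaf cJ124)) (BT.node 125 (BT.leaf cJ125) (BT.leaf cJ126))) (BT.node 128 (BT.node 127 (BT.leaf cJ127) (BT.leaf cJ128)) (BT.leaf cJ129)))) (BT.node 136 (BT.node 133 (BT.node 131 (BT.node 130 (BT.leaf cJ130) (BT.leaf cJ131)) (BT.node 132 (BT.leaf cJ132) (BT.leaf cJ133))) (BT.node 135 (BT.node 134 (BT.leaf cJ134) (BT.leaf cJ135)) (BT.leaf cJ136))) (BT.node 140 (BT.node 138 (BT.node 137 (BT.leaf cJ137) (BT.leaf cJ138)) (BT.node 139 (BT.leaf cJ139) (BT.leaf cJ140))) (BT.node 142 (BT.node 141 (BT.leaf cJ141) (BT.leaf cJ142)) (BT.leaf cJ143))))) (BT.node 157 (BT.node 150 (BT.node 147 (BT.node 145 (BT.node 144 (BT.leaf cJ144) (BT.leaf cJ145)) (BT.node 146 (BT.leaf cJ146) (BT.leaf cJ147))) (BT.node 149 (BT.node 148 (BT.leaf cJ148) (BT.leaf cJ149)) (BT.leaf cJ150))) (BT.node 154 (BT.node 152 (BT.node 151 (BT.leaf cJ151) (BT.leaf cJ152)) (BT.node 153 (BT.leaf cJ153) (BT.leaf cJ154))) (BT.node 156 (BT.node 155 (BT.leaf cJ155) (BT.leaf cJ156)) (BT.leaf cJ157)))) (BT.node 164 (BT.node 161 (BT.node 159 (BT.node 158 (BT.leaf cJ158) (BT.leaf cJ159)) (BT.node 160 (BT.leaf cJ160) (BT.leaf cJ161))) (BT.node 163 (BT.node 162 (BT.leaf cJ162) (BT.leaf cJ163)) (BT.leaf cJ164))) (BT.node 168 (BT.node 166 (BT.node 165 (BT.leaf cJ165) (BT.leaf cJ166)) (BT.node 167 (BT.leaf cJ167) (BT.leaf cJ168))) (BT.node 170 (BT.node 169 (BT.leaf cJ169) (BT.leaf cJ170)) (BT.leaf cJ171)))))) (BT.node 200 (BT.node 186 (BT.node 179 (BT.node 175 (BT.node 173 (BT.node 172 (BT.leaf cJ172) (BT.leaf cJ173)) (BT.node 174 (BT.leaf cJ174) (BT.leaf cJ175))) (BT.node 177 (BT.node 176 (BT.leaf cJ176) (BT.leaf cJ177)) (BT.node 178 (BT.leaf cJ178) (BT.leaf cJ179)))) (BT.node 183 (BT.node 181 (BT.node 180 (BT.leaf cJ180) (BT.leaf cJ181)) (BT.node 182 (BT.leaf cJ182) (BT.leaf cJ183))) (BT.node 185 (BT.node 184 (BT.leaf cJ184) (BT.leaf cJ185)) (BT.leaf cJ186)))) (BT.node 193 (BT.node 190 (BT.node 188 (BT.node 187 (BT.leaf cJ187) (BT.leaf cJ188)) (BT.node 189 (BT.leaf cJ189) (BT.leaf cJ190))) (BT.node 192 (BT.node 191 (BT.leaf cJ191) (BT.leaf cJ192)) (BT.leaf cJ193))) (BT.node 197 (BT.node 195 (BT.node 194 (BT.leaf cJ194) (BT.leaf cJ195)) (BT.node 196 (BT.leaf cJ196) (BT.leaf cJ197))) (BT.node 199 (BT.node 198 (BT.leaf cJ198) (BT.leaf cJ199)) (BT.leaf cJ200))))) (BT.node 214 (BT.node 207 (BT.node 204 (BT.node 202 (BT.node 201 (BT.leaf cJ201) (BT.leaf cJ202)) (BT.node 203 (BT.leaf cJ203) (BT.leaf cJ204))) (BT.node 206 (BT.node 205 (BT.leaf cJ205) (BT.leaf cJ206)) (BT.leaf cJ207))) (BT.node 211 (BT.node 209 (BT.node 208 (BT.leaf cJ208) (BT.leaf cJ209)) (BT.node 210 (BT.leaf cJ210) (BT.leaf cJ211))) (BT.node 213 (BT.node 212 (BT.leaf cJ212) (BT.leaf cJ213)) (BT.leaf cJ214)))) (BT.node 221 (BT.node 218 (BT.node 216 (BT.node 215 (BT.leaf cJ215) (BT.leaf cJ216)) (BT.node 217 (BT.leaf cJ217) (BT.leaf cJ218))) (BT.node 220 (BT.node 219 (BT.leaf cJ219) (BT.leaf cJ220)) (BT.leaf cJ221))) (BT.node 225 (BT.node 223 (BT.node 222 (BT.leaf cJ222) (BT.leaf cJ223)) (BT.node 224 (BT.leaf cJ224) (BT.leaf cJ225))) (BT.node 227 (BT.node 226 (BT.leaf cJ226) (BT.leaf cJ227)) (BT.leaf cJ228)))))))) (BT.node 343 (BT.node 286 (BT.node 257 (BT.node 243 (BT.node 236 (BT.node 232 (BT.node 230 (BT.node 229 (BT.leaf cJ229) (BT.leaf cJ230)) (BT.node 231 (BT.leaf cJ231) (BT.leaf cJ232))) (BT.node 234 (BT.node 233 (BT.leaf cJ233) (BT.leaf cJ234)) (BT.node 235 (BT.leaf cJ235) (BT.leaf cJ236)))) (BT.node 240 (BT.node 238 (BT.node 237 (BT.leaf cJ237) (BT.leaf cJ238)) (BT.node 239 (BT.leaf cJ239) (BT.leaf cJ240))) (BT.node 242 (BT.node 241 (BT.leaf cJ241) (BT.leaf cJ242)) (BT.leaf cJ243)))) (BT.node 250 (BT.node 247 (BT.node 245 (BT.node 244 (BT.leaf cJ244) (BT.leaf cJ245)) (BT.node 246 (BT.leaf cJ246) (BT.leaf cJ247))) (BT.node 249 (BT.node 248 (BT.leaf cJ248) (BT.leaf cJ249)) (BT.leaf cJ250))) (BT.node 254 (BT.node 252 (BT.node 251 (BT.leaf cJ251) (BT.leaf cJ252)) (BT.node 253 (BT.leaf cJ253) (BT.leaf cJ254))) (BT.node 256 (BT.node 255 (BT.leaf cJ255) (BT.leaf cJ256)) (BT.leaf cJ257))))) (BT.node 272 (BT.node 265 (BT.node 261 (BT.node 259 (BT.node 258 (BT.leaf cJ258) (BT.leaf cJ259)) (BT.node 260 (BT.leaf cJ260) (BT.leaf cJ261))) (BT.node 263 (BT.node 262 (BT.leaf cJ262) (BT.leaf cJ263)) (BT.node 264 (BT.leaf cJ264) (BT.leaf cJ265)))) (BT.node 269 (BT.node 267 (BT.node 266 (BT.leaf cJ266) (BT.leaf cJ267)) (BT.node 268 (BT.leaf cJ268) (BT.leaf cJ269))) (BT.node 271 (BT.node 270 (BT.leaf cJ270) (BT.leaf cJ271)) (BT.leaf cJ272)))) (BT.node 279 (BT.node 276 (BT.node 274 (BT.node 273 (BT.leaf cJ273) (BT.leaf cJ274)) (BT.node 275 (BT.leaf cJ275) (BT.leaf cJ276))) (BT.node 278 (BT.node 277 (BT.leaf cJ277) (BT.leaf cJ278)) (BT.leaf cJ279))) (BT.node 283 (BT.node 281 (BT.node 280 (BT.leaf cJ280) (BT.leaf cJ281)) (BT.node 282 (BT.leaf cJ282) (BT.leaf cJ283))) (BT.node 285 (BT.node 284 (BT.leaf cJ284) (BT.leaf cJ285)) (BT.leaf cJ286)))))) (BT.node 315 (BT.node 301 (BT.node 294 (BT.node 290 (BT.node 288 (BT.node 287 (BT.leaf cJ287) (BT.leaf cJ288)) (BT.node 289 (BT.leaf cJ289) (BT.leaf cJ290))) (BT.node 292 (BT.node 291 (BT.leaf cJ291) (BT.leaf cJ292)) (BT.node 293 (BT.leaf cJ293) (BT.leaf cJ294)))) (BT.node 298 (BT.node 296 (BT.node 295 (BT.leaf cJ295) (BT.leaf cJ296)) (BT.node 297 (BT.leaf cJ297) (BT.leaf cJ298))) (BT.node 300 (BT.node 299 (BT.leaf cJ299) (BT.leaf cJ300)) (BT.leaf cJ301)))) (BT.node 308 (BT.node 305 (BT.node 303 (BT.node 302 (BT.leaf cJ302) (BT.leaf cJ303)) (BT.node 304 (BT.leaf cJ304) (BT.leaf cJ305))) (BT.node 307 (BT.node 306 (BT.leaf cJ306) (BT.leaf cJ307)) (BT.leaf cJ308))) (BT.node 312 (BT.node 310 (BT.node 309 (BT.leaf cJ309) (BT.leaf cJ310)) (BT.node 311 (BT.leaf cJ311) (BT.leaf cJ312))) (BT.node 314 (BT.node 313 (BT.leaf cJ313) (BT.leaf cJ314)) (BT.leaf cJ315))))) (BT.node 329 (BT.node 322 (BT.node 319 (BT.node 317 (BT.node 316 (BT.leaf cJ316) (BT.leaf cJ317)) (BT.node 318 (BT.leaf cJ318) (BT.leaf cJ319))) (BT.node 321 (BT.node 320 (BT.leaf cJ320) (BT.leaf cJ321)) (BT.leaf cJ322))) (BT.node 326 (BT.node 324 (BT.node 323 (BT.leaf cJ323) (BT.leaf cJ324)) (BT.node 325 (BT.leaf cJ325) (BT.leaf cJ326))) (BT.node 328 (BT.node 327 (BT.leaf cJ327) (BT.leaf cJ328)) (BT.leaf cJ329)))) (BT.node 336 (BT.node 333 (BT.node 331 (BT.node 330 (BT.leaf cJ330) (BT.leaf cJ331)) (BT.node 332 (BT.leaf cJ332) (BT.leaf cJ333))) (BT.node 335 (BT.node 334 (BT.leaf cJ334) (BT.leaf cJ335)) (BT.leaf cJ336))) (BT.node 340 (BT.node 338 (BT.node 337 (BT.leaf cJ337) (BT.leaf cJ338)) (BT.node 339 (BT.leaf cJ339) (BT.leaf cJ340))) (BT.node 342 (BT.node 341 (BT.leaf cJ341) (BT.leaf cJ342)) (BT.leaf cJ343))))))) (BT.node 400 (BT.node 372 (BT.node 358 (BT.node 351 (BT.node 347 (BT.node 345 (BT.node 344 (BT.leaf cJ344) (BT.leaf cJ345)) (BT.node 346 (BT.leaf cJ346) (BT.leaf cJ347))) (BT.node 349 (BT.node 348 (BT.leaf cJ348) (BT.leaf cJ349)) (BT.node 350 (BT.leaf cJ350) (BT.leaf cJ351)))) (BT.node 355 (BT.node 353 (BT.node 352 (BT.leaf cJ352) (BT.leaf cJ353)) (BT.node 354 (BT.leaf cJ354) (BT.leaf cJ355))) (BT.node 357 (BT.node 356 (BT.leaf cJ356) (BT.leaf cJ357)) (BT.leaf cJ358)))) (BT.node 365 (BT.node 362 (BT.node 360 (BT.node 359 (BT.leaf cJ359) (BT.leaf cJ360)) (BT.node 361 (BT.leaf cJ361) (BT.leaf cJ362))) (BT.node 364 (BT.node 363 (BT.leaf cJ363) (BT.leaf cJ364)) (BT.leaf cJ365))) (BT.node 369 (BT.node 367 (BT.node 366 (BT.leaf cJ366) (BT.leaf cJ367)) (BT.node 368 (BT.leaf cJ368) (BT.leaf cJ369))) (BT.node 371 (BT.node 370 (BT.leaf cJ370) (BT.leaf cJ371)) (BT.leaf cJ372))))) (BT.node 386 (BT.node 379 (BT.node 376 (BT.node 374 (BT.node 373 (BT.leaf cJ373) (BT.leaf cJ374)) (BT.node 375 (BT.leaf cJ375) (BT.leaf cJ376))) (BT.node 378 (BT.node 377 (BT.leaf cJ377) (BT.leaf cJ378)) (BT.leaf cJ379))) (BT.node 383 (BT.node 381 (BT.node 380 (BT.leaf cJ380) (BT.leaf cJ381)) (BT.node 382 (BT.leaf cJ382) (BT.leaf cJ383))) (BT.node 385 (BT.node 384 (BT.leaf cJ384) (BT.leaf cJ385)) (BT.leaf cJ386)))) (BT.node 393 (BT.node 390 (BT.node 388 (BT.node 387 (BT.leaf cJ387) (BT.leaf cJ388)) (BT.node 389 (BT.leaf cJ389) (BT.leaf cJ390))) (BT.node 392 (BT.node 391 (BT.leaf cJ391) (BT.leaf cJ392)) (BT.leaf cJ393))) (BT.node 397 (BT.node 395 (BT.node 394 (BT.leaf cJ394) (BT.leaf cJ395)) (BT.node 396 (BT.leaf cJ396) (BT.leaf cJ397))) (BT.node 399 (BT.node 398 (BT.leaf cJ398) (BT.leaf cJ399)) (BT.leaf cJ400)))))) (BT.node 429 (BT.node 415 (BT.node 408 (BT.node 404 (BT.node 402 (BT.node 401 (BT.leaf cJ401) (BT.leaf cJ402)) (BT.node 403 (BT.leaf cJ403) (BT.leaf cJ404))) (BT.node 406 (BT.node 405 (BT.leaf cJ405) (BT.leaf cJ406)) (BT.node 407 (BT.leaf cJ407) (BT.leaf cJ408)))) (BT.node 412 (BT.node 410 (BT.node 409 (BT.leaf cJ409) (BT.leaf cJ410)) (BT.node 411 (BT.leaf cJ411) (BT.leaf cJ412))) (BT.node 414 (BT.node 413 (BT.leaf cJ413) (BT.leaf cJ414)) (BT.leaf cJ415)))) (BT.node 422 (BT.node 419 (BT.node 417 (BT.node 416 (BT.leaf cJ416) (BT.leaf cJ417)) (BT.node 418 (BT.leaf cJ418) (BT.leaf cJ419))) (BT.node 421 (BT.node 420 (BT.leaf cJ420) (BT.leaf cJ421)) (BT.leaf cJ422))) (BT.node 426 (BT.node 424 (BT.node 423 (BT.leaf cJ423) (BT.leaf cJ424)) (BT.node 425 (BT.leaf cJ425) (BT.leaf cJ426))) (BT.node 428 (BT.node 427 (BT.leaf cJ427) (BT.leaf cJ428)) (BT.leaf cJ429))))) (BT.node 443 (BT.node 436 (BT.node 433 (BT.node 431 (BT.node 430 (BT.leaf cJ430) (BT.leaf cJ431)) (BT.node 432 (BT.leaf cJ432) (BT.leaf cJ433))) (BT.node 435 (BT.node 434 (BT.leaf cJ434) (BT.leaf cJ435)) (BT.leaf cJ436))) (BT.node 440 (BT.node 438 (BT.node 437 (BT.leaf cJ437) (BT.leaf cJ438)) (BT.node 439 (BT.leaf cJ439) (BT.leaf cJ440))) (BT.node 442 (BT.node 441 (BT.leaf cJ441) (BT.leaf cJ442)) (BT.leaf cJ443)))) (BT.node 450 (BT.node 447 (BT.node 445 (BT.node 444 (BT.leaf cJ444) (BT.leaf cJ445)) (BT.node 446 (BT.leaf cJ446) (BT.leaf cJ447))) (BT.node 449 (BT.node 448 (BT.leaf cJ448) (BT.leaf cJ449)) (BT.leaf cJ450))) (BT.node 454 (BT.node 452 (BT.node 451 (BT.leaf cJ451) (BT.leaf cJ452)) (BT.node 453 (BT.leaf cJ453) (BT.leaf cJ454))) (BT.node 456 (BT.node 455 (BT.leaf cJ455) (BT.leaf cJ456)) (BT.leaf cJ457))))))))) (BT.node 686 (BT.node 572 (BT.node 515 (BT.node 486 (BT.node 472 (BT.node 465 (BT.node 461 (BT.node 459 (BT.node 458 (BT.leaf cJ458) (BT.leaf cJ459)) (BT.node 460 (BT.leaf cJ460) (BT.leaf cJ461))) (BT.node 463 (BT.node 462 (BT.leaf cJ462) (BT.leaf cJ463)) (BT.node 464 (BT.leaf cJ464) (BT.leaf cJ465)))) (BT.node 469 (BT.node 467 (BT.node 466 (BT.leaf cJ466) (BT.leaf cJ467)) (BT.node 468 (BT.leaf cJ468) (BT.leaf cJ469))) (BT.node 471 (BT.node 470 (BT.leaf cJ470) (BT.leaf cJ471)) (BT.leaf cJ472)))) (BT.node 479 (BT.node 476 (BT.node 474 (BT.node 473 (BT.leaf cJ473) (BT.leaf cJ474)) (BT.node 475 (BT.leaf cJ475) (BT.leaf cJ476))) (BT.node 478 (BT.node 477 (BT.leaf cJ477) (BT.leaf cJ478)) (BT.leaf cJ479))) (BT.node 483 (BT.node 481 (BT.node 480 (BT.leaf cJ480) (BT.leaf cJ481)) (BT.node 482 (BT.leaf cJ482) (BT.leaf cJ483))) (BT.node 485 (BT.node 484 (BT.leaf cJ484) (BT.leaf cJ485)) (BT.leaf cJ486))))) (BT.node 501 (BT.node 494 (BT.node 490 (BT.node 488 (BT.node 487 (BT.leaf cJ487) (BT.leaf cJ488)) (BT.node 489 (BT.leaf cJ489) (BT.leaf cJ490))) (BT.node 492 (BT.node 491 (BT.leaf cJ491) (BT.leaf cJ492)) (BT.node 493 (BT.leaf cJ493) (BT.leaf cJ494)))) (BT.node 498 (BT.node 496 (BT.node 495 (BT.leaf cJ495) (BT.leaf cJ496)) (BT.node 497 (BT.leaf cJ497) (BT.leaf cJ498))) (BT.node 500 (BT.node 499 (BT.leaf cJ499) (BT.leaf cJ500)) (BT.leaf cJ501)))) (BT.node 508 (BT.node 505 (BT.node 503 (BT.node 502 (BT.leaf cJ502) (BT.leaf cJ503)) (BT.node 504 (BT.leaf cJ504) (BT.leaf cJ505))) (BT.node 507 (BT.node 506 (BT.leaf cJ506) (BT.leaf cJ507)) (BT.leaf cJ508))) (BT.node 512 (BT.node 510 (BT.node 509 (BT.leaf cJ509) (BT.leaf cJ510)) (BT.node 511 (BT.leaf cJ511) (BT.leaf cJ512))) (BT.node 514 (BT.node 513 (BT.leaf cJ513) (BT.leaf cJ514)) (BT.leaf cJ515)))))) (BT.node 544 (BT.node 530 (BT.node 523 (BT.node 519 (BT.node 517 (BT.node 516 (BT.leaf cJ516) (BT.leaf cJ517)) (BT.node 518 (BT.leaf cJ518) (BT.leaf cJ519))) (BT.node 521 (BT.node 520 (BT.leaf cJ520) (BT.leaf cJ521)) (BT.node 522 (BT.leaf cJ522) (BT.leaf cJ523)))) (BT.node 527 (BT.node 525 (BT.node 524 (BT.leaf cJ524) (BT.leaf cJ525)) (BT.node 526 (BT.leaf cJ526) (BT.leaf cJ527))) (BT.node 529 (BT.node 528 (BT.leaf cJ528) (BT.leaf cJ529)) (BT.leaf cJ530)))) (BT.node 537 (BT.node 534 (BT.node 532 (BT.node 531 (BT.leaf cJ531) (BT.leaf cJ532)) (BT.node 533 (BT.leaf cJ533) (BT.leaf cJ534))) (BT.node 536 (BT.node 535 (BT.leaf cJ535) (BT.leaf cJ536)) (BT.leaf cJ537))) (BT.node 541 (BT.node 539 (BT.node 538 (BT.leaf cJ538) (BT.leaf cJ539)) (BT.node 540 (BT.leaf cJ540) (BT.leaf cJ541))) (BT.node 543 (BT.node 542 (BT.leaf cJ542) (BT.leaf cJ543)) (BT.leaf cJ544))))) (BT.node 558 (BT.node 551 (BT.node 548 (BT.node 546 (BT.node 545 (BT.leaf cJ545) (BT.leaf cJ546)) (BT.node 547 (BT.leaf cJ547) (BT.leaf cJ548))) (BT.node 550 (BT.node 549 (BT.leaf cJ549) (BT.leaf cJ550)) (BT.leaf cJ551))) (BT.node 555 (BT.node 553 (BT.node 552 (BT.leaf cJ552) (BT.leaf cJ553)) (BT.node 554 (BT.leaf cJ554) (BT.leaf cJ555))) (BT.node 557 (BT.node 556 (BT.leaf cJ556) (BT.leaf cJ557)) (BT.leaf cJ558)))) (BT.node 565 (BT.node 562 (BT.node 560 (BT.node 559 (BT.leaf cJ559) (BT.leaf cJ560)) (BT.node 561 (BT.leaf cJ561) (BT.leaf cJ562))) (BT.node 564 (BT.node 563 (BT.leaf cJ563) (BT.leaf cJ564)) (BT.leaf cJ565))) (BT.node 569 (BT.node 567 (BT.node 566 (BT.leaf cJ566) (BT.leaf cJ567)) (BT.node 568 (BT.leaf cJ568) (BT.leaf cJ569))) (BT.node 571 (BT.node 570 (BT.leaf cJ570) (BT.leaf cJ571)) (BT.leaf cJ572))))))) (BT.node 629 (BT.node 601 (BT.node 587 (BT.node 580 (BT.node 576 (BT.node 574 (BT.node 573 (BT.leaf cJ573) (BT.leaf cJ574)) (BT.node 575 (BT.leaf cJ575) (BT.leaf cJ576))) (BT.node 578 (BT.node 577 (BT.leaf cJ577) (BT.leaf cJ578)) (BT.node 579 (BT.leaf cJ579) (BT.leaf cJ580)))) (BT.node 584 (BT.node 582 (BT.node 581 (BT.leaf cJ581) (BT.leaf cJ582)) (BT.node 583 (BT.leaf cJ583) (BT.leaf cJ584))) (BT.node 586 (BT.node 585 (BT.leaf cJ585) (BT.leaf cJ586)) (BT.leaf cJ587)))) (BT.node 594 (BT.node 591 (BT.node 589 (BT.node 588 (BT.leaf cJ588) (BT.leaf cJ589)) (BT.node 590 (BT.leaf cJ590) (BT.leaf cJ591))) (BT.node 593 (BT.node 592 (BT.leaf cJ592) (BT.leaf cJ593)) (BT.leaf cJ594))) (BT.node 598 (BT.node 596 (BT.node 595 (BT.leaf cJ595) (BT.leaf cJ596)) (BT.node 597 (BT.leaf cJ597) (BT.leaf cJ598))) (BT.node 600 (BT.node 599 (BT.leaf cJ599) (BT.leaf cJ600)) (BT.leaf cJ601))))) (BT.node 615 (BT.node 608 (BT.node 605 (BT.node 603 (BT.node 602 (BT.leaf cJ602) (BT.leaf cJ603)) (BT.node 604 (BT.leaf cJ604) (BT.leaf cJ605))) (BT.node 607 (BT.node 606 (BT.leaf cJ606) (BT.leaf cJ607)) (BT.leaf cJ608))) (BT.node 612 (BT.node 610 (BT.node 609 (BT.leaf cJ609) (BT.leaf cJ610)) (BT.node 611 (BT.leaf cJ611) (BT.leaf cJ612))) (BT.node 614 (BT.node 613 (BT.leaf cJ613) (BT.leaf cJ614)) (BT.leaf cJ615)))) (BT.node 622 (BT.node 619 (BT.node 617 (BT.node 616 (BT.leaf cJ616) (BT.leaf cJ617)) (BT.node 618 (BT.leaf cJ618) (BT.leaf cJ619))) (BT.node 621 (BT.node 620 (BT.leaf cJ620) (BT.leaf cJ621)) (BT.leaf cJ622))) (BT.node 626 (BT.node 624 (BT.node 623 (BT.leaf cJ623) (BT.leaf cJ624)) (BT.node 625 (BT.leaf cJ625) (BT.leaf cJ626))) (BT.node 628 (BT.node 627 (BT.leaf cJ627) (BT.leaf cJ628)) (BT.leaf cJ629)))))) (BT.node 658 (BT.node 644 (BT.node 637 (BT.node 633 (BT.node 631 (BT.node 630 (BT.leaf cJ630) (BT.leaf cJ631)) (BT.node 632 (BT.leaf cJ632) (BT.leaf cJ633))) (BT.node 635 (BT.node 634 (BT.leaf cJ634) (BT.leaf cJ635)) (BT.node 636 (BT.leaf cJ636) (BT.leaf cJ637)))) (BT.node 641 (BT.node 639 (BT.node 638 (BT.leaf cJ638) (BT.leaf cJ639)) (BT.node 640 (BT.leaf cJ640) (BT.leaf cJ641))) (BT.node 643 (BT.node 642 (BT.leaf cJ642) (BT.leaf cJ643)) (BT.leaf cJ644)))) (BT.node 651 (BT.node 648 (BT.node 646 (BT.node 645 (BT.leaf cJ645) (BT.leaf cJ646)) (BT.node 647 (BT.leaf cJ647) (BT.leaf cJ648))) (BT.node 650 (BT.node 649 (BT.leaf cJ649) (BT.leaf cJ650)) (BT.leaf cJ651))) (BT.node 655 (BT.node 653 (BT.node 652 (BT.leaf cJ652) (BT.leaf cJ653)) (BT.node 654 (BT.leaf cJ654) (BT.leaf cJ655))) (BT.node 657 (BT.node 656 (BT.leaf cJ656) (BT.leaf cJ657)) (BT.leaf cJ658))))) (BT.node 672 (BT.node 665 (BT.node 662 (BT.node 660 (BT.node 659 (BT.leaf cJ659) (BT.leaf cJ660)) (BT.node 661 (BT.leaf cJ661) (BT.leaf cJ662))) (BT.node 664 (BT.node 663 (BT.leaf cJ663) (BT.leaf cJ664)) (BT.leaf cJ665))) (BT.node 669 (BT.node 667 (BT.node 666 (BT.leaf cJ666) (BT.leaf cJ667)) (BT.node 668 (BT.leaf cJ668) (BT.leaf cJ669))) (BT.node 671 (BT.node 670 (BT.leaf cJ670) (BT.leaf cJ671)) (BT.leaf cJ672)))) (BT.node 679 (BT.node 676 (BT.node 674 (BT.node 673 (BT.leaf cJ673) (BT.leaf cJ674)) (BT.node 675 (BT.leaf cJ675) (BT.leaf cJ676))) (BT.node 678 (BT.node 677 (BT.leaf cJ677) (BT.leaf cJ678)) (BT.leaf cJ679))) (BT.node 683 (BT.node 681 (BT.node 680 (BT.leaf cJ680) (BT.leaf cJ681)) (BT.node 682 (BT.leaf cJ682) (BT.leaf cJ683))) (BT.node 685 (BT.node 684 (BT.leaf cJ684) (BT.leaf cJ685)) (BT.leaf cJ686)))))))) (BT.node 800 (BT.node 743 (BT.node 715 (BT.node 701 (BT.node 694 (BT.node 690 (BT.node 688 (BT.node 687 (BT.leaf cJ687) (BT.leaf cJ688)) (BT.node 689 (BT.leaf cJ689) (BT.leaf cJ690))) (BT.node 692 (BT.node 691 (BT.leaf cJ691) (BT.leaf cJ692)) (BT.node 693 (BT.leaf cJ693) (BT.leaf cJ694)))) (BT.node 698 (BT.node 696 (BT.node 695 (BT.leaf cJ695) (BT.leaf cJ696)) (BT.node 697 (BT.leaf cJ697) (BT.leaf cJ698))) (BT.node 700 (BT.node 699 (BT.leaf cJ699) (BT.leaf cJ700)) (BT.leaf cJ701)))) (BT.node 708 (BT.node 705 (BT.node 703 (BT.node 702 (BT.leaf cJ702) (BT.leaf cJ703)) (BT.node 704 (BT.leaf cJ704) (BT.leaf cJ705))) (BT.node 707 (BT.node 706 (BT.leaf cJ706) (BT.leaf cJ707)) (BT.leaf cJ708))) (BT.node 712 (BT.node 710 (BT.node 709 (BT.leaf cJ709) (BT.leaf cJ710)) (BT.node 711 (BT.leaf cJ711) (BT.leaf cJ712))) (BT.node 714 (BT.node 713 (BT.leaf cJ713) (BT.leaf cJ714)) (BT.leaf cJ715))))) (BT.node 729 (BT.node 722 (BT.node 719 (BT.node 717 (BT.node 716 (BT.leaf cJ716) (BT.leaf cJ717)) (BT.node 718 (BT.leaf cJ718) (BT.leaf cJ719))) (BT.node 721 (BT.node 720 (BT.leaf cJ720) (BT.leaf cJ721)) (BT.leaf cJ722))) (BT.node 726 (BT.node 724 (BT.node 723 (BT.leaf cJ723) (BT.leaf cJ724)) (BT.node 725 (BT.leaf cJ725) (BT.leaf cJ726))) (BT.node 728 (BT.node 727 (BT.leaf cJ727) (BT.leaf cJ728)) (BT.leaf cJ729)))) (BT.node 736 (BT.node 733 (BT.node 731 (BT.node 730 (BT.leaf cJ730) (BT.leaf cJ731)) (BT.node 732 (BT.leaf cJ732) (BT.leaf cJ733))) (BT.node 735 (BT.node 734 (BT.leaf cJ734) (BT.leaf cJ735)) (BT.leaf cJ736))) (BT.node 740 (BT.node 738 (BT.node 737 (BT.leaf cJ737) (BT.leaf cJ738)) (BT.node 739 (BT.leaf cJ739) (BT.leaf cJ740))) (BT.node 742 (BT.node 741 (BT.leaf cJ741) (BT.leaf cJ742)) (BT.leaf cJ743)))))) (BT.node 772 (BT.node 758 (BT.node 751 (BT.node 747 (BT.node 745 (BT.node 744 (BT.leaf cJ744) (BT.leaf cJ745)) (BT.node 746 (BT.leaf cJ746) (BT.leaf cJ747))) (BT.node 749 (BT.node 748 (BT.leaf cJ748) (BT.leaf cJ749)) (BT.node 750 (BT.leaf cJ750) (BT.leaf cJ751)))) (BT.node 755 (BT.node 753 (BT.node 752 (BT.leaf cJ752) (BT.leaf cJ753)) (BT.node 754 (BT.leaf cJ754) (BT.leaf cJ755))) (BT.node 757 (BT.node 756 (BT.leaf cJ756) (BT.leaf cJ757)) (BT.leaf cJ758)))) (BT.node 765 (BT.node 762 (BT.node 760 (BT.node 759 (BT.leaf cJ759) (BT.leaf cJ760)) (BT.node 761 (BT.leaf cJ761) (BT.leaf cJ762))) (BT.node 764 (BT.node 763 (BT.leaf cJ763) (BT.leaf cJ764)) (BT.leaf cJ765))) (BT.node 769 (BT.node 767 (BT.node 766 (BT.leaf cJ766) (BT.leaf cJ767)) (BT.node 768 (BT.leaf cJ768) (BT.leaf cJ769))) (BT.node 771 (BT.node 770 (BT.leaf cJ770) (BT.leaf cJ771)) (BT.leaf cJ772))))) (BT.node 786 (BT.node 779 (BT.node 776 (BT.node 774 (BT.node 773 (BT.leaf cJ773) (BT.leaf cJ774)) (BT.node 775 (BT.leaf cJ775) (BT.leaf cJ776))) (BT.node 778 (BT.node 777 (BT.leaf cJ777) (BT.leaf cJ778)) (BT.leaf cJ779))) (BT.node 783 (BT.node 781 (BT.node 780 (BT.leaf cJ780) (BT.leaf cJ781)) (BT.node 782 (BT.leaf cJ782) (BT.leaf cJ783))) (BT.node 785 (BT.node 784 (BT.leaf cJ784) (BT.leaf cJ785)) (BT.leaf cJ786)))) (BT.node 793 (BT.node 790 (BT.node 788 (BT.node 787 (BT.leaf cJ787) (BT.leaf cJ788)) (BT.node 789 (BT.leaf cJ789) (BT.leaf cJ790))) (BT.node 792 (BT.node 791 (BT.leaf cJ791) (BT.leaf cJ792)) (BT.leaf cJ793))) (BT.node 797 (BT.node 795 (BT.node 794 (BT.leaf cJ794) (BT.leaf cJ795)) (BT.node 796 (BT.leaf cJ796) (BT.leaf cJ797))) (BT.node 799 (BT.node 798 (BT.leaf cJ798) (BT.leaf cJ799)) (BT.leaf cJ800))))))) (BT.node 857 (BT.node 829 (BT.node 815 (BT.node 808 (BT.node 804 (BT.node 802 (BT.node 801 (BT.leaf cJ801) (BT.leaf cJ802)) (BT.node 803 (BT.leaf cJ803) (BT.leaf cJ804))) (BT.node 806 (BT.node 805 (BT.leaf cJ805) (BT.leaf cJ806)) (BT.node 807 (BT.leaf cJ807) (BT.leaf cJ808)))) (BT.node 812 (BT.node 810 (BT.node 809 (BT.leaf cJ809) (BT.leaf cJ810)) (BT.node 811 (BT.leaf cJ811) (BT.leaf cJ812))) (BT.node 814 (BT.node 813 (BT.leaf cJ813) (BT.leaf cJ814)) (BT.leaf cJ815)))) (BT.node 822 (BT.node 819 (BT.node 817 (BT.node 816 (BT.leaf cJ816) (BT.leaf cJ817)) (BT.node 818 (BT.leaf cJ818) (BT.leaf cJ819))) (BT.node 821 (BT.node 820 (BT.leaf cJ820) (BT.leaf cJ821)) (BT.leaf cJ822))) (BT.node 826 (BT.node 824 (BT.node 823 (BT.leaf cJ823) (BT.leaf cJ824)) (BT.node 825 (BT.leaf cJ825) (BT.leaf cJ826))) (BT.node 828 (BT.node 827 (BT.leaf cJ827) (BT.leaf cJ828)) (BT.leaf cJ829))))) (BT.node 843 (BT.node 836 (BT.node 833 (BT.node 831 (BT.node 830 (BT.leaf cJ830) (BT.leaf cJ831)) (BT.node 832 (BT.leaf cJ832) (BT.leaf cJ833))) (BT.node 835 (BT.node 834 (BT.leaf cJ834) (BT.leaf cJ835)) (BT.leaf cJ836))) (BT.node 840 (BT.node 838 (BT.node 837 (BT.leaf cJ837) (BT.leaf cJ838)) (BT.node 839 (BT.leaf cJ839) (BT.leaf cJ840))) (BT.node 842 (BT.node 841 (BT.leaf cJ841) (BT.leaf cJ842)) (BT.leaf cJ843)))) (BT.node 850 (BT.node 847 (BT.node 845 (BT.node 844 (BT.leaf cJ844) (BT.leaf cJ845)) (BT.node 846 (BT.leaf cJ846) (BT.leaf cJ847))) (BT.node 849 (BT.node 848 (BT.leaf cJ848) (BT.leaf cJ849)) (BT.leaf cJ850))) (BT.node 854 (BT.node 852 (BT.node 851 (BT.leaf cJ851) (BT.leaf cJ852)) (BT.node 853 (BT.leaf cJ853) (BT.leaf cJ854))) (BT.node 856 (BT.node 855 (BT.leaf cJ855) (BT.leaf cJ856)) (BT.leaf cJ857)))))) (BT.node 886 (BT.node 872 (BT.node 865 (BT.node 861 (BT.node 859 (BT.node 858 (BT.leaf cJ858) (BT.leaf cJ859)) (BT.node 860 (BT.leaf cJ860) (BT.leaf cJ861))) (BT.node 863 (BT.node 862 (BT.leaf cJ862) (BT.leaf cJ863)) (BT.node 864 (BT.leaf cJ864) (BT.leaf cJ865)))) (BT.node 869 (BT.node 867 (BT.node 866 (BT.leaf cJ866) (BT.leaf cJ867)) (BT.node 868 (BT.leaf cJ868) (BT.leaf cJ869))) (BT.node 871 (BT.node 870 (BT.leaf cJ870) (BT.leaf cJ871)) (BT.leaf cJ872)))) (BT.node 879 (BT.node 876 (BT.node 874 (BT.node 873 (BT.leaf cJ873) (BT.leaf cJ874)) (BT.node 875 (BT.leaf cJ875) (BT.leaf cJ876))) (BT.node 878 (BT.node 877 (BT.leaf cJ877) (BT.leaf cJ878)) (BT.leaf cJ879))) (BT.node 883 (BT.node 881 (BT.node 880 (BT.leaf cJ880) (BT.leaf cJ881)) (BT.node 882 (BT.leaf cJ882) (BT.leaf cJ883))) (BT.node 885 (BT.node 884 (BT.leaf cJ884) (BT.leaf cJ885)) (BT.leaf cJ886))))) (BT.node 900 (BT.node 893 (BT.node 890 (BT.node 888 (BT.node 887 (BT.leaf cJ887) (BT.leaf cJ888)) (BT.node 889 (BT.leaf cJ889) (BT.leaf cJ890))) (BT.node 892 (BT.node 891 (BT.leaf cJ891) (BT.leaf cJ892)) (BT.leaf cJ893))) (BT.node 897 (BT.node 895 (BT.node 894 (BT.leaf cJ894) (BT.leaf cJ895)) (BT.node 896 (BT.leaf cJ896) (BT.leaf cJ897))) (BT.node 899 (BT.node 898 (BT.leaf cJ898) (BT.leaf cJ899)) (BT.leaf cJ900)))) (BT.node 907 (BT.node 904 (BT.node 902 (BT.node 901 (BT.leaf cJ901) (BT.leaf cJ902)) (BT.node 903 (BT.leaf cJ903) (BT.leaf cJ904))) (BT.node 906 (BT.node 905 (BT.leaf cJ905) (BT.leaf cJ906)) (BT.leaf cJ907))) (BT.node 911 (BT.node 909 (BT.node 908 (BT.leaf cJ908) (BT.leaf cJ909)) (BT.node 910 (BT.leaf cJ910) (BT.leaf cJ911))) (BT.node 913 (BT.node 912 (BT.leaf cJ912) (BT.leaf cJ913)) (BT.leaf cJ914)))))))))) (BT.node 1372 (BT.node 1143 (BT.node 1029 (BT.node 972 (BT.node 943 (BT.node 929 (BT.node 922 (BT.node 918 (BT.node 916 (BT.node 915 (BT.leaf cJ915) (BT.leaf cJ916)) (BT.node 917 (BT.leaf cJ917) (BT.leaf cJ918))) (BT.node 920 (BT.node 919 (BT.leaf cJ919) (BT.leaf cJ920)) (BT.node 921 (BT.leaf cJ921) (BT.leaf cJ922)))) (BT.node 926 (BT.node 924 (BT.node 923 (BT.leaf cJ923) (BT.leaf cJ924)) (BT.node 925 (BT.leaf cJ925) (BT.leaf cJ926))) (BT.node 928 (BT.node 927 (BT.leaf cJ927) (BT.leaf cJ928)) (BT.leaf cJ929)))) (BT.node 936 (BT.node 933 (BT.node 931 (BT.node 930 (BT.leaf cJ930) (BT.leaf cJ931)) (BT.node 932 (BT.leaf cJ932) (BT.leaf cJ933))) (BT.node 935 (BT.node 934 (BT.leaf cJ934) (BT.leaf cJ935)) (BT.leaf cJ936))) (BT.node 940 (BT.node 938 (BT.node 937 (BT.leaf cJ937) (BT.leaf cJ938)) (BT.node 939 (BT.leaf cJ939) (BT.leaf cJ940))) (BT.node 942 (BT.node 941 (BT.leaf cJ941) (BT.leaf cJ942)) (BT.leaf cJ943))))) (BT.node 958 (BT.node 951 (BT.node 947 (BT.node 945 (BT.node 944 (BT.leaf cJ944) (BT.leaf cJ945)) (BT.node 946 (BT.leaf cJ946) (BT.leaf cJ947))) (BT.node 949 (BT.node 948 (BT.leaf cJ948) (BT.leaf cJ949)) (BT.node 950 (BT.leaf cJ950) (BT.leaf cJ951)))) (BT.node 955 (BT.node 953 (BT.node 952 (BT.leaf cJ952) (BT.leaf cJ953)) (BT.node 954 (BT.leaf cJ954) (BT.leaf cJ955))) (BT.node 957 (BT.node 956 (BT.leaf cJ956) (BT.leaf cJ957)) (BT.leaf cJ958)))) (BT.node 965 (BT.node 962 (BT.node 960 (BT.node 959 (BT.leaf cJ959) (BT.leaf cJ960)) (BT.node 961 (BT.leaf cJ961) (BT.leaf cJ962))) (BT.node 964 (BT.node 963 (BT.leaf cJ963) (BT.leaf cJ964)) (BT.leaf cJ965))) (BT.node 969 (BT.node 967 (BT.node 966 (BT.leaf cJ966) (BT.leaf cJ967)) (BT.node 968 (BT.leaf cJ968) (BT.leaf cJ969))) (BT.node 971 (BT.node 970 (BT.leaf cJ970) (BT.leaf cJ971)) (BT.leaf cJ972)))))) (BT.node 1001 (BT.node 987 (BT.node 980 (BT.node 976 (BT.node 974 (BT.node 973 (BT.leaf cJ973) (BT.leaf cJ974)) (BT.node 975 (BT.leaf cJ975) (BT.leaf cJ976))) (BT.node 978 (BT.node 977 (BT.leaf cJ977) (BT.leaf cJ978)) (BT.node 979 (BT.leaf cJ979) (BT.leaf cJ980)))) (BT.node 984 (BT.node 982 (BT.node 981 (BT.leaf cJ981) (BT.leaf cJ982)) (BT.node 983 (BT.leaf cJ983) (BT.leaf cJ984))) (BT.node 986 (BT.node 985 (BT.leaf cJ985) (BT.leaf cJ986)) (BT.leaf cJ987)))) (BT.node 994 (BT.node 991 (BT.node 989 (BT.node 988 (BT.leaf cJ988) (BT.leaf cJ989)) (BT.node 990 (BT.leaf cJ990) (BT.leaf cJ991))) (BT.node 993 (BT.node 992 (BT.leaf cJ992) (BT.leaf cJ993)) (BT.leaf cJ994))) (BT.node 998 (BT.node 996 (BT.node 995 (BT.leaf cJ995) (BT.leaf cJ996)) (BT.node 997 (BT.leaf cJ997) (BT.leaf cJ998))) (BT.node 1000 (BT.node 999 (BT.leaf cJ999) (BT.leaf cJ1000)) (BT.leaf cJ1001))))) (BT.node 1015 (BT.node 1008 (BT.node 1005 (BT.node 1003 (BT.node 1002 (BT.leaf cJ1002) (BT.leaf cJ1003)) (BT.node 1004 (BT.leaf cJ1004) (BT.leaf cJ1005))) (BT.node 1007 (BT.node 1006 (BT.leaf cJ1006) (BT.leaf cJ1007)) (BT.leaf cJ1008))) (BT.node 1012 (BT.node 1010 (BT.node 1009 (BT.leaf cJ1009) (BT.leaf cJ1010)) (BT.node 1011 (BT.leaf cJ1011) (BT.leaf cJ1012))) (BT.node 1014 (BT.node 1013 (BT.leaf cJ1013) (BT.leaf cJ1014)) (BT.leaf cJ1015)))) (BT.node 1022 (BT.node 1019 (BT.node 1017 (BT.node 1016 (BT.leaf cJ1016) (BT.leaf cJ1017)) (BT.node 1018 (BT.leaf cJ1018) (BT.leaf cJ1019))) (BT.node 1021 (BT.node 1020 (BT.leaf cJ1020) (BT.leaf cJ1021)) (BT.leaf cJ1022))) (BT.node 1026 (BT.node 1024 (BT.node 1023 (BT.leaf cJ1023) (BT.leaf cJ1024)) (BT.node 1025 (BT.leaf cJ1025) (BT.leaf cJ1026))) (BT.node 1028 (BT.node 1027 (BT.leaf cJ1027) (BT.leaf cJ1028)) (BT.leaf cJ1029))))))) (BT.node 1086 (BT.node 1058 (BT.node 1044 (BT.node 1037 (BT.node 1033 (BT.node 1031 (BT.node 1030 (BT.leaf cJ1030) (BT.leaf cJ1031)) (BT.node 1032 (BT.leaf cJ1032) (BT.leaf cJ1033))) (BT.node 1035 (BT.node 1034 (BT.leaf cJ1034) (BT.leaf cJ1035)) (BT.node 1036 (BT.leaf cJ1036) (BT.leaf cJ1037)))) (BT.node 1041 (BT.node 1039 (BT.node 1038 (BT.leaf cJ1038) (BT.leaf cJ1039)) (BT.node 1040 (BT.leaf cJ1040) (BT.leaf cJ1041))) (BT.node 1043 (BT.node 1042 (BT.leaf cJ1042) (BT.leaf cJ1043)) (BT.leaf cJ1044)))) (BT.node 1051 (BT.node 1048 (BT.node 1046 (BT.node 1045 (BT.leaf cJ1045) (BT.leaf cJ1046)) (BT.node 1047 (BT.leaf cJ1047) (BT.leaf cJ1048))) (BT.node 1050 (BT.node 1049 (BT.leaf cJ1049) (BT.leaf cJ1050)) (BT.leaf cJ1051))) (BT.node 1055 (BT.node 1053 (BT.node 1052 (BT.leaf cJ1052) (BT.leaf cJ1053)) (BT.node 1054 (BT.leaf cJ1054) (BT.leaf cJ1055))) (BT.node 1057 (BT.node 1056 (BT.leaf cJ1056) (BT.leaf cJ1057)) (BT.leaf cJ1058))))) (BT.node 1072 (BT.node 1065 (BT.node 1062 (BT.node 1060 (BT.node 1059 (BT.leaf cJ1059) (BT.leaf cJ1060)) (BT.node 1061 (BT.leaf cJ1061) (BT.leaf cJ1062))) (BT.node 1064 (BT.node 1063 (BT.leaf cJ1063) (BT.leaf cJ1064)) (BT.leaf cJ1065))) (BT.node 1069 (BT.node 1067 (BT.node 1066 (BT.leaf cJ1066) (BT.leaf cJ1067)) (BT.node 1068 (BT.leaf cJ1068) (BT.leaf cJ1069))) (BT.node 1071 (BT.node 1070 (BT.leaf cJ1070) (BT.leaf cJ1071)) (BT.leaf cJ1072)))) (BT.node 1079 (BT.node 1076 (BT.node 1074 (BT.node 1073 (BT.leaf cJ1073) (BT.leaf cJ1074)) (BT.node 1075 (BT.leaf cJ1075) (BT.leaf cJ1076))) (BT.node 1078 (BT.node 1077 (BT.leaf cJ1077) (BT.leaf cJ1078)) (BT.leaf cJ1079))) (BT.node 1083 (BT.node 1081 (BT.node 1080 (BT.leaf cJ1080) (BT.leaf cJ1081)) (BT.node 1082 (BT.leaf cJ1082) (BT.leaf cJ1083))) (BT.node 1085 (BT.node 1084 (BT.leaf cJ1084) (BT.leaf cJ1085)) (BT.leaf cJ1086)))))) (BT.node 1115 (BT.node 1101 (BT.node 1094 (BT.node 1090 (BT.node 1088 (BT.node 1087 (BT.leaf cJ1087) (BT.leaf cJ1088)) (BT.node 1089 (BT.leaf cJ1089) (BT.leaf cJ1090))) (BT.node 1092 (BT.node 1091 (BT.leaf cJ1091) (BT.leaf cJ1092)) (BT.node 1093 (BT.leaf cJ1093) (BT.leaf cJ1094)))) (BT.node 1098 (BT.node 1096 (BT.node 1095 (BT.leaf cJ1095) (BT.leaf cJ1096)) (BT.node 1097 (BT.leaf cJ1097) (BT.leaf cJ1098))) (BT.node 1100 (BT.node 1099 (BT.leaf cJ1099) (BT.leaf cJ1100)) (BT.leaf cJ1101)))) (BT.node 1108 (BT.node 1105 (BT.node 1103 (BT.node 1102 (BT.leaf cJ1102) (BT.leaf cJ1103)) (BT.node 1104 (BT.leaf cJ1104) (BT.leaf cJ1105))) (BT.node 1107 (BT.node 1106 (BT.leaf cJ1106) (BT.leaf cJ1107)) (BT.leaf cJ1108))) (BT.node 1112 (BT.node 1110 (BT.node 1109 (BT.leaf cJ1109) (BT.leaf cJ1110)) (BT.node 1111 (BT.leaf cJ1111) (BT.leaf cJ1112))) (BT.node 1114 (BT.node 1113 (BT.leaf cJ1113) (BT.leaf cJ1114)) (BT.leaf cJ1115))))) (BT.node 1129 (BT.node 1122 (BT.node 1119 (BT.node 1117 (BT.node 1116 (BT.leaf cJ1116) (BT.leaf cJ1117)) (BT.node 1118 (BT.leaf cJ1118) (BT.leaf cJ1119))) (BT.node 1121 (BT.node 1120 (BT.leaf cJ1120) (BT.leaf cJ1121)) (BT.leaf cJ1122))) (BT.node 1126 (BT.node 1124 (BT.node 1123 (BT.leaf cJ1123) (BT.leaf cJ1124)) (BT.node 1125 (BT.leaf cJ1125) (BT.leaf cJ1126))) (BT.node 1128 (BT.node 1127 (BT.leaf cJ1127) (BT.leaf cJ1128)) (BT.leaf cJ1129)))) (BT.node 1136 (BT.node 1133 (BT.node 1131 (BT.node 1130 (BT.leaf cJ1130) (BT.leaf cJ1131)) (BT.node 1132 (BT.leaf cJ1132) (BT.leaf cJ1133))) (BT.node 1135 (BT.node 1134 (BT.leaf cJ1134) (BT.leaf cJ1135)) (BT.leaf cJ1136))) (BT.node 1140 (BT.node 1138 (BT.node 1137 (BT.leaf cJ1137) (BT.leaf cJ1138)) (BT.node 1139 (BT.leaf cJ1139) (BT.leaf cJ1140))) (BT.node 1142 (BT.node 1141 (BT.leaf cJ1141) (BT.leaf cJ1142)) (BT.leaf cJ1143)))))))) (BT.node 1258 (BT.node 1201 (BT.node 1172 (BT.node 1158 (BT.node 1151 (BT.node 1147 (BT.node 1145 (BT.node 1144 (BT.leaf cJ1144) (BT.leaf cJ1145)) (BT.node 1146 (BT.leaf cJ1146) (BT.leaf cJ1147))) (BT.node 1149 (BT.node 1148 (BT.leaf cJ1148) (BT.leaf cJ1149)) (BT.node 1150 (BT.leaf cJ1150) (BT.leaf cJ1151)))) (BT.node 1155 (BT.node 1153 (BT.node 1152 (BT.leaf cJ1152) (BT.leaf cJ1153)) (BT.node 1154 (BT.leaf cJ1154) (BT.leaf cJ1155))) (BT.node 1157 (BT.node 1156 (BT.leaf cJ1156) (BT.leaf cJ1157)) (BT.leaf cJ1158)))) (BT.node 1165 (BT.node 1162 (BT.node 1160 (BT.node 1159 (BT.leaf cJ1159) (BT.leaf cJ1160)) (BT.node 1161 (BT.leaf cJ1161) (BT.leaf cJ1162))) (BT.node 1164 (BT.node 1163 (BT.leaf cJ1163) (BT.leaf cJ1164)) (BT.leaf cJ1165))) (BT.node 1169 (BT.node 1167 (BT.node 1166 (BT.leaf cJ1166) (BT.leaf cJ1167)) (BT.node 1168 (BT.leaf cJ1168) (BT.leaf cJ1169))) (BT.node 1171 (BT.node 1170 (BT.leaf cJ1170) (BT.leaf cJ1171)) (BT.leaf cJ1172))))) (BT.node 1187 (BT.node 1180 (BT.node 1176 (BT.node 1174 (BT.node 1173 (BT.leaf cJ1173) (BT.leaf cJ1174)) (BT.node 1175 (BT.leaf cJ1175) (BT.leaf cJ1176))) (BT.node 1178 (BT.node 1177 (BT.leaf cJ1177) (BT.leaf cJ1178)) (BT.node 1179 (BT.leaf cJ1179) (BT.leaf cJ1180)))) (BT.node 1184 (BT.node 1182 (BT.node 1181 (BT.leaf cJ1181) (BT.leaf cJ1182)) (BT.node 1183 (BT.leaf cJ1183) (BT.leaf cJ1184))) (BT.node 1186 (BT.node 1185 (BT.leaf cJ1185) (BT.leaf cJ1186)) (BT.leaf cJ1187)))) (BT.node 1194 (BT.node 1191 (BT.node 1189 (BT.node 1188 (BT.leaf cJ1188) (BT.leaf cJ1189)) (BT.node 1190 (BT.leaf cJ1190) (BT.leaf cJ1191))) (BT.node 1193 (BT.node 1192 (BT.leaf cJ1192) (BT.leaf cJ1193)) (BT.leaf cJ1194))) (BT.node 1198 (BT.node 1196 (BT.node 1195 (BT.leaf cJ1195) (BT.leaf cJ1196)) (BT.node 1197 (BT.leaf cJ1197) (BT.leaf cJ1198))) (BT.node 1200 (BT.node 1199 (BT.leaf cJ1199) (BT.leaf cJ1200)) (BT.leaf cJ1201)))))) (BT.node 1230 (BT.node 1216 (BT.node 1209 (BT.node 1205 (BT.node 1203 (BT.node 1202 (BT.leaf cJ1202) (BT.leaf cJ1203)) (BT.node 1204 (BT.leaf cJ1204) (BT.leaf cJ1205))) (BT.node 1207 (BT.node 1206 (BT.leaf cJ1206) (BT.leaf cJ1207)) (BT.node 1208 (BT.leaf cJ1208) (BT.leaf cJ1209)))) (BT.node 1213 (BT.node 1211 (BT.node 1210 (BT.leaf cJ1210) (BT.leaf cJ1211)) (BT.node 1212 (BT.leaf cJ1212) (BT.leaf cJ1213))) (BT.node 1215 (BT.node 1214 (BT.leaf cJ1214) (BT.leaf cJ1215)) (BT.leaf cJ1216)))) (BT.node 1223 (BT.node 1220 (BT.node 1218 (BT.node 1217 (BT.leaf cJ1217) (BT.leaf cJ1218)) (BT.node 1219 (BT.leaf cJ1219) (BT.leaf cJ1220))) (BT.node 1222 (BT.node 1221 (BT.leaf cJ1221) (BT.leaf cJ1222)) (BT.leaf cJ1223))) (BT.node 1227 (BT.node 1225 (BT.node 1224 (BT.leaf cJ1224) (BT.leaf cJ1225)) (BT.node 1226 (BT.leaf cJ1226) (BT.leaf cJ1227))) (BT.node 1229 (BT.node 1228 (BT.leaf cJ1228) (BT.leaf cJ1229)) (BT.leaf cJ1230))))) (BT.node 1244 (BT.node 1237 (BT.node 1234 (BT.node 1232 (BT.node 1231 (BT.leaf cJ1231) (BT.leaf cJ1232)) (BT.node 1233 (BT.leaf cJ1233) (BT.leaf cJ1234))) (BT.node 1236 (BT.node 1235 (BT.leaf cJ1235) (BT.leaf cJ1236)) (BT.leaf cJ1237))) (BT.node 1241 (BT.node 1239 (BT.node 1238 (BT.leaf cJ1238) (BT.leaf cJ1239)) (BT.node 1240 (BT.leaf cJ1240) (BT.leaf cJ1241))) (BT.node 1243 (BT.node 1242 (BT.leaf cJ1242) (BT.leaf cJ1243)) (BT.leaf cJ1244)))) (BT.node 1251 (BT.node 1248 (BT.node 1246 (BT.node 1245 (BT.leaf cJ1245) (BT.leaf cJ1246)) (BT.node 1247 (BT.leaf cJ1247) (BT.leaf cJ1248))) (BT.node 1250 (BT.node 1249 (BT.leaf cJ1249) (BT.leaf cJ1250)) (BT.leaf cJ1251))) (BT.node 1255 (BT.node 1253 (BT.node 1252 (BT.leaf cJ1252) (BT.leaf cJ1253)) (BT.node 1254 (BT.leaf cJ1254) (BT.leaf cJ1255))) (BT.node 1257 (BT.node 1256 (BT.leaf cJ1256) (BT.leaf cJ1257)) (BT.leaf cJ1258))))))) (BT.node 1315 (BT.node 1287 (BT.node 1273 (BT.node 1266 (BT.node 1262 (BT.node 1260 (BT.node 1259 (BT.leaf cJ1259) (BT.leaf cJ1260)) (BT.node 1261 (BT.leaf cJ1261) (BT.leaf cJ1262))) (BT.node 1264 (BT.node 1263 (BT.leaf cJ1263) (BT.leaf cJ1264)) (BT.node 1265 (BT.leaf cJ1265) (BT.leaf cJ1266)))) (BT.node 1270 (BT.node 1268 (BT.node 1267 (BT.leaf cJ1267) (BT.leaf cJ1268)) (BT.node 1269 (BT.leaf cJ1269) (BT.leaf cJ1270))) (BT.node 1272 (BT.node 1271 (BT.leaf cJ1271) (BT.leaf cJ1272)) (BT.leaf cJ1273)))) (BT.node 1280 (BT.node 1277 (BT.node 1275 (BT.node 1274 (BT.leaf cJ1274) (BT.leaf cJ1275)) (BT.node 1276 (BT.leaf cJ1276) (BT.leaf cJ1277))) (BT.node 1279 (BT.node 1278 (BT.leaf cJ1278) (BT.leaf cJ1279)) (BT.leaf cJ1280))) (BT.node 1284 (BT.node 1282 (BT.node 1281 (BT.leaf cJ1281) (BT.leaf cJ1282)) (BT.node 1283 (BT.leaf cJ1283) (BT.leaf cJ1284))) (BT.node 1286 (BT.node 1285 (BT.leaf cJ1285) (BT.leaf cJ1286)) (BT.leaf cJ1287))))) (BT.node 1301 (BT.node 1294 (BT.node 1291 (BT.node 1289 (BT.node 1288 (BT.leaf cJ1288) (BT.leaf cJ1289)) (BT.node 1290 (BT.leaf cJ1290) (BT.leaf cJ1291))) (BT.node 1293 (BT.node 1292 (BT.leaf cJ1292) (BT.leaf cJ1293)) (BT.leaf cJ1294))) (BT.node 1298 (BT.node 1296 (BT.node 1295 (BT.leaf cJ1295) (BT.leaf cJ1296)) (BT.node 1297 (BT.leaf cJ1297) (BT.leaf cJ1298))) (BT.node 1300 (BT.node 1299 (BT.leaf cJ1299) (BT.leaf cJ1300)) (BT.leaf cJ1301)))) (BT.node 1308 (BT.node 1305 (BT.node 1303 (BT.node 1302 (BT.leaf cJ1302) (BT.leaf cJ1303)) (BT.node 1304 (BT.leaf cJ1304) (BT.leaf cJ1305))) (BT.node 1307 (BT.node 1306 (BT.leaf cJ1306) (BT.leaf cJ1307)) (BT.leaf cJ1308))) (BT.node 1312 (BT.node 1310 (BT.node 1309 (BT.leaf cJ1309) (BT.leaf cJ1310)) (BT.node 1311 (BT.leaf cJ1311) (BT.leaf cJ1312))) (BT.node 1314 (BT.node 1313 (BT.leaf cJ1313) (BT.leaf cJ1314)) (BT.leaf cJ1315)))))) (BT.node 1344 (BT.node 1330 (BT.node 1323 (BT.node 1319 (BT.node 1317 (BT.node 1316 (BT.leaf cJ1316) (BT.leaf cJ1317)) (BT.node 1318 (BT.leaf cJ1318) (BT.leaf cJ1319))) (BT.node 1321 (BT.node 1320 (BT.leaf cJ1320) (BT.leaf cJ1321)) (BT.node 1322 (BT.leaf cJ1322) (BT.leaf cJ1323)))) (BT.node 1327 (BT.node 1325 (BT.node 1324 (BT.leaf cJ1324) (BT.leaf cJ1325)) (BT.node 1326 (BT.leaf cJ1326) (BT.leaf cJ1327))) (BT.node 1329 (BT.node 1328 (BT.leaf cJ1328) (BT.leaf cJ1329)) (BT.leaf cJ1330)))) (BT.node 1337 (BT.node 1334 (BT.node 1332 (BT.node 1331 (BT.leaf cJ1331) (BT.leaf cJ1332)) (BT.node 1333 (BT.leaf cJ1333) (BT.leaf cJ1334))) (BT.node 1336 (BT.node 1335 (BT.leaf cJ1335) (BT.leaf cJ1336)) (BT.leaf cJ1337))) (BT.node 1341 (BT.node 1339 (BT.node 1338 (BT.leaf cJ1338) (BT.leaf cJ1339)) (BT.node 1340 (BT.leaf cJ1340) (BT.leaf cJ1341))) (BT.node 1343 (BT.node 1342 (BT.leaf cJ1342) (BT.leaf cJ1343)) (BT.leaf cJ1344))))) (BT.node 1358 (BT.node 1351 (BT.node 1348 (BT.node 1346 (BT.node 1345 (BT.leaf cJ1345) (BT.leaf cJ1346)) (BT.node 1347 (BT.leaf cJ1347) (BT.leaf cJ1348))) (BT.node 1350 (BT.node 1349 (BT.leaf cJ1349) (BT.leaf cJ1350)) (BT.leaf cJ1351))) (BT.node 1355 (BT.node 1353 (BT.node 1352 (BT.leaf cJ1352) (BT.leaf cJ1353)) (BT.node 1354 (BT.leaf cJ1354) (BT.leaf cJ1355))) (BT.node 1357 (BT.node 1356 (BT.leaf cJ1356) (BT.leaf cJ1357)) (BT.leaf cJ1358)))) (BT.node 1365 (BT.node 1362 (BT.node 1360 (BT.node 1359 (BT.leaf cJ1359) (BT.leaf cJ1360)) (BT.node 1361 (BT.leaf cJ1361) (BT.leaf cJ1362))) (BT.node 1364 (BT.node 1363 (BT.leaf cJ1363) (BT.leaf cJ1364)) (BT.leaf cJ1365))) (BT.node 1369 (BT.node 1367 (BT.node 1366 (BT.leaf cJ1366) (BT.leaf cJ1367)) (BT.node 1368 (BT.leaf cJ1368) (BT.leaf cJ1369))) (BT.node 1371 (BT.node 1370 (BT.leaf cJ1370) (BT.leaf cJ1371)) (BT.leaf cJ1372))))))))) (BT.node 1601 (BT.node 1487 (BT.node 1430 (BT.node 1401 (BT.node 1387 (BT.node 1380 (BT.node 1376 (BT.node 1374 (BT.node 1373 (BT.leaf cJ1373) (BT.leaf cJ1374)) (BT.node 1375 (BT.leaf cJ1375) (BT.leaf cJ1376))) (BT.node 1378 (BT.node 1377 (BT.leaf cJ1377) (BT.leaf cJ1378)) (BT.node 1379 (BT.leaf cJ1379) (BT.leaf cJ1380)))) (BT.node 1384 (BT.node 1382 (BT.node 1381 (BT.leaf cJ1381) (BT.leaf cJ1382)) (BT.node 1383 (BT.leaf cJ1383) (BT.leaf cJ1384))) (BT.node 1386 (BT.node 1385 (BT.leaf cJ1385) (BT.leaf cJ1386)) (BT.leaf cJ1387)))) (BT.node 1394 (BT.node 1391 (BT.node 1389 (BT.node 1388 (BT.leaf cJ1388) (BT.leaf cJ1389)) (BT.node 1390 (BT.leaf cJ1390) (BT.leaf cJ1391))) (BT.node 1393 (BT.node 1392 (BT.leaf cJ1392) (BT.leaf cJ1393)) (BT.leaf cJ1394))) (BT.node 1398 (BT.node 1396 (BT.node 1395 (BT.leaf cJ1395) (BT.leaf cJ1396)) (BT.node 1397 (BT.leaf cJ1397) (BT.leaf cJ1398))) (BT.node 1400 (BT.node 1399 (BT.leaf cJ1399) (BT.leaf cJ1400)) (BT.leaf cJ1401))))) (BT.node 1416 (BT.node 1409 (BT.node 1405 (BT.node 1403 (BT.node 1402 (BT.leaf cJ1402) (BT.leaf cJ1403)) (BT.node 1404 (BT.leaf cJ1404) (BT.leaf cJ1405))) (BT.node 1407 (BT.node 1406 (BT.leaf cJ1406) (BT.leaf cJ1407)) (BT.node 1408 (BT.leaf cJ1408) (BT.leaf cJ1409)))) (BT.node 1413 (BT.node 1411 (BT.node 1410 (BT.leaf cJ1410) (BT.leaf cJ1411)) (BT.node 1412 (BT.leaf cJ1412) (BT.leaf cJ1413))) (BT.node 1415 (BT.node 1414 (BT.leaf cJ1414) (BT.leaf cJ1415)) (BT.leaf cJ1416)))) (BT.node 1423 (BT.node 1420 (BT.node 1418 (BT.node 1417 (BT.leaf cJ1417) (BT.leaf cJ1418)) (BT.node 1419 (BT.leaf cJ1419) (BT.leaf cJ1420))) (BT.node 1422 (BT.node 1421 (BT.leaf cJ1421) (BT.leaf cJ1422)) (BT.leaf cJ1423))) (BT.node 1427 (BT.node 1425 (BT.node 1424 (BT.leaf cJ1424) (BT.leaf cJ1425)) (BT.node 1426 (BT.leaf cJ1426) (BT.leaf cJ1427))) (BT.node 1429 (BT.node 1428 (BT.leaf cJ1428) (BT.leaf cJ1429)) (BT.leaf cJ1430)))))) (BT.node 1459 (BT.node 1445 (BT.node 1438 (BT.node 1434 (BT.node 1432 (BT.node 1431 (BT.leaf cJ1431) (BT.leaf cJ1432)) (BT.node 1433 (BT.leaf cJ1433) (BT.leaf cJ1434))) (BT.node 1436 (BT.node 1435 (BT.leaf cJ1435) (BT.leaf cJ1436)) (BT.node 1437 (BT.leaf cJ1437) (BT.leaf cJ1438)))) (BT.node 1442 (BT.node 1440 (BT.node 1439 (BT.leaf cJ1439) (BT.leaf cJ1440)) (BT.node 1441 (BT.leaf cJ1441) (BT.leaf cJ1442))) (BT.node 1444 (BT.node 1443 (BT.leaf cJ1443) (BT.leaf cJ1444)) (BT.leaf cJ1445)))) (BT.node 1452 (BT.node 1449 (BT.node 1447 (BT.node 1446 (BT.leaf cJ1446) (BT.leaf cJ1447)) (BT.node 1448 (BT.leaf cJ1448) (BT.leaf cJ1449))) (BT.node 1451 (BT.node 1450 (BT.leaf cJ1450) (BT.leaf cJ1451)) (BT.leaf cJ1452))) (BT.node 1456 (BT.node 1454 (BT.node 1453 (BT.leaf cJ1453) (BT.leaf cJ1454)) (BT.node 1455 (BT.leaf cJ1455) (BT.leaf cJ1456))) (BT.node 1458 (BT.node 1457 (BT.leaf cJ1457) (BT.leaf cJ1458)) (BT.leaf cJ1459))))) (BT.node 1473 (BT.node 1466 (BT.node 1463 (BT.node 1461 (BT.node 1460 (BT.leaf cJ1460) (BT.leaf cJ1461)) (BT.node 1462 (BT.leaf cJ1462) (BT.leaf cJ1463))) (BT.node 1465 (BT.node 1464 (BT.leaf cJ1464) (BT.leaf cJ1465)) (BT.leaf cJ1466))) (BT.node 1470 (BT.node 1468 (BT.node 1467 (BT.leaf cJ1467) (BT.leaf cJ1468)) (BT.node 1469 (BT.leaf cJ1469) (BT.leaf cJ1470))) (BT.node 1472 (BT.node 1471 (BT.leaf cJ1471) (BT.leaf cJ1472)) (BT.leaf cJ1473)))) (BT.node 1480 (BT.node 1477 (BT.node 1475 (BT.node 1474 (BT.leaf cJ1474) (BT.leaf cJ1475)) (BT.node 1476 (BT.leaf cJ1476) (BT.leaf cJ1477))) (BT.node 1479 (BT.node 1478 (BT.leaf cJ1478) (BT.leaf cJ1479)) (BT.leaf cJ1480))) (BT.node 1484 (BT.node 1482 (BT.node 1481 (BT.leaf cJ1481) (BT.leaf cJ1482)) (BT.node 1483 (BT.leaf cJ1483) (BT.leaf cJ1484))) (BT.node 1486 (BT.node 1485 (BT.leaf cJ1485) (BT.leaf cJ1486)) (BT.leaf cJ1487))))))) (BT.node 1544 (BT.node 1516 (BT.node 1502 (BT.node 1495 (BT.node 1491 (BT.node 1489 (BT.node 1488 (BT.leaf cJ1488) (BT.leaf cJ1489)) (BT.node 1490 (BT.leaf cJ1490) (BT.leaf cJ1491))) (BT.node 1493 (BT.node 1492 (BT.leaf cJ1492) (BT.leaf cJ1493)) (BT.node 1494 (BT.leaf cJ1494) (BT.leaf cJ1495)))) (BT.node 1499 (BT.node 1497 (BT.node 1496 (BT.leaf cJ1496) (BT.leaf cJ1497)) (BT.node 1498 (BT.leaf cJ1498) (BT.leaf cJ1499))) (BT.node 1501 (BT.node 1500 (BT.leaf cJ1500) (BT.leaf cJ1501)) (BT.leaf cJ1502)))) (BT.node 1509 (BT.node 1506 (BT.node 1504 (BT.node 1503 (BT.leaf cJ1503) (BT.leaf cJ1504)) (BT.node 1505 (BT.leaf cJ1505) (BT.leaf cJ1506))) (BT.node 1508 (BT.node 1507 (BT.leaf cJ1507) (BT.leaf cJ1508)) (BT.leaf cJ1509))) (BT.node 1513 (BT.node 1511 (BT.node 1510 (BT.leaf cJ1510) (BT.leaf cJ1511)) (BT.node 1512 (BT.leaf cJ1512) (BT.leaf cJ1513))) (BT.node 1515 (BT.node 1514 (BT.leaf cJ1514) (BT.leaf cJ1515)) (BT.leaf cJ1516))))) (BT.node 1530 (BT.node 1523 (BT.node 1520 (BT.node 1518 (BT.node 1517 (BT.leaf cJ1517) (BT.leaf cJ1518)) (BT.node 1519 (BT.leaf cJ1519) (BT.leaf cJ1520))) (BT.node 1522 (BT.node 1521 (BT.leaf cJ1521) (BT.leaf cJ1522)) (BT.leaf cJ1523))) (BT.node 1527 (BT.node 1525 (BT.node 1524 (BT.leaf cJ1524) (BT.leaf cJ1525)) (BT.node 1526 (BT.leaf cJ1526) (BT.leaf cJ1527))) (BT.node 1529 (BT.node 1528 (BT.leaf cJ1528) (BT.leaf cJ1529)) (BT.leaf cJ1530)))) (BT.node 1537 (BT.node 1534 (BT.node 1532 (BT.node 1531 (BT.leaf cJ1531) (BT.leaf cJ1532)) (BT.node 1533 (BT.leaf cJ1533) (BT.leaf cJ1534))) (BT.node 1536 (BT.node 1535 (BT.leaf cJ1535) (BT.leaf cJ1536)) (BT.leaf cJ1537))) (BT.node 1541 (BT.node 1539 (BT.node 1538 (BT.leaf cJ1538) (BT.leaf cJ1539)) (BT.node 1540 (BT.leaf cJ1540) (BT.leaf cJ1541))) (BT.node 1543 (BT.node 1542 (BT.leaf cJ1542) (BT.leaf cJ1543)) (BT.leaf cJ1544)))))) (BT.node 1573 (BT.node 1559 (BT.node 1552 (BT.node 1548 (BT.node 1546 (BT.node 1545 (BT.leaf cJ1545) (BT.leaf cJ1546)) (BT.node 1547 (BT.leaf cJ1547) (BT.leaf cJ1548))) (BT.node 1550 (BT.node 1549 (BT.leaf cJ1549) (BT.leaf cJ1550)) (BT.node 1551 (BT.leaf cJ1551) (BT.leaf cJ1552)))) (BT.node 1556 (BT.node 1554 (BT.node 1553 (BT.leaf cJ1553) (BT.leaf cJ1554)) (BT.node 1555 (BT.leaf cJ1555) (BT.leaf cJ1556))) (BT.node 1558 (BT.node 1557 (BT.leaf cJ1557) (BT.leaf cJ1558)) (BT.leaf cJ1559)))) (BT.node 1566 (BT.node 1563 (BT.node 1561 (BT.node 1560 (BT.leaf cJ1560) (BT.leaf cJ1561)) (BT.node 1562 (BT.leaf cJ1562) (BT.leaf cJ1563))) (BT.node 1565 (BT.node 1564 (BT.leaf cJ1564) (BT.leaf cJ1565)) (BT.leaf cJ1566))) (BT.node 1570 (BT.node 1568 (BT.node 1567 (BT.leaf cJ1567) (BT.leaf cJ1568)) (BT.node 1569 (BT.leaf cJ1569) (BT.leaf cJ1570))) (BT.node 1572 (BT.node 1571 (BT.leaf cJ1571) (BT.leaf cJ1572)) (BT.leaf cJ1573))))) (BT.node 1587 (BT.node 1580 (BT.node 1577 (BT.node 1575 (BT.node 1574 (BT.leaf cJ1574) (BT.leaf cJ1575)) (BT.node 1576 (BT.leaf cJ1576) (BT.leaf cJ1577))) (BT.node 1579 (BT.node 1578 (BT.leaf cJ1578) (BT.leaf cJ1579)) (BT.leaf cJ1580))) (BT.node 1584 (BT.node 1582 (BT.node 1581 (BT.leaf cJ1581) (BT.leaf cJ1582)) (BT.node 1583 (BT.leaf cJ1583) (BT.leaf cJ1584))) (BT.node 1586 (BT.node 1585 (BT.leaf cJ1585) (BT.leaf cJ1586)) (BT.leaf cJ1587)))) (BT.node 1594 (BT.node 1591 (BT.node 1589 (BT.node 1588 (BT.leaf cJ1588) (BT.leaf cJ1589)) (BT.node 1590 (BT.leaf cJ1590) (BT.leaf cJ1591))) (BT.node 1593 (BT.node 1592 (BT.leaf cJ1592) (BT.leaf cJ1593)) (BT.leaf cJ1594))) (BT.node 1598 (BT.node 1596 (BT.node 1595 (BT.leaf cJ1595) (BT.leaf cJ1596)) (BT.node 1597 (BT.leaf cJ1597) (BT.leaf cJ1598))) (BT.node 1600 (BT.node 1599 (BT.leaf cJ1599) (BT.leaf cJ1600)) (BT.leaf cJ1601)))))))) (BT.node 1715 (BT.node 1658 (BT.node 1630 (BT.node 1616 (BT.node 1609 (BT.node 1605 (BT.node 1603 (BT.node 1602 (BT.leaf cJ1602) (BT.leaf cJ1603)) (BT.node 1604 (BT.leaf cJ1604) (BT.leaf cJ1605))) (BT.node 1607 (BT.node 1606 (BT.leaf cJ1606) (BT.leaf cJ1607)) (BT.node 1608 (BT.leaf cJ1608) (BT.leaf cJ1609)))) (BT.node 1613 (BT.node 1611 (BT.node 1610 (BT.leaf cJ1610) (BT.leaf cJ1611)) (BT.node 1612 (BT.leaf cJ1612) (BT.leaf cJ1613))) (BT.node 1615 (BT.node 1614 (BT.leaf cJ1614) (BT.leaf cJ1615)) (BT.leaf cJ1616)))) (BT.node 1623 (BT.node 1620 (BT.node 1618 (BT.node 1617 (BT.leaf cJ1617) (BT.leaf cJ1618)) (BT.node 1619 (BT.leaf cJ1619) (BT.leaf cJ1620))) (BT.node 1622 (BT.node 1621 (BT.leaf cJ1621) (BT.leaf cJ1622)) (BT.leaf cJ1623))) (BT.node 1627 (BT.node 1625 (BT.node 1624 (BT.leaf cJ1624) (BT.leaf cJ1625)) (BT.node 1626 (BT.leaf cJ1626) (BT.leaf cJ1627))) (BT.node 1629 (BT.node 1628 (BT.leaf cJ1628) (BT.leaf cJ1629)) (BT.leaf cJ1630))))) (BT.node 1644 (BT.node 1637 (BT.node 1634 (BT.node 1632 (BT.node 1631 (BT.leaf cJ1631) (BT.leaf cJ1632)) (BT.node 1633 (BT.leaf cJ1633) (BT.leaf cJ1634))) (BT.node 1636 (BT.node 1635 (BT.leaf cJ1635) (BT.leaf cJ1636)) (BT.leaf cJ1637))) (BT.node 1641 (BT.node 1639 (BT.node 1638 (BT.leaf cJ1638) (BT.leaf cJ1639)) (BT.node 1640 (BT.leaf cJ1640) (BT.leaf cJ1641))) (BT.node 1643 (BT.node 1642 (BT.leaf cJ1642) (BT.leaf cJ1643)) (BT.leaf cJ1644)))) (BT.node 1651 (BT.node 1648 (BT.node 1646 (BT.node 1645 (BT.leaf cJ1645) (BT.leaf cJ1646)) (BT.node 1647 (BT.leaf cJ1647) (BT.leaf cJ1648))) (BT.node 1650 (BT.node 1649 (BT.leaf cJ1649) (BT.leaf cJ1650)) (BT.leaf cJ1651))) (BT.node 1655 (BT.node 1653 (BT.node 1652 (BT.leaf cJ1652) (BT.leaf cJ1653)) (BT.node 1654 (BT.leaf cJ1654) (BT.leaf cJ1655))) (BT.node 1657 (BT.node 1656 (BT.leaf cJ1656) (BT.leaf cJ1657)) (BT.leaf cJ1658)))))) (BT.node 1687 (BT.node 1673 (BT.node 1666 (BT.node 1662 (BT.node 1660 (BT.node 1659 (BT.leaf cJ1659) (BT.leaf cJ1660)) (BT.node 1661 (BT.leaf cJ1661) (BT.leaf cJ1662))) (BT.node 1664 (BT.node 1663 (BT.leaf cJ1663) (BT.leaf cJ1664)) (BT.node 1665 (BT.leaf cJ1665) (BT.leaf cJ1666)))) (BT.node 1670 (BT.node 1668 (BT.node 1667 (BT.leaf cJ1667) (BT.leaf cJ1668)) (BT.node 1669 (BT.leaf cJ1669) (BT.leaf cJ1670))) (BT.node 1672 (BT.node 1671 (BT.leaf cJ1671) (BT.leaf cJ1672)) (BT.leaf cJ1673)))) (BT.node 1680 (BT.node 1677 (BT.node 1675 (BT.node 1674 (BT.leaf cJ1674) (BT.leaf cJ1675)) (BT.node 1676 (BT.leaf cJ1676) (BT.leaf cJ1677))) (BT.node 1679 (BT.node 1678 (BT.leaf cJ1678) (BT.leaf cJ1679)) (BT.leaf cJ1680))) (BT.node 1684 (BT.node 1682 (BT.node 1681 (BT.leaf cJ1681) (BT.leaf cJ1682)) (BT.node 1683 (BT.leaf cJ1683) (BT.leaf cJ1684))) (BT.node 1686 (BT.node 1685 (BT.leaf cJ1685) (BT.leaf cJ1686)) (BT.leaf cJ1687))))) (BT.node 1701 (BT.node 1694 (BT.node 1691 (BT.node 1689 (BT.node 1688 (BT.leaf cJ1688) (BT.leaf cJ1689)) (BT.node 1690 (BT.leaf cJ1690) (BT.leaf cJ1691))) (BT.node 1693 (BT.node 1692 (BT.leaf cJ1692) (BT.leaf cJ1693)) (BT.leaf cJ1694))) (BT.node 1698 (BT.node 1696 (BT.node 1695 (BT.leaf cJ1695) (BT.leaf cJ1696)) (BT.node 1697 (BT.leaf cJ1697) (BT.leaf cJ1698))) (BT.node 1700 (BT.node 1699 (BT.leaf cJ1699) (BT.leaf cJ1700)) (BT.leaf cJ1701)))) (BT.node 1708 (BT.node 1705 (BT.node 1703 (BT.node 1702 (BT.leaf cJ1702) (BT.leaf cJ1703)) (BT.node 1704 (BT.leaf cJ1704) (BT.leaf cJ1705))) (BT.node 1707 (BT.node 1706 (BT.leaf cJ1706) (BT.leaf cJ1707)) (BT.leaf cJ1708))) (BT.node 1712 (BT.node 1710 (BT.node 1709 (BT.leaf cJ1709) (BT.leaf cJ1710)) (BT.node 1711 (BT.leaf cJ1711) (BT.leaf cJ1712))) (BT.node 1714 (BT.node 1713 (BT.leaf cJ1713) (BT.leaf cJ1714)) (BT.leaf cJ1715))))))) (BT.node 1772 (BT.node 1744 (BT.node 1730 (BT.node 1723 (BT.node 1719 (BT.node 1717 (BT.node 1716 (BT.leaf cJ1716) (BT.leaf cJ1717)) (BT.node 1718 (BT.leaf cJ1718) (BT.leaf cJ1719))) (BT.node 1721 (BT.node 1720 (BT.leaf cJ1720) (BT.leaf cJ1721)) (BT.node 1722 (BT.leaf cJ1722) (BT.leaf cJ1723)))) (BT.node 1727 (BT.node 1725 (BT.node 1724 (BT.leaf cJ1724) (BT.leaf cJ1725)) (BT.node 1726 (BT.leaf cJ1726) (BT.leaf cJ1727))) (BT.node 1729 (BT.node 1728 (BT.leaf cJ1728) (BT.leaf cJ1729)) (BT.leaf cJ1730)))) (BT.node 1737 (BT.node 1734 (BT.node 1732 (BT.node 1731 (BT.leaf cJ1731) (BT.leaf cJ1732)) (BT.node 1733 (BT.leaf cJ1733) (BT.leaf cJ1734))) (BT.node 1736 (BT.node 1735 (BT.leaf cJ1735) (BT.leaf cJ1736)) (BT.leaf cJ1737))) (BT.node 1741 (BT.node 1739 (BT.node 1738 (BT.leaf cJ1738) (BT.leaf cJ1739)) (BT.node 1740 (BT.leaf cJ1740) (BT.leaf cJ1741))) (BT.node 1743 (BT.node 1742 (BT.leaf cJ1742) (BT.leaf cJ1743)) (BT.leaf cJ1744))))) (BT.node 1758 (BT.node 1751 (BT.node 1748 (BT.node 1746 (BT.node 1745 (BT.leaf cJ1745) (BT.leaf cJ1746)) (BT.node 1747 (BT.leaf cJ1747) (BT.leaf cJ1748))) (BT.node 1750 (BT.node 1749 (BT.leaf cJ1749) (BT.leaf cJ1750)) (BT.leaf cJ1751))) (BT.node 1755 (BT.node 1753 (BT.node 1752 (BT.leaf cJ1752) (BT.leaf cJ1753)) (BT.node 1754 (BT.leaf cJ1754) (BT.leaf cJ1755))) (BT.node 1757 (BT.node 1756 (BT.leaf cJ1756) (BT.leaf cJ1757)) (BT.leaf cJ1758)))) (BT.node 1765 (BT.node 1762 (BT.node 1760 (BT.node 1759 (BT.leaf cJ1759) (BT.leaf cJ1760)) (BT.node 1761 (BT.leaf cJ1761) (BT.leaf cJ1762))) (BT.node 1764 (BT.node 1763 (BT.leaf cJ1763) (BT.leaf cJ1764)) (BT.leaf cJ1765))) (BT.node 1769 (BT.node 1767 (BT.node 1766 (BT.leaf cJ1766) (BT.leaf cJ1767)) (BT.node 1768 (BT.leaf cJ1768) (BT.leaf cJ1769))) (BT.node 1771 (BT.node 1770 (BT.leaf cJ1770) (BT.leaf cJ1771)) (BT.leaf cJ1772)))))) (BT.node 1801 (BT.node 1787 (BT.node 1780 (BT.node 1776 (BT.node 1774 (BT.node 1773 (BT.leaf cJ1773) (BT.leaf cJ1774)) (BT.node 1775 (BT.leaf cJ1775) (BT.leaf cJ1776))) (BT.node 1778 (BT.node 1777 (BT.leaf cJ1777) (BT.leaf cJ1778)) (BT.node 1779 (BT.leaf cJ1779) (BT.leaf cJ1780)))) (BT.node 1784 (BT.node 1782 (BT.node 1781 (BT.leaf cJ1781) (BT.leaf cJ1782)) (BT.node 1783 (BT.leaf cJ1783) (BT.leaf cJ1784))) (BT.node 1786 (BT.node 1785 (BT.leaf cJ1785) (BT.leaf cJ1786)) (BT.leaf cJ1787)))) (BT.node 1794 (BT.node 1791 (BT.node 1789 (BT.node 1788 (BT.leaf cJ1788) (BT.leaf cJ1789)) (BT.node 1790 (BT.leaf cJ1790) (BT.leaf cJ1791))) (BT.node 1793 (BT.node 1792 (BT.leaf cJ1792) (BT.leaf cJ1793)) (BT.leaf cJ1794))) (BT.node 1798 (BT.node 1796 (BT.node 1795 (BT.leaf cJ1795) (BT.leaf cJ1796)) (BT.node 1797 (BT.leaf cJ1797) (BT.leaf cJ1798))) (BT.node 1800 (BT.node 1799 (BT.leaf cJ1799) (BT.leaf cJ1800)) (BT.leaf cJ1801))))) (BT.node 1815 (BT.node 1808 (BT.node 1805 (BT.node 1803 (BT.node 1802 (BT.leaf cJ1802) (BT.leaf cJ1803)) (BT.node 1804 (BT.leaf cJ1804) (BT.leaf cJ1805))) (BT.node 1807 (BT.node 1806 (BT.leaf cJ1806) (BT.leaf cJ1807)) (BT.leaf cJ1808))) (BT.node 1812 (BT.node 1810 (BT.node 1809 (BT.leaf cJ1809) (BT.leaf cJ1810)) (BT.node 1811 (BT.leaf cJ1811) (BT.leaf cJ1812))) (BT.node 1814 (BT.node 1813 (BT.leaf cJ1813) (BT.leaf cJ1814)) (BT.leaf cJ1815)))) (BT.node 1822 (BT.node 1819 (BT.node 1817 (BT.node 1816 (BT.leaf cJ1816) (BT.leaf cJ1817)) (BT.node 1818 (BT.leaf cJ1818) (BT.leaf cJ1819))) (BT.node 1821 (BT.node 1820 (BT.leaf cJ1820) (BT.leaf cJ1821)) (BT.leaf cJ1822))) (BT.node 1826 (BT.node 1824 (BT.node 1823 (BT.leaf cJ1823) (BT.leaf cJ1824)) (BT.node 1825 (BT.leaf cJ1825) (BT.leaf cJ1826))) (BT.node 1828 (BT.node 1827 (BT.leaf cJ1827) (BT.leaf cJ1828)) (BT.leaf cJ1829))))))))))) (BT.node 2744 (BT.node 2287 (BT.node 2058 (BT.node 1944 (BT.node 1887 (BT.node 1858 (BT.node 1844 (BT.node 1837 (BT.node 1833 (BT.node 1831 (BT.node 1830 (BT.leaf cJ1830) (BT.leaf cJ1831)) (BT.node 1832 (BT.leaf cJ1832) (BT.leaf cJ1833))) (BT.node 1835 (BT.node 1834 (BT.leaf cJ1834) (BT.leaf cJ1835)) (BT.node 1836 (BT.leaf cJ1836) (BT.leaf cJ1837)))) (BT.node 1841 (BT.node 1839 (BT.node 1838 (BT.leaf cJ1838) (BT.leaf cJ1839)) (BT.node 1840 (BT.leaf cJ1840) (BT.leaf cJ1841))) (BT.node 1843 (BT.node 1842 (BT.leaf cJ1842) (BT.leaf cJ1843)) (BT.leaf cJ1844)))) (BT.node 1851 (BT.node 1848 (BT.node 1846 (BT.node 1845 (BT.leaf cJ1845) (BT.leaf cJ1846)) (BT.node 1847 (BT.leaf cJ1847) (BT.leaf cJ1848))) (BT.node 1850 (BT.node 1849 (BT.leaf cJ1849) (BT.leaf cJ1850)) (BT.leaf cJ1851))) (BT.node 1855 (BT.node 1853 (BT.node 1852 (BT.leaf cJ1852) (BT.leaf cJ1853)) (BT.node 1854 (BT.leaf cJ1854) (BT.leaf cJ1855))) (BT.node 1857 (BT.node 1856 (BT.leaf cJ1856) (BT.leaf cJ1857)) (BT.leaf cJ1858))))) (BT.node 1873 (BT.node 1866 (BT.node 1862 (BT.node 1860 (BT.node 1859 (BT.leaf cJ1859) (BT.leaf cJ1860)) (BT.node 1861 (BT.leaf cJ1861) (BT.leaf cJ1862))) (BT.node 1864 (BT.node 1863 (BT.leaf cJ1863) (BT.leaf cJ1864)) (BT.node 1865 (BT.leaf cJ1865) (BT.leaf cJ1866)))) (BT.node 1870 (BT.node 1868 (BT.node 1867 (BT.leaf cJ1867) (BT.leaf cJ1868)) (BT.node 1869 (BT.leaf cJ1869) (BT.leaf cJ1870))) (BT.node 1872 (BT.node 1871 (BT.leaf cJ1871) (BT.leaf cJ1872)) (BT.leaf cJ1873)))) (BT.node 1880 (BT.node 1877 (BT.node 1875 (BT.node 1874 (BT.leaf cJ1874) (BT.leaf cJ1875)) (BT.node 1876 (BT.leaf cJ1876) (BT.leaf cJ1877))) (BT.node 1879 (BT.node 1878 (BT.leaf cJ1878) (BT.leaf cJ1879)) (BT.leaf cJ1880))) (BT.node 1884 (BT.node 1882 (BT.node 1881 (BT.leaf cJ1881) (BT.leaf cJ1882)) (BT.node 1883 (BT.leaf cJ1883) (BT.leaf cJ1884))) (BT.node 1886 (BT.node 1885 (BT.leaf cJ1885) (BT.leaf cJ1886)) (BT.leaf cJ1887)))))) (BT.node 1916 (BT.node 1902 (BT.node 1895 (BT.node 1891 (BT.node 1889 (BT.node 1888 (BT.leaf cJ1888) (BT.leaf cJ1889)) (BT.node 1890 (BT.leaf cJ1890) (BT.leaf cJ1891))) (BT.node 1893 (BT.node 1892 (BT.leaf cJ1892) (BT.leaf cJ1893)) (BT.node 1894 (BT.leaf cJ1894) (BT.leaf cJ1895)))) (BT.node 1899 (BT.node 1897 (BT.node 1896 (BT.leaf cJ1896) (BT.leaf cJ1897)) (BT.node 1898 (BT.leaf cJ1898) (BT.leaf cJ1899))) (BT.node 1901 (BT.node 1900 (BT.leaf cJ1900) (BT.leaf cJ1901)) (BT.leaf cJ1902)))) (BT.node 1909 (BT.node 1906 (BT.node 1904 (BT.node 1903 (BT.leaf cJ1903) (BT.leaf cJ1904)) (BT.node 1905 (BT.leaf cJ1905) (BT.leaf cJ1906))) (BT.node 1908 (BT.node 1907 (BT.leaf cJ1907) (BT.leaf cJ1908)) (BT.leaf cJ1909))) (BT.node 1913 (BT.node 1911 (BT.node 1910 (BT.leaf cJ1910) (BT.leaf cJ1911)) (BT.node 1912 (BT.leaf cJ1912) (BT.leaf cJ1913))) (BT.node 1915 (BT.node 1914 (BT.leaf cJ1914) (BT.leaf cJ1915)) (BT.leaf cJ1916))))) (BT.node 1930 (BT.node 1923 (BT.node 1920 (BT.node 1918 (BT.node 1917 (BT.leaf cJ1917) (BT.leaf cJ1918)) (BT.node 1919 (BT.leaf cJ1919) (BT.leaf cJ1920))) (BT.node 1922 (BT.node 1921 (BT.leaf cJ1921) (BT.leaf cJ1922)) (BT.leaf cJ1923))) (BT.node 1927 (BT.node 1925 (BT.node 1924 (BT.leaf cJ1924) (BT.leaf cJ1925)) (BT.node 1926 (BT.leaf cJ1926) (BT.leaf cJ1927))) (BT.node 1929 (BT.node 1928 (BT.leaf cJ1928) (BT.leaf cJ1929)) (BT.leaf cJ1930)))) (BT.node 1937 (BT.node 1934 (BT.node 1932 (BT.node 1931 (BT.leaf cJ1931) (BT.leaf cJ1932)) (BT.node 1933 (BT.leaf cJ1933) (BT.leaf cJ1934))) (BT.node 1936 (BT.node 1935 (BT.leaf cJ1935) (BT.leaf cJ1936)) (BT.leaf cJ1937))) (BT.node 1941 (BT.node 1939 (BT.node 1938 (BT.leaf cJ1938) (BT.leaf cJ1939)) (BT.node 1940 (BT.leaf cJ1940) (BT.leaf cJ1941))) (BT.node 1943 (BT.node 1942 (BT.leaf cJ1942) (BT.leaf cJ1943)) (BT.leaf cJ1944))))))) (BT.node 2001 (BT.node 1973 (BT.node 1959 (BT.node 1952 (BT.node 1948 (BT.node 1946 (BT.node 1945 (BT.leaf cJ1945) (BT.leaf cJ1946)) (BT.node 1947 (BT.leaf cJ1947) (BT.leaf cJ1948))) (BT.node 1950 (BT.node 1949 (BT.leaf cJ1949) (BT.leaf cJ1950)) (BT.node 1951 (BT.leaf cJ1951) (BT.leaf cJ1952)))) (BT.node 1956 (BT.node 1954 (BT.node 1953 (BT.leaf cJ1953) (BT.leaf cJ1954)) (BT.node 1955 (BT.leaf cJ1955) (BT.leaf cJ1956))) (BT.node 1958 (BT.node 1957 (BT.leaf cJ1957) (BT.leaf cJ1958)) (BT.leaf cJ1959)))) (BT.node 1966 (BT.node 1963 (BT.node 1961 (BT.node 1960 (BT.leaf cJ1960) (BT.leaf cJ1961)) (BT.node 1962 (BT.leaf cJ1962) (BT.leaf cJ1963))) (BT.node 1965 (BT.node 1964 (BT.leaf cJ1964) (BT.leaf cJ1965)) (BT.leaf cJ1966))) (BT.node 1970 (BT.node 1968 (BT.node 1967 (BT.leaf cJ1967) (BT.leaf cJ1968)) (BT.node 1969 (BT.leaf cJ1969) (BT.leaf cJ1970))) (BT.node 1972 (BT.node 1971 (BT.leaf cJ1971) (BT.leaf cJ1972)) (BT.leaf cJ1973))))) (BT.node 1987 (BT.node 1980 (BT.node 1977 (BT.node 1975 (BT.node 1974 (BT.leaf cJ1974) (BT.leaf cJ1975)) (BT.node 1976 (BT.leaf cJ1976) (BT.leaf cJ1977))) (BT.node 1979 (BT.node 1978 (BT.leaf cJ1978) (BT.leaf cJ1979)) (BT.leaf cJ1980))) (BT.node 1984 (BT.node 1982 (BT.node 1981 (BT.leaf cJ1981) (BT.leaf cJ1982)) (BT.node 1983 (BT.leaf cJ1983) (BT.leaf cJ1984))) (BT.node 1986 (BT.node 1985 (BT.leaf cJ1985) (BT.leaf cJ1986)) (BT.leaf cJ1987)))) (BT.node 1994 (BT.node 1991 (BT.node 1989 (BT.node 1988 (BT.leaf cJ1988) (BT.leaf cJ1989)) (BT.node 1990 (BT.leaf cJ1990) (BT.leaf cJ1991))) (BT.node 1993 (BT.node 1992 (BT.leaf cJ1992) (BT.leaf cJ1993)) (BT.leaf cJ1994))) (BT.node 1998 (BT.node 1996 (BT.node 1995 (BT.leaf cJ1995) (BT.leaf cJ1996)) (BT.node 1997 (BT.leaf cJ1997) (BT.leaf cJ1998))) (BT.node 2000 (BT.node 1999 (BT.leaf cJ1999) (BT.leaf cJ2000)) (BT.leaf cJ2001)))))) (BT.node 2030 (BT.node 2016 (BT.node 2009 (BT.node 2005 (BT.node 2003 (BT.node 2002 (BT.leaf cJ2002) (BT.leaf cJ2003)) (BT.node 2004 (BT.leaf cJ2004) (BT.leaf cJ2005))) (BT.node 2007 (BT.node 2006 (BT.leaf cJ2006) (BT.leaf cJ2007)) (BT.node 2008 (BT.leaf cJ2008) (BT.leaf cJ2009)))) (BT.node 2013 (BT.node 2011 (BT.node 2010 (BT.leaf cJ2010) (BT.leaf cJ2011)) (BT.node 2012 (BT.leaf cJ2012) (BT.leaf cJ2013))) (BT.node 2015 (BT.node 2014 (BT.leaf cJ2014) (BT.leaf cJ2015)) (BT.leaf cJ2016)))) (BT.node 2023 (BT.node 2020 (BT.node 2018 (BT.node 2017 (BT.leaf cJ2017) (BT.leaf cJ2018)) (BT.node 2019 (BT.leaf cJ2019) (BT.leaf cJ2020))) (BT.node 2022 (BT.node 2021 (BT.leaf cJ2021) (BT.leaf cJ2022)) (BT.leaf cJ2023))) (BT.node 2027 (BT.node 2025 (BT.node 2024 (BT.leaf cJ2024) (BT.leaf cJ2025)) (BT.node 2026 (BT.leaf cJ2026) (BT.leaf cJ2027))) (BT.node 2029 (BT.node 2028 (BT.leaf cJ2028) (BT.leaf cJ2029)) (BT.leaf cJ2030))))) (BT.node 2044 (BT.node 2037 (BT.node 2034 (BT.node 2032 (BT.node 2031 (BT.leaf cJ2031) (BT.leaf cJ2032)) (BT.node 2033 (BT.leaf cJ2033) (BT.leaf cJ2034))) (BT.node 2036 (BT.node 2035 (BT.leaf cJ2035) (BT.leaf cJ2036)) (BT.leaf cJ2037))) (BT.node 2041 (BT.node 2039 (BT.node 2038 (BT.leaf cJ2038) (BT.leaf cJ2039)) (BT.node 2040 (BT.leaf cJ2040) (BT.leaf cJ2041))) (BT.node 2043 (BT.node 2042 (BT.leaf cJ2042) (BT.leaf cJ2043)) (BT.leaf cJ2044)))) (BT.node 2051 (BT.node 2048 (BT.node 2046 (BT.node 2045 (BT.leaf cJ2045) (BT.leaf cJ2046)) (BT.node 2047 (BT.leaf cJ2047) (BT.leaf cJ2048))) (BT.node 2050 (BT.node 2049 (BT.leaf cJ2049) (BT.leaf cJ2050)) (BT.leaf cJ2051))) (BT.node 2055 (BT.node 2053 (BT.node 2052 (BT.leaf cJ2052) (BT.leaf cJ2053)) (BT.node 2054 (BT.leaf cJ2054) (BT.leaf cJ2055))) (BT.node 2057 (BT.node 2056 (BT.leaf cJ2056) (BT.leaf cJ2057)) (BT.leaf cJ2058)))))))) (BT.node 2173 (BT.node 2116 (BT.node 2087 (BT.node 2073 (BT.node 2066 (BT.node 2062 (BT.node 2060 (BT.node 2059 (BT.leaf cJ2059) (BT.leaf cJ2060)) (BT.node 2061 (BT.leaf cJ2061) (BT.leaf cJ2062))) (BT.node 2064 (BT.node 2063 (BT.leaf cJ2063) (BT.leaf cJ2064)) (BT.node 2065 (BT.leaf cJ2065) (BT.leaf cJ2066)))) (BT.node 2070 (BT.node 2068 (BT.node 2067 (BT.leaf cJ2067) (BT.leaf cJ2068)) (BT.node 2069 (BT.leaf cJ2069) (BT.leaf cJ2070))) (BT.node 2072 (BT.node 2071 (BT.leaf cJ2071) (BT.leaf cJ2072)) (BT.leaf cJ2073)))) (BT.node 2080 (BT.node 2077 (BT.node 2075 (BT.node 2074 (BT.leaf cJ2074) (BT.leaf cJ2075)) (BT.node 2076 (BT.leaf cJ2076) (BT.leaf cJ2077))) (BT.node 2079 (BT.node 2078 (BT.leaf cJ2078) (BT.leaf cJ2079)) (BT.leaf cJ2080))) (BT.node 2084 (BT.node 2082 (BT.node 2081 (BT.leaf cJ2081) (BT.leaf cJ2082)) (BT.node 2083 (BT.leaf cJ2083) (BT.leaf cJ2084))) (BT.node 2086 (BT.node 2085 (BT.leaf cJ2085) (BT.leaf cJ2086)) (BT.leaf cJ2087))))) (BT.node 2102 (BT.node 2095 (BT.node 2091 (BT.node 2089 (BT.node 2088 (BT.leaf cJ2088) (BT.leaf cJ2089)) (BT.node 2090 (BT.leaf cJ2090) (BT.leaf cJ2091))) (BT.node 2093 (BT.node 2092 (BT.leaf cJ2092) (BT.leaf cJ2093)) (BT.node 2094 (BT.leaf cJ2094) (BT.leaf cJ2095)))) (BT.node 2099 (BT.node 2097 (BT.node 2096 (BT.leaf cJ2096) (BT.leaf cJ2097)) (BT.node 2098 (BT.leaf cJ2098) (BT.leaf cJ2099))) (BT.node 2101 (BT.node 2100 (BT.leaf cJ2100) (BT.leaf cJ2101)) (BT.leaf cJ2102)))) (BT.node 2109 (BT.node 2106 (BT.node 2104 (BT.node 2103 (BT.leaf cJ2103) (BT.leaf cJ2104)) (BT.node 2105 (BT.leaf cJ2105) (BT.leaf cJ2106))) (BT.node 2108 (BT.node 2107 (BT.leaf cJ2107) (BT.leaf cJ2108)) (BT.leaf cJ2109))) (BT.node 2113 (BT.node 2111 (BT.node 2110 (BT.leaf cJ2110) (BT.leaf cJ2111)) (BT.node 2112 (BT.leaf cJ2112) (BT.leaf cJ2113))) (BT.node 2115 (BT.node 2114 (BT.leaf cJ2114) (BT.leaf cJ2115)) (BT.leaf cJ2116)))))) (BT.node 2145 (BT.node 2131 (BT.node 2124 (BT.node 2120 (BT.node 2118 (BT.node 2117 (BT.leaf cJ2117) (BT.leaf cJ2118)) (BT.node 2119 (BT.leaf cJ2119) (BT.leaf cJ2120))) (BT.node 2122 (BT.node 2121 (BT.leaf cJ2121) (BT.leaf cJ2122)) (BT.node 2123 (BT.leaf cJ2123) (BT.leaf cJ2124)))) (BT.node 2128 (BT.node 2126 (BT.node 2125 (BT.leaf cJ2125) (BT.leaf cJ2126)) (BT.node 2127 (BT.leaf cJ2127) (BT.leaf cJ2128))) (BT.node 2130 (BT.node 2129 (BT.leaf cJ2129) (BT.leaf cJ2130)) (BT.leaf cJ2131)))) (BT.node 2138 (BT.node 2135 (BT.node 2133 (BT.node 2132 (BT.leaf cJ2132) (BT.leaf cJ2133)) (BT.node 2134 (BT.leaf cJ2134) (BT.leaf cJ2135))) (BT.node 2137 (BT.node 2136 (BT.leaf cJ2136) (BT.leaf cJ2137)) (BT.leaf cJ2138))) (BT.node 2142 (BT.node 2140 (BT.node 2139 (BT.leaf cJ2139) (BT.leaf cJ2140)) (BT.node 2141 (BT.leaf cJ2141) (BT.leaf cJ2142))) (BT.node 2144 (BT.node 2143 (BT.leaf cJ2143) (BT.leaf cJ2144)) (BT.leaf cJ2145))))) (BT.node 2159 (BT.node 2152 (BT.node 2149 (BT.node 2147 (BT.node 2146 (BT.leaf cJ2146) (BT.leaf cJ2147)) (BT.node 2148 (BT.leaf cJ2148) (BT.leaf cJ2149))) (BT.node 2151 (BT.node 2150 (BT.leaf cJ2150) (BT.leaf cJ2151)) (BT.leaf cJ2152))) (BT.node 2156 (BT.node 2154 (BT.node 2153 (BT.leaf cJ2153) (BT.leaf cJ2154)) (BT.node 2155 (BT.leaf cJ2155) (BT.leaf cJ2156))) (BT.node 2158 (BT.node 2157 (BT.leaf cJ2157) (BT.leaf cJ2158)) (BT.leaf cJ2159)))) (BT.node 2166 (BT.node 2163 (BT.node 2161 (BT.node 2160 (BT.leaf cJ2160) (BT.leaf cJ2161)) (BT.node 2162 (BT.leaf cJ2162) (BT.leaf cJ2163))) (BT.node 2165 (BT.node 2164 (BT.leaf cJ2164) (BT.leaf cJ2165)) (BT.leaf cJ2166))) (BT.node 2170 (BT.node 2168 (BT.node 2167 (BT.leaf cJ2167) (BT.leaf cJ2168)) (BT.node 2169 (BT.leaf cJ2169) (BT.leaf cJ2170))) (BT.node 2172 (BT.node 2171 (BT.leaf cJ2171) (BT.leaf cJ2172)) (BT.leaf cJ2173))))))) (BT.node 2230 (BT.node 2202 (BT.node 2188 (BT.node 2181 (BT.node 2177 (BT.node 2175 (BT.node 2174 (BT.leaf cJ2174) (BT.leaf cJ2175)) (BT.node 2176 (BT.leaf cJ2176) (BT.leaf cJ2177))) (BT.node 2179 (BT.node 2178 (BT.leaf cJ2178) (BT.leaf cJ2179)) (BT.node 2180 (BT.leaf cJ2180) (BT.leaf cJ2181)))) (BT.node 2185 (BT.node 2183 (BT.node 2182 (BT.leaf cJ2182) (BT.leaf cJ2183)) (BT.node 2184 (BT.leaf cJ2184) (BT.leaf cJ2185))) (BT.node 2187 (BT.node 2186 (BT.leaf cJ2186) (BT.leaf cJ2187)) (BT.leaf cJ2188)))) (BT.node 2195 (BT.node 2192 (BT.node 2190 (BT.node 2189 (BT.leaf cJ2189) (BT.leaf cJ2190)) (BT.node 2191 (BT.leaf cJ2191) (BT.leaf cJ2192))) (BT.node 2194 (BT.node 2193 (BT.leaf cJ2193) (BT.leaf cJ2194)) (BT.leaf cJ2195))) (BT.node 2199 (BT.node 2197 (BT.node 2196 (BT.leaf cJ2196) (BT.leaf cJ2197)) (BT.node 2198 (BT.leaf cJ2198) (BT.leaf cJ2199))) (BT.node 2201 (BT.node 2200 (BT.leaf cJ2200) (BT.leaf cJ2201)) (BT.leaf cJ2202))))) (BT.node 2216 (BT.node 2209 (BT.node 2206 (BT.node 2204 (BT.node 2203 (BT.leaf cJ2203) (BT.leaf cJ2204)) (BT.node 2205 (BT.leaf cJ2205) (BT.leaf cJ2206))) (BT.node 2208 (BT.node 2207 (BT.leaf cJ2207) (BT.leaf cJ2208)) (BT.leaf cJ2209))) (BT.node 2213 (BT.node 2211 (BT.node 2210 (BT.leaf cJ2210) (BT.leaf cJ2211)) (BT.node 2212 (BT.leaf cJ2212) (BT.leaf cJ2213))) (BT.node 2215 (BT.node 2214 (BT.leaf cJ2214) (BT.leaf cJ2215)) (BT.leaf cJ2216)))) (BT.node 2223 (BT.node 2220 (BT.node 2218 (BT.node 2217 (BT.leaf cJ2217) (BT.leaf cJ2218)) (BT.node 2219 (BT.leaf cJ2219) (BT.leaf cJ2220))) (BT.node 2222 (BT.node 2221 (BT.leaf cJ2221) (BT.leaf cJ2222)) (BT.leaf cJ2223))) (BT.node 2227 (BT.node 2225 (BT.node 2224 (BT.leaf cJ2224) (BT.leaf cJ2225)) (BT.node 2226 (BT.leaf cJ2226) (BT.leaf cJ2227))) (BT.node 2229 (BT.node 2228 (BT.leaf cJ2228) (BT.leaf cJ2229)) (BT.leaf cJ2230)))))) (BT.node 2259 (BT.node 2245 (BT.node 2238 (BT.node 2234 (BT.node 2232 (BT.node 2231 (BT.leaf cJ2231) (BT.leaf cJ2232)) (BT.node 2233 (BT.leaf cJ2233) (BT.leaf cJ2234))) (BT.node 2236 (BT.node 2235 (BT.leaf cJ2235) (BT.leaf cJ2236)) (BT.node 2237 (BT.leaf cJ2237) (BT.leaf cJ2238)))) (BT.node 2242 (BT.node 2240 (BT.node 2239 (BT.leaf cJ2239) (BT.leaf cJ2240)) (BT.node 2241 (BT.leaf cJ2241) (BT.leaf cJ2242))) (BT.node 2244 (BT.node 2243 (BT.leaf cJ2243) (BT.leaf cJ2244)) (BT.leaf cJ2245)))) (BT.node 2252 (BT.node 2249 (BT.node 2247 (BT.node 2246 (BT.leaf cJ2246) (BT.leaf cJ2247)) (BT.node 2248 (BT.leaf cJ2248) (BT.leaf cJ2249))) (BT.node 2251 (BT.node 2250 (BT.leaf cJ2250) (BT.leaf cJ2251)) (BT.leaf cJ2252))) (BT.node 2256 (BT.node 2254 (BT.node 2253 (BT.leaf cJ2253) (BT.leaf cJ2254)) (BT.node 2255 (BT.leaf cJ2255) (BT.leaf cJ2256))) (BT.node 2258 (BT.node 2257 (BT.leaf cJ2257) (BT.leaf cJ2258)) (BT.leaf cJ2259))))) (BT.node 2273 (BT.node 2266 (BT.node 2263 (BT.node 2261 (BT.node 2260 (BT.leaf cJ2260) (BT.leaf cJ2261)) (BT.node 2262 (BT.leaf cJ2262) (BT.leaf cJ2263))) (BT.node 2265 (BT.node 2264 (BT.leaf cJ2264) (BT.leaf cJ2265)) (BT.leaf cJ2266))) (BT.node 2270 (BT.node 2268 (BT.node 2267 (BT.leaf cJ2267) (BT.leaf cJ2268)) (BT.node 2269 (BT.leaf cJ2269) (BT.leaf cJ2270))) (BT.node 2272 (BT.node 2271 (BT.leaf cJ2271) (BT.leaf cJ2272)) (BT.leaf cJ2273)))) (BT.node 2280 (BT.node 2277 (BT.node 2275 (BT.node 2274 (BT.leaf cJ2274) (BT.leaf cJ2275)) (BT.node 2276 (BT.leaf cJ2276) (BT.leaf cJ2277))) (BT.node 2279 (BT.node 2278 (BT.leaf cJ2278) (BT.leaf cJ2279)) (BT.leaf cJ2280))) (BT.node 2284 (BT.node 2282 (BT.node 2281 (BT.leaf cJ2281) (BT.leaf cJ2282)) (BT.node 2283 (BT.leaf cJ2283) (BT.leaf cJ2284))) (BT.node 2286 (BT.node 2285 (BT.leaf cJ2285) (BT.leaf cJ2286)) (BT.leaf cJ2287))))))))) (BT.node 2516 (BT.node 2402 (BT.node 2345 (BT.node 2316 (BT.node 2302 (BT.node 2295 (BT.node 2291 (BT.node 2289 (BT.node 2288 (BT.leaf cJ2288) (BT.leaf cJ2289)) (BT.node 2290 (BT.leaf cJ2290) (BT.leaf cJ2291))) (BT.node 2293 (BT.node 2292 (BT.leaf cJ2292) (BT.leaf cJ2293)) (BT.node 2294 (BT.leaf cJ2294) (BT.leaf cJ2295)))) (BT.node 2299 (BT.node 2297 (BT.node 2296 (BT.leaf cJ2296) (BT.leaf cJ2297)) (BT.node 2298 (BT.leaf cJ2298) (BT.leaf cJ2299))) (BT.node 2301 (BT.node 2300 (BT.leaf cJ2300) (BT.leaf cJ2301)) (BT.leaf cJ2302)))) (BT.node 2309 (BT.node 2306 (BT.node 2304 (BT.node 2303 (BT.leaf cJ2303) (BT.leaf cJ2304)) (BT.node 2305 (BT.leaf cJ2305) (BT.leaf cJ2306))) (BT.node 2308 (BT.node 2307 (BT.leaf cJ2307) (BT.leaf cJ2308)) (BT.leaf cJ2309))) (BT.node 2313 (BT.node 2311 (BT.node 2310 (BT.leaf cJ2310) (BT.leaf cJ2311)) (BT.node 2312 (BT.leaf cJ2312) (BT.leaf cJ2313))) (BT.node 2315 (BT.node 2314 (BT.leaf cJ2314) (BT.leaf cJ2315)) (BT.leaf cJ2316))))) (BT.node 2331 (BT.node 2324 (BT.node 2320 (BT.node 2318 (BT.node 2317 (BT.leaf cJ2317) (BT.leaf cJ2318)) (BT.node 2319 (BT.leaf cJ2319) (BT.leaf cJ2320))) (BT.node 2322 (BT.node 2321 (BT.leaf cJ2321) (BT.leaf cJ2322)) (BT.node 2323 (BT.leaf cJ2323) (BT.leaf cJ2324)))) (BT.node 2328 (BT.node 2326 (BT.node 2325 (BT.leaf cJ2325) (BT.leaf cJ2326)) (BT.node 2327 (BT.leaf cJ2327) (BT.leaf cJ2328))) (BT.node 2330 (BT.node 2329 (BT.leaf cJ2329) (BT.leaf cJ2330)) (BT.leaf cJ2331)))) (BT.node 2338 (BT.node 2335 (BT.node 2333 (BT.node 2332 (BT.leaf cJ2332) (BT.leaf cJ2333)) (BT.node 2334 (BT.leaf cJ2334) (BT.leaf cJ2335))) (BT.node 2337 (BT.node 2336 (BT.leaf cJ2336) (BT.leaf cJ2337)) (BT.leaf cJ2338))) (BT.node 2342 (BT.node 2340 (BT.node 2339 (BT.leaf cJ2339) (BT.leaf cJ2340)) (BT.node 2341 (BT.leaf cJ2341) (BT.leaf cJ2342))) (BT.node 2344 (BT.node 2343 (BT.leaf cJ2343) (BT.leaf cJ2344)) (BT.leaf cJ2345)))))) (BT.node 2374 (BT.node 2360 (BT.node 2353 (BT.node 2349 (BT.node 2347 (BT.node 2346 (BT.leaf cJ2346) (BT.leaf cJ2347)) (BT.node 2348 (BT.leaf cJ2348) (BT.leaf cJ2349))) (BT.node 2351 (BT.node 2350 (BT.leaf cJ2350) (BT.leaf cJ2351)) (BT.node 2352 (BT.leaf cJ2352) (BT.leaf cJ2353)))) (BT.node 2357 (BT.node 2355 (BT.node 2354 (BT.leaf cJ2354) (BT.leaf cJ2355)) (BT.node 2356 (BT.leaf cJ2356) (BT.leaf cJ2357))) (BT.node 2359 (BT.node 2358 (BT.leaf cJ2358) (BT.leaf cJ2359)) (BT.leaf cJ2360)))) (BT.node 2367 (BT.node 2364 (BT.node 2362 (BT.node 2361 (BT.leaf cJ2361) (BT.leaf cJ2362)) (BT.node 2363 (BT.leaf cJ2363) (BT.leaf cJ2364))) (BT.node 2366 (BT.node 2365 (BT.leaf cJ2365) (BT.leaf cJ2366)) (BT.leaf cJ2367))) (BT.node 2371 (BT.node 2369 (BT.node 2368 (BT.leaf cJ2368) (BT.leaf cJ2369)) (BT.node 2370 (BT.leaf cJ2370) (BT.leaf cJ2371))) (BT.node 2373 (BT.node 2372 (BT.leaf cJ2372) (BT.leaf cJ2373)) (BT.leaf cJ2374))))) (BT.node 2388 (BT.node 2381 (BT.node 2378 (BT.node 2376 (BT.node 2375 (BT.leaf cJ2375) (BT.leaf cJ2376)) (BT.node 2377 (BT.leaf cJ2377) (BT.leaf cJ2378))) (BT.node 2380 (BT.node 2379 (BT.leaf cJ2379) (BT.leaf cJ2380)) (BT.leaf cJ2381))) (BT.node 2385 (BT.node 2383 (BT.node 2382 (BT.leaf cJ2382) (BT.leaf cJ2383)) (BT.node 2384 (BT.leaf cJ2384) (BT.leaf cJ2385))) (BT.node 2387 (BT.node 2386 (BT.leaf cJ2386) (BT.leaf cJ2387)) (BT.leaf cJ2388)))) (BT.node 2395 (BT.node 2392 (BT.node 2390 (BT.node 2389 (BT.leaf cJ2389) (BT.leaf cJ2390)) (BT.node 2391 (BT.leaf cJ2391) (BT.leaf cJ2392))) (BT.node 2394 (BT.node 2393 (BT.leaf cJ2393) (BT.leaf cJ2394)) (BT.leaf cJ2395))) (BT.node 2399 (BT.node 2397 (BT.node 2396 (BT.leaf cJ2396) (BT.leaf cJ2397)) (BT.node 2398 (BT.leaf cJ2398) (BT.leaf cJ2399))) (BT.node 2401 (BT.node 2400 (BT.leaf cJ2400) (BT.leaf cJ2401)) (BT.leaf cJ2402))))))) (BT.node 2459 (BT.node 2431 (BT.node 2417 (BT.node 2410 (BT.node 2406 (BT.node 2404 (BT.node 2403 (BT.leaf cJ2403) (BT.leaf cJ2404)) (BT.node 2405 (BT.leaf cJ2405) (BT.leaf cJ2406))) (BT.node 2408 (BT.node 2407 (BT.leaf cJ2407) (BT.leaf cJ2408)) (BT.node 2409 (BT.leaf cJ2409) (BT.leaf cJ2410)))) (BT.node 2414 (BT.node 2412 (BT.node 2411 (BT.leaf cJ2411) (BT.leaf cJ2412)) (BT.node 2413 (BT.leaf cJ2413) (BT.leaf cJ2414))) (BT.node 2416 (BT.node 2415 (BT.leaf cJ2415) (BT.leaf cJ2416)) (BT.leaf cJ2417)))) (BT.node 2424 (BT.node 2421 (BT.node 2419 (BT.node 2418 (BT.leaf cJ2418) (BT.leaf cJ2419)) (BT.node 2420 (BT.leaf cJ2420) (BT.leaf cJ2421))) (BT.node 2423 (BT.node 2422 (BT.leaf cJ2422) (BT.leaf cJ2423)) (BT.leaf cJ2424))) (BT.node 2428 (BT.node 2426 (BT.node 2425 (BT.leaf cJ2425) (BT.leaf cJ2426)) (BT.node 2427 (BT.leaf cJ2427) (BT.leaf cJ2428))) (BT.node 2430 (BT.node 2429 (BT.leaf cJ2429) (BT.leaf cJ2430)) (BT.leaf cJ2431))))) (BT.node 2445 (BT.node 2438 (BT.node 2435 (BT.node 2433 (BT.node 2432 (BT.leaf cJ2432) (BT.leaf cJ2433)) (BT.node 2434 (BT.leaf cJ2434) (BT.leaf cJ2435))) (BT.node 2437 (BT.node 2436 (BT.leaf cJ2436) (BT.leaf cJ2437)) (BT.leaf cJ2438))) (BT.node 2442 (BT.node 2440 (BT.node 2439 (BT.leaf cJ2439) (BT.leaf cJ2440)) (BT.node 2441 (BT.leaf cJ2441) (BT.leaf cJ2442))) (BT.node 2444 (BT.node 2443 (BT.leaf cJ2443) (BT.leaf cJ2444)) (BT.leaf cJ2445)))) (BT.node 2452 (BT.node 2449 (BT.node 2447 (BT.node 2446 (BT.leaf cJ2446) (BT.leaf cJ2447)) (BT.node 2448 (BT.leaf cJ2448) (BT.leaf cJ2449))) (BT.node 2451 (BT.node 2450 (BT.leaf cJ2450) (BT.leaf cJ2451)) (BT.leaf cJ2452))) (BT.node 2456 (BT.node 2454 (BT.node 2453 (BT.leaf cJ2453) (BT.leaf cJ2454)) (BT.node 2455 (BT.leaf cJ2455) (BT.leaf cJ2456))) (BT.node 2458 (BT.node 2457 (BT.leaf cJ2457) (BT.leaf cJ2458)) (BT.leaf cJ2459)))))) (BT.node 2488 (BT.node 2474 (BT.node 2467 (BT.node 2463 (BT.node 2461 (BT.node 2460 (BT.leaf cJ2460) (BT.leaf cJ2461)) (BT.node 2462 (BT.leaf cJ2462) (BT.leaf cJ2463))) (BT.node 2465 (BT.node 2464 (BT.leaf cJ2464) (BT.leaf cJ2465)) (BT.node 2466 (BT.leaf cJ2466) (BT.leaf cJ2467)))) (BT.node 2471 (BT.node 2469 (BT.node 2468 (BT.leaf cJ2468) (BT.leaf cJ2469)) (BT.node 2470 (BT.leaf cJ2470) (BT.leaf cJ2471))) (BT.node 2473 (BT.node 2472 (BT.leaf cJ2472) (BT.leaf cJ2473)) (BT.leaf cJ2474)))) (BT.node 2481 (BT.node 2478 (BT.node 2476 (BT.node 2475 (BT.leaf cJ2475) (BT.leaf cJ2476)) (BT.node 2477 (BT.leaf cJ2477) (BT.leaf cJ2478))) (BT.node 2480 (BT.node 2479 (BT.leaf cJ2479) (BT.leaf cJ2480)) (BT.leaf cJ2481))) (BT.node 2485 (BT.node 2483 (BT.node 2482 (BT.leaf cJ2482) (BT.leaf cJ2483)) (BT.node 2484 (BT.leaf cJ2484) (BT.leaf cJ2485))) (BT.node 2487 (BT.node 2486 (BT.leaf cJ2486) (BT.leaf cJ2487)) (BT.leaf cJ2488))))) (BT.node 2502 (BT.node 2495 (BT.node 2492 (BT.node 2490 (BT.node 2489 (BT.leaf cJ2489) (BT.leaf cJ2490)) (BT.node 2491 (BT.leaf cJ2491) (BT.leaf cJ2492))) (BT.node 2494 (BT.node 2493 (BT.leaf cJ2493) (BT.leaf cJ2494)) (BT.leaf cJ2495))) (BT.node 2499 (BT.node 2497 (BT.node 2496 (BT.leaf cJ2496) (BT.leaf cJ2497)) (BT.node 2498 (BT.leaf cJ2498) (BT.leaf cJ2499))) (BT.node 2501 (BT.node 2500 (BT.leaf cJ2500) (BT.leaf cJ2501)) (BT.leaf cJ2502)))) (BT.node 2509 (BT.node 2506 (BT.node 2504 (BT.node 2503 (BT.leaf cJ2503) (BT.leaf cJ2504)) (BT.node 2505 (BT.leaf cJ2505) (BT.leaf cJ2506))) (BT.node 2508 (BT.node 2507 (BT.leaf cJ2507) (BT.leaf cJ2508)) (BT.leaf cJ2509))) (BT.node 2513 (BT.node 2511 (BT.node 2510 (BT.leaf cJ2510) (BT.leaf cJ2511)) (BT.node 2512 (BT.leaf cJ2512) (BT.leaf cJ2513))) (BT.node 2515 (BT.node 2514 (BT.leaf cJ2514) (BT.leaf cJ2515)) (BT.leaf cJ2516)))))))) (BT.node 2630 (BT.node 2573 (BT.node 2545 (BT.node 2531 (BT.node 2524 (BT.node 2520 (BT.node 2518 (BT.node 2517 (BT.leaf cJ2517) (BT.leaf cJ2518)) (BT.node 2519 (BT.leaf cJ2519) (BT.leaf cJ2520))) (BT.node 2522 (BT.node 2521 (BT.leaf cJ2521) (BT.leaf cJ2522)) (BT.node 2523 (BT.leaf cJ2523) (BT.leaf cJ2524)))) (BT.node 2528 (BT.node 2526 (BT.node 2525 (BT.leaf cJ2525) (BT.leaf cJ2526)) (BT.node 2527 (BT.leaf cJ2527) (BT.leaf cJ2528))) (BT.node 2530 (BT.node 2529 (BT.leaf cJ2529) (BT.leaf cJ2530)) (BT.leaf cJ2531)))) (BT.node 2538 (BT.node 2535 (BT.node 2533 (BT.node 2532 (BT.leaf cJ2532) (BT.leaf cJ2533)) (BT.node 2534 (BT.leaf cJ2534) (BT.leaf cJ2535))) (BT.node 2537 (BT.node 2536 (BT.leaf cJ2536) (BT.leaf cJ2537)) (BT.leaf cJ2538))) (BT.node 2542 (BT.node 2540 (BT.node 2539 (BT.leaf cJ2539) (BT.leaf cJ2540)) (BT.node 2541 (BT.leaf cJ2541) (BT.leaf cJ2542))) (BT.node 2544 (BT.node 2543 (BT.leaf cJ2543) (BT.leaf cJ2544)) (BT.leaf cJ2545))))) (BT.node 2559 (BT.node 2552 (BT.node 2549 (BT.node 2547 (BT.node 2546 (BT.leaf cJ2546) (BT.leaf cJ2547)) (BT.node 2548 (BT.leaf cJ2548) (BT.leaf cJ2549))) (BT.node 2551 (BT.node 2550 (BT.leaf cJ2550) (BT.leaf cJ2551)) (BT.leaf cJ2552))) (BT.node 2556 (BT.node 2554 (BT.node 2553 (BT.leaf cJ2553) (BT.leaf cJ2554)) (BT.node 2555 (BT.leaf cJ2555) (BT.leaf cJ2556))) (BT.node 2558 (BT.node 2557 (BT.leaf cJ2557) (BT.leaf cJ2558)) (BT.leaf cJ2559)))) (BT.node 2566 (BT.node 2563 (BT.node 2561 (BT.node 2560 (BT.leaf cJ2560) (BT.leaf cJ2561)) (BT.node 2562 (BT.leaf cJ2562) (BT.leaf cJ2563))) (BT.node 2565 (BT.node 2564 (BT.leaf cJ2564) (BT.leaf cJ2565)) (BT.leaf cJ2566))) (BT.node 2570 (BT.node 2568 (BT.node 2567 (BT.leaf cJ2567) (BT.leaf cJ2568)) (BT.node 2569 (BT.leaf cJ2569) (BT.leaf cJ2570))) (BT.node 2572 (BT.node 2571 (BT.leaf cJ2571) (BT.leaf cJ2572)) (BT.leaf cJ2573)))))) (BT.node 2602 (BT.node 2588 (BT.node 2581 (BT.node 2577 (BT.node 2575 (BT.node 2574 (BT.leaf cJ2574) (BT.leaf cJ2575)) (BT.node 2576 (BT.leaf cJ2576) (BT.leaf cJ2577))) (BT.node 2579 (BT.node 2578 (BT.leaf cJ2578) (BT.leaf cJ2579)) (BT.node 2580 (BT.leaf cJ2580) (BT.leaf cJ2581)))) (BT.node 2585 (BT.node 2583 (BT.node 2582 (BT.leaf cJ2582) (BT.leaf cJ2583)) (BT.node 2584 (BT.leaf cJ2584) (BT.leaf cJ2585))) (BT.node 2587 (BT.node 2586 (BT.leaf cJ2586) (BT.leaf cJ2587)) (BT.leaf cJ2588)))) (BT.node 2595 (BT.node 2592 (BT.node 2590 (BT.node 2589 (BT.leaf cJ2589) (BT.leaf cJ2590)) (BT.node 2591 (BT.leaf cJ2591) (BT.leaf cJ2592))) (BT.node 2594 (BT.node 2593 (BT.leaf cJ2593) (BT.leaf cJ2594)) (BT.leaf cJ2595))) (BT.node 2599 (BT.node 2597 (BT.node 2596 (BT.leaf cJ2596) (BT.leaf cJ2597)) (BT.node 2598 (BT.leaf cJ2598) (BT.leaf cJ2599))) (BT.node 2601 (BT.node 2600 (BT.leaf cJ2600) (BT.leaf cJ2601)) (BT.leaf cJ2602))))) (BT.node 2616 (BT.node 2609 (BT.node 2606 (BT.node 2604 (BT.node 2603 (BT.leaf cJ2603) (BT.leaf cJ2604)) (BT.node 2605 (BT.leaf cJ2605) (BT.leaf cJ2606))) (BT.node 2608 (BT.node 2607 (BT.leaf cJ2607) (BT.leaf cJ2608)) (BT.leaf cJ2609))) (BT.node 2613 (BT.node 2611 (BT.node 2610 (BT.leaf cJ2610) (BT.leaf cJ2611)) (BT.node 2612 (BT.leaf cJ2612) (BT.leaf cJ2613))) (BT.node 2615 (BT.node 2614 (BT.leaf cJ2614) (BT.leaf cJ2615)) (BT.leaf cJ2616)))) (BT.node 2623 (BT.node 2620 (BT.node 2618 (BT.node 2617 (BT.leaf cJ2617) (BT.leaf cJ2618)) (BT.node 2619 (BT.leaf cJ2619) (BT.leaf cJ2620))) (BT.node 2622 (BT.node 2621 (BT.leaf cJ2621) (BT.leaf cJ2622)) (BT.leaf cJ2623))) (BT.node 2627 (BT.node 2625 (BT.node 2624 (BT.leaf cJ2624) (BT.leaf cJ2625)) (BT.node 2626 (BT.leaf cJ2626) (BT.leaf cJ2627))) (BT.node 2629 (BT.node 2628 (BT.leaf cJ2628) (BT.leaf cJ2629)) (BT.leaf cJ2630))))))) (BT.node 2687 (BT.node 2659 (BT.node 2645 (BT.node 2638 (BT.node 2634 (BT.node 2632 (BT.node 2631 (BT.leaf cJ2631) (BT.leaf cJ2632)) (BT.node 2633 (BT.leaf cJ2633) (BT.leaf cJ2634))) (BT.node 2636 (BT.node 2635 (BT.leaf cJ2635) (BT.leaf cJ2636)) (BT.node 2637 (BT.leaf cJ2637) (BT.leaf cJ2638)))) (BT.node 2642 (BT.node 2640 (BT.node 2639 (BT.leaf cJ2639) (BT.leaf cJ2640)) (BT.node 2641 (BT.leaf cJ2641) (BT.leaf cJ2642))) (BT.node 2644 (BT.node 2643 (BT.leaf cJ2643) (BT.leaf cJ2644)) (BT.leaf cJ2645)))) (BT.node 2652 (BT.node 2649 (BT.node 2647 (BT.node 2646 (BT.leaf cJ2646) (BT.leaf cJ2647)) (BT.node 2648 (BT.leaf cJ2648) (BT.leaf cJ2649))) (BT.node 2651 (BT.node 2650 (BT.leaf cJ2650) (BT.leaf cJ2651)) (BT.leaf cJ2652))) (BT.node 2656 (BT.node 2654 (BT.node 2653 (BT.leaf cJ2653) (BT.leaf cJ2654)) (BT.node 2655 (BT.leaf cJ2655) (BT.leaf cJ2656))) (BT.node 2658 (BT.node 2657 (BT.leaf cJ2657) (BT.leaf cJ2658)) (BT.leaf cJ2659))))) (BT.node 2673 (BT.node 2666 (BT.node 2663 (BT.node 2661 (BT.node 2660 (BT.leaf cJ2660) (BT.leaf cJ2661)) (BT.node 2662 (BT.leaf cJ2662) (BT.leaf cJ2663))) (BT.node 2665 (BT.node 2664 (BT.leaf cJ2664) (BT.leaf cJ2665)) (BT.leaf cJ2666))) (BT.node 2670 (BT.node 2668 (BT.node 2667 (BT.leaf cJ2667) (BT.leaf cJ2668)) (BT.node 2669 (BT.leaf cJ2669) (BT.leaf cJ2670))) (BT.node 2672 (BT.node 2671 (BT.leaf cJ2671) (BT.leaf cJ2672)) (BT.leaf cJ2673)))) (BT.node 2680 (BT.node 2677 (BT.node 2675 (BT.node 2674 (BT.leaf cJ2674) (BT.leaf cJ2675)) (BT.node 2676 (BT.leaf cJ2676) (BT.leaf cJ2677))) (BT.node 2679 (BT.node 2678 (BT.leaf cJ2678) (BT.leaf cJ2679)) (BT.leaf cJ2680))) (BT.node 2684 (BT.node 2682 (BT.node 2681 (BT.leaf cJ2681) (BT.leaf cJ2682)) (BT.node 2683 (BT.leaf cJ2683) (BT.leaf cJ2684))) (BT.node 2686 (BT.node 2685 (BT.leaf cJ2685) (BT.leaf cJ2686)) (BT.leaf cJ2687)))))) (BT.node 2716 (BT.node 2702 (BT.node 2695 (BT.node 2691 (BT.node 2689 (BT.node 2688 (BT.leaf cJ2688) (BT.leaf cJ2689)) (BT.node 2690 (BT.leaf cJ2690) (BT.leaf cJ2691))) (BT.node 2693 (BT.node 2692 (BT.leaf cJ2692) (BT.leaf cJ2693)) (BT.node 2694 (BT.leaf cJ2694) (BT.leaf cJ2695)))) (BT.node 2699 (BT.node 2697 (BT.node 2696 (BT.leaf cJ2696) (BT.leaf cJ2697)) (BT.node 2698 (BT.leaf cJ2698) (BT.leaf cJ2699))) (BT.node 2701 (BT.node 2700 (BT.leaf cJ2700) (BT.leaf cJ2701)) (BT.leaf cJ2702)))) (BT.node 2709 (BT.node 2706 (BT.node 2704 (BT.node 2703 (BT.leaf cJ2703) (BT.leaf cJ2704)) (BT.node 2705 (BT.leaf cJ2705) (BT.leaf cJ2706))) (BT.node 2708 (BT.node 2707 (BT.leaf cJ2707) (BT.leaf cJ2708)) (BT.leaf cJ2709))) (BT.node 2713 (BT.node 2711 (BT.node 2710 (BT.leaf cJ2710) (BT.leaf cJ2711)) (BT.node 2712 (BT.leaf cJ2712) (BT.leaf cJ2713))) (BT.node 2715 (BT.node 2714 (BT.leaf cJ2714) (BT.leaf cJ2715)) (BT.leaf cJ2716))))) (BT.node 2730 (BT.node 2723 (BT.node 2720 (BT.node 2718 (BT.node 2717 (BT.leaf cJ2717) (BT.leaf cJ2718)) (BT.node 2719 (BT.leaf cJ2719) (BT.leaf cJ2720))) (BT.node 2722 (BT.node 2721 (BT.leaf cJ2721) (BT.leaf cJ2722)) (BT.leaf cJ2723))) (BT.node 2727 (BT.node 2725 (BT.node 2724 (BT.leaf cJ2724) (BT.leaf cJ2725)) (BT.node 2726 (BT.leaf cJ2726) (BT.leaf cJ2727))) (BT.node 2729 (BT.node 2728 (BT.leaf cJ2728) (BT.leaf cJ2729)) (BT.leaf cJ2730)))) (BT.node 2737 (BT.node 2734 (BT.node 2732 (BT.node 2731 (BT.leaf cJ2731) (BT.leaf cJ2732)) (BT.node 2733 (BT.leaf cJ2733) (BT.leaf cJ2734))) (BT.node 2736 (BT.node 2735 (BT.leaf cJ2735) (BT.leaf cJ2736)) (BT.leaf cJ2737))) (BT.node 2741 (BT.node 2739 (BT.node 2738 (BT.leaf cJ2738) (BT.leaf cJ2739)) (BT.node 2740 (BT.leaf cJ2740) (BT.leaf cJ2741))) (BT.node 2743 (BT.node 2742 (BT.leaf cJ2742) (BT.leaf cJ2743)) (BT.leaf cJ2744)))))))))) (BT.node 3202 (BT.node 2973 (BT.node 2859 (BT.node 2802 (BT.node 2773 (BT.node 2759 (BT.node 2752 (BT.node 2748 (BT.node 2746 (BT.node 2745 (BT.leaf cJ2745) (BT.leaf cJ2746)) (BT.node 2747 (BT.leaf cJ2747) (BT.leaf cJ2748))) (BT.node 2750 (BT.node 2749 (BT.leaf cJ2749) (BT.leaf cJ2750)) (BT.node 2751 (BT.leaf cJ2751) (BT.leaf cJ2752)))) (BT.node 2756 (BT.node 2754 (BT.node 2753 (BT.leaf cJ2753) (BT.leaf cJ2754)) (BT.node 2755 (BT.leaf cJ2755) (BT.leaf cJ2756))) (BT.node 2758 (BT.node 2757 (BT.leaf cJ2757) (BT.leaf cJ2758)) (BT.leaf cJ2759)))) (BT.node 2766 (BT.node 2763 (BT.node 2761 (BT.node 2760 (BT.leaf cJ2760) (BT.leaf cJ2761)) (BT.node 2762 (BT.leaf cJ2762) (BT.leaf cJ2763))) (BT.node 2765 (BT.node 2764 (BT.leaf cJ2764) (BT.leaf cJ2765)) (BT.leaf cJ2766))) (BT.node 2770 (BT.node 2768 (BT.node 2767 (BT.leaf cJ2767) (BT.leaf cJ2768)) (BT.node 2769 (BT.leaf cJ2769) (BT.leaf cJ2770))) (BT.node 2772 (BT.node 2771 (BT.leaf cJ2771) (BT.leaf cJ2772)) (BT.leaf cJ2773))))) (BT.node 2788 (BT.node 2781 (BT.node 2777 (BT.node 2775 (BT.node 2774 (BT.leaf cJ2774) (BT.leaf cJ2775)) (BT.node 2776 (BT.leaf cJ2776) (BT.leaf cJ2777))) (BT.node 2779 (BT.node 2778 (BT.leaf cJ2778) (BT.leaf cJ2779)) (BT.node 2780 (BT.leaf cJ2780) (BT.leaf cJ2781)))) (BT.node 2785 (BT.node 2783 (BT.node 2782 (BT.leaf cJ2782) (BT.leaf cJ2783)) (BT.node 2784 (BT.leaf cJ2784) (BT.leaf cJ2785))) (BT.node 2787 (BT.node 2786 (BT.leaf cJ2786) (BT.leaf cJ2787)) (BT.leaf cJ2788)))) (BT.node 2795 (BT.node 2792 (BT.node 2790 (BT.node 2789 (BT.leaf cJ2789) (BT.leaf cJ2790)) (BT.node 2791 (BT.leaf cJ2791) (BT.leaf cJ2792))) (BT.node 2794 (BT.node 2793 (BT.leaf cJ2793) (BT.leaf cJ2794)) (BT.leaf cJ2795))) (BT.node 2799 (BT.node 2797 (BT.node 2796 (BT.leaf cJ2796) (BT.leaf cJ2797)) (BT.node 2798 (BT.leaf cJ2798) (BT.leaf cJ2799))) (BT.node 2801 (BT.node 2800 (BT.leaf cJ2800) (BT.leaf cJ2801)) (BT.leaf cJ2802)))))) (BT.node 2831 (BT.node 2817 (BT.node 2810 (BT.node 2806 (BT.node 2804 (BT.node 2803 (BT.leaf cJ2803) (BT.leaf cJ2804)) (BT.node 2805 (BT.leaf cJ2805) (BT.leaf cJ2806))) (BT.node 2808 (BT.node 2807 (BT.leaf cJ2807) (BT.leaf cJ2808)) (BT.node 2809 (BT.leaf cJ2809) (BT.leaf cJ2810)))) (BT.node 2814 (BT.node 2812 (BT.node 2811 (BT.leaf cJ2811) (BT.leaf cJ2812)) (BT.node 2813 (BT.leaf cJ2813) (BT.leaf cJ2814))) (BT.node 2816 (BT.node 2815 (BT.leaf cJ2815) (BT.leaf cJ2816)) (BT.leaf cJ2817)))) (BT.node 2824 (BT.node 2821 (BT.node 2819 (BT.node 2818 (BT.leaf cJ2818) (BT.leaf cJ2819)) (BT.node 2820 (BT.leaf cJ2820) (BT.leaf cJ2821))) (BT.node 2823 (BT.node 2822 (BT.leaf cJ2822) (BT.leaf cJ2823)) (BT.leaf cJ2824))) (BT.node 2828 (BT.node 2826 (BT.node 2825 (BT.leaf cJ2825) (BT.leaf cJ2826)) (BT.node 2827 (BT.leaf cJ2827) (BT.leaf cJ2828))) (BT.node 2830 (BT.node 2829 (BT.leaf cJ2829) (BT.leaf cJ2830)) (BT.leaf cJ2831))))) (BT.node 2845 (BT.node 2838 (BT.node 2835 (BT.node 2833 (BT.node 2832 (BT.leaf cJ2832) (BT.leaf cJ2833)) (BT.node 2834 (BT.leaf cJ2834) (BT.leaf cJ2835))) (BT.node 2837 (BT.node 2836 (BT.leaf cJ2836) (BT.leaf cJ2837)) (BT.leaf cJ2838))) (BT.node 2842 (BT.node 2840 (BT.node 2839 (BT.leaf cJ2839) (BT.leaf cJ2840)) (BT.node 2841 (BT.leaf cJ2841) (BT.leaf cJ2842))) (BT.node 2844 (BT.node 2843 (BT.leaf cJ2843) (BT.leaf cJ2844)) (BT.leaf cJ2845)))) (BT.node 2852 (BT.node 2849 (BT.node 2847 (BT.node 2846 (BT.leaf cJ2846) (BT.leaf cJ2847)) (BT.node 2848 (BT.leaf cJ2848) (BT.leaf cJ2849))) (BT.node 2851 (BT.node 2850 (BT.leaf cJ2850) (BT.leaf cJ2851)) (BT.leaf cJ2852))) (BT.node 2856 (BT.node 2854 (BT.node 2853 (BT.leaf cJ2853) (BT.leaf cJ2854)) (BT.node 2855 (BT.leaf cJ2855) (BT.leaf cJ2856))) (BT.node 2858 (BT.node 2857 (BT.leaf cJ2857) (BT.leaf cJ2858)) (BT.leaf cJ2859))))))) (BT.node 2916 (BT.node 2888 (BT.node 2874 (BT.node 2867 (BT.node 2863 (BT.node 2861 (BT.node 2860 (BT.leaf cJ2860) (BT.leaf cJ2861)) (BT.node 2862 (BT.leaf cJ2862) (BT.leaf cJ2863))) (BT.node 2865 (BT.node 2864 (BT.leaf cJ2864) (BT.leaf cJ2865)) (BT.node 2866 (BT.leaf cJ2866) (BT.leaf cJ2867)))) (BT.node 2871 (BT.node 2869 (BT.node 2868 (BT.leaf cJ2868) (BT.leaf cJ2869)) (BT.node 2870 (BT.leaf cJ2870) (BT.leaf cJ2871))) (BT.node 2873 (BT.node 2872 (BT.leaf cJ2872) (BT.leaf cJ2873)) (BT.leaf cJ2874)))) (BT.node 2881 (BT.node 2878 (BT.node 2876 (BT.node 2875 (BT.leaf cJ2875) (BT.leaf cJ2876)) (BT.node 2877 (BT.leaf cJ2877) (BT.leaf cJ2878))) (BT.node 2880 (BT.node 2879 (BT.leaf cJ2879) (BT.leaf cJ2880)) (BT.leaf cJ2881))) (BT.node 2885 (BT.node 2883 (BT.node 2882 (BT.leaf cJ2882) (BT.leaf cJ2883)) (BT.node 2884 (BT.leaf cJ2884) (BT.leaf cJ2885))) (BT.node 2887 (BT.node 2886 (BT.leaf cJ2886) (BT.leaf cJ2887)) (BT.leaf cJ2888))))) (BT.node 2902 (BT.node 2895 (BT.node 2892 (BT.node 2890 (BT.node 2889 (BT.leaf cJ2889) (BT.leaf cJ2890)) (BT.node 2891 (BT.leaf cJ2891) (BT.leaf cJ2892))) (BT.node 2894 (BT.node 2893 (BT.leaf cJ2893) (BT.leaf cJ2894)) (BT.leaf cJ2895))) (BT.node 2899 (BT.node 2897 (BT.node 2896 (BT.leaf cJ2896) (BT.leaf cJ2897)) (BT.node 2898 (BT.leaf cJ2898) (BT.leaf cJ2899))) (BT.node 2901 (BT.node 2900 (BT.leaf cJ2900) (BT.leaf cJ2901)) (BT.leaf cJ2902)))) (BT.node 2909 (BT.node 2906 (BT.node 2904 (BT.node 2903 (BT.leaf cJ2903) (BT.leaf cJ2904)) (BT.node 2905 (BT.leaf cJ2905) (BT.leaf cJ2906))) (BT.node 2908 (BT.node 2907 (BT.leaf cJ2907) (BT.leaf cJ2908)) (BT.leaf cJ2909))) (BT.node 2913 (BT.node 2911 (BT.node 2910 (BT.leaf cJ2910) (BT.leaf cJ2911)) (BT.node 2912 (BT.leaf cJ2912) (BT.leaf cJ2913))) (BT.node 2915 (BT.node 2914 (BT.leaf cJ2914) (BT.leaf cJ2915)) (BT.leaf cJ2916)))))) (BT.node 2945 (BT.node 2931 (BT.node 2924 (BT.node 2920 (BT.node 2918 (BT.node 2917 (BT.leaf cJ2917) (BT.leaf cJ2918)) (BT.node 2919 (BT.leaf cJ2919) (BT.leaf cJ2920))) (BT.node 2922 (BT.node 2921 (BT.leaf cJ2921) (BT.leaf cJ2922)) (BT.node 2923 (BT.leaf cJ2923) (BT.leaf cJ2924)))) (BT.node 2928 (BT.node 2926 (BT.node 2925 (BT.leaf cJ2925) (BT.leaf cJ2926)) (BT.node 2927 (BT.leaf cJ2927) (BT.leaf cJ2928))) (BT.node 2930 (BT.node 2929 (BT.leaf cJ2929) (BT.leaf cJ2930)) (BT.leaf cJ2931)))) (BT.node 2938 (BT.node 2935 (BT.node 2933 (BT.node 2932 (BT.leaf cJ2932) (BT.leaf cJ2933)) (BT.node 2934 (BT.leaf cJ2934) (BT.leaf cJ2935))) (BT.node 2937 (BT.node 2936 (BT.leaf cJ2936) (BT.leaf cJ2937)) (BT.leaf cJ2938))) (BT.node 2942 (BT.node 2940 (BT.node 2939 (BT.leaf cJ2939) (BT.leaf cJ2940)) (BT.node 2941 (BT.leaf cJ2941) (BT.leaf cJ2942))) (BT.node 2944 (BT.node 2943 (BT.leaf cJ2943) (BT.leaf cJ2944)) (BT.leaf cJ2945))))) (BT.node 2959 (BT.node 2952 (BT.node 2949 (BT.node 2947 (BT.node 2946 (BT.leaf cJ2946) (BT.leaf cJ2947)) (BT.node 2948 (BT.leaf cJ2948) (BT.leaf cJ2949))) (BT.node 2951 (BT.node 2950 (BT.leaf cJ2950) (BT.leaf cJ2951)) (BT.leaf cJ2952))) (BT.node 2956 (BT.node 2954 (BT.node 2953 (BT.leaf cJ2953) (BT.leaf cJ2954)) (BT.node 2955 (BT.leaf cJ2955) (BT.leaf cJ2956))) (BT.node 2958 (BT.node 2957 (BT.leaf cJ2957) (BT.leaf cJ2958)) (BT.leaf cJ2959)))) (BT.node 2966 (BT.node 2963 (BT.node 2961 (BT.node 2960 (BT.leaf cJ2960) (BT.leaf cJ2961)) (BT.node 2962 (BT.leaf cJ2962) (BT.leaf cJ2963))) (BT.node 2965 (BT.node 2964 (BT.leaf cJ2964) (BT.leaf cJ2965)) (BT.leaf cJ2966))) (BT.node 2970 (BT.node 2968 (BT.node 2967 (BT.leaf cJ2967) (BT.leaf cJ2968)) (BT.node 2969 (BT.leaf cJ2969) (BT.leaf cJ2970))) (BT.node 2972 (BT.node 2971 (BT.leaf cJ2971) (BT.leaf cJ2972)) (BT.leaf cJ2973)))))))) (BT.node 3088 (BT.node 3031 (BT.node 3002 (BT.node 2988 (BT.node 2981 (BT.node 2977 (BT.node 2975 (BT.node 2974 (BT.leaf cJ2974) (BT.leaf cJ2975)) (BT.node 2976 (BT.leaf cJ2976) (BT.leaf cJ2977))) (BT.node 2979 (BT.node 2978 (BT.leaf cJ2978) (BT.leaf cJ2979)) (BT.node 2980 (BT.leaf cJ2980) (BT.leaf cJ2981)))) (BT.node 2985 (BT.node 2983 (BT.node 2982 (BT.leaf cJ2982) (BT.leaf cJ2983)) (BT.node 2984 (BT.leaf cJ2984) (BT.leaf cJ2985))) (BT.node 2987 (BT.node 2986 (BT.leaf cJ2986) (BT.leaf cJ2987)) (BT.leaf cJ2988)))) (BT.node 2995 (BT.node 2992 (BT.node 2990 (BT.node 2989 (BT.leaf cJ2989) (BT.leaf cJ2990)) (BT.node 2991 (BT.leaf cJ2991) (BT.leaf cJ2992))) (BT.node 2994 (BT.node 2993 (BT.leaf cJ2993) (BT.leaf cJ2994)) (BT.leaf cJ2995))) (BT.node 2999 (BT.node 2997 (BT.node 2996 (BT.leaf cJ2996) (BT.leaf cJ2997)) (BT.node 2998 (BT.leaf cJ2998) (BT.leaf cJ2999))) (BT.node 3001 (BT.node 3000 (BT.leaf cJ3000) (BT.leaf cJ3001)) (BT.leaf cJ3002))))) (BT.node 3017 (BT.node 3010 (BT.node 3006 (BT.node 3004 (BT.node 3003 (BT.leaf cJ3003) (BT.leaf cJ3004)) (BT.node 3005 (BT.leaf cJ3005) (BT.leaf cJ3006))) (BT.node 3008 (BT.node 3007 (BT.leaf cJ3007) (BT.leaf cJ3008)) (BT.node 3009 (BT.leaf cJ3009) (BT.leaf cJ3010)))) (BT.node 3014 (BT.node 3012 (BT.node 3011 (BT.leaf cJ3011) (BT.leaf cJ3012)) (BT.node 3013 (BT.leaf cJ3013) (BT.leaf cJ3014))) (BT.node 3016 (BT.node 3015 (BT.leaf cJ3015) (BT.leaf cJ3016)) (BT.leaf cJ3017)))) (BT.node 3024 (BT.node 3021 (BT.node 3019 (BT.node 3018 (BT.leaf cJ3018) (BT.leaf cJ3019)) (BT.node 3020 (BT.leaf cJ3020) (BT.leaf cJ3021))) (BT.node 3023 (BT.node 3022 (BT.leaf cJ3022) (BT.leaf cJ3023)) (BT.leaf cJ3024))) (BT.node 3028 (BT.node 3026 (BT.node 3025 (BT.leaf cJ3025) (BT.leaf cJ3026)) (BT.node 3027 (BT.leaf cJ3027) (BT.leaf cJ3028))) (BT.node 3030 (BT.node 3029 (BT.leaf cJ3029) (BT.leaf cJ3030)) (BT.leaf cJ3031)))))) (BT.node 3060 (BT.node 3046 (BT.node 3039 (BT.node 3035 (BT.node 3033 (BT.node 3032 (BT.leaf cJ3032) (BT.leaf cJ3033)) (BT.node 3034 (BT.leaf cJ3034) (BT.leaf cJ3035))) (BT.node 3037 (BT.node 3036 (BT.leaf cJ3036) (BT.leaf cJ3037)) (BT.node 3038 (BT.leaf cJ3038) (BT.leaf cJ3039)))) (BT.node 3043 (BT.node 3041 (BT.node 3040 (BT.leaf cJ3040) (BT.leaf cJ3041)) (BT.node 3042 (BT.leaf cJ3042) (BT.leaf cJ3043))) (BT.node 3045 (BT.node 3044 (BT.leaf cJ3044) (BT.leaf cJ3045)) (BT.leaf cJ3046)))) (BT.node 3053 (BT.node 3050 (BT.node 3048 (BT.node 3047 (BT.leaf cJ3047) (BT.leaf cJ3048)) (BT.node 3049 (BT.leaf cJ3049) (BT.leaf cJ3050))) (BT.node 3052 (BT.node 3051 (BT.leaf cJ3051) (BT.leaf cJ3052)) (BT.leaf cJ3053))) (BT.node 3057 (BT.node 3055 (BT.node 3054 (BT.leaf cJ3054) (BT.leaf cJ3055)) (BT.node 3056 (BT.leaf cJ3056) (BT.leaf cJ3057))) (BT.node 3059 (BT.node 3058 (BT.leaf cJ3058) (BT.leaf cJ3059)) (BT.leaf cJ3060))))) (BT.node 3074 (BT.node 3067 (BT.node 3064 (BT.node 3062 (BT.node 3061 (BT.leaf cJ3061) (BT.leaf cJ3062)) (BT.node 3063 (BT.leaf cJ3063) (BT.leaf cJ3064))) (BT.node 3066 (BT.node 3065 (BT.leaf cJ3065) (BT.leaf cJ3066)) (BT.leaf cJ3067))) (BT.node 3071 (BT.node 3069 (BT.node 3068 (BT.leaf cJ3068) (BT.leaf cJ3069)) (BT.node 3070 (BT.leaf cJ3070) (BT.leaf cJ3071))) (BT.node 3073 (BT.node 3072 (BT.leaf cJ3072) (BT.leaf cJ3073)) (BT.leaf cJ3074)))) (BT.node 3081 (BT.node 3078 (BT.node 3076 (BT.node 3075 (BT.leaf cJ3075) (BT.leaf cJ3076)) (BT.node 3077 (BT.leaf cJ3077) (BT.leaf cJ3078))) (BT.node 3080 (BT.node 3079 (BT.leaf cJ3079) (BT.leaf cJ3080)) (BT.leaf cJ3081))) (BT.node 3085 (BT.node 3083 (BT.node 3082 (BT.leaf cJ3082) (BT.leaf cJ3083)) (BT.node 3084 (BT.leaf cJ3084) (BT.leaf cJ3085))) (BT.node 3087 (BT.node 3086 (BT.leaf cJ3086) (BT.leaf cJ3087)) (BT.leaf cJ3088))))))) (BT.node 3145 (BT.node 3117 (BT.node 3103 (BT.node 3096 (BT.node 3092 (BT.node 3090 (BT.node 3089 (BT.leaf cJ3089) (BT.leaf cJ3090)) (BT.node 3091 (BT.leaf cJ3091) (BT.leaf cJ3092))) (BT.node 3094 (BT.node 3093 (BT.leaf cJ3093) (BT.leaf cJ3094)) (BT.node 3095 (BT.leaf cJ3095) (BT.leaf cJ3096)))) (BT.node 3100 (BT.node 3098 (BT.node 3097 (BT.leaf cJ3097) (BT.leaf cJ3098)) (BT.node 3099 (BT.leaf cJ3099) (BT.leaf cJ3100))) (BT.node 3102 (BT.node 3101 (BT.leaf cJ3101) (BT.leaf cJ3102)) (BT.leaf cJ3103)))) (BT.node 3110 (BT.node 3107 (BT.node 3105 (BT.node 3104 (BT.leaf cJ3104) (BT.leaf cJ3105)) (BT.node 3106 (BT.leaf cJ3106) (BT.leaf cJ3107))) (BT.node 3109 (BT.node 3108 (BT.leaf cJ3108) (BT.leaf cJ3109)) (BT.leaf cJ3110))) (BT.node 3114 (BT.node 3112 (BT.node 3111 (BT.leaf cJ3111) (BT.leaf cJ3112)) (BT.node 3113 (BT.leaf cJ3113) (BT.leaf cJ3114))) (BT.node 3116 (BT.node 3115 (BT.leaf cJ3115) (BT.leaf cJ3116)) (BT.leaf cJ3117))))) (BT.node 3131 (BT.node 3124 (BT.node 3121 (BT.node 3119 (BT.node 3118 (BT.leaf cJ3118) (BT.leaf cJ3119)) (BT.node 3120 (BT.leaf cJ3120) (BT.leaf cJ3121))) (BT.node 3123 (BT.node 3122 (BT.leaf cJ3122) (BT.leaf cJ3123)) (BT.leaf cJ3124))) (BT.node 3128 (BT.node 3126 (BT.node 3125 (BT.leaf cJ3125) (BT.leaf cJ3126)) (BT.node 3127 (BT.leaf cJ3127) (BT.leaf cJ3128))) (BT.node 3130 (BT.node 3129 (BT.leaf cJ3129) (BT.leaf cJ3130)) (BT.leaf cJ3131)))) (BT.node 3138 (BT.node 3135 (BT.node 3133 (BT.node 3132 (BT.leaf cJ3132) (BT.leaf cJ3133)) (BT.node 3134 (BT.leaf cJ3134) (BT.leaf cJ3135))) (BT.node 3137 (BT.node 3136 (BT.leaf cJ3136) (BT.leaf cJ3137)) (BT.leaf cJ3138))) (BT.node 3142 (BT.node 3140 (BT.node 3139 (BT.leaf cJ3139) (BT.leaf cJ3140)) (BT.node 3141 (BT.leaf cJ3141) (BT.leaf cJ3142))) (BT.node 3144 (BT.node 3143 (BT.leaf cJ3143) (BT.leaf cJ3144)) (BT.leaf cJ3145)))))) (BT.node 3174 (BT.node 3160 (BT.node 3153 (BT.node 3149 (BT.node 3147 (BT.node 3146 (BT.leaf cJ3146) (BT.leaf cJ3147)) (BT.node 3148 (BT.leaf cJ3148) (BT.leaf cJ3149))) (BT.node 3151 (BT.node 3150 (BT.leaf cJ3150) (BT.leaf cJ3151)) (BT.node 3152 (BT.leaf cJ3152) (BT.leaf cJ3153)))) (BT.node 3157 (BT.node 3155 (BT.node 3154 (BT.leaf cJ3154) (BT.leaf cJ3155)) (BT.node 3156 (BT.leaf cJ3156) (BT.leaf cJ3157))) (BT.node 3159 (BT.node 3158 (BT.leaf cJ3158) (BT.leaf cJ3159)) (BT.leaf cJ3160)))) (BT.node 3167 (BT.node 3164 (BT.node 3162 (BT.node 3161 (BT.leaf cJ3161) (BT.leaf cJ3162)) (BT.node 3163 (BT.leaf cJ3163) (BT.leaf cJ3164))) (BT.node 3166 (BT.node 3165 (BT.leaf cJ3165) (BT.leaf cJ3166)) (BT.leaf cJ3167))) (BT.node 3171 (BT.node 3169 (BT.node 3168 (BT.leaf cJ3168) (BT.leaf cJ3169)) (BT.node 3170 (BT.leaf cJ3170) (BT.leaf cJ3171))) (BT.node 3173 (BT.node 3172 (BT.leaf cJ3172) (BT.leaf cJ3173)) (BT.leaf cJ3174))))) (BT.node 3188 (BT.node 3181 (BT.node 3178 (BT.node 3176 (BT.node 3175 (BT.leaf cJ3175) (BT.leaf cJ3176)) (BT.node 3177 (BT.leaf cJ3177) (BT.leaf cJ3178))) (BT.node 3180 (BT.node 3179 (BT.leaf cJ3179) (BT.leaf cJ3180)) (BT.leaf cJ3181))) (BT.node 3185 (BT.node 3183 (BT.node 3182 (BT.leaf cJ3182) (BT.leaf cJ3183)) (BT.node 3184 (BT.leaf cJ3184) (BT.leaf cJ3185))) (BT.node 3187 (BT.node 3186 (BT.leaf cJ3186) (BT.leaf cJ3187)) (BT.leaf cJ3188)))) (BT.node 3195 (BT.node 3192 (BT.node 3190 (BT.node 3189 (BT.leaf cJ3189) (BT.leaf cJ3190)) (BT.node 3191 (BT.leaf cJ3191) (BT.leaf cJ3192))) (BT.node 3194 (BT.node 3193 (BT.leaf cJ3193) (BT.leaf cJ3194)) (BT.leaf cJ3195))) (BT.node 3199 (BT.node 3197 (BT.node 3196 (BT.leaf cJ3196) (BT.leaf cJ3197)) (BT.node 3198 (BT.leaf cJ3198) (BT.leaf cJ3199))) (BT.node 3201 (BT.node 3200 (BT.leaf cJ3200) (BT.leaf cJ3201)) (BT.leaf cJ3202))))))))) (BT.node 3431 (BT.node 3317 (BT.node 3260 (BT.node 3231 (BT.node 3217 (BT.node 3210 (BT.node 3206 (BT.node 3204 (BT.node 3203 (BT.leaf cJ3203) (BT.leaf cJ3204)) (BT.node 3205 (BT.leaf cJ3205) (BT.leaf cJ3206))) (BT.node 3208 (BT.node 3207 (BT.leaf cJ3207) (BT.leaf cJ3208)) (BT.node 3209 (BT.leaf cJ3209) (BT.leaf cJ3210)))) (BT.node 3214 (BT.node 3212 (BT.node 3211 (BT.leaf cJ3211) (BT.leaf cJ3212)) (BT.node 3213 (BT.leaf cJ3213) (BT.leaf cJ3214))) (BT.node 3216 (BT.node 3215 (BT.leaf cJ3215) (BT.leaf cJ3216)) (BT.leaf cJ3217)))) (BT.node 3224 (BT.node 3221 (BT.node 3219 (BT.node 3218 (BT.leaf cJ3218) (BT.leaf cJ3219)) (BT.node 3220 (BT.leaf cJ3220) (BT.leaf cJ3221))) (BT.node 3223 (BT.node 3222 (BT.leaf cJ3222) (BT.leaf cJ3223)) (BT.leaf cJ3224))) (BT.node 3228 (BT.node 3226 (BT.node 3225 (BT.leaf cJ3225) (BT.leaf cJ3226)) (BT.node 3227 (BT.leaf cJ3227) (BT.leaf cJ3228))) (BT.node 3230 (BT.node 3229 (BT.leaf cJ3229) (BT.leaf cJ3230)) (BT.leaf cJ3231))))) (BT.node 3246 (BT.node 3239 (BT.node 3235 (BT.node 3233 (BT.node 3232 (BT.leaf cJ3232) (BT.leaf cJ3233)) (BT.node 3234 (BT.leaf cJ3234) (BT.leaf cJ3235))) (BT.node 3237 (BT.node 3236 (BT.leaf cJ3236) (BT.leaf cJ3237)) (BT.node 3238 (BT.leaf cJ3238) (BT.leaf cJ3239)))) (BT.node 3243 (BT.node 3241 (BT.node 3240 (BT.leaf cJ3240) (BT.leaf cJ3241)) (BT.node 3242 (BT.leaf cJ3242) (BT.leaf cJ3243))) (BT.node 3245 (BT.node 3244 (BT.leaf cJ3244) (BT.leaf cJ3245)) (BT.leaf cJ3246)))) (BT.node 3253 (BT.node 3250 (BT.node 3248 (BT.node 3247 (BT.leaf cJ3247) (BT.leaf cJ3248)) (BT.node 3249 (BT.leaf cJ3249) (BT.leaf cJ3250))) (BT.node 3252 (BT.node 3251 (BT.leaf cJ3251) (BT.leaf cJ3252)) (BT.leaf cJ3253))) (BT.node 3257 (BT.node 3255 (BT.node 3254 (BT.leaf cJ3254) (BT.leaf cJ3255)) (BT.node 3256 (BT.leaf cJ3256) (BT.leaf cJ3257))) (BT.node 3259 (BT.node 3258 (BT.leaf cJ3258) (BT.leaf cJ3259)) (BT.leaf cJ3260)))))) (BT.node 3289 (BT.node 3275 (BT.node 3268 (BT.node 3264 (BT.node 3262 (BT.node 3261 (BT.leaf cJ3261) (BT.leaf cJ3262)) (BT.node 3263 (BT.leaf cJ3263) (BT.leaf cJ3264))) (BT.node 3266 (BT.node 3265 (BT.leaf cJ3265) (BT.leaf cJ3266)) (BT.node 3267 (BT.leaf cJ3267) (BT.leaf cJ3268)))) (BT.node 3272 (BT.node 3270 (BT.node 3269 (BT.leaf cJ3269) (BT.leaf cJ3270)) (BT.node 3271 (BT.leaf cJ3271) (BT.leaf cJ3272))) (BT.node 3274 (BT.node 3273 (BT.leaf cJ3273) (BT.leaf cJ3274)) (BT.leaf cJ3275)))) (BT.node 3282 (BT.node 3279 (BT.node 3277 (BT.node 3276 (BT.leaf cJ3276) (BT.leaf cJ3277)) (BT.node 3278 (BT.leaf cJ3278) (BT.leaf cJ3279))) (BT.node 3281 (BT.node 3280 (BT.leaf cJ3280) (BT.leaf cJ3281)) (BT.leaf cJ3282))) (BT.node 3286 (BT.node 3284 (BT.node 3283 (BT.leaf cJ3283) (BT.leaf cJ3284)) (BT.node 3285 (BT.leaf cJ3285) (BT.leaf cJ3286))) (BT.node 3288 (BT.node 3287 (BT.leaf cJ3287) (BT.leaf cJ3288)) (BT.leaf cJ3289))))) (BT.node 3303 (BT.node 3296 (BT.node 3293 (BT.node 3291 (BT.node 3290 (BT.leaf cJ3290) (BT.leaf cJ3291)) (BT.node 3292 (BT.leaf cJ3292) (BT.leaf cJ3293))) (BT.node 3295 (BT.node 3294 (BT.leaf cJ3294) (BT.leaf cJ3295)) (BT.leaf cJ3296))) (BT.node 3300 (BT.node 3298 (BT.node 3297 (BT.leaf cJ3297) (BT.leaf cJ3298)) (BT.node 3299 (BT.leaf cJ3299) (BT.leaf cJ3300))) (BT.node 3302 (BT.node 3301 (BT.leaf cJ3301) (BT.leaf cJ3302)) (BT.leaf cJ3303)))) (BT.node 3310 (BT.node 3307 (BT.node 3305 (BT.node 3304 (BT.leaf cJ3304) (BT.leaf cJ3305)) (BT.node 3306 (BT.leaf cJ3306) (BT.leaf cJ3307))) (BT.node 3309 (BT.node 3308 (BT.leaf cJ3308) (BT.leaf cJ3309)) (BT.leaf cJ3310))) (BT.node 3314 (BT.node 3312 (BT.node 3311 (BT.leaf cJ3311) (BT.leaf cJ3312)) (BT.node 3313 (BT.leaf cJ3313) (BT.leaf cJ3314))) (BT.node 3316 (BT.node 3315 (BT.leaf cJ3315) (BT.leaf cJ3316)) (BT.leaf cJ3317))))))) (BT.node 3374 (BT.node 3346 (BT.node 3332 (BT.node 3325 (BT.node 3321 (BT.node 3319 (BT.node 3318 (BT.leaf cJ3318) (BT.leaf cJ3319)) (BT.node 3320 (BT.leaf cJ3320) (BT.leaf cJ3321))) (BT.node 3323 (BT.node 3322 (BT.leaf cJ3322) (BT.leaf cJ3323)) (BT.node 3324 (BT.leaf cJ3324) (BT.leaf cJ3325)))) (BT.node 3329 (BT.node 3327 (BT.node 3326 (BT.leaf cJ3326) (BT.leaf cJ3327)) (BT.node 3328 (BT.leaf cJ3328) (BT.leaf cJ3329))) (BT.node 3331 (BT.node 3330 (BT.leaf cJ3330) (BT.leaf cJ3331)) (BT.leaf cJ3332)))) (BT.node 3339 (BT.node 3336 (BT.node 3334 (BT.node 3333 (BT.leaf cJ3333) (BT.leaf cJ3334)) (BT.node 3335 (BT.leaf cJ3335) (BT.leaf cJ3336))) (BT.node 3338 (BT.node 3337 (BT.leaf cJ3337) (BT.leaf cJ3338)) (BT.leaf cJ3339))) (BT.node 3343 (BT.node 3341 (BT.node 3340 (BT.leaf cJ3340) (BT.leaf cJ3341)) (BT.node 3342 (BT.leaf cJ3342) (BT.leaf cJ3343))) (BT.node 3345 (BT.node 3344 (BT.leaf cJ3344) (BT.leaf cJ3345)) (BT.leaf cJ3346))))) (BT.node 3360 (BT.node 3353 (BT.node 3350 (BT.node 3348 (BT.node 3347 (BT.leaf cJ3347) (BT.leaf cJ3348)) (BT.node 3349 (BT.leaf cJ3349) (BT.leaf cJ3350))) (BT.node 3352 (BT.node 3351 (BT.leaf cJ3351) (BT.leaf cJ3352)) (BT.leaf cJ3353))) (BT.node 3357 (BT.node 3355 (BT.node 3354 (BT.leaf cJ3354) (BT.leaf cJ3355)) (BT.node 3356 (BT.leaf cJ3356) (BT.leaf cJ3357))) (BT.node 3359 (BT.node 3358 (BT.leaf cJ3358) (BT.leaf cJ3359)) (BT.leaf cJ3360)))) (BT.node 3367 (BT.node 3364 (BT.node 3362 (BT.node 3361 (BT.leaf cJ3361) (BT.leaf cJ3362)) (BT.node 3363 (BT.leaf cJ3363) (BT.leaf cJ3364))) (BT.node 3366 (BT.node 3365 (BT.leaf cJ3365) (BT.leaf cJ3366)) (BT.leaf cJ3367))) (BT.node 3371 (BT.node 3369 (BT.node 3368 (BT.leaf cJ3368) (BT.leaf cJ3369)) (BT.node 3370 (BT.leaf cJ3370) (BT.leaf cJ3371))) (BT.node 3373 (BT.node 3372 (BT.leaf cJ3372) (BT.leaf cJ3373)) (BT.leaf cJ3374)))))) (BT.node 3403 (BT.node 3389 (BT.node 3382 (BT.node 3378 (BT.node 3376 (BT.node 3375 (BT.leaf cJ3375) (BT.leaf cJ3376)) (BT.node 3377 (BT.leaf cJ3377) (BT.leaf cJ3378))) (BT.node 3380 (BT.node 3379 (BT.leaf cJ3379) (BT.leaf cJ3380)) (BT.node 3381 (BT.leaf cJ3381) (BT.leaf cJ3382)))) (BT.node 3386 (BT.node 3384 (BT.node 3383 (BT.leaf cJ3383) (BT.leaf cJ3384)) (BT.node 3385 (BT.leaf cJ3385) (BT.leaf cJ3386))) (BT.node 3388 (BT.node 3387 (BT.leaf cJ3387) (BT.leaf cJ3388)) (BT.leaf cJ3389)))) (BT.node 3396 (BT.node 3393 (BT.node 3391 (BT.node 3390 (BT.leaf cJ3390) (BT.leaf cJ3391)) (BT.node 3392 (BT.leaf cJ3392) (BT.leaf cJ3393))) (BT.node 3395 (BT.node 3394 (BT.leaf cJ3394) (BT.leaf cJ3395)) (BT.leaf cJ3396))) (BT.node 3400 (BT.node 3398 (BT.node 3397 (BT.leaf cJ3397) (BT.leaf cJ3398)) (BT.node 3399 (BT.leaf cJ3399) (BT.leaf cJ3400))) (BT.node 3402 (BT.node 3401 (BT.leaf cJ3401) (BT.leaf cJ3402)) (BT.leaf cJ3403))))) (BT.node 3417 (BT.node 3410 (BT.node 3407 (BT.node 3405 (BT.node 3404 (BT.leaf cJ3404) (BT.leaf cJ3405)) (BT.node 3406 (BT.leaf cJ3406) (BT.leaf cJ3407))) (BT.node 3409 (BT.node 3408 (BT.leaf cJ3408) (BT.leaf cJ3409)) (BT.leaf cJ3410))) (BT.node 3414 (BT.node 3412 (BT.node 3411 (BT.leaf cJ3411) (BT.leaf cJ3412)) (BT.node 3413 (BT.leaf cJ3413) (BT.leaf cJ3414))) (BT.node 3416 (BT.node 3415 (BT.leaf cJ3415) (BT.leaf cJ3416)) (BT.leaf cJ3417)))) (BT.node 3424 (BT.node 3421 (BT.node 3419 (BT.node 3418 (BT.leaf cJ3418) (BT.leaf cJ3419)) (BT.node 3420 (BT.leaf cJ3420) (BT.leaf cJ3421))) (BT.node 3423 (BT.node 3422 (BT.leaf cJ3422) (BT.leaf cJ3423)) (BT.leaf cJ3424))) (BT.node 3428 (BT.node 3426 (BT.node 3425 (BT.leaf cJ3425) (BT.leaf cJ3426)) (BT.node 3427 (BT.leaf cJ3427) (BT.leaf cJ3428))) (BT.node 3430 (BT.node 3429 (BT.leaf cJ3429) (BT.leaf cJ3430)) (BT.leaf cJ3431)))))))) (BT.node 3545 (BT.node 3488 (BT.node 3460 (BT.node 3446 (BT.node 3439 (BT.node 3435 (BT.node 3433 (BT.node 3432 (BT.leaf cJ3432) (BT.leaf cJ3433)) (BT.node 3434 (BT.leaf cJ3434) (BT.leaf cJ3435))) (BT.node 3437 (BT.node 3436 (BT.leaf cJ3436) (BT.leaf cJ3437)) (BT.node 3438 (BT.leaf cJ3438) (BT.leaf cJ3439)))) (BT.node 3443 (BT.node 3441 (BT.node 3440 (BT.leaf cJ3440) (BT.leaf cJ3441)) (BT.node 3442 (BT.leaf cJ3442) (BT.leaf cJ3443))) (BT.node 3445 (BT.node 3444 (BT.leaf cJ3444) (BT.leaf cJ3445)) (BT.leaf cJ3446)))) (BT.node 3453 (BT.node 3450 (BT.node 3448 (BT.node 3447 (BT.leaf cJ3447) (BT.leaf cJ3448)) (BT.node 3449 (BT.leaf cJ3449) (BT.leaf cJ3450))) (BT.node 3452 (BT.node 3451 (BT.leaf cJ3451) (BT.leaf cJ3452)) (BT.leaf cJ3453))) (BT.node 3457 (BT.node 3455 (BT.node 3454 (BT.leaf cJ3454) (BT.leaf cJ3455)) (BT.node 3456 (BT.leaf cJ3456) (BT.leaf cJ3457))) (BT.node 3459 (BT.node 3458 (BT.leaf cJ3458) (BT.leaf cJ3459)) (BT.leaf cJ3460))))) (BT.node 3474 (BT.node 3467 (BT.node 3464 (BT.node 3462 (BT.node 3461 (BT.leaf cJ3461) (BT.leaf cJ3462)) (BT.node 3463 (BT.leaf cJ3463) (BT.leaf cJ3464))) (BT.node 3466 (BT.node 3465 (BT.leaf cJ3465) (BT.leaf cJ3466)) (BT.leaf cJ3467))) (BT.node 3471 (BT.node 3469 (BT.node 3468 (BT.leaf cJ3468) (BT.leaf cJ3469)) (BT.node 3470 (BT.leaf cJ3470) (BT.leaf cJ3471))) (BT.node 3473 (BT.node 3472 (BT.leaf cJ3472) (BT.leaf cJ3473)) (BT.leaf cJ3474)))) (BT.node 3481 (BT.node 3478 (BT.node 3476 (BT.node 3475 (BT.leaf cJ3475) (BT.leaf cJ3476)) (BT.node 3477 (BT.leaf cJ3477) (BT.leaf cJ3478))) (BT.node 3480 (BT.node 3479 (BT.leaf cJ3479) (BT.leaf cJ3480)) (BT.leaf cJ3481))) (BT.node 3485 (BT.node 3483 (BT.node 3482 (BT.leaf cJ3482) (BT.leaf cJ3483)) (BT.node 3484 (BT.leaf cJ3484) (BT.leaf cJ3485))) (BT.node 3487 (BT.node 3486 (BT.leaf cJ3486) (BT.leaf cJ3487)) (BT.leaf cJ3488)))))) (BT.node 3517 (BT.node 3503 (BT.node 3496 (BT.node 3492 (BT.node 3490 (BT.node 3489 (BT.leaf cJ3489) (BT.leaf cJ3490)) (BT.node 3491 (BT.leaf cJ3491) (BT.leaf cJ3492))) (BT.node 3494 (BT.node 3493 (BT.leaf cJ3493) (BT.leaf cJ3494)) (BT.node 3495 (BT.leaf cJ3495) (BT.leaf cJ3496)))) (BT.node 3500 (BT.node 3498 (BT.node 3497 (BT.leaf cJ3497) (BT.leaf cJ3498)) (BT.node 3499 (BT.leaf cJ3499) (BT.leaf cJ3500))) (BT.node 3502 (BT.node 3501 (BT.leaf cJ3501) (BT.leaf cJ3502)) (BT.leaf cJ3503)))) (BT.node 3510 (BT.node 3507 (BT.node 3505 (BT.node 3504 (BT.leaf cJ3504) (BT.leaf cJ3505)) (BT.node 3506 (BT.leaf cJ3506) (BT.leaf cJ3507))) (BT.node 3509 (BT.node 3508 (BT.leaf cJ3508) (BT.leaf cJ3509)) (BT.leaf cJ3510))) (BT.node 3514 (BT.node 3512 (BT.node 3511 (BT.leaf cJ3511) (BT.leaf cJ3512)) (BT.node 3513 (BT.leaf cJ3513) (BT.leaf cJ3514))) (BT.node 3516 (BT.node 3515 (BT.leaf cJ3515) (BT.leaf cJ3516)) (BT.leaf cJ3517))))) (BT.node 3531 (BT.node 3524 (BT.node 3521 (BT.node 3519 (BT.node 3518 (BT.leaf cJ3518) (BT.leaf cJ3519)) (BT.node 3520 (BT.leaf cJ3520) (BT.leaf cJ3521))) (BT.node 3523 (BT.node 3522 (BT.leaf cJ3522) (BT.leaf cJ3523)) (BT.leaf cJ3524))) (BT.node 3528 (BT.node 3526 (BT.node 3525 (BT.leaf cJ3525) (BT.leaf cJ3526)) (BT.node 3527 (BT.leaf cJ3527) (BT.leaf cJ3528))) (BT.node 3530 (BT.node 3529 (BT.leaf cJ3529) (BT.leaf cJ3530)) (BT.leaf cJ3531)))) (BT.node 3538 (BT.node 3535 (BT.node 3533 (BT.node 3532 (BT.leaf cJ3532) (BT.leaf cJ3533)) (BT.node 3534 (BT.leaf cJ3534) (BT.leaf cJ3535))) (BT.node 3537 (BT.node 3536 (BT.leaf cJ3536) (BT.leaf cJ3537)) (BT.leaf cJ3538))) (BT.node 3542 (BT.node 3540 (BT.node 3539 (BT.leaf cJ3539) (BT.leaf cJ3540)) (BT.node 3541 (BT.leaf cJ3541) (BT.leaf cJ3542))) (BT.node 3544 (BT.node 3543 (BT.leaf cJ3543) (BT.leaf cJ3544)) (BT.leaf cJ3545))))))) (BT.node 3602 (BT.node 3574 (BT.node 3560 (BT.node 3553 (BT.node 3549 (BT.node 3547 (BT.node 3546 (BT.leaf cJ3546) (BT.leaf cJ3547)) (BT.node 3548 (BT.leaf cJ3548) (BT.leaf cJ3549))) (BT.node 3551 (BT.node 3550 (BT.leaf cJ3550) (BT.leaf cJ3551)) (BT.node 3552 (BT.leaf cJ3552) (BT.leaf cJ3553)))) (BT.node 3557 (BT.node 3555 (BT.node 3554 (BT.leaf cJ3554) (BT.leaf cJ3555)) (BT.node 3556 (BT.leaf cJ3556) (BT.leaf cJ3557))) (BT.node 3559 (BT.node 3558 (BT.leaf cJ3558) (BT.leaf cJ3559)) (BT.leaf cJ3560)))) (BT.node 3567 (BT.node 3564 (BT.node 3562 (BT.node 3561 (BT.leaf cJ3561) (BT.leaf cJ3562)) (BT.node 3563 (BT.leaf cJ3563) (BT.leaf cJ3564))) (BT.node 3566 (BT.node 3565 (BT.leaf cJ3565) (BT.leaf cJ3566)) (BT.leaf cJ3567))) (BT.node 3571 (BT.node 3569 (BT.node 3568 (BT.leaf cJ3568) (BT.leaf cJ3569)) (BT.node 3570 (BT.leaf cJ3570) (BT.leaf cJ3571))) (BT.node 3573 (BT.node 3572 (BT.leaf cJ3572) (BT.leaf cJ3573)) (BT.leaf cJ3574))))) (BT.node 3588 (BT.node 3581 (BT.node 3578 (BT.node 3576 (BT.node 3575 (BT.leaf cJ3575) (BT.leaf cJ3576)) (BT.node 3577 (BT.leaf cJ3577) (BT.leaf cJ3578))) (BT.node 3580 (BT.node 3579 (BT.leaf cJ3579) (BT.leaf cJ3580)) (BT.leaf cJ3581))) (BT.node 3585 (BT.node 3583 (BT.node 3582 (BT.leaf cJ3582) (BT.leaf cJ3583)) (BT.node 3584 (BT.leaf cJ3584) (BT.leaf cJ3585))) (BT.node 3587 (BT.node 3586 (BT.leaf cJ3586) (BT.leaf cJ3587)) (BT.leaf cJ3588)))) (BT.node 3595 (BT.node 3592 (BT.node 3590 (BT.node 3589 (BT.leaf cJ3589) (BT.leaf cJ3590)) (BT.node 3591 (BT.leaf cJ3591) (BT.leaf cJ3592))) (BT.node 3594 (BT.node 3593 (BT.leaf cJ3593) (BT.leaf cJ3594)) (BT.leaf cJ3595))) (BT.node 3599 (BT.node 3597 (BT.node 3596 (BT.leaf cJ3596) (BT.leaf cJ3597)) (BT.node 3598 (BT.leaf cJ3598) (BT.leaf cJ3599))) (BT.node 3601 (BT.node 3600 (BT.leaf cJ3600) (BT.leaf cJ3601)) (BT.leaf cJ3602)))))) (BT.node 3631 (BT.node 3617 (BT.node 3610 (BT.node 3606 (BT.node 3604 (BT.node 3603 (BT.leaf cJ3603) (BT.leaf cJ3604)) (BT.node 3605 (BT.leaf cJ3605) (BT.leaf cJ3606))) (BT.node 3608 (BT.node 3607 (BT.leaf cJ3607) (BT.leaf cJ3608)) (BT.node 3609 (BT.leaf cJ3609) (BT.leaf cJ3610)))) (BT.node 3614 (BT.node 3612 (BT.node 3611 (BT.leaf cJ3611) (BT.leaf cJ3612)) (BT.node 3613 (BT.leaf cJ3613) (BT.leaf cJ3614))) (BT.node 3616 (BT.node 3615 (BT.leaf cJ3615) (BT.leaf cJ3616)) (BT.leaf cJ3617)))) (BT.node 3624 (BT.node 3621 (BT.node 3619 (BT.node 3618 (BT.leaf cJ3618) (BT.leaf cJ3619)) (BT.node 3620 (BT.leaf cJ3620) (BT.leaf cJ3621))) (BT.node 3623 (BT.node 3622 (BT.leaf cJ3622) (BT.leaf cJ3623)) (BT.leaf cJ3624))) (BT.node 3628 (BT.node 3626 (BT.node 3625 (BT.leaf cJ3625) (BT.leaf cJ3626)) (BT.node 3627 (BT.leaf cJ3627) (BT.leaf cJ3628))) (BT.node 3630 (BT.node 3629 (BT.leaf cJ3629) (BT.leaf cJ3630)) (BT.leaf cJ3631))))) (BT.node 3645 (BT.node 3638 (BT.node 3635 (BT.node 3633 (BT.node 3632 (BT.leaf cJ3632) (BT.leaf cJ3633)) (BT.node 3634 (BT.leaf cJ3634) (BT.leaf cJ3635))) (BT.node 3637 (BT.node 3636 (BT.leaf cJ3636) (BT.leaf cJ3637)) (BT.leaf cJ3638))) (BT.node 3642 (BT.node 3640 (BT.node 3639 (BT.leaf cJ3639) (BT.leaf cJ3640)) (BT.node 3641 (BT.leaf cJ3641) (BT.leaf cJ3642))) (BT.node 3644 (BT.node 3643 (BT.leaf cJ3643) (BT.leaf cJ3644)) (BT.leaf cJ3645)))) (BT.node 3652 (BT.node 3649 (BT.node 3647 (BT.node 3646 (BT.leaf cJ3646) (BT.leaf cJ3647)) (BT.node 3648 (BT.leaf cJ3648) (BT.leaf cJ3649))) (BT.node 3651 (BT.node 3650 (BT.leaf cJ3650) (BT.leaf cJ3651)) (BT.leaf cJ3652))) (BT.node 3656 (BT.node 3654 (BT.node 3653 (BT.leaf cJ3653) (BT.leaf cJ3654)) (BT.node 3655 (BT.leaf cJ3655) (BT.leaf cJ3656))) (BT.node 3658 (BT.node 3657 (BT.leaf cJ3657) (BT.leaf cJ3658)) (BT.leaf cJ3659))))))))))))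
/-- parent chunks -/
def parCT : BT ℕ := (BT.node 121 (BT.node 60 (BT.node 30 (BT.node 15 (BT.node 7 (BT.node 3 (BT.node 1 (BT.node 0 (BT.leaf cP0) (BT.leaf cP1)) (BT.node 2 (BT.leaf cP2) (BT.leaf cP3))) (BT.node 5 (BT.node 4 (BT.leaf cP4) (BT.leaf cP5)) (BT.node 6 (BT.leaf cP6) (BT.leaf cP7)))) (BT.node 11 (BT.node 9 (BT.node 8 (BT.leaf cP8) (BT.leaf cP9)) (BT.node 10 (BT.leaf cP10) (BT.leaf cP11))) (BT.node 13 (BT.node 12 (BT.leaf cP12) (BT.leaf cP13)) (BT.node 14 (BT.leaf cP14) (BT.leaf cP15))))) (BT.node 23 (BT.node 19 (BT.node 17 (BT.node 16 (BT.leaf cP16) (BT.leaf cP17)) (BT.node 18 (BT.leaf cP18) (BT.leaf cP19))) (BT.node 21 (BT.node 20 (BT.leaf cP20) (BT.leaf cP21)) (BT.node 22 (BT.leaf cP22) (BT.leaf cP23)))) (BT.node 27 (BT.node 25 (BT.node 24 (BT.leaf cP24) (BT.leaf cP25)) (BT.node 26 (BT.leaf cP26) (BT.leaf cP27))) (BT.node 29 (BT.node 28 (BT.leaf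 cP28) (BT.leaf cP29)) (BT.leaf cP30))))) (BT.node 45 (BT.node 38 (BT.node 34 (BT.node 32 (BT.node 31 (BT.leaf cP31) (BT.leaf cP32)) (BT.node 33 (BT.leaf cP33) (BT.leaf cP34))) (BT.node 36 (BT.node 35 (BT.leaf cP35) (BT.leaf cP36)) (BT.node 37 (BT.leaf cP37) (BT.leaf cP38)))) (BT.node 42 (BT.node 40 (BT.node 39 (BT.leaf cP39) (BT.leaf cP40)) (BT.node 41 (BT.leaf cP41) (BT.leaf cP42))) (BT.node 44 (BT.node 43 (BT.leaf cP43) (BT.leaf cP44)) (BT.leaf cP45)))) (BT.node 53 (BT.node 49 (BT.node 47 (BT.node 46 (BT.leaf cP46) (BT.leaf cP47)) (BT.node 48 (BT.leaf cP48) (BT.leaf cP49))) (BT.node 51 (BT.node 50 (BT.leaf cP50) (BT.leaf cP51)) (BT.node 52 (BT.leaf cP52) (BT.leaf cP53)))) (BT.node 57 (BT.node 55 (BT.node 54 (BT.leaf cP54) (BT.leaf cP55)) (BT.node 56 (BT.leaf cP56) (BT.leaf cP57))) (BT.node 59 (BT.node 58 (BT.leaf cP58) (BT.leaf cP59)) (BT.leaf cP60))))))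 (BT.node 91 (BT.node 76 (BT.node 68 (BT.node 64 (BT.node 62 (BT.node 61 (BT.leaf cP61) (BT.leaf cP62)) (BT.node 63 (BT.leaf cP63) (BT.leaf cP64))) (BT.node 66 (BT.node 65 (BT.leaf cP65) (BT.leaf cP66)) (BT.node 67 (BT.leaf cP67) (BT.leaf cP68)))) (BT.node 72 (BT.node 70 (BT.node 69 (BT.leaf cP69) (BT.leaf cP70)) (BT.node 71 (BT.leaf cP71) (BT.leaf cP72))) (BT.node 74 (BT.node 73 (BT.leaf cP73) (BT.leaf cP74)) (BT.node 75 (BT.leaf cP75) (BT.leaf cP76))))) (BT.node 84 (BT.node 80 (BT.node 78 (BT.node 77 (BT.leaf cP77) (BT.leaf cP78)) (BT.node 79 (BT.leaf cP79) (BT.leaf cP80))) (BT.node 82 (BT.node 81 (BT.leaf cP81) (BT.leaf cP82)) (BT.node 83 (BT.leaf cP83) (BT.leaf cP84)))) (BT.node 88 (BT.node 86 (BT.node 85 (BT.leaf cP85) (BT.leaf cP86)) (BT.node 87 (BT.leaf cP87) (BT.leaf cP88))) (BT.node 90 (BT.node 89 (BT.leaf cP89) (BT.leaf cP90)) (BT.leaf cP91)))))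 (BT.node 106 (BT.node 99 (BT.node 95 (BT.node 93 (BT.node 92 (BT.leaf cP92) (BT.leaf cP93)) (BT.node 94 (BT.leaf cP94) (BT.leaf cP95))) (BT.node 97 (BT.node 96 (BT.leaf cP96) (BT.leaf cP97)) (BT.node 98 (BT.leaf cP98) (BT.leaf cP99)))) (BT.node 103 (BT.node 101 (BT.node 100 (BT.leaf cP100) (BT.leaf cP101)) (BT.node 102 (BT.leaf cP102) (BT.leaf cP103))) (BT.node 105 (BT.node 104 (BT.leaf cP104) (BT.leaf cP105)) (BT.leaf cP106)))) (BT.node 114 (BT.node 110 (BT.node 108 (BT.node 107 (BT.leaf cP107) (BT.leaf cP108)) (BT.node 109 (BT.leaf cP109) (BT.leaf cP110))) (BT.node 112 (BT.node 111 (BT.leaf cP111) (BT.leaf cP112)) (BT.node 113 (BT.leaf cP113) (BT.leaf cP114)))) (BT.node 118 (BT.node 116 (BT.node 115 (BT.leaf cP115) (BT.leaf cP116)) (BT.node 117 (BT.leaf cP117) (BT.leaf cP118))) (BT.node 120 (BT.node 119 (BT.leaf cP119) (BT.leaf cP120)) (BT.leaf cP121)))))))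 (BT.node 182 (BT.node 152 (BT.node 137 (BT.node 129 (BT.node 125 (BT.node 123 (BT.node 122 (BT.leaf cP122) (BT.leaf cP123)) (BT.node 124 (BT.leaf cP124) (BT.leaf cP125))) (BT.node 127 (BT.node 126 (BT.leaf cP126) (BT.leaf cP127)) (BT.node 128 (BT.leaf cP128) (BT.leaf cP129)))) (BT.node 133 (BT.node 131 (BT.node 130 (BT.leaf cP130) (BT.leaf cP131)) (BT.node 132 (BT.leaf cP132) (BT.leaf cP133))) (BT.node 135 (BT.node 134 (BT.leaf cP134) (BT.leaf cP135)) (BT.node 136 (BT.leaf cP136) (BT.leaf cP137))))) (BT.node 145 (BT.node 141 (BT.node 139 (BT.node 138 (BT.leaf cP138) (BT.leaf cP139)) (BT.node 140 (BT.leaf cP140) (BT.leaf cP141))) (BT.node 143 (BT.node 142 (BT.leaf cP142) (BT.leaf cP143)) (BT.node 144 (BT.leaf cP144) (BT.leaf cP145)))) (BT.node 149 (BT.node 147 (BT.node 146 (BT.leaf cP146) (BT.leaf cP147)) (BT.node 148 (BT.leaf cP148) (BT.leaf cP149))) (BT.node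 151 (BT.node 150 (BT.leaf cP150) (BT.leaf cP151)) (BT.leaf cP152))))) (BT.node 167 (BT.node 160 (BT.node 156 (BT.node 154 (BT.node 153 (BT.leaf cP153) (BT.leaf cP154)) (BT.node 155 (BT.leaf cP155) (BT.leaf cP156))) (BT.node 158 (BT.node 157 (BT.leaf cP157) (BT.leaf cP158)) (BT.node 159 (BT.leaf cP159) (BT.leaf cP160)))) (BT.node 164 (BT.node 162 (BT.node 161 (BT.leaf cP161) (BT.leaf cP162)) (BT.node 163 (BT.leaf cP163) (BT.leaf cP164))) (BT.node 166 (BT.node 165 (BT.leaf cP165) (BT.leaf cP166)) (BT.leaf cP167)))) (BT.node 175 (BT.node 171 (BT.node 169 (BT.node 168 (BT.leaf cP168) (BT.leaf cP169)) (BT.node 170 (BT.leaf cP170) (BT.leaf cP171))) (BT.node 173 (BT.node 172 (BT.leaf cP172) (BT.leaf cP173)) (BT.node 174 (BT.leaf cP174) (BT.leaf cP175)))) (BT.node 179 (BT.node 177 (BT.node 176 (BT.leaf cP176) (BT.leaf cP177)) (BT.node 178 (BT.leaf cP178) (BT.leaf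 cP179))) (BT.node 181 (BT.node 180 (BT.leaf cP180) (BT.leaf cP181)) (BT.leaf cP182)))))) (BT.node 213 (BT.node 198 (BT.node 190 (BT.node 186 (BT.node 184 (BT.node 183 (BT.leaf cP183) (BT.leaf cP184)) (BT.node 185 (BT.leaf cP185) (BT.leaf cP186))) (BT.node 188 (BT.node 187 (BT.leaf cP187) (BT.leaf cP188)) (BT.node 189 (BT.leaf cP189) (BT.leaf cP190)))) (BT.node 194 (BT.node 192 (BT.node 191 (BT.leaf cP191) (BT.leaf cP192)) (BT.node 193 (BT.leaf cP193) (BT.leaf cP194))) (BT.node 196 (BT.node 195 (BT.leaf cP195) (BT.leaf cP196)) (BT.node 197 (BT.leaf cP197) (BT.leaf cP198))))) (BT.node 206 (BT.node 202 (BT.node 200 (BT.node 199 (BT.leaf cP199) (BT.leaf cP200)) (BT.node 201 (BT.leaf cP201) (BT.leaf cP202))) (BT.node 204 (BT.node 203 (BT.leaf cP203) (BT.leaf cP204)) (BT.node 205 (BT.leaf cP205) (BT.leaf cP206)))) (BT.node 210 (BT.node 208 (BT.node 207 (BT.leaf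 cP207) (BT.leaf cP208)) (BT.node 209 (BT.leaf cP209) (BT.leaf cP210))) (BT.node 212 (BT.node 211 (BT.leaf cP211) (BT.leaf cP212)) (BT.leaf cP213))))) (BT.node 228 (BT.node 221 (BT.node 217 (BT.node 215 (BT.node 214 (BT.leaf cP214) (BT.leaf cP215)) (BT.node 216 (BT.leaf cP216) (BT.leaf cP217))) (BT.node 219 (BT.node 218 (BT.leaf cP218) (BT.leaf cP219)) (BT.node 220 (BT.leaf cP220) (BT.leaf cP221)))) (BT.node 225 (BT.node 223 (BT.node 222 (BT.leaf cP222) (BT.leaf cP223)) (BT.node 224 (BT.leaf cP224) (BT.leaf cP225))) (BT.node 227 (BT.node 226 (BT.leaf cP226) (BT.leaf cP227)) (BT.leaf cP228)))) (BT.node 236 (BT.node 232 (BT.node 230 (BT.node 229 (BT.leaf cP229) (BT.leaf cP230)) (BT.node 231 (BT.leaf cP231) (BT.leaf cP232))) (BT.node 234 (BT.node 233 (BT.leaf cP233) (BT.leaf cP234)) (BT.node 235 (BT.leaf cP235) (BT.leaf cP236)))) (BT.node 240 (BT.node 238 (BT.node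 237 (BT.leaf cP237) (BT.leaf cP238)) (BT.node 239 (BT.leaf cP239) (BT.leaf cP240))) (BT.node 242 (BT.node 241 (BT.leaf cP241) (BT.leaf cP242)) (BT.leaf cP243))))))))
/-- the certificate -/
def data : Data where
  k := 14
  N := 124650
  W := 37
  MW := 137438953472
  B := 131072
  CH := 512
  NCH := 244
  colE := colET
  JW := 64
  MJ := 18446744073709551616
  A := 1048576
  colJ := colJT
  PW := 27
  MP := 134217728
  parC := parCT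
  inv := (BT.node 7 (BT.node 3 (BT.node 1 (BT.node 0 (BT.leaf 1) (BT.leaf 0)) (BT.node 2 (BT.leaf 3) (BT.leaf 2))) (BT.node 5 (BT.node 4 (BT.leaf 5) (BT.leaf 4)) (BT.node 6 (BT.leaf 7) (BT.leaf 6)))) (BT.node 11 (BT.node 9 (BT.node 8 (BT.leaf 9) (BT.leaf 8)) (BT.node 10 (BT.leaf 11) (BT.leaf 10))) (BT.node 13 (BT.node 12 (BT.leaf 13) (BT.leaf 12)) (BT.leaf 14))))
  rel := relT
  sub := subT
  fuel := 64

end Cfsg.Agent.Lib.Helper3.Cover.QF22Data
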