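import Cfsg.Agent.Lib.Helper3.Cover.EF22Def
set_option autoImplicit false

namespace Cfsg.Agent.Lib.Helper3.Cover.QF22Def

open Cfsg.Agent.Lib.Helper3.Cover.EF22Def

/-- the relators of a group in which the relators of `PSU₆(2)` (but one) and some commutation relators of `Fi₂₂` hold,
and the other relators of `Fi₂₂` are central -/
def relWords : List (List (Gen × Bool)) := [
  [(.a, true), (.a, true)],
  [(.b, true), (.b, true), (.b, true), (.b, true), (.b, true), (.b, true)],
  [(.a, true), (.b, true), (.a, true), (.b, true), (.a, true), (.b, true), (.a, true), (.b, true), (.a, true), (.b, true), (.a, true), (.b, true), (.a, true), (.b, true)],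
  [(.b, false), (.b, false), (.a, true), (.b, false), (.b, false), (.a, true), (.b, false), (.b, false), (.a, true), (.b, true), (.b, true), (.a, true), (.b, true), (.b, true), (.a, true), (.b, true), (.b, true), (.a, true)],
  [(.b, false), (.b, false), (.a, true), (.b, true), (.a, true), (.b, false), (.b, false), (.a, true), (.b, true), (.a, true), (.b, false), (.b, false), (.a, true), (.b, true), (.a, true), (.b, false), (.a, true), (.b, false), (.a, true), (.b, true), (.a, true)],
  [(.c, true), (.c, true)],
  [(.b, false), (.b, false), (.a, true), (.c, true), (.b, true), (.b, true), (.c, true), (.a, true)],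
  [(.b, false), (.a, true), (.b, false), (.a, true), (.c, true), (.b, true), (.a, true), (.b, false), (.a, true), (.c, true), (.b, true), (.a, true), (.b, true), (.a, true), (.c, true)],
  [(.b, false), (.b, false), (.a, true), (.b, false), (.c, true), (.b, false), (.c, true), (.b, false), (.c, true), (.b, false), (.c, true), (.b, false), (.c, true), (.b, false), (.c, true), (.b, true), (.c, true), (.a, true)],
  [(.b, false), (.b, false), (.a, true), (.b, true), (.a, true), (.c, true), (.b, false), (.a, true), (.c, true), (.b, true), (.a, true), (.c, true), (.b, true), (.c, true), (.b, false), (.b, false), (.a, true), (.b, true), (.b, true), (.a, true)],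
  [(.t, true), (.t, true)],
  [(.t, true), (.a, true), (.t, true), (.a, false)],
  [(.t, true), (.b, true), (.t, true), (.c, false), (.b, false), (.b, false), (.b, false), (.a, false), (.b, false), (.a, false), (.b, false), (.a, false), (.b, true), (.c, false), (.a, false), (.c, false), (.b, true), (.c, false)],
  [(.t, true), (.c, true), (.t, true), (.c, false)],
  [(.d, true), (.d, true)],
  [(.d, true), (.b, false), (.b, false), (.c, true), (.b, true), (.b, true), (.d, false), (.b, false), (.b, false), (.c, false), (.b, true), (.b, true)],
  [(.d, true), (.b, true), (.c, true), (.b, false), (.a, true), (.b, false), (.c, true), (.b, false), (.c, true), (.b, false), (.a, true), (.c, true), (.d, false), (.c, false), (.a, false), (.b, true), (.c, false), (.b, true), (.c, false), (.b, true), (.a, false), (.b, true), (.c, false), (.b, false)],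
  [(.t, true), (.d, true), (.t, true), (.d, true), (.t, true), (.d, true)],
  [(.b, false), (.b, false), (.b, false), (.c, true), (.b, true), (.b, true), (.d, true), (.a, true), (.b, true), (.c, true), (.b, true), (.a, true), (.d, true), (.t, true), (.c, true), (.d, true), (.c, true), (.a, true), (.d, true), (.b, true), (.a, true), (.b, false), (.c, true), (.b, false), (.c, true)],
  [(.b, false), (.b, false), (.a, true), (.b, true), (.c, true), (.a, true), (.d, true), (.a, true), (.c, true), (.b, false), (.t, true), (.a, true), (.b, true), (.b, true), (.d, true), (.t, true)],
  [(.z, true), (.a, true), (.z, false), (.a, false)],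
  [(.z, true), (.b, true), (.z, false), (.b, false)],
  [(.z, true), (.c, true), (.z, false), (.c, false)],
  [(.z, true), (.t, true), (.z, false), (.t, false)],
  [(.z, true), (.d, true), (.z, false), (.d, false)],
  [(.f, true), (.a, true), (.f, false), (.a, false)],
  [(.f, true), (.b, true), (.f, false), (.b, false)],
  [(.f, true), (.c, true), (.f, false), (.c, false)],
  [(.f, true), (.t, true), (.f, false), (.t, false)],
  [(.b, false), (.b, false), (.a, true), (.b, true), (.b, true), (.d, true), (.c, true), (.a, true), (.d, true), (.c, true), (.d, true), (.t, true), (.d, true), (.a, true), (.d, true), (.t, true), (.c, true), (.d, true), (.z, false), (.a, true), (.z, true), (.d, false), (.c, false), (.t, false), (.d, false), (.a, false), (.d, false), (.t, false), (.d, false), (.c, false), (.d, false), (.a, false), (.c, false), (.d, false), (.b, false), (.b, false), (.a, false), (.b, true), (.b, true), (.a, false)],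
  [(.b, false), (.b, false), (.a, true), (.b, true), (.b, true), (.d, true), (.c, true), (.a, true), (.d, true), (.c, true), (.d, true), (.t, true), (.d, true), (.a, true), (.d, true), (.t, true), (.c, true), (.d, true), (.z, false), (.b, true), (.z, true), (.d, false), (.c, false), (.t, false), (.d, false), (.a, false), (.d, false), (.t, false), (.d, false), (.c, false), (.d, false), (.a, false), (.c, false), (.d, false), (.b, false), (.b, false), (.a, false), (.b, true), (.b, true), (.b, false)],
  [(.b, false), (.b, false), (.a, true), (.b, true), (.b, true), (.d, true), (.c, true), (.a, true), (.d, true), (.c, true), (.d, true), (.t, true), (.d, true), (.a, true), (.d, true), (.t, true), (.c, true), (.d, true), (.z, false), (.c, true), (.z, true), (.d, false), (.c, false), (.t, false), (.d, false), (.a, false), (.d, false), (.t, false), (.d, false), (.c, false), (.d, false), (.a, false), (.c, false), (.d, false), (.b, false), (.b, false), (.a, false), (.b, true), (.b, true), (.c, false)],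
  [(.b, false), (.b, false), (.a, true), (.b, true), (.b, true), (.d, true), (.c, true), (.a, true), (.d, true), (.c, true), (.d, true), (.t, true), (.d, true), (.a, true), (.d, true), (.t, true), (.c, true), (.d, true), (.z, false), (.t, true), (.z, true), (.d, false), (.c, false), (.t, false), (.d, false), (.a, false), (.d, false), (.t, false), (.d, false), (.c, false), (.d, false), (.a, false), (.c, false), (.d, false), (.b, false), (.b, false), (.a, false), (.b, true), (.b, true), (.t, false)],
  [(.b, false), (.b, false), (.a, true), (.b, true), (.b, true), (.d, true), (.c, true), (.a, true), (.d, true), (.c, true), (.d, true), (.t, true), (.d, true), (.a, true), (.d, true), (.t, true), (.c, true), (.d, true), (.z, false), (.d, true), (.z, true), (.d, false), (.c, false), (.t, false), (.d, false), (.a, false), (.d, false), (.t, false), (.d, false), (.c, false), (.d, false), (.a, false), (.c, false), (.d, false), (.b, false), (.b, false), (.a, false), (.b, true), (.b, true), (.d, false)],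
  [(.b, false), (.b, false), (.a, true), (.b, true), (.b, true), (.d, true), (.c, true), (.a, true), (.d, true), (.c, true), (.d, true), (.t, true), (.d, true), (.a, true), (.d, true), (.t, true), (.c, true), (.d, true), (.z, false), (.f, true), (.z, true), (.d, false), (.c, false), (.t, false), (.d, false), (.a, false), (.d, false), (.t, false), (.d, false), (.c, false), (.d, false), (.a, false), (.c, false), (.d, false), (.b, false), (.b, false), (.a, false), (.b, true), (.b, true), (.f, false)],
  [(.b, false), (.b, false), (.a, true), (.b, true), (.b, true), (.d, true), (.c, true), (.a, true), (.d, true), (.c, true), (.d, true), (.t, true), (.d, true), (.a, true), (.d, true), (.t, true), (.c, true), (.d, true), (.z, false), (.z, true), (.z, true), (.d, false), (.c, false), (.t, false), (.d, false), (.a, false), (.d, false), (.t, false), (.d, false), (.c, false), (.d, false), (.a, false), (.c, false), (.d, false), (.b, false), (.b, false), (.a, false), (.b, true), (.b, true), (.z, false)],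
  [(.z, true), (.z, true), (.a, true), (.z, false), (.z, false), (.a, false)],
  [(.z, true), (.z, true), (.b, true), (.z, false), (.z, false), (.b, false)],
  [(.z, true), (.z, true), (.c, true), (.z, false), (.z, false), (.c, false)],
  [(.z, true), (.z, true), (.t, true), (.z, false), (.z, false), (.t, false)],
  [(.z, true), (.z, true), (.d, true), (.z, false), (.z, false), (.d, false)],
  [(.z, true), (.z, true), (.f, true), (.z, false), (.z, false), (.f, false)],
  [(.z, true), (.z, true), (.z, true), (.z, false), (.z, false), (.z, false)],
  [(.f, true), (.f, true), (.a, true), (.f, false), (.f, false), (.a, false)],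
  [(.f, true), (.f, true), (.b, true), (.f, false), (.f, false), (.b, false)],
  [(.f, true), (.f, true), (.c, true), (.f, false), (.f, false), (.c, false)],
  [(.f, true), (.f, true), (.t, true), (.f, false), (.f, false), (.t, false)],
  [(.f, true), (.f, true), (.d, true), (.f, false), (.f, false), (.d, false)],
  [(.f, true), (.f, true), (.f, true), (.f, false), (.f, false), (.f, false)],
  [(.f, true), (.f, true), (.z, true), (.f, false), (.f, false), (.z, false)],
  [(.f, true), (.d, true), (.f, true), (.d, true), (.f, true), (.d, true), (.a, true), (.d, false), (.f, false), (.d, false), (.f, false), (.d, false), (.f, false), (.a, false)],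
  [(.f, true), (.d, true), (.f, true), (.d, true), (.f, true), (.d, true), (.b, true), (.d, false), (.f, false), (.d, false), (.f, false), (.d, false), (.f, false), (.b, false)],
  [(.f, true), (.d, true), (.f, true), (.d, true), (.f, true), (.d, true), (.c, true), (.d, false), (.f, false), (.d, false), (.f, false), (.d, false), (.f, false), (.c, false)],
  [(.f, true), (.d, true), (.f, true), (.d, true), (.f, true), (.d, true), (.t, true), (.d, false), (.f, false), (.d, false), (.f, false), (.d, false), (.f, false), (.t, false)],
  [(.f, true), (.d, true), (.f, true), (.d, true), (.f, true), (.d, true), (.d, true), (.d, false), (.f, false), (.d, false), (.f, false), (.d, false), (.f, false), (.d, false)],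
  [(.f, true), (.d, true), (.f, true), (.d, true), (.f, true), (.d, true), (.f, true), (.d, false), (.f, false), (.d, false), (.f, false), (.d, false), (.f, false), (.f, false)],
  [(.f, true), (.d, true), (.f, true), (.d, true), (.f, true), (.d, true), (.z, true), (.d, false), (.f, false), (.d, false), (.f, false), (.d, false), (.f, false), (.z, false)],
  [(.f, true), (.z, true), (.f, true), (.z, true), (.f, true), (.z, true), (.a, true), (.z, false), (.f, false), (.z, false), (.f, false), (.z, false), (.f, false), (.a, false)],
  [(.f, true), (.z, true), (.f, true), (.z, true), (.f, true), (.z, true), (.b, true), (.z, false), (.f, false), (.z, false), (.f, false), (.z, false), (.f, false), (.b, false)],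
  [(.f, true), (.z, true), (.f, true), (.z, true), (.f, true), (.z, true), (.c, true), (.z, false), (.f, false), (.z, false), (.f, false), (.z, false), (.f, false), (.c, false)],
  [(.f, true), (.z, true), (.f, true), (.z, true), (.f, true), (.z, true), (.t, true), (.z, false), (.f, false), (.z, false), (.f, false), (.z, false), (.f, false), (.t, false)],
  [(.f, true), (.z, true), (.f, true), (.z, true), (.f, true), (.z, true), (.d, true), (.z, false), (.f, false), (.z, false), (.f, false), (.z, false), (.f, false), (.d, false)],
  [(.f, true), (.z, true), (.f, true), (.z, true), (.f, true), (.z, true), (.f, true), (.z, false), (.f, false), (.z, false), (.f, false), (.z, false), (.f, false), (.f, false)],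
  [(.f, true), (.z, true), (.f, true), (.z, true), (.f, true), (.z, true), (.z, true), (.z, false), (.f, false), (.z, false), (.f, false), (.z, false), (.f, false), (.z, false)],
  [(.f, true), (.d, true), (.f, true), (.d, true), (.f, true), (.d, true), (.f, false), (.f, false), (.d, false), (.d, false), (.b, false), (.b, false), (.b, false), (.c, true), (.b, true), (.b, true), (.d, true), (.a, true), (.b, true), (.c, true), (.b, true), (.a, true), (.d, true), (.t, true), (.c, true), (.d, true), (.c, true), (.a, true), (.d, true), (.b, true), (.a, true), (.b, false), (.c, true), (.b, false), (.c, true), (.a, false), (.a, false), (.a, false), (.a, false), (.c, false), (.c, false), (.c, false), (.c, false), (.c, false), (.c, false), (.d, false), (.d, false), (.d, false), (.d, false), (.d, true), (.d, true), (.t, true), (.t, true), (.d, false), (.t, false), (.d, false), (.t, false), (.d, false), (.t, false)],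
  [(.f, true), (.z, true), (.f, true), (.z, true), (.f, true), (.z, true), (.z, false), (.z, false), (.f, false), (.f, false), (.t, true), (.d, true), (.t, true), (.d, true), (.t, true), (.d, true), (.t, false), (.t, false), (.d, false), (.d, false), (.d, true), (.d, true), (.d, true), (.d, true), (.c, true), (.c, true), (.c, true), (.c, true), (.c, true), (.c, true), (.a, true), (.a, true), (.a, true), (.a, true), (.c, false), (.b, true), (.c, false), (.b, true), (.a, false), (.b, false), (.d, false), (.a, false), (.c, false), (.d, false), (.c, false), (.t, false), (.d, false), (.a, false), (.b, false), (.c, false), (.b, false), (.a, false), (.d, false), (.b, false), (.b, false), (.c, false), (.b, true), (.b, true), (.b, true), (.d, true), (.d, true), (.f, true), (.f, true), (.d, false), (.f, false), (.d, false), (.f, false), (.d, false), (.f, false)] ]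

end Cfsg.Agent.Lib.Helper3.Cover.QF22Def
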