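import Cfsg.Agent.Lib.Helper3.Cover.QF22Data
set_option autoImplicit false
set_option maxRecDepth 100000
set_option maxHeartbeats 0

namespace Cfsg.Agent.Lib.Helper3.Cover.QF22U11
open Cfsg.Agent.Lib.Helper28.TC2Upper Cfsg.Agent.Lib.Helper3.Cover.QF22Data

theorem chk55 : data.checkRange 45012 1089 = true := by decide +kernel
theorem chk56 : data.checkRange 46101 1144 = true := by decide +kernel
theorem chk57 : data.checkRange 47245 1232 = true := by decide +kernel
theorem chk58 : data.checkRange 48477 1254 = true := by decide +kernel
theorem chk59 : data.checkRange 49731 1215 = true := by decide +kernel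

end Cfsg.Agent.Lib.Helper3.Cover.QF22U11
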