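import Cfsg.Agent.Lib.Helper3.Cover.QF22Data
set_option autoImplicit false
set_option maxRecDepth 100000
set_option maxHeartbeats 0

namespace Cfsg.Agent.Lib.Helper3.Cover.QF22U12
open Cfsg.Agent.Lib.Helper28.TC2Upper Cfsg.Agent.Lib.Helper3.Cover.QF22Data

theorem chk60 : data.checkRange 50946 1318 = true := by decide +kernel
theorem chk61 : data.checkRange 52264 1292 = true := by decide +kernel
theorem chk62 : data.checkRange 53556 1342 = true := by decide +kernel
theorem chk63 : data.checkRange 54898 1382 = true := by decide +kernel
theorem chk64 : data.checkRange 56280 1334 = true := by decide +kernel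

end Cfsg.Agent.Lib.Helper3.Cover.QF22U12
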