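import Cfsg.Agent.Lib.Helper3.Cover.QF22Data
set_option autoImplicit false
set_option maxRecDepth 100000
set_option maxHeartbeats 0

namespace Cfsg.Agent.Lib.Helper3.Cover.QF22U14
open Cfsg.Agent.Lib.Helper28.TC2Upper Cfsg.Agent.Lib.Helper3.Cover.QF22Data

theorem chk70 : data.checkRange 64245 1294 = true := by decide +kernel
theorem chk71 : data.checkRange 65539 1330 = true := by decide +kernel
theorem chk72 : data.checkRange 66869 1297 = true := by decide +kernel
theorem chk73 : data.checkRange 68166 1316 = true := by decide +kernel
theorem chk74 : data.checkRange 69482 1366 = true := by decide +kernel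

end Cfsg.Agent.Lib.Helper3.Cover.QF22U14
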