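import Cfsg.Agent.Lib.Helper3.Cover.QF22Data
set_option autoImplicit false
set_option maxRecDepth 100000
set_option maxHeartbeats 0

namespace Cfsg.Agent.Lib.Helper3.Cover.QF22U18
open Cfsg.Agent.Lib.Helper28.TC2Upper Cfsg.Agent.Lib.Helper3.Cover.QF22Data

theorem chk90 : data.checkRange 90098 1335 = true := by decide +kernel
theorem chk91 : data.checkRange 91433 1472 = true := by decide +kernel
theorem chk92 : data.checkRange 92905 1624 = true := by decide +kernel
theorem chk93 : data.checkRange 94529 1674 = true := by decide +kernel
theorem chk94 : data.checkRange 96203 1672 = true := by decide +kernel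

end Cfsg.Agent.Lib.Helper3.Cover.QF22U18
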