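import Cfsg.Agent.Lib.Helper3.Cover.QF22Data
set_option autoImplicit false
set_option maxRecDepth 100000
set_option maxHeartbeats 0

namespace Cfsg.Agent.Lib.Helper3.Cover.QF22U20
open Cfsg.Agent.Lib.Helper28.TC2Upper Cfsg.Agent.Lib.Helper3.Cover.QF22Data

theorem chk100 : data.checkRange 106287 1627 = true := by decide +kernel
theorem chk101 : data.checkRange 107914 1737 = true := by decide +kernel
theorem chk102 : data.checkRange 109651 1635 = true := by decide +kernel
theorem chk103 : data.checkRange 111286 1692 = true := by decide +kernel
theorem chk104 : data.checkRange 112978 1541 = true := by decide +kernel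

end Cfsg.Agent.Lib.Helper3.Cover.QF22U20
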