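import Cfsg.Agent.Lib.Helper3.Cover.QF22Data
set_option autoImplicit false
set_option maxRecDepth 100000
set_option maxHeartbeats 0

namespace Cfsg.Agent.Lib.Helper3.Cover.QF22U21
open Cfsg.Agent.Lib.Helper28.TC2Upper Cfsg.Agent.Lib.Helper3.Cover.QF22Data

theorem chk105 : data.checkRange 114519 1324 = true := by decide +kernel
theorem chk106 : data.checkRange 115843 1476 = true := by decide +kernel
theorem chk107 : data.checkRange 117319 1734 = true := by decide +kernel
theorem chk108 : data.checkRange 119053 1725 = true := by decide +kernel
theorem chk109 : data.checkRange 120778 1633 = true := by decide +kernel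

end Cfsg.Agent.Lib.Helper3.Cover.QF22U21
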