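import Cfsg.Agent.Lib.Helper3.Cover.QF22Data
set_option autoImplicit false
set_option maxRecDepth 100000
set_option maxHeartbeats 0

namespace Cfsg.Agent.Lib.Helper3.Cover.QF22U4
open Cfsg.Agent.Lib.Helper28.TC2Upper Cfsg.Agent.Lib.Helper3.Cover.QF22Data

theorem chk20 : data.checkRange 12135 615 = true := by decide +kernel
theorem chk21 : data.checkRange 12750 706 = true := by decide +kernel
theorem chk22 : data.checkRange 13456 732 = true := by decide +kernel
theorem chk23 : data.checkRange 14188 739 = true := by decide +kernel
theorem chk24 : data.checkRange 14927 776 = true := by decide +kernel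

end Cfsg.Agent.Lib.Helper3.Cover.QF22U4
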