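import Cfsg.Agent.Lib.Helper28.TC2GlueOrb
import Cfsg.Agent.Lib.Helper28.TC2Range
import Cfsg.Agent.Lib.Helper3.Cover.QF22Link
import Cfsg.Agent.Lib.Helper3.Cover.QF22M
import Cfsg.Agent.Lib.Helper3.Cover.QF22M0
import Cfsg.Agent.Lib.Helper3.Cover.QF22M1
import Cfsg.Agent.Lib.Helper3.Cover.QF22M2
import Cfsg.Agent.Lib.Helper3.Cover.QF22M3
import Cfsg.Agent.Lib.Helper3.Cover.QF22M4
import Cfsg.Agent.Lib.Helper3.Cover.QF22M5
import Cfsg.Agent.Lib.Helper3.Cover.QF22M6
import Cfsg.Agent.Lib.Helper3.Cover.QF22M7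
import Cfsg.Agent.Lib.Helper3.Cover.QF22M8
import Cfsg.Agent.Lib.Helper3.Cover.QF22U0
import Cfsg.Agent.Lib.Helper3.Cover.QF22U1
import Cfsg.Agent.Lib.Helper3.Cover.QF22U2
import Cfsg.Agent.Lib.Helper3.Cover.QF22U3
import Cfsg.Agent.Lib.Helper3.Cover.QF22U4
import Cfsg.Agent.Lib.Helper3.Cover.QF22U5
import Cfsg.Agent.Lib.Helper3.Cover.QF22U6
import Cfsg.Agent.Lib.Helper3.Cover.QF22U7
import Cfsg.Agent.Lib.Helper3.Cover.QF22U8
import Cfsg.Agent.Lib.Helper3.Cover.QF22U9
import Cfsg.Agent.Lib.Helper3.Cover.QF22U10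
import Cfsg.Agent.Lib.Helper3.Cover.QF22U11
import Cfsg.Agent.Lib.Helper3.Cover.QF22U12
import Cfsg.Agent.Lib.Helper3.Cover.QF22U13
import Cfsg.Agent.Lib.Helper3.Cover.QF22U14
import Cfsg.Agent.Lib.Helper3.Cover.QF22U15
import Cfsg.Agent.Lib.Helper3.Cover.QF22U16
import Cfsg.Agent.Lib.Helper3.Cover.QF22U17
import Cfsg.Agent.Lib.Helper3.Cover.QF22U18
import Cfsg.Agent.Lib.Helper3.Cover.QF22U19
import Cfsg.Agent.Lib.Helper3.Cover.QF22U20
import Cfsg.Agent.Lib.Helper3.Cover.QF22U21
import Cfsg.Agent.Lib.Helper3.Cover.QF22U22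
import Cfsg.Agent.Lib.Helper3.Cover.QF22L0

set_option autoImplicit false
set_option maxRecDepth 100000
open Cfsg

namespace Cfsg.Agent.Lib.Helper3.Cover.QF22Main
open Cfsg.Agent.Lib.Helper28.TC2Upper Cfsg.Agent.Lib.Helper28.TC2Lower Cfsg.Agent.Lib.Helper28.TC2Glue Cfsg.Agent.Lib.Helper28.TC2GlueOrb Cfsg.Agent.Lib.Helper28.TC2Orbit Cfsg.Agent.Lib.Helper28.TC2Range
open Cfsg.Agent.Lib.Helper3.Cover.QF22Data Cfsg.Agent.Lib.Helper3.Cover.QF22Table Cfsg.Agent.Lib.Helper3.Cover.QF22Link Cfsg.Agent.Lib.Helper3.Cover.QF22M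

theorem hchk : ∀ v, v < data.N → data.checkNode v = true := by
  intro v hv
  have hv' : v < 124650 := hv
  rcases Nat.lt_or_ge v 429 with h0 | h0
  · exact (data.checkRange_iff 0 429).mp Cfsg.Agent.Lib.Helper3.Cover.QF22U0.chk0 v (by omega) (by omega)
  rcases Nat.lt_or_ge v 906 with h1 | h1
  · exact (data.checkRange_iff 429 477).mp Cfsg.Agent.Lib.Helper3.Cover.QF22U0.chk1 v (by omega) (by omega)
  rcases Nat.lt_or_ge v 1366 with h2 | h2
  · exact (data.checkRange_iff 906 460).mp Cfsg.Agent.Lib.Helper3.Cover.QF22U0.chk2 v (by omega) (by omega)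
  rcases Nat.lt_or_ge v 1916 with h3 | h3
  · exact (data.checkRange_iff 1366 550).mp Cfsg.Agent.Lib.Helper3.Cover.QF22U0.chk3 v (by omega) (by omega)
  rcases Nat.lt_or_ge v 2485 with h4 | h4
  · exact (data.checkRange_iff 1916 569).mp Cfsg.Agent.Lib.Helper3.Cover.QF22U0.chk4 v (by omega) (by omega)
  rcases Nat.lt_or_ge v 2989 with h5 | h5
  · exact (data.checkRange_iff 2485 504).mp Cfsg.Agent.Lib.Helper3.Cover.QF22U1.chk5 v (by omega) (by omega)
  rcases Nat.lt_or_ge v 3551 with h6 | h6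
  · exact (data.checkRange_iff 2989 562).mp Cfsg.Agent.Lib.Helper3.Cover.QF22U1.chk6 v (by omega) (by omega)
  rcases Nat.lt_or_ge v 4108 with h7 | h7
  · exact (data.checkRange_iff 3551 557).mp Cfsg.Agent.Lib.Helper3.Cover.QF22U1.chk7 v (by omega) (by omega)
  rcases Nat.lt_or_ge v 4632 with h8 | h8
  · exact (data.checkRange_iff 4108 524).mp Cfsg.Agent.Lib.Helper3.Cover.QF22U1.chk8 v (by omega) (by omega)
  rcases Nat.lt_or_ge v 5168 with h9 | h9
  · exact (data.checkRange_iff 4632 536).mp Cfsg.Agent.Lib.Helper3.Cover.QF22U1.chk9 v (by omega) (by omega)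
  rcases Nat.lt_or_ge v 5793 with h10 | h10
  · exact (data.checkRange_iff 5168 625).mp Cfsg.Agent.Lib.Helper3.Cover.QF22U2.chk10 v (by omega) (by omega)
  rcases Nat.lt_or_ge v 6449 with h11 | h11
  · exact (data.checkRange_iff 5793 656).mp Cfsg.Agent.Lib.Helper3.Cover.QF22U2.chk11 v (by omega) (by omega)
  rcases Nat.lt_or_ge v 7099 with h12 | h12
  · exact (data.checkRange_iff 6449 650).mp Cfsg.Agent.Lib.Helper3.Cover.QF22U2.chk12 v (by omega) (by omega)
  rcases Nat.lt_or_ge v 7816 with h13 | h13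
  · exact (data.checkRange_iff 7099 717).mp Cfsg.Agent.Lib.Helper3.Cover.QF22U2.chk13 v (by omega) (by omega)
  rcases Nat.lt_or_ge v 8458 with h14 | h14
  · exact (data.checkRange_iff 7816 642).mp Cfsg.Agent.Lib.Helper3.Cover.QF22U2.chk14 v (by omega) (by omega)
  rcases Nat.lt_or_ge v 9158 with h15 | h15
  · exact (data.checkRange_iff 8458 700).mp Cfsg.Agent.Lib.Helper3.Cover.QF22U3.chk15 v (by omega) (by omega)
  rcases Nat.lt_or_ge v 9883 with h16 | h16
  · exact (data.checkRange_iff 9158 725).mp Cfsg.Agent.Lib.Helper3.Cover.QF22U3.chk16 v (by omega) (by omega)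
  rcases Nat.lt_or_ge v 10586 with h17 | h17
  · exact (data.checkRange_iff 9883 703).mp Cfsg.Agent.Lib.Helper3.Cover.QF22U3.chk17 v (by omega) (by omega)
  rcases Nat.lt_or_ge v 11304 with h18 | h18
  · exact (data.checkRange_iff 10586 718).mp Cfsg.Agent.Lib.Helper3.Cover.QF22U3.chk18 v (by omega) (by omega)
  rcases Nat.lt_or_ge v 12135 with h19 | h19
  · exact (data.checkRange_iff 11304 831).mp Cfsg.Agent.Lib.Helper3.Cover.QF22U3.chk19 v (by omega) (by omega)
  rcases Nat.lt_or_ge v 12750 with h20 | h20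
  · exact (data.checkRange_iff 12135 615).mp Cfsg.Agent.Lib.Helper3.Cover.QF22U4.chk20 v (by omega) (by omega)
  rcases Nat.lt_or_ge v 13456 with h21 | h21
  · exact (data.checkRange_iff 12750 706).mp Cfsg.Agent.Lib.Helper3.Cover.QF22U4.chk21 v (by omega) (by omega)
  rcases Nat.lt_or_ge v 14188 with h22 | h22
  · exact (data.checkRange_iff 13456 732).mp Cfsg.Agent.Lib.Helper3.Cover.QF22U4.chk22 v (by omega) (by omega)
  rcases Nat.lt_or_ge v 14927 with h23 | h23
  · exact (data.checkRange_iff 14188 739).mp Cfsg.Agent.Lib.Helper3.Cover.QF22U4.chk23 v (by omega) (by omega)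
  rcases Nat.lt_or_ge v 15703 with h24 | h24
  · exact (data.checkRange_iff 14927 776).mp Cfsg.Agent.Lib.Helper3.Cover.QF22U4.chk24 v (by omega) (by omega)
  rcases Nat.lt_or_ge v 16483 with h25 | h25
  · exact (data.checkRange_iff 15703 780).mp Cfsg.Agent.Lib.Helper3.Cover.QF22U5.chk25 v (by omega) (by omega)
  rcases Nat.lt_or_ge v 17318 with h26 | h26
  · exact (data.checkRange_iff 16483 835).mp Cfsg.Agent.Lib.Helper3.Cover.QF22U5.chk26 v (by omega) (by omega)
  rcases Nat.lt_or_ge v 18151 with h27 | h27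
  · exact (data.checkRange_iff 17318 833).mp Cfsg.Agent.Lib.Helper3.Cover.QF22U5.chk27 v (by omega) (by omega)
  rcases Nat.lt_or_ge v 19068 with h28 | h28
  · exact (data.checkRange_iff 18151 917).mp Cfsg.Agent.Lib.Helper3.Cover.QF22U5.chk28 v (by omega) (by omega)
  rcases Nat.lt_or_ge v 19968 with h29 | h29
  · exact (data.checkRange_iff 19068 900).mp Cfsg.Agent.Lib.Helper3.Cover.QF22U5.chk29 v (by omega) (by omega)
  rcases Nat.lt_or_ge v 20965 with h30 | h30
  · exact (data.checkRange_iff 19968 997).mp Cfsg.Agent.Lib.Helper3.Cover.QF22U6.chk30 v (by omega) (by omega)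
  rcases Nat.lt_or_ge v 22003 with h31 | h31
  · exact (data.checkRange_iff 20965 1038).mp Cfsg.Agent.Lib.Helper3.Cover.QF22U6.chk31 v (by omega) (by omega)
  rcases Nat.lt_or_ge v 22961 with h32 | h32
  · exact (data.checkRange_iff 22003 958).mp Cfsg.Agent.Lib.Helper3.Cover.QF22U6.chk32 v (by omega) (by omega)
  rcases Nat.lt_or_ge v 23930 with h33 | h33
  · exact (data.checkRange_iff 22961 969).mp Cfsg.Agent.Lib.Helper3.Cover.QF22U6.chk33 v (by omega) (by omega)
  rcases Nat.lt_or_ge v 24868 with h34 | h34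
  · exact (data.checkRange_iff 23930 938).mp Cfsg.Agent.Lib.Helper3.Cover.QF22U6.chk34 v (by omega) (by omega)
  rcases Nat.lt_or_ge v 25935 with h35 | h35
  · exact (data.checkRange_iff 24868 1067).mp Cfsg.Agent.Lib.Helper3.Cover.QF22U7.chk35 v (by omega) (by omega)
  rcases Nat.lt_or_ge v 26922 with h36 | h36
  · exact (data.checkRange_iff 25935 987).mp Cfsg.Agent.Lib.Helper3.Cover.QF22U7.chk36 v (by omega) (by omega)
  rcases Nat.lt_or_ge v 27883 with h37 | h37
  · exact (data.checkRange_iff 26922 961).mp Cfsg.Agent.Lib.Helper3.Cover.QF22U7.chk37 v (by omega) (by omega)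
  rcases Nat.lt_or_ge v 28911 with h38 | h38
  · exact (data.checkRange_iff 27883 1028).mp Cfsg.Agent.Lib.Helper3.Cover.QF22U7.chk38 v (by omega) (by omega)
  rcases Nat.lt_or_ge v 29871 with h39 | h39
  · exact (data.checkRange_iff 28911 960).mp Cfsg.Agent.Lib.Helper3.Cover.QF22U7.chk39 v (by omega) (by omega)
  rcases Nat.lt_or_ge v 30900 with h40 | h40
  · exact (data.checkRange_iff 29871 1029).mp Cfsg.Agent.Lib.Helper3.Cover.QF22U8.chk40 v (by omega) (by omega)
  rcases Nat.lt_or_ge v 31986 with h41 | h41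
  · exact (data.checkRange_iff 30900 1086).mp Cfsg.Agent.Lib.Helper3.Cover.QF22U8.chk41 v (by omega) (by omega)
  rcases Nat.lt_or_ge v 33026 with h42 | h42
  · exact (data.checkRange_iff 31986 1040).mp Cfsg.Agent.Lib.Helper3.Cover.QF22U8.chk42 v (by omega) (by omega)
  rcases Nat.lt_or_ge v 34075 with h43 | h43
  · exact (data.checkRange_iff 33026 1049).mp Cfsg.Agent.Lib.Helper3.Cover.QF22U8.chk43 v (by omega) (by omega)
  rcases Nat.lt_or_ge v 35099 with h44 | h44
  · exact (data.checkRange_iff 34075 1024).mp Cfsg.Agent.Lib.Helper3.Cover.QF22U8.chk44 v (by omega) (by omega)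
  rcases Nat.lt_or_ge v 36229 with h45 | h45
  · exact (data.checkRange_iff 35099 1130).mp Cfsg.Agent.Lib.Helper3.Cover.QF22U9.chk45 v (by omega) (by omega)
  rcases Nat.lt_or_ge v 37114 with h46 | h46
  · exact (data.checkRange_iff 36229 885).mp Cfsg.Agent.Lib.Helper3.Cover.QF22U9.chk46 v (by omega) (by omega)
  rcases Nat.lt_or_ge v 37885 with h47 | h47
  · exact (data.checkRange_iff 37114 771).mp Cfsg.Agent.Lib.Helper3.Cover.QF22U9.chk47 v (by omega) (by omega)
  rcases Nat.lt_or_ge v 38766 with h48 | h48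
  · exact (data.checkRange_iff 37885 881).mp Cfsg.Agent.Lib.Helper3.Cover.QF22U9.chk48 v (by omega) (by omega)
  rcases Nat.lt_or_ge v 39755 with h49 | h49
  · exact (data.checkRange_iff 38766 989).mp Cfsg.Agent.Lib.Helper3.Cover.QF22U9.chk49 v (by omega) (by omega)
  rcases Nat.lt_or_ge v 40776 with h50 | h50
  · exact (data.checkRange_iff 39755 1021).mp Cfsg.Agent.Lib.Helper3.Cover.QF22U10.chk50 v (by omega) (by omega)
  rcases Nat.lt_or_ge v 41826 with h51 | h51
  · exact (data.checkRange_iff 40776 1050).mp Cfsg.Agent.Lib.Helper3.Cover.QF22U10.chk51 v (by omega) (by omega)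
  rcases Nat.lt_or_ge v 42830 with h52 | h52
  · exact (data.checkRange_iff 41826 1004).mp Cfsg.Agent.Lib.Helper3.Cover.QF22U10.chk52 v (by omega) (by omega)
  rcases Nat.lt_or_ge v 43962 with h53 | h53
  · exact (data.checkRange_iff 42830 1132).mp Cfsg.Agent.Lib.Helper3.Cover.QF22U10.chk53 v (by omega) (by omega)
  rcases Nat.lt_or_ge v 45012 with h54 | h54
  · exact (data.checkRange_iff 43962 1050).mp Cfsg.Agent.Lib.Helper3.Cover.QF22U10.chk54 v (by omega) (by omega)
  rcases Nat.lt_or_ge v 46101 with h55 | h55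
  · exact (data.checkRange_iff 45012 1089).mp Cfsg.Agent.Lib.Helper3.Cover.QF22U11.chk55 v (by omega) (by omega)
  rcases Nat.lt_or_ge v 47245 with h56 | h56
  · exact (data.checkRange_iff 46101 1144).mp Cfsg.Agent.Lib.Helper3.Cover.QF22U11.chk56 v (by omega) (by omega)
  rcases Nat.lt_or_ge v 48477 with h57 | h57
  · exact (data.checkRange_iff 47245 1232).mp Cfsg.Agent.Lib.Helper3.Cover.QF22U11.chk57 v (by omega) (by omega)
  rcases Nat.lt_or_ge v 49731 with h58 | h58
  · exact (data.checkRange_iff 48477 1254).mp Cfsg.Agent.Lib.Helper3.Cover.QF22U11.chk58 v (by omega) (by omega)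
  rcases Nat.lt_or_ge v 50946 with h59 | h59
  · exact (data.checkRange_iff 49731 1215).mp Cfsg.Agent.Lib.Helper3.Cover.QF22U11.chk59 v (by omega) (by omega)
  rcases Nat.lt_or_ge v 52264 with h60 | h60
  · exact (data.checkRange_iff 50946 1318).mp Cfsg.Agent.Lib.Helper3.Cover.QF22U12.chk60 v (by omega) (by omega)
  rcases Nat.lt_or_ge v 53556 with h61 | h61
  · exact (data.checkRange_iff 52264 1292).mp Cfsg.Agent.Lib.Helper3.Cover.QF22U12.chk61 v (by omega) (by omega)
  rcases Nat.lt_or_ge v 54898 with h62 | h62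
  · exact (data.checkRange_iff 53556 1342).mp Cfsg.Agent.Lib.Helper3.Cover.QF22U12.chk62 v (by omega) (by omega)
  rcases Nat.lt_or_ge v 56280 with h63 | h63
  · exact (data.checkRange_iff 54898 1382).mp Cfsg.Agent.Lib.Helper3.Cover.QF22U12.chk63 v (by omega) (by omega)
  rcases Nat.lt_or_ge v 57614 with h64 | h64
  · exact (data.checkRange_iff 56280 1334).mp Cfsg.Agent.Lib.Helper3.Cover.QF22U12.chk64 v (by omega) (by omega)
  rcases Nat.lt_or_ge v 58922 with h65 | h65
  · exact (data.checkRange_iff 57614 1308).mp Cfsg.Agent.Lib.Helper3.Cover.QF22U13.chk65 v (by omega) (by omega)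
  rcases Nat.lt_or_ge v 60256 with h66 | h66
  · exact (data.checkRange_iff 58922 1334).mp Cfsg.Agent.Lib.Helper3.Cover.QF22U13.chk66 v (by omega) (by omega)
  rcases Nat.lt_or_ge v 61569 with h67 | h67
  · exact (data.checkRange_iff 60256 1313).mp Cfsg.Agent.Lib.Helper3.Cover.QF22U13.chk67 v (by omega) (by omega)
  rcases Nat.lt_or_ge v 62907 with h68 | h68
  · exact (data.checkRange_iff 61569 1338).mp Cfsg.Agent.Lib.Helper3.Cover.QF22U13.chk68 v (by omega) (by omega)
  rcases Nat.lt_or_ge v 64245 with h69 | h69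
  · exact (data.checkRange_iff 62907 1338).mp Cfsg.Agent.Lib.Helper3.Cover.QF22U13.chk69 v (by omega) (by omega)
  rcases Nat.lt_or_ge v 65539 with h70 | h70
  · exact (data.checkRange_iff 64245 1294).mp Cfsg.Agent.Lib.Helper3.Cover.QF22U14.chk70 v (by omega) (by omega)
  rcases Nat.lt_or_ge v 66869 with h71 | h71
  · exact (data.checkRange_iff 65539 1330).mp Cfsg.Agent.Lib.Helper3.Cover.QF22U14.chk71 v (by omega) (by omega)
  rcases Nat.lt_or_ge v 68166 with h72 | h72
  · exact (data.checkRange_iff 66869 1297).mp Cfsg.Agent.Lib.Helper3.Cover.QF22U14.chk72 v (by omega) (by omega)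
  rcases Nat.lt_or_ge v 69482 with h73 | h73
  · exact (data.checkRange_iff 68166 1316).mp Cfsg.Agent.Lib.Helper3.Cover.QF22U14.chk73 v (by omega) (by omega)
  rcases Nat.lt_or_ge v 70848 with h74 | h74
  · exact (data.checkRange_iff 69482 1366).mp Cfsg.Agent.Lib.Helper3.Cover.QF22U14.chk74 v (by omega) (by omega)
  rcases Nat.lt_or_ge v 72180 with h75 | h75
  · exact (data.checkRange_iff 70848 1332).mp Cfsg.Agent.Lib.Helper3.Cover.QF22U15.chk75 v (by omega) (by omega)
  rcases Nat.lt_or_ge v 73529 with h76 | h76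
  · exact (data.checkRange_iff 72180 1349).mp Cfsg.Agent.Lib.Helper3.Cover.QF22U15.chk76 v (by omega) (by omega)
  rcases Nat.lt_or_ge v 74880 with h77 | h77
  · exact (data.checkRange_iff 73529 1351).mp Cfsg.Agent.Lib.Helper3.Cover.QF22U15.chk77 v (by omega) (by omega)
  rcases Nat.lt_or_ge v 76258 with h78 | h78
  · exact (data.checkRange_iff 74880 1378).mp Cfsg.Agent.Lib.Helper3.Cover.QF22U15.chk78 v (by omega) (by omega)
  rcases Nat.lt_or_ge v 77638 with h79 | h79
  · exact (data.checkRange_iff 76258 1380).mp Cfsg.Agent.Lib.Helper3.Cover.QF22U15.chk79 v (by omega) (by omega)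
  rcases Nat.lt_or_ge v 78488 with h80 | h80
  · exact (data.checkRange_iff 77638 850).mp Cfsg.Agent.Lib.Helper3.Cover.QF22U16.chk80 v (by omega) (by omega)
  rcases Nat.lt_or_ge v 79503 with h81 | h81
  · exact (data.checkRange_iff 78488 1015).mp Cfsg.Agent.Lib.Helper3.Cover.QF22U16.chk81 v (by omega) (by omega)
  rcases Nat.lt_or_ge v 80673 with h82 | h82
  · exact (data.checkRange_iff 79503 1170).mp Cfsg.Agent.Lib.Helper3.Cover.QF22U16.chk82 v (by omega) (by omega)
  rcases Nat.lt_or_ge v 82000 with h83 | h83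
  · exact (data.checkRange_iff 80673 1327).mp Cfsg.Agent.Lib.Helper3.Cover.QF22U16.chk83 v (by omega) (by omega)
  rcases Nat.lt_or_ge v 83378 with h84 | h84
  · exact (data.checkRange_iff 82000 1378).mp Cfsg.Agent.Lib.Helper3.Cover.QF22U16.chk84 v (by omega) (by omega)
  rcases Nat.lt_or_ge v 84748 with h85 | h85
  · exact (data.checkRange_iff 83378 1370).mp Cfsg.Agent.Lib.Helper3.Cover.QF22U17.chk85 v (by omega) (by omega)
  rcases Nat.lt_or_ge v 86114 with h86 | h86
  · exact (data.checkRange_iff 84748 1366).mp Cfsg.Agent.Lib.Helper3.Cover.QF22U17.chk86 v (by omega) (by omega)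
  rcases Nat.lt_or_ge v 87443 with h87 | h87
  · exact (data.checkRange_iff 86114 1329).mp Cfsg.Agent.Lib.Helper3.Cover.QF22U17.chk87 v (by omega) (by omega)
  rcases Nat.lt_or_ge v 88807 with h88 | h88
  · exact (data.checkRange_iff 87443 1364).mp Cfsg.Agent.Lib.Helper3.Cover.QF22U17.chk88 v (by omega) (by omega)
  rcases Nat.lt_or_ge v 90098 with h89 | h89
  · exact (data.checkRange_iff 88807 1291).mp Cfsg.Agent.Lib.Helper3.Cover.QF22U17.chk89 v (by omega) (by omega)
  rcases Nat.lt_or_ge v 91433 with h90 | h90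
  · exact (data.checkRange_iff 90098 1335).mp Cfsg.Agent.Lib.Helper3.Cover.QF22U18.chk90 v (by omega) (by omega)
  rcases Nat.lt_or_ge v 92905 with h91 | h91
  · exact (data.checkRange_iff 91433 1472).mp Cfsg.Agent.Lib.Helper3.Cover.QF22U18.chk91 v (by omega) (by omega)
  rcases Nat.lt_or_ge v 94529 with h92 | h92
  · exact (data.checkRange_iff 92905 1624).mp Cfsg.Agent.Lib.Helper3.Cover.QF22U18.chk92 v (by omega) (by omega)
  rcases Nat.lt_or_ge v 96203 with h93 | h93
  · exact (data.checkRange_iff 94529 1674).mp Cfsg.Agent.Lib.Helper3.Cover.QF22U18.chk93 v (by omega) (by omega)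
  rcases Nat.lt_or_ge v 97875 with h94 | h94
  · exact (data.checkRange_iff 96203 1672).mp Cfsg.Agent.Lib.Helper3.Cover.QF22U18.chk94 v (by omega) (by omega)
  rcases Nat.lt_or_ge v 99619 with h95 | h95
  · exact (data.checkRange_iff 97875 1744).mp Cfsg.Agent.Lib.Helper3.Cover.QF22U19.chk95 v (by omega) (by omega)
  rcases Nat.lt_or_ge v 101288 with h96 | h96
  · exact (data.checkRange_iff 99619 1669).mp Cfsg.Agent.Lib.Helper3.Cover.QF22U19.chk96 v (by omega) (by omega)
  rcases Nat.lt_or_ge v 102916 with h97 | h97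
  · exact (data.checkRange_iff 101288 1628).mp Cfsg.Agent.Lib.Helper3.Cover.QF22U19.chk97 v (by omega) (by omega)
  rcases Nat.lt_or_ge v 104642 with h98 | h98
  · exact (data.checkRange_iff 102916 1726).mp Cfsg.Agent.Lib.Helper3.Cover.QF22U19.chk98 v (by omega) (by omega)
  rcases Nat.lt_or_ge v 106287 with h99 | h99
  · exact (data.checkRange_iff 104642 1645).mp Cfsg.Agent.Lib.Helper3.Cover.QF22U19.chk99 v (by omega) (by omega)
  rcases Nat.lt_or_ge v 107914 with h100 | h100
  · exact (data.checkRange_iff 106287 1627).mp Cfsg.Agent.Lib.Helper3.Cover.QF22U20.chk100 v (by omega) (by omega)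
  rcases Nat.lt_or_ge v 109651 with h101 | h101
  · exact (data.checkRange_iff 107914 1737).mp Cfsg.Agent.Lib.Helper3.Cover.QF22U20.chk101 v (by omega) (by omega)
  rcases Nat.lt_or_ge v 111286 with h102 | h102
  · exact (data.checkRange_iff 109651 1635).mp Cfsg.Agent.Lib.Helper3.Cover.QF22U20.chk102 v (by omega) (by omega)
  rcases Nat.lt_or_ge v 112978 with h103 | h103
  · exact (data.checkRange_iff 111286 1692).mp Cfsg.Agent.Lib.Helper3.Cover.QF22U20.chk103 v (by omega) (by omega)
  rcases Nat.lt_or_ge v 114519 with h104 | h104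
  · exact (data.checkRange_iff 112978 1541).mp Cfsg.Agent.Lib.Helper3.Cover.QF22U20.chk104 v (by omega) (by omega)
  rcases Nat.lt_or_ge v 115843 with h105 | h105
  · exact (data.checkRange_iff 114519 1324).mp Cfsg.Agent.Lib.Helper3.Cover.QF22U21.chk105 v (by omega) (by omega)
  rcases Nat.lt_or_ge v 117319 with h106 | h106
  · exact (data.checkRange_iff 115843 1476).mp Cfsg.Agent.Lib.Helper3.Cover.QF22U21.chk106 v (by omega) (by omega)
  rcases Nat.lt_or_ge v 119053 with h107 | h107
  · exact (data.checkRange_iff 117319 1734).mp Cfsg.Agent.Lib.Helper3.Cover.QF22U21.chk107 v (by omega) (by omega)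
  rcases Nat.lt_or_ge v 120778 with h108 | h108
  · exact (data.checkRange_iff 119053 1725).mp Cfsg.Agent.Lib.Helper3.Cover.QF22U21.chk108 v (by omega) (by omega)
  rcases Nat.lt_or_ge v 122411 with h109 | h109
  · exact (data.checkRange_iff 120778 1633).mp Cfsg.Agent.Lib.Helper3.Cover.QF22U21.chk109 v (by omega) (by omega)
  rcases Nat.lt_or_ge v 124030 with h110 | h110
  · exact (data.checkRange_iff 122411 1619).mp Cfsg.Agent.Lib.Helper3.Cover.QF22U22.chk110 v (by omega) (by omega)
  exact (data.checkRange_iff 124030 620).mp Cfsg.Agent.Lib.Helper3.Cover.QF22U22.chk111 v (by omega) (by omega)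

theorem hrows : ∀ v, v < data.N → Data.rowOK data v = true := by
  intro v hv
  have hv' : v < 124650 := hv
  rcases Nat.lt_or_ge v 6000 with h0 | h0
  · exact (Data.finalRange_iff data 0 6000).mp Cfsg.Agent.Lib.Helper3.Cover.QF22M0.fin0 v (by omega) (by omega)
  rcases Nat.lt_or_ge v 12000 with h1 | h1
  · exact (Data.finalRange_iff data 6000 6000).mp Cfsg.Agent.Lib.Helper3.Cover.QF22M0.fin1 v (by omega) (by omega)
  rcases Nat.lt_or_ge v 18000 with h2 | h2
  · exact (Data.finalRange_iff data 12000 6000).mp Cfsg.Agent.Lib.Helper3.Cover.QF22M0.fin2 v (by omega) (by omega)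
  rcases Nat.lt_or_ge v 24000 with h3 | h3
  · exact (Data.finalRange_iff data 18000 6000).mp Cfsg.Agent.Lib.Helper3.Cover.QF22M0.fin3 v (by omega) (by omega)
  rcases Nat.lt_or_ge v 30000 with h4 | h4
  · exact (Data.finalRange_iff data 24000 6000).mp Cfsg.Agent.Lib.Helper3.Cover.QF22M0.fin4 v (by omega) (by omega)
  rcases Nat.lt_or_ge v 36000 with h5 | h5
  · exact (Data.finalRange_iff data 30000 6000).mp Cfsg.Agent.Lib.Helper3.Cover.QF22M1.fin5 v (by omega) (by omega)
  rcases Nat.lt_or_ge v 42000 with h6 | h6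
  · exact (Data.finalRange_iff data 36000 6000).mp Cfsg.Agent.Lib.Helper3.Cover.QF22M1.fin6 v (by omega) (by omega)
  rcases Nat.lt_or_ge v 48000 with h7 | h7
  · exact (Data.finalRange_iff data 42000 6000).mp Cfsg.Agent.Lib.Helper3.Cover.QF22M1.fin7 v (by omega) (by omega)
  rcases Nat.lt_or_ge v 54000 with h8 | h8
  · exact (Data.finalRange_iff data 48000 6000).mp Cfsg.Agent.Lib.Helper3.Cover.QF22M1.fin8 v (by omega) (by omega)
  rcases Nat.lt_or_ge v 60000 with h9 | h9
  · exact (Data.finalRange_iff data 54000 6000).mp Cfsg.Agent.Lib.Helper3.Cover.QF22M1.fin9 v (by omega) (by omega)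
  rcases Nat.lt_or_ge v 66000 with h10 | h10
  · exact (Data.finalRange_iff data 60000 6000).mp Cfsg.Agent.Lib.Helper3.Cover.QF22M2.fin10 v (by omega) (by omega)
  rcases Nat.lt_or_ge v 72000 with h11 | h11
  · exact (Data.finalRange_iff data 66000 6000).mp Cfsg.Agent.Lib.Helper3.Cover.QF22M2.fin11 v (by omega) (by omega)
  rcases Nat.lt_or_ge v 78000 with h12 | h12
  · exact (Data.finalRange_iff data 72000 6000).mp Cfsg.Agent.Lib.Helper3.Cover.QF22M2.fin12 v (by omega) (by omega)
  rcases Nat.lt_or_ge v 84000 with h13 | h13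
  · exact (Data.finalRange_iff data 78000 6000).mp Cfsg.Agent.Lib.Helper3.Cover.QF22M2.fin13 v (by omega) (by omega)
  rcases Nat.lt_or_ge v 90000 with h14 | h14
  · exact (Data.finalRange_iff data 84000 6000).mp Cfsg.Agent.Lib.Helper3.Cover.QF22M2.fin14 v (by omega) (by omega)
  rcases Nat.lt_or_ge v 96000 with h15 | h15
  · exact (Data.finalRange_iff data 90000 6000).mp Cfsg.Agent.Lib.Helper3.Cover.QF22M3.fin15 v (by omega) (by omega)
  rcases Nat.lt_or_ge v 102000 with h16 | h16
  · exact (Data.finalRange_iff data 96000 6000).mp Cfsg.Agent.Lib.Helper3.Cover.QF22M3.fin16 v (by omega) (by omega)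
  rcases Nat.lt_or_ge v 108000 with h17 | h17
  · exact (Data.finalRange_iff data 102000 6000).mp Cfsg.Agent.Lib.Helper3.Cover.QF22M3.fin17 v (by omega) (by omega)
  rcases Nat.lt_or_ge v 114000 with h18 | h18
  · exact (Data.finalRange_iff data 108000 6000).mp Cfsg.Agent.Lib.Helper3.Cover.QF22M3.fin18 v (by omega) (by omega)
  rcases Nat.lt_or_ge v 120000 with h19 | h19
  · exact (Data.finalRange_iff data 114000 6000).mp Cfsg.Agent.Lib.Helper3.Cover.QF22M3.fin19 v (by omega) (by omega)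
  exact (Data.finalRange_iff data 120000 4650).mp Cfsg.Agent.Lib.Helper3.Cover.QF22M4.fin20 v (by omega) (by omega)

theorem hfin : data.finalOK = true := Data.finalOK_of_rows data hlive0 (by decide) hrows

theorem pc0 : Data.countFrom data 0 6000 = 2248 := Cfsg.Agent.Lib.Helper3.Cover.QF22M4.cnt0
theorem pc1 : Data.countFrom data 0 12000 = 3030 := Data.countFrom_step data pc0 Cfsg.Agent.Lib.Helper3.Cover.QF22M4.cnt1 (by norm_num) (by norm_num)
theorem pc2 : Data.countFrom data 0 18000 = 3291 := Data.countFrom_step data pc1 Cfsg.Agent.Lib.Helper3.Cover.QF22M4.cnt2 (by norm_num) (by norm_num)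
theorem pc3 : Data.countFrom data 0 24000 = 3430 := Data.countFrom_step data pc2 Cfsg.Agent.Lib.Helper3.Cover.QF22M4.cnt3 (by norm_num) (by norm_num)
theorem pc4 : Data.countFrom data 0 30000 = 3473 := Data.countFrom_step data pc3 Cfsg.Agent.Lib.Helper3.Cover.QF22M5.cnt4 (by norm_num) (by norm_num)
theorem pc5 : Data.countFrom data 0 36000 = 3485 := Data.countFrom_step data pc4 Cfsg.Agent.Lib.Helper3.Cover.QF22M5.cnt5 (by norm_num) (by norm_num)
theorem pc6 : Data.countFrom data 0 42000 = 3491 := Data.countFrom_step data pc5 Cfsg.Agent.Lib.Helper3.Cover.QF22M5.cnt6 (by norm_num) (by norm_num)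
theorem pc7 : Data.countFrom data 0 48000 = 3495 := Data.countFrom_step data pc6 Cfsg.Agent.Lib.Helper3.Cover.QF22M5.cnt7 (by norm_num) (by norm_num)
theorem pc8 : Data.countFrom data 0 54000 = 3503 := Data.countFrom_step data pc7 Cfsg.Agent.Lib.Helper3.Cover.QF22M5.cnt8 (by norm_num) (by norm_num)
theorem pc9 : Data.countFrom data 0 60000 = 3510 := Data.countFrom_step data pc8 Cfsg.Agent.Lib.Helper3.Cover.QF22M6.cnt9 (by norm_num) (by norm_num)
theorem pc10 : Data.countFrom data 0 66000 = 3510 := Data.countFrom_step data pc9 Cfsg.Agent.Lib.Helper3.Cover.QF22M6.cnt10 (by norm_num) (by norm_num)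
theorem pc11 : Data.countFrom data 0 72000 = 3510 := Data.countFrom_step data pc10 Cfsg.Agent.Lib.Helper3.Cover.QF22M6.cnt11 (by norm_num) (by norm_num)
theorem pc12 : Data.countFrom data 0 78000 = 3510 := Data.countFrom_step data pc11 Cfsg.Agent.Lib.Helper3.Cover.QF22M6.cnt12 (by norm_num) (by norm_num)
theorem pc13 : Data.countFrom data 0 84000 = 3510 := Data.countFrom_step data pc12 Cfsg.Agent.Lib.Helper3.Cover.QF22M6.cnt13 (by norm_num) (by norm_num)
theorem pc14 : Data.countFrom data 0 90000 = 3510 := Data.countFrom_step data pc13 Cfsg.Agent.Lib.Helper3.Cover.QF22M7.cnt14 (by norm_num) (by norm_num)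
theorem pc15 : Data.countFrom data 0 96000 = 3510 := Data.countFrom_step data pc14 Cfsg.Agent.Lib.Helper3.Cover.QF22M7.cnt15 (by norm_num) (by norm_num)
theorem pc16 : Data.countFrom data 0 102000 = 3510 := Data.countFrom_step data pc15 Cfsg.Agent.Lib.Helper3.Cover.QF22M7.cnt16 (by norm_num) (by norm_num)
theorem pc17 : Data.countFrom data 0 108000 = 3510 := Data.countFrom_step data pc16 Cfsg.Agent.Lib.Helper3.Cover.QF22M7.cnt17 (by norm_num) (by norm_num)
theorem pc18 : Data.countFrom data 0 114000 = 3510 := Data.countFrom_step data pc17 Cfsg.Agent.Lib.Helper3.Cover.QF22M7.cnt18 (by norm_num) (by norm_num)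
theorem pc19 : Data.countFrom data 0 120000 = 3510 := Data.countFrom_step data pc18 Cfsg.Agent.Lib.Helper3.Cover.QF22M8.cnt19 (by norm_num) (by norm_num)
theorem pc20 : Data.countFrom data 0 124650 = 3510 := Data.countFrom_step data pc19 Cfsg.Agent.Lib.Helper3.Cover.QF22M8.cnt20 (by norm_num) (by norm_num)

theorem hcount : data.countLive = table.n := by
  rw [Data.countLive_eq]
  exact pc20

theorem hpermAll : ∀ p, p < table.n → Table.permRow table p = true := by
  intro p hv
  have hv' : p < 3510 := hv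
  exact (Table.permRange_iff table 0 3510).mp Cfsg.Agent.Lib.Helper3.Cover.QF22M8.prm0 p (by omega) (by omega)

theorem hT : table.OK := Table.ok_of_rows table hinvOK hpermAll

theorem htreeAll : ∀ i, i < Nat.pred table.n → Table.treeRow table i = true := by
  intro p hv
  have hv' : p < 3509 := hv
  exact (Table.treeRange_iff table 0 3509).mp Cfsg.Agent.Lib.Helper3.Cover.QF22M8.tre0 p (by omega) (by omega)

theorem htree : table.treeOK = true := Table.treeOK_of_rows table htreeAll

theorem hchkT : ∀ P ∈ chkPaths, ∀ p, p < table.n → table.walkT P p = p := by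
  intro P hm p hv
  have hv' : p < 3510 := hv
  rcases Nat.lt_or_ge p 2000 with h0 | h0
  · exact (Table.relOK_iff chkPaths 0 2000).mp Cfsg.Agent.Lib.Helper3.Cover.QF22L0.rel0 p (by omega) (by omega) _ hm
  exact (Table.relOK_iff chkPaths 2000 1510).mp Cfsg.Agent.Lib.Helper3.Cover.QF22L0.rel1 p (by omega) (by omega) _ hm

theorem hrelT : ∀ L ∈ relWords, ∀ p, p < table.n → table.walkT (pathOf lw L) p = p :=
  fun L hL => Table.fix_of_covered hT chkPaths hchkT _ (hcov _ (hrelmem L hL)).1 (hcov _ (hrelmem L hL)).2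

theorem hsubT : ∀ L ∈ subWords, table.walkT (pathOf lw L) 0 = 0 :=
  fun L hL => (Table.subOK_iff subPaths).mp hsub0 _ (hsubmem L hL)

theorem hn : 0 < table.n := by decide

theorem main : ((Subgroup.closure S).map (PresentedGroup.mk rels)).index = table.n ∧
    ∃ φ : PresentedGroup rels →* Equiv.Perm (Fin table.n),
      (∀ x, φ (PresentedGroup.of x) = Table.sigma hT (lw (x, true))) ∧
      ∃ f : PresentedGroup rels ⧸ (Subgroup.closure S).map (PresentedGroup.mk rels) → Fin table.n,
        Function.Bijective f ∧ (∀ g q, f (g • q) = φ g (f q)) ∧ f (QuotientGroup.mk 1) = ⟨0, hn⟩ :=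
  index_eq link hchk hfin hcount hT hn hrelT hsubT htree

end Cfsg.Agent.Lib.Helper3.Cover.QF22Main
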