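import Cfsg.Agent.Lib.Helper3.Cover.F22BarA
import Cfsg.Agent.Lib.Helper3.Cover.QF22Main
import Cfsg.Agent.Lib.Helper3.Cover.PF22Main

set_option autoImplicit false
set_option maxRecDepth 100000

/-!
# The index of `⟨a, b, c, t, d⟩` in the covering presentation of `Fi₂₂` divides 3510

The values of the first twenty relators of `PSU₆(2)` generate a central subgroup `N` of the covering group `E`,
contained in `⟨a, b, c, t, d⟩`.  The auxiliary presented group `QF22` maps onto `E / N`.
-/

namespace Cfsg.Agent.Lib.Helper3.Cover.F22Bar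

open Cfsg Cfsg.Agent.Lib.Helper3 Cfsg.Agent.Lib.Helper3.Cover.U62Iso
open Cfsg.Agent.Lib.Helper28.TC2Tower Cfsg.Agent.Lib.Helper28.TC2Subst
open scoped IsMulCommutative

/-- the first twenty relators -/
def R20 : List (List (EF22Def.Gen × Bool)) := EF22Def.R.take 20

theorem R20_sub : ∀ L ∈ R20, L ∈ EF22Def.R := fun _ hL => List.mem_of_mem_take hL

/-- the subgroup generated by the values of the first twenty relators -/
noncomputable def N : Subgroup DF.E := Subgroup.closure {z | ∃ L ∈ R20, z = emk L}

theorem N_le_center : N ≤ Subgroup.center DF.E := by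
  unfold N
  rw [Subgroup.closure_le]
  rintro _ ⟨L, hL, rfl⟩
  exact DF.mk_rel_mem_center _ (R20_sub L hL)

instance N_normal : N.Normal := by
  constructor
  intro n hn g
  have h := N_le_center hn
  rw [Subgroup.mem_center_iff] at h
  rw [h g, mul_inv_cancel_right]
  exact hn

/-- the quotient group -/
abbrev Ebar : Type := DF.E ⧸ N

/-- the quotient map -/
noncomputable abbrev qm : DF.E →* Ebar := QuotientGroup.mk' N

/-- the element of the quotient given by a word -/
noncomputable abbrev bmk (L : List (EF22Def.Gen × Bool)) : Ebar := qm (emk L)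

theorem bmk_R20 (L : List (EF22Def.Gen × Bool)) (hL : L ∈ R20) : bmk L = 1 := by
  unfold bmk
  rw [← MonoidHom.mem_ker, QuotientGroup.ker_mk']
  exact Subgroup.subset_closure ⟨L, hL, rfl⟩

/-- the exact commutation relators -/
def exactC : List (List (EF22Def.Gen × Bool)) :=
  [zc .a, zc .b, zc .c, zc .t, zc .d, fc .a, fc .b, fc .c, fc .t]

/-- the relators whose values are only known to be central -/
def centralR : List (List (EF22Def.Gen × Bool)) :=
  [EF22Def.R.getD 20 [], EF22Def.R.getD 21 [], EF22Def.R.getD 27 [], EF22Def.R.getD 32 [], EF22Def.R.getD 33 []]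

theorem centralR_sub : ∀ L ∈ centralR, L ∈ EF22Def.R := by decide +kernel

/-- the relators of the auxiliary presentation -/
def Qstruct : List (List (EF22Def.Gen × Bool)) :=
  R20 ++ exactC ++ (centralR.flatMap fun r => [EF22Def.Gen.a, .b, .c, .t, .d, .f, .z].map (commWord r)) ++
    [EF22Def.nrm .f, EF22Def.nrm .z]

theorem relWords_eq : QF22Def.relWords = Qstruct := by decide +kernel

theorem emk_zc_one (x : EU6Def.Gen) : emk (zc x) = 1 := by
  rw [emk_zc, z_comm x]; group

theorem emk_fc_one (x : EF22Def.Gen) (h : X .f * X x = X x * X .f) : emk (fc x) = 1 := by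
  rw [emk_fc, h]; group

theorem hQ : ∀ L ∈ Qstruct, bmk L = 1 := by
  intro L hL
  unfold Qstruct at hL
  rw [List.mem_append, List.mem_append, List.mem_append] at hL
  rcases hL with ((hL | hL) | hL) | hL
  · exact bmk_R20 L hL
  · simp only [exactC, List.mem_cons, List.not_mem_nil, or_false] at hL
    have h1 : emk L = 1 := by
      rcases hL with rfl | rfl | rfl | rfl | rfl | rfl | rfl | rfl | rfl
      · exact emk_zc_one .a
      · exact emk_zc_one .b
      · exact emk_zc_one .c
      · exact emk_zc_one .t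
      · exact emk_zc_one .d
      · exact emk_fc_one .a (f_comm .a)
      · exact emk_fc_one .b (f_comm .b)
      · exact emk_fc_one .c (f_comm .c)
      · exact emk_fc_one .t f_comm_t
    unfold bmk
    rw [h1, map_one]
  · rw [List.mem_flatMap] at hL
    obtain ⟨r, hr, hL⟩ := hL
    obtain ⟨x, -, rfl⟩ := List.mem_map.mp hL
    unfold bmk
    rw [emk_comm r (centralR_sub r hr) x, map_one]
  · simp only [List.mem_cons, List.not_mem_nil, or_false] at hL
    rcases hL with rfl | rfl
    · unfold bmk; rw [emk_nrm, map_one]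
    · unfold bmk; rw [emk_nrm, map_one]

/-- the composite homomorphism from the free group -/
noncomputable abbrev Fb : FreeGroup EF22Def.Gen →* Ebar := qm.comp (PresentedGroup.mk DF.relsE)

theorem lift_letters (L : List (EF22Def.Gen × Bool)) :
    FreeGroup.lift (fun x => bmk [(x, true)]) (FreeGroup.mk L) = bmk L := by
  have : FreeGroup.lift (fun x => bmk [(x, true)]) = Fb := by
    ext x
    rw [FreeGroup.lift_apply_of]
    rfl
  rw [this]
  rfl

theorem exists_psi : ∃ ψ : PresentedGroup QF22Link.rels →* Ebar, ∀ x, ψ (PresentedGroup.of x) = bmk [(x, true)] := by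
  apply exists_hom_of_words QF22Link.rels (fun x => bmk [(x, true)]) QF22Link.relWords (fun r hr => hr)
  intro L hL
  have hL' : L ∈ Qstruct := by
    rw [← relWords_eq]; exact hL
  rw [lift_letters, hQ L hL']

/-- the subgroup `⟨a, b, c, t, d⟩` of the covering presentation -/
noncomputable abbrev Hhat : Subgroup DF.E := (Subgroup.closure PF22Link.S).map (PresentedGroup.mk DF.relsE)

theorem map_up_mem (w : FreeGroup EU6Def.Gen) : FreeGroup.map up6 w ∈ Subgroup.closure PF22Link.S := by
  induction w using FreeGroup.induction_on with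
  | C1 => rw [map_one]; exact Subgroup.one_mem _
  | of x =>
    apply Subgroup.subset_closure
    rw [FreeGroup.map.of]
    cases x
    · exact Or.inl rfl
    · exact Or.inr (Or.inl rfl)
    · exact Or.inr (Or.inr (Or.inl rfl))
    · exact Or.inr (Or.inr (Or.inr (Or.inl rfl)))
    · exact Or.inr (Or.inr (Or.inr (Or.inr rfl)))
  | inv_of x ih => rw [map_inv]; exact Subgroup.inv_mem _ ih
  | mul x y hx hy => rw [map_mul]; exact Subgroup.mul_mem _ hx hy

theorem R20_up : ∀ L ∈ R20, ∃ M : List (EU6Def.Gen × Bool), L = upWord up6 M := by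
  intro L hL
  have h : ∀ L ∈ R20, L ∈ (EU6Def.R.take 20).map (upWord up6) := by decide +kernel
  obtain ⟨M, -, rfl⟩ := List.mem_map.mp (h L hL)
  exact ⟨M, rfl⟩

theorem N_le_Hhat : N ≤ Hhat := by
  unfold N
  rw [Subgroup.closure_le]
  rintro _ ⟨L, hL, rfl⟩
  obtain ⟨M, rfl⟩ := R20_up L hL
  exact ⟨FreeGroup.map up6 (FreeGroup.mk M), map_up_mem _, rfl⟩

theorem qm_surjective : Function.Surjective qm := QuotientGroup.mk'_surjective N

theorem S_cases {s : FreeGroup EF22Def.Gen} (hs : s ∈ PF22Link.S) : ∃ x : EF22Def.Gen, s = FreeGroup.of x := by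
  have hs' : s = FreeGroup.of EF22Def.Gen.a ∨ s = FreeGroup.of EF22Def.Gen.b ∨ s = FreeGroup.of EF22Def.Gen.c ∨
      s = FreeGroup.of EF22Def.Gen.t ∨ s = FreeGroup.of EF22Def.Gen.d := hs
  rcases hs' with rfl | rfl | rfl | rfl | rfl
  exacts [⟨_, rfl⟩, ⟨_, rfl⟩, ⟨_, rfl⟩, ⟨_, rfl⟩, ⟨_, rfl⟩]

/-- the index of `⟨a, b, c, t, d⟩` in the covering presentation of `Fi₂₂` divides 3510 -/
theorem index_dvd : Hhat.index ∣ 3510 := by
  obtain ⟨ψ, hψ⟩ := exists_psi
  have hsurj : Function.Surjective ψ := by
    intro y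
    obtain ⟨e, rfl⟩ := qm_surjective y
    obtain ⟨w, rfl⟩ := PresentedGroup.mk_surjective _ e
    show qm (PresentedGroup.mk DF.relsE w) ∈ ψ.range
    induction w using FreeGroup.induction_on with
    | C1 => rw [map_one, map_one]; exact Subgroup.one_mem _
    | of x =>
      have : qm (PresentedGroup.mk DF.relsE (FreeGroup.of x)) = ψ (PresentedGroup.of x) := by
        rw [hψ]
        rfl
      rw [this]
      exact ⟨_, rfl⟩
    | inv_of x ih => rw [map_inv, map_inv]; exact Subgroup.inv_mem _ ih
    | mul x y hx hy => rw [map_mul, map_mul]; exact Subgroup.mul_mem _ hx hy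
  set HQ : Subgroup (PresentedGroup QF22Link.rels) :=
    (Subgroup.closure QF22Link.S).map (PresentedGroup.mk QF22Link.rels) with hHQ
  have hidx : HQ.index = 3510 := QF22Main.main.1
  have hSS : QF22Link.S = PF22Link.S := rfl
  have himg : HQ.map ψ = Hhat.map qm := by
    rw [hHQ, Subgroup.map_map, Subgroup.map_map, MonoidHom.map_closure, MonoidHom.map_closure, hSS]
    congr 1
    apply Set.image_congr
    intro s hs
    obtain ⟨x, rfl⟩ := S_cases hs
    show ψ (PresentedGroup.of x) = _
    rw [hψ]
    rfl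
  have h1 : (HQ.map ψ).index ∣ HQ.index := Subgroup.index_map_dvd HQ hsurj
  have h2 : (Hhat.map qm).index = Hhat.index := by
    apply Subgroup.index_map_eq Hhat qm_surjective
    rw [QuotientGroup.ker_mk']
    exact N_le_Hhat
  rw [himg, h2, hidx] at h1
  exact h1

end Cfsg.Agent.Lib.Helper3.Cover.F22Bar
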