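import Cfsg.Agent.Lib.Helper28.TC2Upper
import Cfsg.Agent.Lib.Helper3.Cover.GBDataC0
set_option autoImplicit false
set_option maxRecDepth 100000

namespace Cfsg.Agent.Lib.Helper3.Cover.GBData
open Cfsg.Agent.Lib.Helper28.TC2Upper

/-- relators -/
def relT : BT (ℕ × List ℕ × List ℕ) := (BT.node 4 (BT.node 2 (BT.node 1 (BT.node 0 (BT.leaf (16, [1, 2, 2, 2, 2, 2, 2, 2, 0, 3, 3, 3, 3, 3, 3, 3], [2, 2, 2, 2, 2, 2, 2, 1, 3, 3, 3, 3, 3, 3, 3, 0])) (BT.leaf (16, [3, 2, 2, 2, 2, 2, 2, 2, 2, 3, 3, 3, 3, 3, 3, 3], [2, 2, 2, 2, 2, 2, 2, 3, 3, 3, 3, 3, 3, 3, 3, 2]))) (BT.leaf (20, [1, 2, 2, 2, 1, 3, 1, 3, 3, 1, 0, 0, 2, 2, 0, 2, 0, 3, 3, 3], [2, 2, 2, 1, 3, 1, 3, 3, 1, 1, 0, 2, 2, 0, 2, 0, 3, 3, 3, 0]))) (BT.node 3 (BT.leaf (20, [3, 2, 2, 2, 1, 3, 1, 3, 3, 1, 2, 0, 2, 2, 0, 2, 0, 3, 3, 3], [2, 2, 2, 1,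 3, 1, 3, 3, 1, 3, 0, 2, 2, 0, 2, 0, 3, 3, 3, 2])) (BT.leaf (22, [1, 2, 0, 0, 3, 0, 2, 0, 0, 3, 1, 0, 0, 2, 1, 1, 3, 1, 2, 1, 1, 3], [2, 0, 0, 3, 0, 2, 0, 0, 3, 1, 1, 0, 2, 1, 1, 3, 1, 2, 1, 1, 3, 0])))) (BT.node 7 (BT.node 6 (BT.node 5 (BT.leaf (22, [3, 2, 0, 0, 3, 0, 2, 0, 0, 3, 1, 2, 0, 2, 1, 1, 3, 1, 2, 1, 1, 3], [2, 0, 0, 3, 0, 2, 0, 0, 3, 1, 3, 0, 2, 1, 1, 3, 1, 2, 1, 1, 3, 2])) (BT.leaf (22, [1, 2, 0, 3, 0, 0, 2, 1, 3, 0, 0, 0, 1, 1, 2, 0, 3, 1, 1, 2, 1, 3], [2, 0, 3, 0, 0, 2, 1, 3, 0, 0, 1, 1, 1, 2, 0, 3, 1, 1, 2, 1, 3, 0]))) (BT.leaf (22, [3, 2, 0, 3, 0, 0, 2, 1, 3, 0, 0, 2, 1, 1, 2, 0, 3, 1, 1, 2, 1, 3], [2, 0, 3, 0, 0, 2, 1, 3, 0, 0, 3, 1, 1, 2, 0, 3, 1, 1, 2, 1, 3, 2]))) (BT.node 8 (BT.leaf (19, [0, 2, 1, 1, 3, 1, 2, 1, 1, 3, 0, 2, 2, 0, 2, 0, 3, 3, 3], [2, 2, 2, 1, 3, 1, 3, 3,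 1, 2, 0, 0, 3, 0, 2, 0, 0, 3, 1])) (BT.leaf (7, [3, 3, 3, 3, 3, 3, 3], [2, 2, 2, 2, 2, 2, 2])))))
/-- subgroup generators -/
def subT : BT (ℕ × List ℕ × List ℕ) := (BT.leaf (0, [], []))
/-- fact chunks -/
def colET : BT ℕ := (BT.node 37 (BT.node 18 (BT.node 9 (BT.node 4 (BT.node 2 (BT.node 1 (BT.node 0 (BT.leaf cE0) (BT.leaf cE1)) (BT.leaf cE2)) (BT.node 3 (BT.leaf cE3) (BT.leaf cE4))) (BT.node 7 (BT.node 6 (BT.node 5 (BT.leaf cE5) (BT.leaf cE6)) (BT.leaf cE7)) (BT.node 8 (BT.leaf cE8) (BT.leaf cE9)))) (BT.node 14 (BT.node 12 (BT.node 11 (BT.node 10 (BT.leaf cE10) (BT.leaf cE11)) (BT.leaf cE12)) (BT.node 13 (BT.leaf cE13) (BT.leaf cE14))) (BT.node 16 (BT.node 15 (BT.leaf cE15) (BT.leaf cE16)) (BT.node 17 (BT.leaf cE17) (BT.leaf cE18))))) (BT.node 28 (BT.node 23 (BT.node 21 (BT.node 20 (BT.node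 19 (BT.leaf cE19) (BT.leaf cE20)) (BT.leaf cE21)) (BT.node 22 (BT.leaf cE22) (BT.leaf cE23))) (BT.node 26 (BT.node 25 (BT.node 24 (BT.leaf cE24) (BT.leaf cE25)) (BT.leaf cE26)) (BT.node 27 (BT.leaf cE27) (BT.leaf cE28)))) (BT.node 33 (BT.node 31 (BT.node 30 (BT.node 29 (BT.leaf cE29) (BT.leaf cE30)) (BT.leaf cE31)) (BT.node 32 (BT.leaf cE32) (BT.leaf cE33))) (BT.node 35 (BT.node 34 (BT.leaf cE34) (BT.leaf cE35)) (BT.node 36 (BT.leaf cE36) (BT.leaf cE37)))))) (BT.node 56 (BT.node 47 (BT.node 42 (BT.node 40 (BT.node 39 (BT.node 38 (BT.leaf cE38) (BT.leaf cE39)) (BT.leaf cE40)) (BT.node 41 (BT.leaf cE41) (BT.leaf cE42))) (BT.node 45 (BT.node 44 (BT.node 43 (BT.leaf cE43) (BT.leaf cE44)) (BT.leaf cE45)) (BT.node 46 (BT.leaf cE46) (BT.leaf cE47)))) (BT.node 52 (BT.node 50 (BT.node 49 (BT.node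 48 (BT.leaf cE48) (BT.leaf cE49)) (BT.leaf cE50)) (BT.node 51 (BT.leaf cE51) (BT.leaf cE52))) (BT.node 54 (BT.node 53 (BT.leaf cE53) (BT.leaf cE54)) (BT.node 55 (BT.leaf cE55) (BT.leaf cE56))))) (BT.node 65 (BT.node 61 (BT.node 59 (BT.node 58 (BT.node 57 (BT.leaf cE57) (BT.leaf cE58)) (BT.leaf cE59)) (BT.node 60 (BT.leaf cE60) (BT.leaf cE61))) (BT.node 63 (BT.node 62 (BT.leaf cE62) (BT.leaf cE63)) (BT.node 64 (BT.leaf cE64) (BT.leaf cE65)))) (BT.node 70 (BT.node 68 (BT.node 67 (BT.node 66 (BT.leaf cE66) (BT.leaf cE67)) (BT.leaf cE68)) (BT.node 69 (BT.leaf cE69) (BT.leaf cE70))) (BT.node 72 (BT.node 71 (BT.leaf cE71) (BT.leaf cE72)) (BT.node 73 (BT.leaf cE73) (BT.leaf cE74)))))))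
/-- justification chunks -/
def colJT : BT ℕ := (BT.node 37 (BT.node 18 (BT.node 9 (BT.node 4 (BT.node 2 (BT.node 1 (BT.node 0 (BT.leaf cJ0) (BT.leaf cJ1)) (BT.leaf cJ2)) (BT.node 3 (BT.leaf cJ3) (BT.leaf cJ4))) (BT.node 7 (BT.node 6 (BT.node 5 (BT.leaf cJ5) (BT.leaf cJ6)) (BT.leaf cJ7)) (BT.node 8 (BT.leaf cJ8) (BT.leaf cJ9)))) (BT.node 14 (BT.node 12 (BT.node 11 (BT.node 10 (BT.leaf cJ10) (BT.leaf cJ11)) (BT.leaf cJ12)) (BT.node 13 (BT.leaf cJ13) (BT.leaf cJ14))) (BT.node 16 (BT.node 15 (BT.leaf cJ15) (BT.leaf cJ16)) (BT.node 17 (BT.leaf cJ17) (BT.leaf cJ18))))) (BT.node 28 (BT.node 23 (BT.node 21 (BT.node 20 (BT.node 19 (BT.leaf cJ19) (BT.leaf cJ20)) (BT.leaf cJ21)) (BT.node 22 (BT.leaf cJ22) (BT.leaf cJ23))) (BT.node 26 (BT.node 25 (BT.node 24 (BT.leaf cJ24) (BT.leaf cJ25)) (BT.leaf cJ26))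 (BT.node 27 (BT.leaf cJ27) (BT.leaf cJ28)))) (BT.node 33 (BT.node 31 (BT.node 30 (BT.node 29 (BT.leaf cJ29) (BT.leaf cJ30)) (BT.leaf cJ31)) (BT.node 32 (BT.leaf cJ32) (BT.leaf cJ33))) (BT.node 35 (BT.node 34 (BT.leaf cJ34) (BT.leaf cJ35)) (BT.node 36 (BT.leaf cJ36) (BT.leaf cJ37)))))) (BT.node 56 (BT.node 47 (BT.node 42 (BT.node 40 (BT.node 39 (BT.node 38 (BT.leaf cJ38) (BT.leaf cJ39)) (BT.leaf cJ40)) (BT.node 41 (BT.leaf cJ41) (BT.leaf cJ42))) (BT.node 45 (BT.node 44 (BT.node 43 (BT.leaf cJ43) (BT.leaf cJ44)) (BT.leaf cJ45)) (BT.node 46 (BT.leaf cJ46) (BT.leaf cJ47)))) (BT.node 52 (BT.node 50 (BT.node 49 (BT.node 48 (BT.leaf cJ48) (BT.leaf cJ49)) (BT.leaf cJ50)) (BT.node 51 (BT.leaf cJ51) (BT.leaf cJ52))) (BT.node 54 (BT.node 53 (BT.leaf cJ53) (BT.leaf cJ54)) (BT.node 55 (BT.leaf cJ55) (BT.leaf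 cJ56))))) (BT.node 65 (BT.node 61 (BT.node 59 (BT.node 58 (BT.node 57 (BT.leaf cJ57) (BT.leaf cJ58)) (BT.leaf cJ59)) (BT.node 60 (BT.leaf cJ60) (BT.leaf cJ61))) (BT.node 63 (BT.node 62 (BT.leaf cJ62) (BT.leaf cJ63)) (BT.node 64 (BT.leaf cJ64) (BT.leaf cJ65)))) (BT.node 70 (BT.node 68 (BT.node 67 (BT.node 66 (BT.leaf cJ66) (BT.leaf cJ67)) (BT.leaf cJ68)) (BT.node 69 (BT.leaf cJ69) (BT.leaf cJ70))) (BT.node 72 (BT.node 71 (BT.leaf cJ71) (BT.leaf cJ72)) (BT.node 73 (BT.leaf cJ73) (BT.leaf cJ74)))))))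
/-- parent chunks -/
def parCT : BT ℕ := (BT.node 7 (BT.node 3 (BT.node 1 (BT.node 0 (BT.leaf cP0) (BT.leaf cP1)) (BT.node 2 (BT.leaf cP2) (BT.leaf cP3))) (BT.node 5 (BT.node 4 (BT.leaf cP4) (BT.leaf cP5)) (BT.node 6 (BT.leaf cP6) (BT.leaf cP7)))) (BT.node 11 (BT.node 9 (BT.node 8 (BT.leaf cP8) (BT.leaf cP9)) (BT.node 10 (BT.leaf cP10) (BT.leaf cP11))) (BT.node 13 (BT.node 12 (BT.leaf cP12) (BT.leaf cP13)) (BT.leaf cP14))))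
/-- the certificate -/
def data : Data where
  k := 4
  N := 7395
  W := 28
  MW := 268435456
  B := 8192
  CH := 512
  NCH := 15
  colE := colET
  JW := 64
  MJ := 18446744073709551616
  A := 1048576
  colJ := colJT
  PW := 23
  MP := 8388608
  parC := parCT
  inv := (BT.node 2 (BT.node 1 (BT.node 0 (BT.leaf 1) (BT.leaf 0)) (BT.leaf 3)) (BT.node 3 (BT.leaf 2) (BT.leaf 4)))
  rel := relT
  sub := subT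
  fuel := 64

end Cfsg.Agent.Lib.Helper3.Cover.GBData
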