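import Cfsg.Agent.Lib.Helper28.TC2Range
import Cfsg.Agent.Lib.Helper3.Cover.GBData
import Cfsg.Agent.Lib.Helper3.Cover.GBTable
set_option autoImplicit false
set_option maxRecDepth 100000
set_option maxHeartbeats 0

namespace Cfsg.Agent.Lib.Helper3.Cover.GBM1
open Cfsg.Agent.Lib.Helper28.TC2Upper Cfsg.Agent.Lib.Helper28.TC2Lower Cfsg.Agent.Lib.Helper28.TC2Range Cfsg.Agent.Lib.Helper3.Cover.GBData Cfsg.Agent.Lib.Helper3.Cover.GBTable

theorem tre0 : Table.treeRange table 0 1791 = true := by decide +kernel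

end Cfsg.Agent.Lib.Helper3.Cover.GBM1
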