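import Cfsg.Agent.Lib.Helper3.Fus.Groups
import Cfsg.Agent.Lib.Helper3.OutAut.Gen
import Cfsg.Agent.Lib.Helper10.M21C

set_option autoImplicit false
set_option maxRecDepth 100000

/-!
# Tables of generators of the three-point stabiliser of `M24` (generated by `tools/tcx/cov/l34_iso_emit.py`)
-/

namespace Cfsg.Agent.Lib.Helper3.Cover.L34Iso

open Cfsg Cfsg.Agent.Lib.Helper3 Cfsg.Agent.Lib.Helper3.Golay Cfsg.Agent.Lib.Helper3.Fus
open Cfsg.Agent.Lib.Helper3.OutAut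

def TU : List ℕ := [0, 1, 2, 19, 11, 6, 5, 14, 16, 9, 10, 4, 13, 12, 7, 15, 8, 21, 22, 3, 20, 17, 18, 23]
def TV : List ℕ := [0, 1, 3, 8, 9, 13, 17, 5, 21, 4, 20, 22, 12, 16, 10, 11, 7, 6, 15, 14, 19, 2, 18, 23]
def TW : List ℕ := [0, 1, 9, 11, 7, 5, 2, 15, 8, 6, 12, 22, 19, 18, 13, 4, 16, 21, 14, 10, 17, 20, 3, 23]
/-- the table of the second generator `u * w` -/
def TB : List ℕ := [0, 1, 9, 4, 14, 6, 2, 15, 16, 5, 13, 18, 3, 22, 12, 11, 8, 17, 7, 10, 21, 20, 19, 23]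

def prog : List Ins := [
  .mul 0 0, .mul 1 0, .mul 1 1, .mul 0 2, .mul 1 2, .mul 1 3, .mul 0 4, .mul 1 4,
  .mul 1 5, .mul 0 6, .mul 0 7, .mul 1 7, .mul 1 8, .mul 0 9, .mul 0 10, .mul 1 11,
  .mul 0 14, .mul 0 17, .inv 1, .mul 0 3, .mul 20 21, .inv 4, .mul 0 11, .mul 23 24,
  .inv 3, .mul 0 1, .mul 26 27, .mul 22 22, .mul 25 22, .mul 28 22, .mul 25 28, .mul 28 28,
  .mul 22 29, .mul 25 29, .mul 28 29, .mul 22 30, .mul 22 32, .mul 25 33, .mul 22 35, .mul 25 36,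
  .mul 28 36, .mul 25 38, .mul 22 39, .mul 28 39, .inv 35, .mul 22 31, .mul 46 47, .inv 34,
  .mul 25 31, .mul 49 50, .mul 48 48, .inv 48, .mul 53 51, .mul 25 48, .mul 53 55, .inv 52,
  .mul 51 48, .mul 57 58, .mul 54 25, .mul 56 25, .mul 59 25, .mul 56 54, .mul 59 54, .mul 59 56,
  .mul 56 60, .mul 59 60, .mul 59 61, .mul 59 63, .mul 59 66]

/-- the three-point stabiliser -/
abbrev H21 : Subgroup (Equiv.Perm GolayPt) := M24 ⊓ fixB 3

/-- membership check -/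
def memOK21 (T : List ℕ) : Bool :=
  tblOK 0 T && Nat.beq (T.getD 23 0) 23 && Nat.beq (T.getD 0 0) 0 && Nat.beq (T.getD 1 0) 1

theorem β0 : β 0 = pt 23 := rfl
theorem β1 : β 1 = pt 0 := rfl
theorem β2 : β 2 = pt 1 := rfl

theorem tsound21 {Ts : List (List ℕ)} (h : Ts.all memOK21 = true) : TSound H21 Ts := by
  intro T hT
  rw [List.all_eq_true] at h
  have h' := h T hT
  unfold memOK21 at h'
  rw [Bool.and_eq_true, Bool.and_eq_true, Bool.and_eq_true] at h'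
  obtain ⟨σ, hσ, h1, h2⟩ := tblOK_sound' h'.1.1.1
  refine ⟨σ, Subgroup.mem_inf.mpr ⟨(Subgroup.mem_inf.mp hσ).1, mem_fixB.mpr ?_⟩, h1, h2⟩
  intro j hj
  interval_cases j
  · rw [β0]; exact fixes_pt h1 (by norm_num) (Nat.eq_of_beq_eq_true h'.1.1.2)
  · rw [β1]; exact fixes_pt h1 (by norm_num) (Nat.eq_of_beq_eq_true h'.1.2)
  · rw [β2]; exact fixes_pt h1 (by norm_num) (Nat.eq_of_beq_eq_true h'.2)

theorem cert_mem21 : [TU, TV, TW, TB].all memOK21 = true := by decide +kernel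

theorem cert_gen : allBelow 7 (fun k => Nat.blt k 3 ||
    transOK (run prog [TV, TB] ++ [idT]) baseL k (Dmask k)) = true := by decide +kernel

theorem card_H21 : Nat.card ↥H21 = 20160 := by
  rw [card_M24_inf_fixB (by norm_num : 3 ≤ 7)]
  decide

theorem exV : ∃ σ ∈ H21, HasTbl σ TV ∧ HasTbl σ⁻¹ (invT TV) := tsound21 cert_mem21 TV (by simp)
theorem exB : ∃ σ ∈ H21, HasTbl σ TB ∧ HasTbl σ⁻¹ (invT TB) := tsound21 cert_mem21 TB (by simp)

theorem gen21 : H21 ≤ Subgroup.closure {Classical.choose exV, Classical.choose exB} := by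
  have ha := Classical.choose_spec exV
  have hb := Classical.choose_spec exB
  exact M24_fixB_le (closure_pair_le (Subgroup.mem_inf.mp ha.1).1 (Subgroup.mem_inf.mp hb.1).1)
    (sound_pair ha.2.1 hb.2.1 prog) 3 (by norm_num) cert_gen

theorem pt23' : pt 23 = (none : GolayPt) := Fus.pt23
theorem pt0' : pt 0 = (some 0 : GolayPt) := by decide +kernel
theorem pt1' : pt 1 = (some 1 : GolayPt) := by decide +kernel

/-- the group of helper10 is the same group -/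
theorem K0_eq : Cfsg.Agent.Lib.Helper10.M21.K0 = H21 := by
  ext g
  rw [Cfsg.Agent.Lib.Helper10.M21.mem_K3, Subgroup.mem_inf, mem_fixB]
  constructor
  · rintro ⟨h0, h1, h2, h3⟩
    refine ⟨h0, fun j hj => ?_⟩
    interval_cases j
    · rw [β0, pt23']; exact h1
    · rw [β1, pt0']; exact h2
    · rw [β2, pt1']; exact h3
  · rintro ⟨h0, h⟩
    have h1 := h 0 (by norm_num)
    have h2 := h 1 (by norm_num)
    have h3 := h 2 (by norm_num)
    rw [β0, pt23'] at h1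
    rw [β1, pt0'] at h2
    rw [β2, pt1'] at h3
    exact ⟨h0, h1, h2, h3⟩

end Cfsg.Agent.Lib.Helper3.Cover.L34Iso
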