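import Cfsg.Agent.Lib.Helper28.TC2Orbit
set_option autoImplicit false
set_option maxRecDepth 100000

namespace Cfsg.Agent.Lib.Helper3.Cover.L63Table
open Cfsg.Agent.Lib.Helper28.TC2Upper Cfsg.Agent.Lib.Helper28.TC2Lower Cfsg.Agent.Lib.Helper28.TC2Orbit

def cT0 : ℕ := 0x28f38a5c977c6662a5a2c3d82345dd2bdb986eca7efe93a552d737c97ad22f6c62d9b052840c76975103933cd300081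
def cT1 : ℕ := 0x22c3d8e0a3ce2976b725df15a6611ab4efe936e61bb29ef6d9b3a54b4b52b37c919eb481471034cf69731440e341002
def cT2 : ℕ := 0x25c6ebec8bdefac20d68e36b73f377163cee5737240cf8ba8a689d122148c6ade6454e99a79217dd6d8055440087103
def cT3 : ℕ := 0x21e2ddf69f1b30cdbba4f75efcbfa55f43238ff8d5f93342d42ab25d4c89aa19845a163a6896281e7190964810031c4
def cT4 : ℕ := 0x1ff9ee9d6f9673b1a615c9246fd6d5135bc9e0de473084df68ecce17976d0ec503e2babaa99a308b0491001831ca205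
def cT5 : ℕ := 0x3d7e877be1b958b57db1562b91b3540f39e9cd664312866fbcea3e74df36a9cabab0bd44d681c2822010c500710b246
def cR0 : ℕ := 0x15f047c15e047405c056c11b056411801601170158155045415205441110144011044010f04380ce023810d033408d04300cc02300cb022c0ca02280c90224049032008801200c6021804600180c502140450014044010c00305081020504101030414004000c002000400000000
/-- table chunks -/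
def colTT : BT ℕ := (BT.node 2 (BT.node 1 (BT.node 0 (BT.leaf cT0) (BT.leaf cT1)) (BT.leaf cT2)) (BT.node 4 (BT.node 3 (BT.leaf cT3) (BT.leaf cT4)) (BT.leaf cT5)))
/-- spanning tree chunks -/
def treeT : BT ℕ := (BT.leaf cR0)
/-- the paths that are checked -/
def chkPaths : List (List ℕ) := [[1, 1, 1, 0, 0, 0], [3, 1, 1, 2, 0, 0], [5, 1, 1, 4, 0, 0], [1, 3, 3, 3, 3, 0, 2, 2, 2, 2], [3, 3, 3, 3, 3, 2, 2, 2, 2, 2], [5, 3, 3, 3, 3, 4, 2, 2, 2, 2], [1, 1, 3, 1, 3, 1, 3, 1, 3, 1, 3, 0, 2, 0, 2, 0, 2, 0, 2, 0, 2, 0], [3, 1, 3, 1, 3, 1, 3, 1, 3, 1, 3, 2, 2, 0, 2, 0, 2, 0, 2, 0, 2, 0], [5, 1, 3, 1, 3, 1, 3, 1, 3, 1, 3, 4, 2, 0, 2, 0, 2, 0, 2, 0, 2, 0], [1, 1, 3, 3, 1, 3, 3, 1, 3, 3, 1, 3, 3, 1, 3, 3, 0, 2, 2, 0, 2, 2, 0, 2, 2, 0,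 2, 2, 0, 2, 2, 0], [3, 1, 3, 3, 1, 3, 3, 1, 3, 3, 1, 3, 3, 1, 3, 3, 2, 2, 2, 0, 2, 2, 0, 2, 2, 0, 2, 2, 0, 2, 2, 0], [5, 1, 3, 3, 1, 3, 3, 1, 3, 3, 1, 3, 3, 1, 3, 3, 4, 2, 2, 0, 2, 2, 0, 2, 2, 0, 2, 2, 0, 2, 2, 0], [1, 5, 5, 5, 0, 4, 4, 4], [3, 5, 5, 5, 2, 4, 4, 4], [5, 5, 5, 5, 4, 4, 4, 4], [1, 4, 2, 4, 1, 2, 1, 5, 3, 5, 2, 0, 3, 4, 2, 4, 0, 3, 0, 5, 3, 5], [3, 4, 2, 4, 1, 2, 1, 5, 3, 5, 2, 2, 3, 4, 2, 4, 0, 3, 0, 5, 3, 5], [5, 4, 2, 4, 1, 2, 1, 5, 3, 5, 2, 4, 3, 4, 2, 4, 0, 3, 0, 5, 3, 5], [1, 4, 2, 2, 5, 1, 4, 3, 3, 5, 1, 0, 0, 4, 2, 2, 5, 0, 4, 3, 3, 5], [3, 4, 2, 2, 5, 1, 4, 3, 3, 5, 1, 2, 0, 4, 2, 2, 5, 0, 4, 3, 3, 5], [5, 4, 2, 2, 5, 1, 4, 3, 3, 5, 1, 4, 0, 4, 2, 2, 5, 0, 4, 3, 3, 5], [1, 4, 1, 4, 3, 1, 5, 2, 2, 1,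 2, 0, 3, 0, 3, 3, 4, 0, 2, 5, 0, 5], [3, 4, 1, 4, 3, 1, 5, 2, 2, 1, 2, 2, 3, 0, 3, 3, 4, 0, 2, 5, 0, 5], [5, 4, 1, 4, 3, 1, 5, 2, 2, 1, 2, 4, 3, 0, 3, 3, 4, 0, 2, 5, 0, 5], [1, 3, 3, 1, 3, 3, 1, 3, 3, 1, 3, 3, 1, 3, 3, 2, 0, 2, 0, 2, 0, 2, 0, 2, 0, 2, 0, 2, 0, 2, 0, 2, 0, 2, 0, 1, 1, 1, 1], [2, 2, 0, 2, 2, 0, 2, 2, 0, 2, 2, 0, 2, 2, 0, 1, 3, 1, 3, 1, 3, 1, 3, 1, 3, 3, 3, 3, 3], [2, 2, 2, 2, 2, 0, 2, 0, 2, 0, 2, 0, 2, 0, 1, 3, 3, 1, 3, 3, 1, 3, 3, 1, 3, 3, 1, 3, 3, 2, 2, 2, 2, 2, 0, 2, 0, 2, 0, 2, 0, 2, 0, 1, 3, 3, 1, 3, 3, 1, 3, 3, 1, 3, 3, 1, 3, 3, 1, 3, 3, 1, 3, 3, 1, 3, 3, 1, 3, 3, 1, 3, 3, 2, 0, 2, 0, 2, 0, 2, 0, 2, 0, 2, 0, 2, 0, 2, 0, 2, 0, 2, 0, 1, 1, 1, 1, 1, 3, 3, 1, 3, 3, 1, 3, 3, 1, 3, 3, 1, 3, 3, 2, 0, 2, 0, 2,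 0, 2, 0, 2, 0, 2, 0, 2, 0, 2, 0, 2, 0, 2, 0, 1, 1, 1, 1, 1, 3, 3, 1, 3, 3, 1, 3, 3, 1, 3, 3, 1, 3, 3, 2, 0, 2, 0, 2, 0, 2, 0, 2, 0, 2, 0, 2, 0, 2, 0, 2, 0, 2, 0, 1, 1, 1, 1, 4, 1, 4, 3, 1, 5, 2, 2, 1, 2], [0, 0, 0, 0, 0, 0, 0, 0, 0, 0, 0, 0, 0, 0, 0, 0, 0, 0, 0, 0, 0, 0, 0, 0], [4, 4, 4, 4, 4, 4, 4, 4, 4, 4, 4, 4], [3, 4, 2, 4, 0, 3, 0, 5, 3, 5, 3, 4, 2, 4, 0, 3, 0, 5, 3, 5, 3, 4, 2, 4, 0, 3, 0, 5, 3, 5, 3, 4, 2, 4, 0, 3, 0, 5, 3, 5]]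
/-- the table -/
def table : Table where
  n := 63
  k := 6
  w := 6
  M := 64
  CH := 1024
  NCH := 1
  col := colTT
  inv := (BT.node 3 (BT.node 1 (BT.node 0 (BT.leaf 1) (BT.leaf 0)) (BT.node 2 (BT.leaf 3) (BT.leaf 2))) (BT.node 5 (BT.node 4 (BT.leaf 5) (BT.leaf 4)) (BT.leaf 6)))
  tw := 14
  TM := 16384
  tree := treeT

end Cfsg.Agent.Lib.Helper3.Cover.L63Table
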