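import Cfsg.Agent.Lib.Helper28.TC2Orbit
set_option autoImplicit false
set_option maxRecDepth 100000

namespace Cfsg.Agent.Lib.Helper3.Cover.P21Table
open Cfsg.Agent.Lib.Helper28.TC2Upper Cfsg.Agent.Lib.Helper28.TC2Lower Cfsg.Agent.Lib.Helper28.TC2Orbit

def cT0 : ℕ := 0xc62d7485ddf05e94ec6d9ba7a2694d7b6ce02e3c8aacea88bc7252b543c545a9047dc55858240c0460c0
def cT1 : ℕ := 0xc62d7485ddf05e94ec6d9ba7a2694d7b6ce02e3c8aacea88bc7252b543c545a9047dc55858240c0460c0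
def cT2 : ℕ := 0xcecb6377662956e59c4f73f0391d5f3342debe1ab229a5312259191ab9d0a261628036c25d204d247100
def cT3 : ℕ := 0xab2962ddc6287eed7649dc0f44e595d0c78b920cec25a5311edbd9ac6990a6712385b0d7093341288140
def cT4 : ℕ := 0xa6d875cebda0a26c529d891bc933775e5d16b0a7a3bc8690730195b9f16a10f8910dd2d91d430e240081
def cT5 : ℕ := 0x931d21ce7b566d3d9fc90defaee8a970dd7049d297a1922a8e05069ac31838494525e0da1d544f2c1002
def cR0 : ℕ := 0x4900220584121037409c02601160354113004c1520248110033c08f033808e053400d033008c032c08b002c14a042800a02241480420008021c00705181060318086051400505101040210004050c0c3020c0c20208002030408100041400400000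
/-- table chunks -/
def colTT : BT ℕ := (BT.node 2 (BT.node 1 (BT.node 0 (BT.leaf cT0) (BT.leaf cT1)) (BT.leaf cT2)) (BT.node 4 (BT.node 3 (BT.leaf cT3) (BT.leaf cT4)) (BT.leaf cT5)))
/-- spanning tree chunks -/
def treeT : BT ℕ := (BT.leaf cR0)
/-- relator paths -/
def relPaths : List (List ℕ) := [[0, 0], [2, 2, 2, 2], [2, 0, 2, 0, 2, 0, 2, 0, 2, 0], [2, 2, 0, 2, 2, 0, 2, 2, 0, 2, 2, 0, 2, 2, 0], [4, 4, 4], [3, 4, 2, 4, 0, 3, 0, 5, 3, 5], [0, 4, 2, 2, 5, 0, 4, 3, 3, 5], [3, 0, 3, 3, 4, 0, 2, 5, 0, 5]]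
/-- subgroup generator paths -/
def subPaths : List (List ℕ) := [[0], [2]]
/-- the relator paths that are checked directly -/
def chkPaths : List (List ℕ) := [[0, 0], [2, 2, 2, 2], [2, 0, 2, 0, 2, 0, 2, 0, 2, 0], [2, 2, 0, 2, 2, 0, 2, 2, 0, 2, 2, 0, 2, 2, 0], [4, 4, 4], [3, 4, 2, 4, 0, 3, 0, 5, 3, 5], [0, 4, 2, 2, 5, 0, 4, 3, 3, 5], [3, 0, 3, 3, 4, 0, 2, 5, 0, 5]]
/-- the coset table -/
def table : Table where
  n := 56
  k := 6
  w := 6
  M := 64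
  CH := 1024
  NCH := 1
  col := colTT
  inv := (BT.node 3 (BT.node 1 (BT.node 0 (BT.leaf 1) (BT.leaf 0)) (BT.node 2 (BT.leaf 3) (BT.leaf 2))) (BT.node 5 (BT.node 4 (BT.leaf 5) (BT.leaf 4)) (BT.leaf 6)))
  tw := 14
  TM := 16384
  tree := treeT

end Cfsg.Agent.Lib.Helper3.Cover.P21Table
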