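import Cfsg.Agent.Lib.Helper3.Cover.Finite
import Cfsg.Agent.Lib.Helper3.Cover.CodeHom
import Cfsg.Agent.Lib.Helper3.Cover.Lower
import Cfsg.Agent.Lib.Helper3.Cover.Univ
import Cfsg.Agent.Lib.Helper3.Cover.Abelian344
import Cfsg.Agent.Lib.Helper3.Cover.E21Main
import Cfsg.Agent.Lib.Helper3.Cover.E6Main
import Cfsg.Agent.Lib.Helper3.Cover.P6Main
import Cfsg.Agent.Lib.Helper3.Cover.P21Main
import Cfsg.Agent.Lib.Helper3.Cover.L63Low
import Cfsg.Agent.Lib.Helper3.Cover.L448aLow
import Cfsg.Agent.Lib.Helper3.Cover.L448bLow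
import Cfsg.Agent.Lib.Helper3.Cover.L34Iso
import Cfsg.Agent.Lib.Helper28.TC2Tower

set_option autoImplicit false
set_option maxRecDepth 100000

/-!
# The Schur multiplier of `PSL(3, 4)` is `Z/3 × Z/4 × Z/4`

`P21 = ⟨u, v, w | R21⟩ ≅ PSL(3, 4)` (the three-point stabiliser of `M24`, with `⟨u, v⟩ ≅ A6` of index 56); the
covering presentation `E21` of `P21` has order at most `448 * 2160` (the subgroup `⟨u, v⟩` is a quotient of the
covering presentation `E6` of the presentation of `A6`, of order `2160`), so the kernel has order at most 48; three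
permutation representations of `E21`, of degrees 63, 448 and 448, separate 48 elements of the kernel.
-/

namespace Cfsg.Agent.Lib.Helper3.Cover.L34Main

open Cfsg Cfsg.Agent.Lib.Helper3 Cfsg.Agent.Lib.Helper3.Golay Cfsg.Agent.Lib.Helper3.Fus
open Cfsg.Agent.Lib.Helper3.OutAut
open Cfsg.Agent.Lib.Helper28.TC2Upper Cfsg.Agent.Lib.Helper28.TC2Lower Cfsg.Agent.Lib.Helper28.TC2Glue
open Cfsg.Agent.Lib.Helper28.TC2Tower
open Cfsg.Agent.Lib.Helper3.Cover.L34Iso

/-- the covering data of the presentation of `A6` -/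
abbrev D6 : CoverData E6Def.Gen := E6Def.cover
/-- the covering data of the presentation of `PSL(3, 4)` -/
abbrev D21 : CoverData E21Def.Gen := E21Def.cover

/-- the tables of the generators -/
def tab21 : E21Def.Gen → List ℕ
  | .u => TU
  | .v => TV
  | .w => TW

theorem cert_rel21 : ∀ L ∈ E21Def.R, Nat.beq (evalC (codesOf tab21) L) idN = true := by decide +kernel

def wa21 : List (E21Def.Gen × Bool) := [(.v, true)]
def wb21 : List (E21Def.Gen × Bool) := [(.u, true), (.w, true)]

theorem cert_gen21 : Nat.beq (evalC (codesOf tab21) wa21) (encL TV) = true ∧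
    Nat.beq (evalC (codesOf tab21) wb21) (encL TB) = true := by decide +kernel

/-! ### the sub-presentations -/

theorem cardP6 : Finite (PresentedGroup P6Link.rels) ∧ Nat.card (PresentedGroup P6Link.rels) = 360 := by
  have h : ((Subgroup.closure P6Link.S).map (PresentedGroup.mk P6Link.rels)).index = 360 := P6Main.main.1
  have e : (Subgroup.closure P6Link.S).map (PresentedGroup.mk P6Link.rels) = ⊥ := by
    show (Subgroup.closure {1}).map _ = ⊥
    rw [Subgroup.closure_singleton_one, Subgroup.map_bot]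
  rw [e] at h
  exact card_of_index_bot (by norm_num) h

theorem cardE6 : Finite (PresentedGroup E6Link.rels) ∧ Nat.card (PresentedGroup E6Link.rels) = 2160 := by
  have h : ((Subgroup.closure E6Link.S).map (PresentedGroup.mk E6Link.rels)).index = 2160 := E6Main.main.1
  have e : (Subgroup.closure E6Link.S).map (PresentedGroup.mk E6Link.rels) = ⊥ := by
    show (Subgroup.closure {1}).map _ = ⊥
    rw [Subgroup.closure_singleton_one, Subgroup.map_bot]
  rw [e] at h
  exact card_of_index_bot (by norm_num) h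

theorem upP : ∀ L ∈ E6Def.R, upWord E6Def.up L ∈ E21Def.R := by decide +kernel
theorem upE : ∀ L ∈ E6Def.relWords, upWord E6Def.up L ∈ E21Def.relWords := by decide +kernel

/-! ### the group `P21` -/

theorem hS21 : ∀ s ∈ P21Link.S, ∃ b, s = FreeGroup.of (E6Def.up b) := by
  intro s hs
  simp only [P21Link.S, Set.mem_insert_iff, Set.mem_singleton_iff] at hs
  rcases hs with rfl | rfl
  exacts [⟨.u, rfl⟩, ⟨.v, rfl⟩]

theorem cardP21' : Finite (PresentedGroup P21Link.rels) ∧ Nat.card (PresentedGroup P21Link.rels) ≤ 20160 := by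
  haveI : Finite (PresentedGroup P6Link.rels) := cardP6.1
  have hrel := hrel_of_words P21Link.rels P6Link.rels E6Def.up P21Link.relWords P6Link.relWords
    P21Link.link.hrels P6Link.link.hrels upP
  obtain ⟨hfin, hle⟩ := card_le_of_subpres P21Link.rels P6Link.rels E6Def.up hrel P21Link.S hS21
  have hidx : ((Subgroup.closure P21Link.S).map (PresentedGroup.mk P21Link.rels)).index = 56 := P21Main.main.1
  have := hfin
  refine ⟨finite_of_index _ (by rw [hidx]; norm_num), ?_⟩
  exact card_le_of_index _ hidx (le_trans hle (le_of_eq cardP6.2))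

theorem cardP21 : Finite D21.P ∧ Nat.card D21.P ≤ 20160 := cardP21'

theorem iso21 : Nonempty (D21.P ≃* ↥H21) := by
  haveI : Finite (PresentedGroup (relSet E21Def.R)) := cardP21.1
  haveI : Finite ↥H21 := Nat.finite_of_card_ne_zero (by rw [card_H21]; norm_num)
  have ha := Classical.choose_spec exV
  have hb := Classical.choose_spec exB
  refine exists_iso_of_tables E21Def.R H21 tab21 ?_ cert_rel21 _ _ gen21 _ _ ha.2.1 hb.2.1
    wa21 wb21 cert_gen21.1 cert_gen21.2 ?_
  · intro x
    cases x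
    · exact tsound21 cert_mem21 TU (by simp)
    · exact tsound21 cert_mem21 TV (by simp)
    · exact tsound21 cert_mem21 TW (by simp)
  · rw [card_H21]
    exact cardP21.2

theorem cardP21_eq : Nat.card D21.P = 20160 := by
  obtain ⟨φ⟩ := iso21
  rw [Nat.card_congr φ.toEquiv, card_H21]

/-! ### the covering group `E21` -/

theorem hSE21 : ∀ s ∈ E21Link.S, ∃ b, s = FreeGroup.of (E6Def.up b) := by
  intro s hs
  simp only [E21Link.S, Set.mem_insert_iff, Set.mem_singleton_iff] at hs
  rcases hs with rfl | rfl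
  exacts [⟨.u, rfl⟩, ⟨.v, rfl⟩]

theorem cardE21' : Finite (PresentedGroup E21Link.rels) ∧ Nat.card (PresentedGroup E21Link.rels) ≤ 967680 := by
  haveI : Finite (PresentedGroup E6Link.rels) := cardE6.1
  have hrel := hrel_of_words E21Link.rels E6Link.rels E6Def.up E21Link.relWords E6Link.relWords
    E21Link.link.hrels E6Link.link.hrels upE
  obtain ⟨hfin, hle⟩ := card_le_of_subpres E21Link.rels E6Link.rels E6Def.up hrel E21Link.S hSE21
  have hidx : ((Subgroup.closure E21Link.S).map (PresentedGroup.mk E21Link.rels)).index = 448 := E21Main.main.1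
  have := hfin
  refine ⟨finite_of_index _ (by rw [hidx]; norm_num), ?_⟩
  exact card_le_of_index _ hidx (le_trans hle (le_of_eq cardE6.2))

theorem cardE21 : Finite D21.E ∧ Nat.card D21.E ≤ 967680 := cardE21'

theorem card_ker_le : Nat.card D21.proj.ker ≤ 48 := by
  haveI := cardE21.1
  have h1 := D21.card_E
  rw [cardP21_eq] at h1
  have h2 := cardE21.2
  rw [h1] at h2
  have h5 : Nat.card ↥D21.proj.ker * 20160 ≤ 48 * 20160 := h2
  exact Nat.le_of_mul_le_mul_right h5 (by norm_num)

/-! ### the three permutation representations -/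

/-- the fourth power of the relator `u u` -/
def za : List (E21Def.Gen × Bool) := (List.replicate 4 (E21Def.R.getD 0 [])).flatten
/-- the relator `w w w` -/
def zb : List (E21Def.Gen × Bool) := E21Def.R.getD 4 []
/-- the sixth relator -/
def zc : List (E21Def.Gen × Bool) := E21Def.R.getD 5 []

theorem zb_mem : zb ∈ E21Def.R := by decide +kernel
theorem zc_mem : zc ∈ E21Def.R := by decide +kernel
theorem z0_mem : E21Def.R.getD 0 [] ∈ E21Def.R := by decide +kernel

/-- the word of the element number `n` of the kernel -/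
def wordN (n : ℕ) : List (E21Def.Gen × Bool) :=
  ((List.replicate (n / 16) za).flatten ++ (List.replicate (n / 4 % 4) zb).flatten) ++
    (List.replicate (n % 4) zc).flatten

/-- the images of the first point under the element number `n` -/
noncomputable def keyN (n : ℕ) : ℕ × ℕ × ℕ :=
  (L63Table.table.walkT (pathOf E21Link.lw (wordN n)) 0,
    L448aTable.table.walkT (pathOf E21Link.lw (wordN n)) 0,
    L448bTable.table.walkT (pathOf E21Link.lw (wordN n)) 0)

def keysLit : List (ℕ × ℕ × ℕ) := [(0, 0, 0), (0, 435, 445), (0, 6, 7), (0, 434, 442), (0, 83, 90), (0, 296, 343), (0, 281, 72), (0, 290, 354), (0, 0, 7), (0, 435, 442), (0, 6, 0), (0, 434, 445), (0, 83, 72), (0, 296, 354), (0, 281, 90), (0, 290, 343), (2, 0, 0), (2, 435, 445), (2, 6, 7), (2, 434, 442), (2, 83, 90), (2, 296, 343), (2, 281, 72), (2, 290, 354), (2, 0, 7), (2, 435, 442), (2, 6, 0), (2, 434, 445), (2, 83, 72), (2, 296, 354), (2, 281, 90), (2, 290, 343), (1, 0, 0), (1, 435, 445), (1, 6, 7), (1, 434, 442), (1, 83,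 90), (1, 296, 343), (1, 281, 72), (1, 290, 354), (1, 0, 7), (1, 435, 442), (1, 6, 0), (1, 434, 445), (1, 83, 72), (1, 296, 354), (1, 281, 90), (1, 290, 343)]

theorem keys_eq : (List.range 48).map keyN = keysLit := by decide +kernel
theorem keys_nodup : keysLit.Nodup := by decide +kernel

theorem keyN_inj {m n : ℕ} (hm : m < 48) (hn : n < 48) (h : keyN m = keyN n) : m = n := by
  have h1 : ((List.range 48).map keyN).Nodup := by rw [keys_eq]; exact keys_nodup
  have h2 := List.inj_on_of_nodup_map h1 (List.mem_range.mpr hm) (List.mem_range.mpr hn) h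
  exact h2

theorem lwk63 : ∀ xb, E21Link.lw xb < L63Table.table.k := by
  rintro ⟨x, b⟩; cases x <;> cases b <;> decide
theorem lwinv63 : ∀ x, E21Link.lw (x, false) = L63Table.table.invl (E21Link.lw (x, true)) := by
  intro x; cases x <;> decide +kernel
theorem lwk448a : ∀ xb, E21Link.lw xb < L448aTable.table.k := by
  rintro ⟨x, b⟩; cases x <;> cases b <;> decide
theorem lwinv448a : ∀ x, E21Link.lw (x, false) = L448aTable.table.invl (E21Link.lw (x, true)) := by
  intro x; cases x <;> decide +kernel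
theorem lwk448b : ∀ xb, E21Link.lw xb < L448bTable.table.k := by
  rintro ⟨x, b⟩; cases x <;> cases b <;> decide
theorem lwinv448b : ∀ x, E21Link.lw (x, false) = L448bTable.table.invl (E21Link.lw (x, true)) := by
  intro x; cases x <;> decide +kernel

theorem hmem63 : ∀ L ∈ E21Def.relWords, pathOf E21Link.lw L ∈ L63Table.chkPaths := by decide +kernel
theorem hmem448a : ∀ L ∈ E21Def.relWords, pathOf E21Link.lw L ∈ L448aTable.chkPaths := by decide +kernel
theorem hmem448b : ∀ L ∈ E21Def.relWords, pathOf E21Link.lw L ∈ L448bTable.chkPaths := by decide +kernel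

theorem hpow63 : pathOf E21Link.lw (List.replicate 3 za).flatten ∈ L63Table.chkPaths ∧
    pathOf E21Link.lw (List.replicate 4 zb).flatten ∈ L63Table.chkPaths ∧
    pathOf E21Link.lw (List.replicate 4 zc).flatten ∈ L63Table.chkPaths := by decide +kernel
theorem hpow448a : pathOf E21Link.lw (List.replicate 3 za).flatten ∈ L448aTable.chkPaths ∧
    pathOf E21Link.lw (List.replicate 4 zb).flatten ∈ L448aTable.chkPaths ∧
    pathOf E21Link.lw (List.replicate 4 zc).flatten ∈ L448aTable.chkPaths := by decide +kernel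
theorem hpow448b : pathOf E21Link.lw (List.replicate 3 za).flatten ∈ L448bTable.chkPaths ∧
    pathOf E21Link.lw (List.replicate 4 zb).flatten ∈ L448bTable.chkPaths ∧
    pathOf E21Link.lw (List.replicate 4 zc).flatten ∈ L448bTable.chkPaths := by decide +kernel

/-! ### the kernel -/

/-- the element of the covering group given by a word -/
noncomputable abbrev emk (L : List (E21Def.Gen × Bool)) : D21.E :=
  PresentedGroup.mk D21.relsE (FreeGroup.mk L)

theorem mk_mem_ker (L : List (E21Def.Gen × Bool)) (hL : L ∈ E21Def.R) : emk L ∈ D21.proj.ker := by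
  rw [MonoidHom.mem_ker, D21.proj_mk]
  exact PresentedGroup.one_of_mem ⟨L, hL, rfl⟩

theorem za_mem_ker : emk za ∈ D21.proj.ker := by
  have h : emk za = emk (E21Def.R.getD 0 []) ^ 4 := by
    unfold emk za
    rw [mk_flatten_replicate, map_pow]
  rw [h]
  exact Subgroup.pow_mem _ (mk_mem_ker _ z0_mem) 4

theorem emk_wordN (n : ℕ) :
    emk (wordN n) = emk za ^ (n / 16) * emk zb ^ (n / 4 % 4) * emk zc ^ (n % 4) := by
  unfold emk wordN
  rw [← FreeGroup.mul_mk, ← FreeGroup.mul_mk, mk_flatten_replicate, mk_flatten_replicate,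
    mk_flatten_replicate, map_mul, map_mul, map_pow, map_pow, map_pow]

/-- the number of a triple -/
def code (s : ZMod 3 × ZMod 4 × ZMod 4) : ℕ := 16 * s.1.val + 4 * s.2.1.val + s.2.2.val

theorem code_spec (s : ZMod 3 × ZMod 4 × ZMod 4) :
    code s < 48 ∧ code s / 16 = s.1.val ∧ code s / 4 % 4 = s.2.1.val ∧ code s % 4 = s.2.2.val := by
  have h1 := ZMod.val_lt s.1
  have h2 := ZMod.val_lt s.2.1
  have h3 := ZMod.val_lt s.2.2
  unfold code
  omega

theorem code_inj {s t : ZMod 3 × ZMod 4 × ZMod 4} (h : code s = code t) : s = t := by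
  obtain ⟨-, a1, a2, a3⟩ := code_spec s
  obtain ⟨-, b1, b2, b3⟩ := code_spec t
  rw [h] at a1 a2 a3
  exact Prod.ext (ZMod.val_injective 3 (a1.symm.trans b1))
    (Prod.ext (ZMod.val_injective 4 (a2.symm.trans b2)) (ZMod.val_injective 4 (a3.symm.trans b3)))

/-- the kernel of the covering group is `Z/3 × Z/4 × Z/4` -/
theorem ker_iso : Nonempty (↥D21.proj.ker ≃* Multiplicative (ZMod 3 × ZMod 4 × ZMod 4)) := by
  haveI := cardE21.1
  obtain ⟨φ1, hφ1⟩ := lower_hom E21Def.relWords E21Link.lw L63Table.table L63Low.hT lwk63 lwinv63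
    (fun L hL => L63Low.hchkT _ (hmem63 L hL))
  obtain ⟨φ2, hφ2⟩ := lower_hom E21Def.relWords E21Link.lw L448aTable.table L448aLow.hT lwk448a lwinv448a
    (fun L hL => L448aLow.hchkT _ (hmem448a L hL))
  obtain ⟨φ3, hφ3⟩ := lower_hom E21Def.relWords E21Link.lw L448bTable.table L448bLow.hT lwk448b lwinv448b
    (fun L hL => L448bLow.hchkT _ (hmem448b L hL))
  have hcomm : ∀ a b : ↥D21.proj.ker, a * b = b * a := fun a b =>
    Subtype.ext (Subgroup.mem_center_iff.mp (D21.ker_proj_le_center b.2) a.1)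
  have hval : ∀ s : ZMod 3 × ZMod 4 × ZMod 4,
      (((⟨emk za, za_mem_ker⟩ : ↥D21.proj.ker) ^ s.1.val * (⟨emk zb, mk_mem_ker zb zb_mem⟩ : ↥D21.proj.ker) ^ s.2.1.val *
        (⟨emk zc, mk_mem_ker zc zc_mem⟩ : ↥D21.proj.ker) ^ s.2.2.val : ↥D21.proj.ker) : D21.E) = emk (wordN (code s)) := by
    intro s
    obtain ⟨-, a1, a2, a3⟩ := code_spec s
    rw [emk_wordN, a1, a2, a3]
    rfl
  refine iso344 hcomm card_ker_le ((φ1.prod (φ2.prod φ3)).comp D21.proj.ker.subtype)
    ⟨emk za, za_mem_ker⟩ ⟨emk zb, mk_mem_ker zb zb_mem⟩ ⟨emk zc, mk_mem_ker zc zc_mem⟩ ?_ ?_ ?_ ?_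
  · intro s t h
    simp only [MonoidHom.comp_apply, Subgroup.coe_subtype, MonoidHom.prod_apply, Prod.mk.injEq] at h
    rw [hval s, hval t] at h
    obtain ⟨h1, h2, h3⟩ := h
    apply code_inj
    apply keyN_inj (code_spec s).1 (code_spec t).1
    unfold keyN
    have e1 := congrArg (fun σ => (σ (⟨0, by decide⟩ : Fin L63Table.table.n)).val) h1
    have e2 := congrArg (fun σ => (σ (⟨0, by decide⟩ : Fin L448aTable.table.n)).val) h2
    have e3 := congrArg (fun σ => (σ (⟨0, by decide⟩ : Fin L448bTable.table.n)).val) h3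
    simp only [hφ1, hφ2, hφ3] at e1 e2 e3
    rw [e1, e2, e3]
  · apply Prod.ext
    · show φ1 (emk za) ^ 3 = 1
      rw [← map_pow, ← map_pow, ← mk_flatten_replicate]
      exact eq_one_of_walk φ1 hφ1 _ (L63Low.hchkT _ hpow63.1)
    · apply Prod.ext
      · show φ2 (emk za) ^ 3 = 1
        rw [← map_pow, ← map_pow, ← mk_flatten_replicate]
        exact eq_one_of_walk φ2 hφ2 _ (L448aLow.hchkT _ hpow448a.1)
      · show φ3 (emk za) ^ 3 = 1
        rw [← map_pow, ← map_pow, ← mk_flatten_replicate]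
        exact eq_one_of_walk φ3 hφ3 _ (L448bLow.hchkT _ hpow448b.1)
  · apply Prod.ext
    · show φ1 (emk zb) ^ 4 = 1
      rw [← map_pow, ← map_pow, ← mk_flatten_replicate]
      exact eq_one_of_walk φ1 hφ1 _ (L63Low.hchkT _ hpow63.2.1)
    · apply Prod.ext
      · show φ2 (emk zb) ^ 4 = 1
        rw [← map_pow, ← map_pow, ← mk_flatten_replicate]
        exact eq_one_of_walk φ2 hφ2 _ (L448aLow.hchkT _ hpow448a.2.1)
      · show φ3 (emk zb) ^ 4 = 1
        rw [← map_pow, ← map_pow, ← mk_flatten_replicate]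
        exact eq_one_of_walk φ3 hφ3 _ (L448bLow.hchkT _ hpow448b.2.1)
  · apply Prod.ext
    · show φ1 (emk zc) ^ 4 = 1
      rw [← map_pow, ← map_pow, ← mk_flatten_replicate]
      exact eq_one_of_walk φ1 hφ1 _ (L63Low.hchkT _ hpow63.2.2)
    · apply Prod.ext
      · show φ2 (emk zc) ^ 4 = 1
        rw [← map_pow, ← map_pow, ← mk_flatten_replicate]
        exact eq_one_of_walk φ2 hφ2 _ (L448aLow.hchkT _ hpow448a.2.2)
      · show φ3 (emk zc) ^ 4 = 1
        rw [← map_pow, ← map_pow, ← mk_flatten_replicate]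
        exact eq_one_of_walk φ3 hφ3 _ (L448bLow.hchkT _ hpow448b.2.2)

/-- the Schur multiplier of the three-point stabiliser of `M24` -/
theorem schur_H21 : Cfsg.HasSchurMultiplier ↥H21 (Multiplicative (ZMod 3 × ZMod 4 × ZMod 4)) := by
  haveI := cardE21.1
  obtain ⟨φ⟩ := iso21
  obtain ⟨ψ⟩ := ker_iso
  exact D21.hasSchurMultiplier φ ψ

/-- the Schur multiplier of `PSL(3, 4)` is `Z/3 × Z/4 × Z/4` -/
theorem schur_PSL34 {F : Type*} [Field F] [Fintype F] (hF : Fintype.card F = 4) :
    Cfsg.HasSchurMultiplier (Matrix.ProjectiveSpecialLinearGroup (Fin 3) F)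
      (Multiplicative (ZMod 3 × ZMod 4 × ZMod 4)) := by
  have hc : Fintype.card Cfsg.Agent.Lib.Helper10.M21.K4 = Fintype.card F := by
    rw [Cfsg.Agent.Lib.Helper10.M21.K4.card, hF]
  have e1 : ↥H21 ≃* ↥Cfsg.Agent.Lib.Helper10.M21.K0 := MulEquiv.subgroupCongr K0_eq.symm
  have e2 : ↥Cfsg.Agent.Lib.Helper10.M21.K0 ≃*
      Matrix.ProjectiveSpecialLinearGroup (Fin 3) Cfsg.Agent.Lib.Helper10.M21.K4 :=
    Cfsg.Agent.Lib.Helper10.M21.iso0.symm
  have e3 : Matrix.ProjectiveSpecialLinearGroup (Fin 3) Cfsg.Agent.Lib.Helper10.M21.K4 ≃*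
      Matrix.ProjectiveSpecialLinearGroup (Fin 3) F :=
    Cfsg.Agent.Lib.Helper10.M21.pslCongr (FiniteField.ringEquivOfCardEq hc)
  exact hasSchurMultiplier_transport (e1.trans (e2.trans e3)) schur_H21

end Cfsg.Agent.Lib.Helper3.Cover.L34Main
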