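import Cfsg.Agent.Lib.Helper28.TC2Range
import Cfsg.Agent.Lib.Helper3.Cover.L448bTable
set_option autoImplicit false
set_option maxRecDepth 100000
set_option maxHeartbeats 0

namespace Cfsg.Agent.Lib.Helper3.Cover.L448bC0
open Cfsg.Agent.Lib.Helper28.TC2Upper Cfsg.Agent.Lib.Helper28.TC2Lower Cfsg.Agent.Lib.Helper28.TC2Range Cfsg.Agent.Lib.Helper3.Cover.L448bTable

theorem hinvOK : table.invOK = true := by decide +kernel
theorem prm0 : Table.permRange table 0 448 = true := by decide +kernel
theorem rel0 : table.relOK chkPaths 0 328 = true := by decide +kernel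
theorem rel1 : table.relOK chkPaths 328 120 = true := by decide +kernel

end Cfsg.Agent.Lib.Helper3.Cover.L448bC0
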