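import Cfsg.Agent.Lib.Helper28.TC2Range
import Cfsg.Agent.Lib.Helper3.Cover.L448bTable
import Cfsg.Agent.Lib.Helper3.Cover.L448bC0

set_option autoImplicit false
set_option maxRecDepth 100000

namespace Cfsg.Agent.Lib.Helper3.Cover.L448bLow
open Cfsg.Agent.Lib.Helper28.TC2Upper Cfsg.Agent.Lib.Helper28.TC2Lower Cfsg.Agent.Lib.Helper28.TC2Range Cfsg.Agent.Lib.Helper3.Cover.L448bTable

theorem hpermAll : ∀ p, p < table.n → Table.permRow table p = true := by
  intro p hv
  have hv' : p < 448 := hv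
  exact (Table.permRange_iff table 0 448).mp Cfsg.Agent.Lib.Helper3.Cover.L448bC0.prm0 p (by omega) (by omega)

theorem hT : table.OK := Table.ok_of_rows table Cfsg.Agent.Lib.Helper3.Cover.L448bC0.hinvOK hpermAll

theorem hchkT : ∀ P ∈ chkPaths, ∀ p, p < table.n → table.walkT P p = p := by
  intro P hm p hv
  have hv' : p < 448 := hv
  rcases Nat.lt_or_ge p 328 with h0 | h0
  · exact (Table.relOK_iff chkPaths 0 328).mp Cfsg.Agent.Lib.Helper3.Cover.L448bC0.rel0 p (by omega) (by omega) _ hm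
  exact (Table.relOK_iff chkPaths 328 120).mp Cfsg.Agent.Lib.Helper3.Cover.L448bC0.rel1 p (by omega) (by omega) _ hm

end Cfsg.Agent.Lib.Helper3.Cover.L448bLow
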