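import Cfsg.Agent.Lib.Helper28.TC2Range
import Cfsg.Agent.Lib.Helper3.Cover.L4Table
import Cfsg.Agent.Lib.Helper3.Cover.L4C0
import Cfsg.Agent.Lib.Helper3.Cover.L4C1
import Cfsg.Agent.Lib.Helper3.Cover.L4C2
import Cfsg.Agent.Lib.Helper3.Cover.L4C3

set_option autoImplicit false
set_option maxRecDepth 100000

namespace Cfsg.Agent.Lib.Helper3.Cover.L4Low
open Cfsg.Agent.Lib.Helper28.TC2Upper Cfsg.Agent.Lib.Helper28.TC2Lower Cfsg.Agent.Lib.Helper28.TC2Range Cfsg.Agent.Lib.Helper3.Cover.L4Table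

theorem hpermAll : ∀ p, p < table.n → Table.permRow table p = true := by
  intro p hv
  have hv' : p < 4928 := hv
  exact (Table.permRange_iff table 0 4928).mp Cfsg.Agent.Lib.Helper3.Cover.L4C0.prm0 p (by omega) (by omega)

theorem hT : table.OK := Table.ok_of_rows table Cfsg.Agent.Lib.Helper3.Cover.L4C0.hinvOK hpermAll

theorem hchkT : ∀ P ∈ chkPaths, ∀ p, p < table.n → table.walkT P p = p := by
  intro P hm p hv
  have hv' : p < 4928 := hv
  rcases Nat.lt_or_ge p 328 with h0 | h0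
  · exact (Table.relOK_iff chkPaths 0 328).mp Cfsg.Agent.Lib.Helper3.Cover.L4C0.rel0 p (by omega) (by omega) _ hm
  rcases Nat.lt_or_ge p 656 with h1 | h1
  · exact (Table.relOK_iff chkPaths 328 328).mp Cfsg.Agent.Lib.Helper3.Cover.L4C0.rel1 p (by omega) (by omega) _ hm
  rcases Nat.lt_or_ge p 984 with h2 | h2
  · exact (Table.relOK_iff chkPaths 656 328).mp Cfsg.Agent.Lib.Helper3.Cover.L4C0.rel2 p (by omega) (by omega) _ hm
  rcases Nat.lt_or_ge p 1312 with h3 | h3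
  · exact (Table.relOK_iff chkPaths 984 328).mp Cfsg.Agent.Lib.Helper3.Cover.L4C1.rel3 p (by omega) (by omega) _ hm
  rcases Nat.lt_or_ge p 1640 with h4 | h4
  · exact (Table.relOK_iff chkPaths 1312 328).mp Cfsg.Agent.Lib.Helper3.Cover.L4C1.rel4 p (by omega) (by omega) _ hm
  rcases Nat.lt_or_ge p 1968 with h5 | h5
  · exact (Table.relOK_iff chkPaths 1640 328).mp Cfsg.Agent.Lib.Helper3.Cover.L4C1.rel5 p (by omega) (by omega) _ hm
  rcases Nat.lt_or_ge p 2296 with h6 | h6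
  · exact (Table.relOK_iff chkPaths 1968 328).mp Cfsg.Agent.Lib.Helper3.Cover.L4C1.rel6 p (by omega) (by omega) _ hm
  rcases Nat.lt_or_ge p 2624 with h7 | h7
  · exact (Table.relOK_iff chkPaths 2296 328).mp Cfsg.Agent.Lib.Helper3.Cover.L4C1.rel7 p (by omega) (by omega) _ hm
  rcases Nat.lt_or_ge p 2952 with h8 | h8
  · exact (Table.relOK_iff chkPaths 2624 328).mp Cfsg.Agent.Lib.Helper3.Cover.L4C2.rel8 p (by omega) (by omega) _ hm
  rcases Nat.lt_or_ge p 3280 with h9 | h9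
  · exact (Table.relOK_iff chkPaths 2952 328).mp Cfsg.Agent.Lib.Helper3.Cover.L4C2.rel9 p (by omega) (by omega) _ hm
  rcases Nat.lt_or_ge p 3608 with h10 | h10
  · exact (Table.relOK_iff chkPaths 3280 328).mp Cfsg.Agent.Lib.Helper3.Cover.L4C2.rel10 p (by omega) (by omega) _ hm
  rcases Nat.lt_or_ge p 3936 with h11 | h11
  · exact (Table.relOK_iff chkPaths 3608 328).mp Cfsg.Agent.Lib.Helper3.Cover.L4C2.rel11 p (by omega) (by omega) _ hm
  rcases Nat.lt_or_ge p 4264 with h12 | h12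
  · exact (Table.relOK_iff chkPaths 3936 328).mp Cfsg.Agent.Lib.Helper3.Cover.L4C2.rel12 p (by omega) (by omega) _ hm
  rcases Nat.lt_or_ge p 4592 with h13 | h13
  · exact (Table.relOK_iff chkPaths 4264 328).mp Cfsg.Agent.Lib.Helper3.Cover.L4C3.rel13 p (by omega) (by omega) _ hm
  rcases Nat.lt_or_ge p 4920 with h14 | h14
  · exact (Table.relOK_iff chkPaths 4592 328).mp Cfsg.Agent.Lib.Helper3.Cover.L4C3.rel14 p (by omega) (by omega) _ hm
  exact (Table.relOK_iff chkPaths 4920 8).mp Cfsg.Agent.Lib.Helper3.Cover.L4C3.rel15 p (by omega) (by omega) _ hm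

end Cfsg.Agent.Lib.Helper3.Cover.L4Low
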