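import Cfsg.Agent.Lib.Helper28.TC2Range
import Cfsg.Agent.Lib.Helper3.Cover.LU4Table
set_option autoImplicit false
set_option maxRecDepth 100000
set_option maxHeartbeats 0

namespace Cfsg.Agent.Lib.Helper3.Cover.LU4C20
open Cfsg.Agent.Lib.Helper28.TC2Upper Cfsg.Agent.Lib.Helper28.TC2Lower Cfsg.Agent.Lib.Helper28.TC2Range Cfsg.Agent.Lib.Helper3.Cover.LU4Table

theorem rel95 : table.relOK chkPaths 18050 190 = true := by decide +kernel
theorem rel96 : table.relOK chkPaths 18240 190 = true := by decide +kernel
theorem rel97 : table.relOK chkPaths 18430 190 = true := by decide +kernel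
theorem rel98 : table.relOK chkPaths 18620 190 = true := by decide +kernel
theorem rel99 : table.relOK chkPaths 18810 190 = true := by decide +kernel

end Cfsg.Agent.Lib.Helper3.Cover.LU4C20
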