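import Cfsg.Agent.Lib.Helper28.TC2Range
import Cfsg.Agent.Lib.Helper3.Cover.P7Data
import Cfsg.Agent.Lib.Helper3.Cover.P7Table
set_option autoImplicit false
set_option maxRecDepth 100000
set_option maxHeartbeats 0

namespace Cfsg.Agent.Lib.Helper3.Cover.P7M0
open Cfsg.Agent.Lib.Helper28.TC2Upper Cfsg.Agent.Lib.Helper28.TC2Lower Cfsg.Agent.Lib.Helper28.TC2Range Cfsg.Agent.Lib.Helper3.Cover.P7Data Cfsg.Agent.Lib.Helper3.Cover.P7Table

theorem fin0 : Data.finalRange data 0 2648 = true := by decide +kernel
theorem cnt0 : Data.countFrom data 0 2648 = 2520 := by decide +kernel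
theorem prm0 : Table.permRange table 0 2520 = true := by decide +kernel
theorem tre0 : Table.treeRange table 0 2519 = true := by decide +kernel

end Cfsg.Agent.Lib.Helper3.Cover.P7M0
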