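import Cfsg.Agent.Lib.Helper3.Cover.Finite
import Cfsg.Agent.Lib.Helper3.Cover.CodeHom
import Cfsg.Agent.Lib.Helper3.Cover.Lower
import Cfsg.Agent.Lib.Helper3.Cover.E22Main
import Cfsg.Agent.Lib.Helper3.Cover.E7Main
import Cfsg.Agent.Lib.Helper3.Cover.P7Main
import Cfsg.Agent.Lib.Helper3.Cover.P22Main
import Cfsg.Agent.Lib.Helper3.Cover.L3Low
import Cfsg.Agent.Lib.Helper3.Cover.L4Low
import Cfsg.Agent.Lib.Helper3.OutAut.M22
import Cfsg.Agent.Lib.Helper28.TC2Tower

set_option autoImplicit false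
set_option maxRecDepth 100000

/-!
# The Schur multiplier of `M22` is cyclic of order 12

`P22 = ⟨a, b, t | R22⟩ ≅ M22` (with `⟨a, b⟩ ≅ A7` of index 176); the covering presentation `E22` of `P22` has
order at most `352 * 15120` (the subgroup `⟨a, b⟩` is a quotient of the covering presentation `E7` of the
presentation of `A7`, which has order `15120`), so the kernel has order at most 12; two permutation
representations of `E22`, of degrees 693 and 4928, show that it has elements of orders divisible by 3 and by 4.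
-/

namespace Cfsg.Agent.Lib.Helper3.Cover.M22Main

open Cfsg Cfsg.Agent.Lib.Helper3 Cfsg.Agent.Lib.Helper3.Golay Cfsg.Agent.Lib.Helper3.Fus
open Cfsg.Agent.Lib.Helper3.OutAut
open Cfsg.Agent.Lib.Helper28.TC2Upper Cfsg.Agent.Lib.Helper28.TC2Lower Cfsg.Agent.Lib.Helper28.TC2Glue
open Cfsg.Agent.Lib.Helper28.TC2Tower

/-- the covering data of the presentation of `A7` -/
abbrev D7 : CoverData E7Def.Gen := E7Def.cover
/-- the covering data of the presentation of `M22` -/
abbrev D22 : CoverData E22Def.Gen := E22Def.cover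

def TA : List ℕ := [0, 17, 2, 3, 18, 5, 16, 9, 10, 22, 15, 21, 12, 4, 1, 8, 20, 14, 13, 11, 6, 19, 7, 23]
def TB : List ℕ := [0, 14, 19, 12, 9, 2, 16, 13, 18, 20, 17, 11, 5, 22, 15, 6, 1, 4, 7, 3, 10, 21, 8, 23]
def TT : List ℕ := [0, 1, 4, 6, 2, 9, 3, 20, 10, 5, 8, 21, 14, 13, 12, 15, 22, 17, 18, 19, 7, 11, 16, 23]

/-- the tables of the generators of `M22` -/
def tab22 : E22Def.Gen → List ℕ
  | .a => TA
  | .b => TB
  | .t => TT

theorem cert_mem22 : [TA, TB, TT].all memOK22 = true := by decide +kernel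

theorem cert_rel22 : ∀ L ∈ E22Def.R, Nat.beq (evalC (codesOf tab22) L) idN = true := by decide +kernel

def wa22 : List (E22Def.Gen × Bool) := [(.t, true), (.a, true), (.b, false), (.a, true), (.t, true), (.b, true), (.a, true), (.t, true), (.b, true)]
def wb22 : List (E22Def.Gen × Bool) := [(.b, true), (.a, false), (.t, true), (.b, true), (.a, false), (.t, true), (.a, true), (.b, false), (.t, true), (.a, true), (.b, false)]

theorem cert_gen22 : Nat.beq (evalC (codesOf tab22) wa22) (encL OutM22.aT) = true ∧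
    Nat.beq (evalC (codesOf tab22) wb22) (encL OutM22.bT) = true := by decide +kernel

/-! ### the sub-presentations -/

theorem cardP7 : Finite (PresentedGroup P7Link.rels) ∧ Nat.card (PresentedGroup P7Link.rels) = 2520 := by
  have h : ((Subgroup.closure P7Link.S).map (PresentedGroup.mk P7Link.rels)).index = 2520 := P7Main.main.1
  have e : (Subgroup.closure P7Link.S).map (PresentedGroup.mk P7Link.rels) = ⊥ := by
    show (Subgroup.closure {1}).map _ = ⊥
    rw [Subgroup.closure_singleton_one, Subgroup.map_bot]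
  rw [e] at h
  exact card_of_index_bot (by norm_num) h

theorem cardE7 : Finite (PresentedGroup E7Link.rels) ∧ Nat.card (PresentedGroup E7Link.rels) = 15120 := by
  have h : ((Subgroup.closure E7Link.S).map (PresentedGroup.mk E7Link.rels)).index = 15120 := E7Main.main.1
  have e : (Subgroup.closure E7Link.S).map (PresentedGroup.mk E7Link.rels) = ⊥ := by
    show (Subgroup.closure {1}).map _ = ⊥
    rw [Subgroup.closure_singleton_one, Subgroup.map_bot]
  rw [e] at h
  exact card_of_index_bot (by norm_num) h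

theorem upP : ∀ L ∈ E7Def.R, upWord E7Def.up L ∈ E22Def.R := by decide +kernel
theorem upE : ∀ L ∈ E7Def.relWords, upWord E7Def.up L ∈ E22Def.relWords := by decide +kernel

/-! ### the group `P22` -/

theorem hS22 : ∀ s ∈ P22Link.S, ∃ b, s = FreeGroup.of (E7Def.up b) := by
  intro s hs
  simp only [P22Link.S, Set.mem_insert_iff, Set.mem_singleton_iff] at hs
  rcases hs with rfl | rfl
  exacts [⟨.a, rfl⟩, ⟨.b, rfl⟩]

theorem cardP22' : Finite (PresentedGroup P22Link.rels) ∧ Nat.card (PresentedGroup P22Link.rels) ≤ 443520 := by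
  haveI : Finite (PresentedGroup P7Link.rels) := cardP7.1
  have hrel := hrel_of_words P22Link.rels P7Link.rels E7Def.up P22Link.relWords P7Link.relWords
    P22Link.link.hrels P7Link.link.hrels upP
  obtain ⟨hfin, hle⟩ := card_le_of_subpres P22Link.rels P7Link.rels E7Def.up hrel P22Link.S hS22
  have hidx : ((Subgroup.closure P22Link.S).map (PresentedGroup.mk P22Link.rels)).index = 176 := P22Main.main.1
  have := hfin
  refine ⟨finite_of_index _ (by rw [hidx]; norm_num), ?_⟩
  exact card_le_of_index _ hidx (le_trans hle (le_of_eq cardP7.2))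

theorem cardP22 : Finite D22.P ∧ Nat.card D22.P ≤ 443520 := cardP22'

theorem gen22 : Cfsg.Spor.M22 ≤ Subgroup.closure {(Classical.choose (tblOK_sound OutM22.cert_tbl.1)),
    (Classical.choose (tblOK_sound OutM22.cert_tbl.2.1))} := by
  have ha := Classical.choose_spec (tblOK_sound OutM22.cert_tbl.1)
  have hb := Classical.choose_spec (tblOK_sound OutM22.cert_tbl.2.1)
  have haM : Classical.choose (tblOK_sound OutM22.cert_tbl.1) ∈ M24 := (Subgroup.mem_inf.mp ha.1).1
  have hbM : Classical.choose (tblOK_sound OutM22.cert_tbl.2.1) ∈ M24 := (Subgroup.mem_inf.mp hb.1).1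
  rw [OutM22.M22_eq]
  exact M24_fixB_le (closure_pair_le haM hbM) (sound_pair ha.2 hb.2 OutM22.prog) 2 (by norm_num)
    OutM22.cert_gen

theorem iso22 : Nonempty (D22.P ≃* ↥Cfsg.Spor.M22) := by
  haveI : Finite (PresentedGroup (relSet E22Def.R)) := cardP22.1
  haveI : Finite ↥Cfsg.Spor.M22 := Nat.finite_of_card_ne_zero (by rw [OutM22.card_M22]; norm_num)
  have ha := Classical.choose_spec (tblOK_sound OutM22.cert_tbl.1)
  have hb := Classical.choose_spec (tblOK_sound OutM22.cert_tbl.2.1)
  refine exists_iso_of_tables E22Def.R Cfsg.Spor.M22 tab22 ?_ cert_rel22 _ _ gen22 _ _ ha.2 hb.2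
    wa22 wb22 cert_gen22.1 cert_gen22.2 ?_
  · intro x
    cases x
    · exact tsound22 cert_mem22 TA (by simp)
    · exact tsound22 cert_mem22 TB (by simp)
    · exact tsound22 cert_mem22 TT (by simp)
  · rw [OutM22.card_M22]
    exact cardP22.2

theorem cardP22_eq : Nat.card D22.P = 443520 := by
  obtain ⟨φ⟩ := iso22
  rw [Nat.card_congr φ.toEquiv, OutM22.card_M22]

/-! ### the covering group `E22` -/

theorem hSE22 : ∀ s ∈ E22Link.S, ∃ b, s = FreeGroup.of (E7Def.up b) := by
  intro s hs
  simp only [E22Link.S, Set.mem_insert_iff, Set.mem_singleton_iff] at hs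
  rcases hs with rfl | rfl
  exacts [⟨.a, rfl⟩, ⟨.b, rfl⟩]

theorem cardE22' : Finite (PresentedGroup E22Link.rels) ∧ Nat.card (PresentedGroup E22Link.rels) ≤ 5322240 := by
  haveI : Finite (PresentedGroup E7Link.rels) := cardE7.1
  have hrel := hrel_of_words E22Link.rels E7Link.rels E7Def.up E22Link.relWords E7Link.relWords
    E22Link.link.hrels E7Link.link.hrels upE
  obtain ⟨hfin, hle⟩ := card_le_of_subpres E22Link.rels E7Link.rels E7Def.up hrel E22Link.S hSE22
  have hidx : ((Subgroup.closure E22Link.S).map (PresentedGroup.mk E22Link.rels)).index = 352 := E22Main.main.1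
  have := hfin
  refine ⟨finite_of_index _ (by rw [hidx]; norm_num), ?_⟩
  exact card_le_of_index _ hidx (le_trans hle (le_of_eq cardE7.2))

theorem cardE22 : Finite D22.E ∧ Nat.card D22.E ≤ 5322240 := cardE22'

theorem card_ker_le : Nat.card D22.proj.ker ≤ 12 := by
  haveI := cardE22.1
  have h1 := D22.card_E
  rw [cardP22_eq] at h1
  have h2 := cardE22.2
  rw [h1] at h2
  have h5 : Nat.card ↥D22.proj.ker * 443520 ≤ 12 * 443520 := h2
  exact Nat.le_of_mul_le_mul_right h5 (by norm_num)

/-! ### the two permutation representations -/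

/-- the relator `t t` -/
def z3 : List (E22Def.Gen × Bool) := E22Def.R.getD 5 []
/-- the eighth relator -/
def z4 : List (E22Def.Gen × Bool) := E22Def.R.getD 7 []

theorem z3_mem : z3 ∈ E22Def.R := by decide +kernel
theorem z4_mem : z4 ∈ E22Def.R := by decide +kernel

theorem lwk3 : ∀ xb, E22Link.lw xb < L3Table.table.k := by
  rintro ⟨x, b⟩; cases x <;> cases b <;> decide
theorem lwinv3 : ∀ x, E22Link.lw (x, false) = L3Table.table.invl (E22Link.lw (x, true)) := by
  intro x; cases x <;> decide +kernel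
theorem lwk4 : ∀ xb, E22Link.lw xb < L4Table.table.k := by
  rintro ⟨x, b⟩; cases x <;> cases b <;> decide
theorem lwinv4 : ∀ x, E22Link.lw (x, false) = L4Table.table.invl (E22Link.lw (x, true)) := by
  intro x; cases x <;> decide +kernel

theorem hmem3 : ∀ L ∈ E22Def.relWords, pathOf E22Link.lw L ∈ L3Table.chkPaths := by decide +kernel
theorem hmem4 : ∀ L ∈ E22Def.relWords, pathOf E22Link.lw L ∈ L4Table.chkPaths := by decide +kernel
theorem hpow3 : pathOf E22Link.lw (List.replicate 3 z3).flatten ∈ L3Table.chkPaths := by decide +kernel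
theorem hpow4 : pathOf E22Link.lw (List.replicate 4 z4).flatten ∈ L4Table.chkPaths := by decide +kernel

theorem walk3 : L3Table.table.walkT (pathOf E22Link.lw z3) 0 ≠ 0 := by decide +kernel
theorem walk4 : L4Table.table.walkT (pathOf E22Link.lw (List.replicate 2 z4).flatten) 0 ≠ 0 := by decide +kernel

theorem mk_mem_ker (L : List (E22Def.Gen × Bool)) (hL : L ∈ E22Def.R) :
    PresentedGroup.mk D22.relsE (FreeGroup.mk L) ∈ D22.proj.ker := by
  rw [MonoidHom.mem_ker, D22.proj_mk]
  exact PresentedGroup.one_of_mem ⟨L, hL, rfl⟩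

/-- an element of the kernel whose order is divisible by 3 -/
theorem three_dvd : 3 ∣ orderOf (PresentedGroup.mk D22.relsE (FreeGroup.mk z3)) := by
  obtain ⟨φ, hφ⟩ := lower_hom E22Def.relWords E22Link.lw L3Table.table L3Low.hT lwk3 lwinv3
    (fun L hL => L3Low.hchkT _ (hmem3 L hL))
  have h1 : φ (PresentedGroup.mk _ (FreeGroup.mk z3)) ≠ 1 :=
    ne_one_of_walk φ hφ z3 ⟨0, by decide⟩ walk3
  have h2 : φ (PresentedGroup.mk _ (FreeGroup.mk z3)) ^ 3 = 1 := by
    rw [← map_pow, ← map_pow, ← mk_flatten_replicate]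
    exact eq_one_of_walk φ hφ _ (L3Low.hchkT _ hpow3)
  haveI : Fact (Nat.Prime 3) := ⟨by norm_num⟩
  have h3 : orderOf (φ (PresentedGroup.mk _ (FreeGroup.mk z3))) = 3 := orderOf_eq_prime h2 h1
  rw [← h3]
  exact orderOf_map_dvd φ _

/-- an element of the kernel whose order is divisible by 4 -/
theorem four_dvd : 4 ∣ orderOf (PresentedGroup.mk D22.relsE (FreeGroup.mk z4)) := by
  obtain ⟨φ, hφ⟩ := lower_hom E22Def.relWords E22Link.lw L4Table.table L4Low.hT lwk4 lwinv4
    (fun L hL => L4Low.hchkT _ (hmem4 L hL))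
  have h1 : ¬ φ (PresentedGroup.mk _ (FreeGroup.mk z4)) ^ 2 ^ 1 = 1 := by
    rw [pow_one, ← map_pow, ← map_pow, ← mk_flatten_replicate]
    exact ne_one_of_walk φ hφ _ ⟨0, by decide⟩ walk4
  have h2 : φ (PresentedGroup.mk _ (FreeGroup.mk z4)) ^ 2 ^ (1 + 1) = 1 := by
    show φ (PresentedGroup.mk _ (FreeGroup.mk z4)) ^ 4 = 1
    rw [← map_pow, ← map_pow, ← mk_flatten_replicate]
    exact eq_one_of_walk φ hφ _ (L4Low.hchkT _ hpow4)
  haveI : Fact (Nat.Prime 2) := ⟨Nat.prime_two⟩
  have h3 : orderOf (φ (PresentedGroup.mk _ (FreeGroup.mk z4))) = 2 ^ (1 + 1) := orderOf_eq_prime_pow h1 h2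
  have h4 : (4 : ℕ) = 2 ^ (1 + 1) := by norm_num
  rw [h4, ← h3]
  exact orderOf_map_dvd φ _

/-- a commutative group of order at most 12 with elements of orders divisible by 4 and by 3 is cyclic of order 12 -/
theorem cyclic12 {K : Type*} [CommGroup K] [Finite K] (hle : Nat.card K ≤ 12) (x y : K)
    (hx : 4 ∣ orderOf x) (hy : 3 ∣ orderOf y) : IsCyclic K ∧ Nat.card K = 12 := by
  have h1 : 4 ∣ Monoid.exponent K := dvd_trans hx (Monoid.order_dvd_exponent x)
  have h2 : 3 ∣ Monoid.exponent K := dvd_trans hy (Monoid.order_dvd_exponent y)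
  have h3 : 12 ∣ Monoid.exponent K :=
    Nat.Coprime.mul_dvd_of_dvd_of_dvd (by norm_num : Nat.Coprime 4 3) h1 h2
  have h4 : Monoid.exponent K ∣ Nat.card K := Group.exponent_dvd_nat_card
  have h5 : 0 < Nat.card K := Nat.card_pos
  have h6 : 12 ≤ Monoid.exponent K := Nat.le_of_dvd (Nat.pos_of_dvd_of_pos h4 h5) h3
  have h7 : Monoid.exponent K ≤ Nat.card K := Nat.le_of_dvd h5 h4
  have h8 : Monoid.exponent K = Nat.card K := by omega
  exact ⟨IsCyclic.of_exponent_eq_card h8, by omega⟩

/-- the Schur multiplier of `M22` is cyclic of order 12 -/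
theorem schur_M22 : Cfsg.HasCyclicSchurMultiplier ↥Cfsg.Spor.M22 12 := by
  haveI := cardE22.1
  obtain ⟨φ⟩ := iso22
  letI cg : CommGroup ↥D22.proj.ker :=
    { (inferInstance : Group ↥D22.proj.ker) with
      mul_comm := fun u v => Subtype.ext (Subgroup.mem_center_iff.mp (D22.ker_proj_le_center v.2) u.1) }
  have hx : 4 ∣ orderOf (⟨_, mk_mem_ker z4 z4_mem⟩ : ↥D22.proj.ker) := by
    rw [← Subgroup.orderOf_coe]; exact four_dvd
  have hy : 3 ∣ orderOf (⟨_, mk_mem_ker z3 z3_mem⟩ : ↥D22.proj.ker) := by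
    rw [← Subgroup.orderOf_coe]; exact three_dvd
  obtain ⟨hc, hcard⟩ := cyclic12 card_ker_le _ _ hx hy
  have e : Nat.card D22.proj.ker = Nat.card (Multiplicative (ZMod 12)) := by
    rw [hcard, Nat.card_eq_fintype_card]; rfl
  exact D22.hasSchurMultiplier φ (mulEquivOfCyclicCardEq e)

end Cfsg.Agent.Lib.Helper3.Cover.M22Main
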