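import Cfsg.Agent.Lib.Helper28.BitGroup
set_option autoImplicit false

/-!
# Data for the orthogonal group `Ω₈⁺(2)`: the matrices of the generators (lists of the codes of the columns), and a
straight-line program with transversals certifying the lower bound `174182400` for the order of the group they generate
(generated by `tools/tcx/o8_data_emit.py`)
-/

namespace Cfsg.Agent.Lib.Helper3.Cover.O8Data

open Cfsg.Agent.Lib.Helper28.BitGroup

def Ga : List ℕ := [4, 7, 1, 13, 234, 37, 186, 133]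
def Gai : List ℕ := [4, 7, 1, 13, 234, 37, 186, 133]
def Gb : List ℕ := [220, 170, 5, 210, 80, 2, 16, 90]
def Gbi : List ℕ := [157, 32, 153, 176, 64, 170, 80, 56]
def Gc : List ℕ := [51, 48, 4, 128, 16, 18, 64, 8]
def Gci : List ℕ := [51, 48, 4, 128, 16, 18, 64, 8]
def Gd : List ℕ := [51, 210, 230, 234, 16, 240, 64, 128]
def Gdi : List ℕ := [51, 210, 230, 234, 16, 240, 64, 128]

/-- the straight-line program -/
def prog : List Ins := [
  .mul 0 3,
  .mul 2 3,
  .mul 1 4,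
  .mul 2 4,
  .mul 3 4,
  .mul 0 5,
  .mul 0 6,
  .mul 1 6,
  .mul 2 6,
  .mul 3 6,
  .mul 0 7,
  .mul 1 7,
  .mul 0 8,
  .mul 1 8,
  .mul 2 8,
  .mul 2 9,
  .mul 1 10,
  .mul 3 10,
  .mul 0 11,
  .mul 1 11,
  .mul 3 11,
  .mul 0 12,
  .mul 0 13,
  .mul 1 13,
  .mul 1 14,
  .mul 2 14,
  .mul 3 14,
  .mul 1 15,
  .mul 2 15,
  .mul 3 15,
  .mul 1 16,
  .mul 2 16,
  .mul 0 17,
  .mul 1 17,
  .mul 2 17,
  .mul 1 19,
  .mul 0 20,
  .mul 1 20,
  .mul 2 20,
  .mul 0 21,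
  .mul 1 21,
  .mul 1 22,
  .mul 3 22,
  .mul 0 23,
  .mul 2 23,
  .mul 3 23,
  .mul 0 24,
  .mul 1 24,
  .mul 1 26,
  .mul 1 27,
  .mul 2 28,
  .mul 3 28,
  .mul 0 30,
  .mul 2 31,
  .mul 0 32,
  .mul 0 33,
  .mul 1 34,
  .mul 1 35,
  .mul 1 36,
  .mul 3 36,
  .mul 0 37,
  .mul 0 38,
  .mul 1 40,
  .mul 2 40,
  .mul 3 40,
  .mul 1 41,
  .mul 1 42,
  .mul 1 43,
  .mul 0 44,
  .mul 2 44,
  .mul 0 45,
  .mul 3 45,
  .mul 1 46,
  .mul 3 47,
  .mul 0 49,
  .mul 1 49,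
  .mul 2 50,
  .mul 0 51,
  .mul 0 52,
  .mul 1 52,
  .mul 0 55,
  .mul 1 56,
  .mul 1 58,
  .mul 1 59,
  .mul 2 60,
  .mul 0 61,
  .mul 1 61,
  .mul 2 61,
  .mul 1 62,
  .mul 3 62,
  .mul 2 63,
  .mul 1 65,
  .mul 0 66,
  .mul 2 66,
  .mul 3 66,
  .mul 0 68,
  .mul 1 69,
  .mul 0 71,
  .mul 1 74,
  .mul 1 75,
  .mul 1 78,
  .mul 2 78,
  .mul 0 79,
  .mul 1 80,
  .mul 2 81,
  .mul 2 82,
  .mul 0 83,
  .mul 1 83,
  .mul 1 84,
  .mul 0 86,
  .mul 1 88,
  .mul 1 92,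
  .mul 2 93,
  .mul 0 95,
  .mul 1 96,
  .mul 1 99,
  .mul 1 117,
  .mul 1 119,
  .mul 1 0,
  .mul 2 0,
  .mul 1 1,
  .mul 2 1,
  .mul 0 2,
  .mul 1 2,
  .mul 0 122,
  .mul 1 122,
  .mul 2 122,
  .mul 0 123,
  .mul 1 123,
  .mul 0 124,
  .mul 2 124,
  .mul 0 125,
  .mul 1 125,
  .mul 2 126,
  .mul 1 127,
  .mul 2 127,
  .mul 1 128,
  .mul 2 128,
  .mul 0 129,
  .mul 1 129,
  .mul 2 129,
  .mul 0 130,
  .mul 1 130,
  .mul 1 131,
  .mul 1 132,
  .mul 2 132,
  .mul 2 133,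
  .mul 1 134,
  .mul 1 135,
  .mul 2 135,
  .mul 1 137,
  .mul 2 138,
  .mul 0 139,
  .mul 1 140,
  .mul 2 140,
  .mul 0 141,
  .mul 1 142,
  .mul 2 142,
  .mul 0 143,
  .mul 2 143,
  .mul 0 144,
  .mul 1 144,
  .mul 2 145,
  .mul 1 146,
  .mul 2 146,
  .mul 0 148,
  .mul 2 148,
  .mul 0 149,
  .mul 1 150,
  .mul 1 151,
  .mul 1 153,
  .mul 0 157,
  .mul 2 159,
  .mul 1 160,
  .mul 2 160,
  .mul 1 164,
  .mul 2 164,
  .mul 1 165,
  .mul 2 165,
  .mul 2 167,
  .mul 1 169,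
  .mul 1 171,
  .mul 2 171,
  .mul 1 175,
  .mul 2 177,
  .mul 1 179,
  .mul 0 1,
  .mul 1 190,
  .mul 2 191,
  .mul 0 192,
  .mul 0 193,
  .inv 134 [52, 82, 85, 90, 80, 250, 16, 210],
  .mul 195 194,
  .mul 0 2,
  .mul 1 197,
  .mul 2 198,
  .mul 0 199,
  .mul 2 200,
  .inv 141 [190, 252, 103, 195, 87, 115, 189, 75],
  .mul 202 201,
  .mul 0 0,
  .mul 2 204,
  .mul 1 205,
  .mul 0 206,
  .mul 2 207,
  .inv 139 [87, 234, 171, 130, 64, 82, 80, 10],
  .mul 209 208,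
  .mul 0 2,
  .mul 1 211,
  .mul 1 212,
  .mul 0 213,
  .mul 2 214,
  .inv 142 [85, 204, 51, 180, 207, 97, 117, 60],
  .mul 216 215,
  .mul 2 0,
  .mul 1 218,
  .mul 2 219,
  .mul 2 220,
  .mul 0 221,
  .inv 132 [175, 237, 174, 10, 186, 170, 80, 130],
  .mul 223 222,
  .mul 1 1,
  .mul 2 225,
  .mul 1 226,
  .mul 1 227,
  .mul 1 228,
  .inv 134 [52, 82, 85, 90, 80, 250, 16, 210],
  .mul 230 229,
  .mul 2 1,
  .mul 1 232,
  .mul 1 233,
  .mul 2 234,
  .mul 1 235,
  .inv 172 [185, 3, 117, 120, 112, 32, 64, 240],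
  .mul 237 236,
  .mul 1 2,
  .mul 0 239,
  .mul 1 240,
  .mul 1 241,
  .mul 0 242,
  .inv 126 [4, 7, 51, 183, 234, 37, 186, 63],
  .mul 244 243,
  .mul 203 196,
  .mul 217 196,
  .mul 238 196,
  .mul 217 203,
  .mul 224 203,
  .mul 231 203,
  .mul 238 203,
  .mul 210 217,
  .mul 231 217,
  .mul 238 217,
  .mul 245 217,
  .mul 196 231,
  .mul 210 231,
  .mul 224 231,
  .mul 245 231,
  .mul 203 238,
  .mul 231 238,
  .mul 238 238,
  .mul 217 246,
  .mul 224 246,
  .mul 196 247,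
  .mul 224 247,
  .mul 203 248,
  .mul 196 249,
  .mul 231 249,
  .mul 217 252,
  .mul 231 252,
  .mul 196 255,
  .mul 224 262,
  .mul 245 203,
  .mul 196 275,
  .mul 217 276,
  .mul 224 277,
  .mul 210 278,
  .inv 264 [48, 67, 112, 8, 37, 80, 103, 128],
  .mul 280 279,
  .mul 238 217,
  .mul 238 282,
  .mul 245 283,
  .mul 203 284,
  .mul 210 285,
  .inv 252 [96, 64, 1, 8, 66, 103, 80, 128],
  .mul 287 286,
  .mul 238 245,
  .mul 224 289,
  .mul 210 290,
  .mul 238 291,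
  .mul 224 292,
  .inv 231 [65, 2, 20, 8, 16, 32, 64, 128],
  .mul 294 293,
  .mul 231 238,
  .mul 238 296,
  .mul 217 297,
  .mul 210 298,
  .mul 203 299,
  .inv 266 [67, 64, 112, 8, 16, 22, 2, 128],
  .mul 301 300,
  .mul 210 210,
  .mul 217 303,
  .mul 217 304,
  .mul 196 305,
  .mul 245 306,
  .inv 247 [51, 64, 112, 8, 16, 102, 82, 128],
  .mul 308 307,
  .mul 231 231,
  .mul 210 310,
  .mul 196 311,
  .mul 245 312,
  .mul 238 313,
  .inv 264 [48, 67, 112, 8, 37, 80, 103, 128],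
  .mul 315 314,
  .mul 238 238,
  .mul 238 317,
  .mul 203 318,
  .mul 245 319,
  .mul 238 320,
  .inv 254 [115, 82, 118, 8, 16, 112, 64, 128],
  .mul 322 321,
  .mul 217 196,
  .mul 203 324,
  .mul 217 325,
  .mul 245 326,
  .mul 210 327,
  .inv 248 [117, 103, 6, 8, 102, 118, 66, 128],
  .mul 329 328,
  .mul 281 281,
  .mul 288 281,
  .mul 302 281,
  .mul 295 302,
  .mul 281 309,
  .mul 295 309,
  .mul 302 309,
  .mul 316 309,
  .mul 288 316,
  .mul 281 330,
  .mul 316 288,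
  .mul 281 341,
  .mul 288 342,
  .mul 281 343,
  .mul 295 344,
  .inv 316 [1, 5, 7, 8, 87, 96, 33, 128],
  .mul 346 345,
  .mul 316 288,
  .mul 281 348,
  .mul 288 349,
  .mul 302 350,
  .mul 323 351,
  .inv 331 [1, 64, 33, 8, 51, 37, 67, 128],
  .mul 353 352,
  .mul 309 295,
  .mul 316 355,
  .mul 316 356,
  .mul 330 357,
  .mul 288 358,
  .inv 330 [1, 96, 65, 8, 55, 3, 7, 128],
  .mul 360 359,
  .mul 330 288,
  .mul 330 362,
  .mul 330 363,
  .mul 330 364,
  .mul 309 365,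
  .inv 295 [1, 6, 2, 8, 20, 67, 103, 128],
  .mul 367 366,
  .mul 295 288,
  .mul 288 369,
  .mul 316 370,
  .mul 309 371,
  .mul 330 372,
  .inv 331 [1, 64, 33, 8, 51, 37, 67, 128],
  .mul 374 373,
  .mul 281 295,
  .mul 302 376,
  .mul 316 377,
  .mul 295 378,
  .mul 281 379,
  .inv 333 [1, 67, 103, 8, 20, 97, 65, 128],
  .mul 381 380,
  .mul 288 309,
  .mul 309 383,
  .mul 316 384,
  .mul 295 385,
  .mul 316 386,
  .inv 340 [1, 37, 66, 8, 80, 64, 32, 128],
  .mul 388 387,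
  .mul 316 302,
  .mul 302 390,
  .mul 302 391,
  .mul 302 392,
  .mul 323 393,
  .inv 302 [1, 7, 3, 8, 55, 66, 103, 128],
  .mul 395 394,
  .mul 375 347,
  .mul 396 347,
  .mul 368 368,
  .mul 396 399,
  .mul 382 400,
  .mul 347 401,
  .mul 347 402,
  .inv 397 [1, 2, 5, 8, 82, 33, 64, 128],
  .mul 404 403,
  .mul 361 396,
  .mul 389 406,
  .mul 382 407,
  .mul 354 408,
  .mul 389 409,
  .mul 368 389,
  .mul 368 411,
  .mul 347 412,
  .mul 375 413,
  .mul 368 414,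
  .inv 361 [1, 2, 7, 8, 82, 102, 66, 128],
  .mul 416 415 ]

/-- the base -/
def bs : List ℕ := [136, 8, 1, 2, 16, 32]

/-- the transversals -/
def Ds : List (List (ℕ × ℕ)) := [
  [(136, 1000000), (106, 3), (149, 4), (226, 5), (211, 6), (47, 7), (69, 8), (29, 9), (214, 10), (108, 11), (91, 12), (49, 13), (42, 14), (163, 15), (191, 16), (201, 17), (119, 18), (167, 19), (181, 20), (228, 21), (147, 22), (197, 23), (188, 24), (94, 25), (203, 26), (142, 27), (122, 28), (162, 29), (200, 30), (46, 31), (25, 32), (145, 33), (169, 34), (141, 35), (54, 36), (68, 37), (251, 38), (43, 39), (79, 40), (209, 41), (61, 42), (27, 43), (77, 44), (124, 45), (113, 46), (58, 47), (127, 48), (21, 49), (70, 50), (223, 51), (238, 52), (39, 53), (242, 54), (152, 55), (50, 56), (166, 57), (227, 58), (107, 59), (86, 60), (81, 61), (253, 62), (212, 63), (187, 64), (254, 65), (177, 66), (199, 67), (173, 68), (198, 69), (89, 70), (244, 71), (178, 72),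 (247, 73), (121, 74), (172, 75), (158, 76), (216, 77), (239, 78), (137, 79), (116, 80), (218, 81), (17, 82), (53, 83), (98, 84), (248, 85), (62, 86), (182, 87), (100, 88), (84, 89), (156, 90), (99, 91), (19, 92), (31, 93), (92, 94), (101, 95), (78, 96), (57, 97), (83, 98), (168, 99), (229, 100), (241, 101), (76, 102), (143, 103), (233, 104), (221, 105), (140, 106), (71, 107), (232, 108), (35, 109), (202, 110), (139, 111), (184, 112), (196, 113), (23, 114), (38, 115), (151, 116), (154, 117), (109, 118), (138, 119), (114, 120), (34, 121)],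
  [(8, 1000000), (13, 0), (210, 1), (128, 2), (11, 122), (183, 123), (176, 124), (104, 125), (133, 126), (90, 127), (14, 128), (164, 129), (131, 130), (72, 131), (123, 132), (74, 133), (10, 134), (146, 135), (192, 136), (63, 137), (56, 138), (224, 139), (125, 140), (180, 141), (161, 142), (93, 143), (30, 144), (134, 145), (44, 146), (194, 147), (230, 148), (193, 149), (240, 150), (120, 151), (160, 152), (40, 153), (243, 154), (130, 155), (26, 156), (73, 157), (245, 158), (75, 159), (132, 160), (41, 161), (88, 162), (231, 163), (225, 164), (45, 165), (60, 166), (213, 167), (150, 168), (28, 169), (110, 170), (59, 171), (24, 172), (144, 173), (208, 174), (179, 175), (195, 176), (95, 177), (12, 178), (148, 179), (105, 180), (9, 181), (165, 182), (111, 183), (135, 184), (246, 185), (129, 186), (126, 187), (215, 188), (15, 189)],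
  [(1, 1000000), (5, 196), (6, 203), (51, 217), (65, 231), (37, 238), (2, 246), (85, 247), (18, 248), (52, 249), (7, 250), (22, 251), (4, 252), (55, 253), (115, 254), (118, 255), (103, 256), (87, 257), (97, 258), (64, 259), (33, 260), (16, 261), (117, 262), (66, 263), (82, 264), (3, 265), (67, 266), (112, 267), (32, 268), (48, 269), (36, 270), (102, 271), (20, 272), (96, 273), (80, 274)],
  [(2, 1000000), (96, 281), (97, 288), (4, 295), (5, 302), (32, 309), (6, 316), (33, 330), (67, 331), (3, 332), (66, 333), (7, 334), (37, 335), (102, 336), (103, 337), (65, 338), (64, 339), (36, 340)],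
  [(16, 1000000), (20, 347), (18, 354), (80, 361), (22, 368), (87, 375), (82, 397), (85, 398)],
  [(32, 1000000), (96, 405), (102, 410), (36, 417)] ]

end Cfsg.Agent.Lib.Helper3.Cover.O8Data
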