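import Mathlib
import Cfsg.Prelude.Def_Classical
import Cfsg.Agent.Lib.Helper28.BitOmega

set_option autoImplicit false
set_option maxRecDepth 100000

/-!
# The general linear group of `(ZMod 2)^(Fin 4 ⊕ Fin 4)` acting on the 256 coded vectors
-/

namespace Cfsg.Agent.Lib.Helper3.Cover.O8Num

open Cfsg.Agent.Lib.Helper28.BitMat Cfsg.Agent.Lib.Helper28.BitGroup Cfsg.Agent.Lib.Helper28.BitOmega

/-- the index type -/
abbrev J8 : Type := Fin 4 ⊕ Fin 4
/-- the enumeration of the indices -/
abbrev I8 : Idx J8 := idxPlus 4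
/-- the vectors -/
abbrev V8 : Type := J8 → ZMod 2
/-- the quadratic form -/
abbrev Q8 : V8 → ZMod 2 := Cfsg.quadFormPlus 4 (ZMod 2)
/-- the general linear group -/
abbrev GL8 : Type := Matrix.GeneralLinearGroup J8 (ZMod 2)
/-- the orthogonal group -/
abbrev O8 : Subgroup GL8 := Cfsg.isometryGroup (ZMod 2) Q8

theorem h256 : 2 ^ I8.d = 256 := by decide

/-- the code of a vector -/
noncomputable def enc (v : V8) : Fin 256 :=
  ⟨Classical.choose (vecOf_surj I8 v), h256 ▸ (Classical.choose_spec (vecOf_surj I8 v)).1⟩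

theorem vecOf_enc (v : V8) : vecOf I8 (enc v).val = v :=
  (Classical.choose_spec (vecOf_surj I8 v)).2

theorem enc_vecOf (n : ℕ) (hn : n < 256) : (enc (vecOf I8 n)).val = n := by
  apply vecOf_injOn I8 (by rw [h256]; exact (enc _).2) (by rw [h256]; exact hn)
  exact vecOf_enc _

/-- the action on the codes -/
noncomputable def smulP (u : GL8) (p : Fin 256) : Fin 256 := enc (u • vecOf I8 p.val)

/-- the action on the codes of the vectors -/
noncomputable def actInst : MulAction GL8 (Fin 256) where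
  smul := smulP
  one_smul p := by
    apply Fin.ext
    show (enc ((1 : GL8) • vecOf I8 p.val)).val = p.val
    rw [one_smul]
    exact enc_vecOf p.val p.2
  mul_smul A B p := by
    apply Fin.ext
    show (enc ((A * B) • vecOf I8 p.val)).val = (enc (A • vecOf I8 (enc (B • vecOf I8 p.val)).val)).val
    rw [vecOf_enc, mul_smul]

/-- the permutation representation on the codes of the vectors -/
noncomputable def rho : GL8 →* Equiv.Perm (Fin 256) := @MulAction.toPermHom GL8 (Fin 256) _ actInst

theorem rho_apply (u : GL8) (p : Fin 256) : rho u p = enc (u • vecOf I8 p.val) := rfl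

theorem vecOf_rho (u : GL8) (p : Fin 256) : vecOf I8 (rho u p).val = u • vecOf I8 p.val := by
  rw [rho_apply, vecOf_enc]

/-- the permutation of a matrix given by the codes of its columns -/
theorem rho_code {u : GL8} {c : List ℕ} (hu : (u : Matrix J8 J8 (ZMod 2)) = matOf I8 c)
    (hc : ∀ k, c.getD k 0 < 2 ^ I8.d) (p : Fin 256) : (rho u p).val = mvN I8 c p.val := by
  rw [rho_apply, smul_vecOf I8 hu]
  exact enc_vecOf _ (lt_of_lt_of_eq (mvN_lt I8 c p.val hc) h256)

theorem rho_injective : Function.Injective rho := by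
  rw [injective_iff_map_eq_one]
  intro u hu
  apply Units.ext
  apply Matrix.mulVec_injective
  funext v
  obtain ⟨n, hn, rfl⟩ := vecOf_surj I8 v
  rw [h256] at hn
  have h1 := vecOf_rho u ⟨n, hn⟩
  rw [hu] at h1
  show (u : Matrix J8 J8 (ZMod 2)).mulVec (vecOf I8 n) = (1 : Matrix J8 J8 (ZMod 2)).mulVec (vecOf I8 n)
  rw [Matrix.one_mulVec]
  exact h1.symm

theorem rho_zero (u : GL8) : (rho u ⟨0, by norm_num⟩).val = 0 := by
  rw [rho_apply]
  have h0 : vecOf I8 0 = 0 := vecOf_zero I8
  show (enc (u • vecOf I8 0)).val = 0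
  rw [h0, smul_zero, ← h0]
  exact enc_vecOf 0 (by norm_num)

/-- the permutation of the sum of two vectors -/
theorem rho_xor (u : GL8) (a b : ℕ) (ha : a < 256) (hb : b < 256) (hab : a ^^^ b < 256) :
    (rho u ⟨a ^^^ b, hab⟩).val = (rho u ⟨a, ha⟩).val ^^^ (rho u ⟨b, hb⟩).val := by
  apply vecOf_injOn I8 (by rw [h256]; exact (rho u _).2)
    (by rw [h256]; exact Nat.xor_lt_two_pow (n := 8) (rho u _).2 (rho u _).2)
  rw [vecOf_xor, vecOf_rho, vecOf_rho, vecOf_rho]
  show u • vecOf I8 (a ^^^ b) = _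
  rw [vecOf_xor, smul_add']

end Cfsg.Agent.Lib.Helper3.Cover.O8Num
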