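import Cfsg.Agent.Lib.Helper3.Cover.Finite
import Cfsg.Agent.Lib.Helper3.Cover.Lower
import Cfsg.Agent.Lib.Helper3.Cover.Sp6Iso
import Cfsg.Agent.Lib.Helper3.Cover.O8Num
import Cfsg.Agent.Lib.Helper3.Cover.O8Data
import Cfsg.Agent.Lib.Helper3.Cover.L256Low
import Cfsg.Agent.Lib.Helper3.Cover.PO8Main
import Cfsg.Agent.Lib.Helper28.TC2Tower
import Cfsg.Agent.Lib.Helper14.OrthPlus

set_option autoImplicit false
set_option maxRecDepth 100000

/-!
# The presented group `PO8 = ⟨a, b, c, d | …⟩` is the orthogonal group `Ω₈⁺(2)`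

The presented group has order at most `120 * 1451520` (coset enumeration over `⟨a, b, c⟩`, a quotient of the presented
group `PS6 ≅ Sp₆(2)`) and maps to the isometry group of the form `∑ xᵢ yᵢ` on `(ZMod 2)^8`; the image has order at least
`174182400` (transversals of a chain of stabilisers), half the order of the isometry group, and is perfect, so it is
the commutator subgroup.
-/

namespace Cfsg.Agent.Lib.Helper3.Cover.O8Iso

open Cfsg Cfsg.Agent.Lib.Helper3 Cfsg.Agent.Lib.Helper3.Cover.O8Num Cfsg.Agent.Lib.Helper3.Cover.Sp6Iso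
open Cfsg.Agent.Lib.Helper28.TC2Upper Cfsg.Agent.Lib.Helper28.TC2Lower Cfsg.Agent.Lib.Helper28.TC2Glue
open Cfsg.Agent.Lib.Helper28.TC2Tower
open Cfsg.Agent.Lib.Helper28.BitMat Cfsg.Agent.Lib.Helper28.BitGroup Cfsg.Agent.Lib.Helper28.BitOmega
open Cfsg.Agent.Lib.Helper28.BitChain

/-- the covering data of the presentation of `Ω₈⁺(2)` -/
abbrev DO : CoverData EO8Def.Gen := EO8Def.cover

/-- the generators of `Sp₆(2)` as generators of `Ω₈⁺(2)` -/
def up : ES6Def.Gen → EO8Def.Gen
  | .a => .a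
  | .b => .b
  | .c => .c

/-! ### the order of the presented group -/

theorem upP : ∀ L ∈ ES6Def.R, upWord up L ∈ EO8Def.R := by decide +kernel

theorem hSPO8 : ∀ s ∈ PO8Link.S, ∃ b, s = FreeGroup.of (up b) := by
  intro s hs
  simp only [PO8Link.S, Set.mem_insert_iff, Set.mem_singleton_iff] at hs
  rcases hs with rfl | rfl | rfl
  exacts [⟨.a, rfl⟩, ⟨.b, rfl⟩, ⟨.c, rfl⟩]

theorem cardPO8' : Finite (PresentedGroup PO8Link.rels) ∧ Nat.card (PresentedGroup PO8Link.rels) ≤ 174182400 := by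
  haveI : Finite (PresentedGroup PS6Link.rels) := cardPS6'.1
  have hrel := hrel_of_words PO8Link.rels PS6Link.rels up PO8Link.relWords PS6Link.relWords
    PO8Link.link.hrels PS6Link.link.hrels upP
  obtain ⟨hfin, hle⟩ := card_le_of_subpres PO8Link.rels PS6Link.rels up hrel PO8Link.S hSPO8
  have hidx : ((Subgroup.closure PO8Link.S).map (PresentedGroup.mk PO8Link.rels)).index = 120 := PO8Main.main.1
  have := hfin
  refine ⟨finite_of_index _ (by rw [hidx]; norm_num), ?_⟩
  exact card_le_of_index _ hidx (le_trans hle cardPS6'.2)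

theorem cardPO8 : Finite DO.P ∧ Nat.card DO.P ≤ 174182400 := cardPO8'

/-! ### the matrices of the generators -/

theorem invA : invOK I8 O8Data.Ga O8Data.Gai = true := by decide +kernel
theorem invB : invOK I8 O8Data.Gb O8Data.Gbi = true := by decide +kernel
theorem invC : invOK I8 O8Data.Gc O8Data.Gci = true := by decide +kernel
theorem invD : invOK I8 O8Data.Gd O8Data.Gdi = true := by decide +kernel

/-- the codes of the columns of the matrices of the generators -/
def cols : EO8Def.Gen → List ℕ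
  | .a => O8Data.Ga
  | .b => O8Data.Gb
  | .c => O8Data.Gc
  | .d => O8Data.Gd

/-- the matrices of the generators -/
def gen : EO8Def.Gen → GL8
  | .a => glOf I8 O8Data.Ga O8Data.Gai invA
  | .b => glOf I8 O8Data.Gb O8Data.Gbi invB
  | .c => glOf I8 O8Data.Gc O8Data.Gci invC
  | .d => glOf I8 O8Data.Gd O8Data.Gdi invD

theorem coe_gen (x : EO8Def.Gen) : ((gen x : GL8) : Matrix J8 J8 (ZMod 2)) = matOf I8 (cols x) := by
  cases x <;> rfl

theorem isoOK_cols : ∀ x, isoOK I8 (QNplus 4) (cols x) = true := by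
  intro x; cases x <;> decide +kernel

theorem gen_mem (x : EO8Def.Gen) : gen x ∈ O8 :=
  mem_iso_of_isoOK I8 Q8 (QNplus 4) (hQplus 4) (coe_gen x) (isoOK_cols x)

theorem cols_lt : ∀ x k, (cols x).getD k 0 < 2 ^ I8.d := by
  intro x k
  rw [h256]
  by_cases hk : k < 8
  · revert hk
    have : ∀ k : Fin 8, (cols x).getD k.val 0 < 256 := by cases x <;> decide
    intro hk
    exact this ⟨k, hk⟩
  · have hlen : (cols x).length = 8 := by cases x <;> rfl
    rw [List.getD_eq_default _ _ (by rw [hlen]; omega)]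
    norm_num

/-! ### the action on the coded vectors -/

theorem lwk8 : ∀ xb, PO8Link.lw xb < L256Table.table.k := by
  rintro ⟨x, b⟩; cases x <;> cases b <;> decide
theorem lwinv8 : ∀ x, PO8Link.lw (x, false) = L256Table.table.invl (PO8Link.lw (x, true)) := by
  intro x; cases x <;> decide +kernel
theorem hmem8 : ∀ L ∈ EO8Def.R, pathOf PO8Link.lw L ∈ L256Table.chkPaths := by decide +kernel

theorem exists_sigma : ∃ σ : DO.P →* Equiv.Perm (Fin 256), ∀ (L : List (EO8Def.Gen × Bool)) (p : Fin 256),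
    (σ (PresentedGroup.mk _ (FreeGroup.mk L)) p).val = L256Table.table.walkT (pathOf PO8Link.lw L) p.val :=
  lower_hom EO8Def.R PO8Link.lw L256Table.table L256Low.hT lwk8 lwinv8
    (fun L hL => L256Low.hchkT _ (hmem8 L hL))

theorem gen_walk : ∀ (x : EO8Def.Gen) (p : Fin 256),
    L256Table.table.walkT (pathOf PO8Link.lw [(x, true)]) p.val = mvN I8 (cols x) p.val := by
  intro x; cases x <;> decide +kernel

theorem of_eq_mk (x : EO8Def.Gen) :
    (PresentedGroup.of x : DO.P) = PresentedGroup.mk _ (FreeGroup.mk [(x, true)]) := rfl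

/-- the presented group maps to the general linear group -/
theorem exists_phi : ∃ φ : DO.P →* GL8, ∀ x, φ (PresentedGroup.of x) = gen x := by
  obtain ⟨σ, hσ⟩ := exists_sigma
  have hgen : ∀ x, σ (PresentedGroup.of x) = rho (gen x) := by
    intro x
    ext p
    rw [of_eq_mk, hσ, gen_walk x p, rho_code (coe_gen x) (cols_lt x)]
  let mkP : FreeGroup EO8Def.Gen →* DO.P := PresentedGroup.mk (relSet DO.R)
  have hcomp : rho.comp (FreeGroup.lift gen) = σ.comp mkP := by
    apply FreeGroup.ext_hom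
    intro x
    show rho (FreeGroup.lift gen (FreeGroup.of x)) = σ (PresentedGroup.of x)
    rw [FreeGroup.lift_apply_of]
    exact (hgen x).symm
  have hr : ∀ r ∈ relSet DO.R, FreeGroup.lift gen r = 1 := by
    intro r hr
    apply rho_injective
    have h1 : rho (FreeGroup.lift gen r) = σ (mkP r) := DFunLike.congr_fun hcomp r
    have h2 : mkP r = 1 := PresentedGroup.one_of_mem hr
    rw [h1, h2, map_one, map_one]
  exact ⟨PresentedGroup.toGroup hr, fun x => PresentedGroup.toGroup.of hr⟩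

/-! ### the order of the image -/

theorem hlow : lowerN I8 (run I8 O8Data.prog [O8Data.Ga, O8Data.Gb, O8Data.Gc, O8Data.Gd]) [] O8Data.bs O8Data.Ds
    = true := by decide +kernel

theorem hlowProd : lowProd O8Data.bs O8Data.Ds = 174182400 := by decide +kernel

theorem hDs : ∀ D ∈ O8Data.Ds, ∀ δ ∈ D, δ.1 < 2 ^ I8.d := by
  rw [h256]
  decide +kernel

theorem card_O8 : Nat.card O8 = 348364800 := by
  have h := Cfsg.Agent.Lib.Helper14.card_isometry_plus (F := ZMod 2) 3
  have h2 : Nat.card O8 = 2 * Fintype.card (ZMod 2) ^ ((3 + 1) * 3) * (Fintype.card (ZMod 2) ^ (3 + 1) - 1) *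
      ∏ i ∈ Finset.range 3, (Fintype.card (ZMod 2) ^ (2 * (i + 1)) - 1) := h
  rw [h2, ZMod.card]
  decide

theorem range_phi_le (φ : DO.P →* GL8) (hφ : ∀ x, φ (PresentedGroup.of x) = gen x) : φ.range ≤ O8 := by
  rw [MonoidHom.range_eq_map, ← PresentedGroup.closure_range_of, MonoidHom.map_closure, Subgroup.closure_le]
  rintro _ ⟨_, ⟨x, rfl⟩, rfl⟩
  rw [hφ]
  exact gen_mem x

theorem card_range_phi (φ : DO.P →* GL8) (hφ : ∀ x, φ (PresentedGroup.of x) = gen x) :
    174182400 ≤ Nat.card φ.range := by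
  have hS0 : Sound I8 φ.range [O8Data.Ga, O8Data.Gb, O8Data.Gc, O8Data.Gd] := by
    intro c hc
    simp only [List.mem_cons, List.not_mem_nil, or_false] at hc
    rcases hc with rfl | rfl | rfl | rfl
    · exact ⟨gen .a, ⟨_, hφ .a⟩, coe_gen .a⟩
    · exact ⟨gen .b, ⟨_, hφ .b⟩, coe_gen .b⟩
    · exact ⟨gen .c, ⟨_, hφ .c⟩, coe_gen .c⟩
    · exact ⟨gen .d, ⟨_, hφ .d⟩, coe_gen .d⟩
  have hS := Sound.run I8 O8Data.prog _ hS0
  have h := lower_bound I8 hS O8Data.bs O8Data.Ds [] hDs hlow
  rw [hlowProd] at h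
  exact h

end Cfsg.Agent.Lib.Helper3.Cover.O8Iso
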