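import Cfsg.Agent.Lib.Helper3.Cover.Basic

set_option autoImplicit false

/-!
# Bounding kernels of stem extensions through a subgroup of coprime index

Let `b : α → G` be elements of a group satisfying the relators `R`, let `nrm y` be words, trivial on `b`,
whose exponent-sum matrix is diagonal with entries `d y`.  For a finite stem extension `σ : Γ → G` whose
kernel has order prime to all `d y` and to the index of `B = ⟨b⟩`, the group
`E = ⟨α | [r, x] (r ∈ R), nrm y⟩` maps onto the full preimage of `B`, so that `|ker σ| |B| ≤ |E|`.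
-/

namespace Cfsg.Agent.Lib.Helper3.Cover

open Subgroup
open scoped commutatorElement

variable {α : Type} [DecidableEq α] [Fintype α]

/-- the data of a "cover-like" presentation for a not necessarily perfect group -/
structure OddData (α : Type) [DecidableEq α] [Fintype α] where
  /-- relators of the group -/
  R : List (List (α × Bool))
  /-- the list of all generators -/
  gens : List α
  /-- the normalising words -/
  nrm : α → List (α × Bool)
  /-- the list of normalising words -/
  norms : List (List (α × Bool))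
  /-- the diagonal exponents -/
  d : α → ℤ
  hgens : ∀ x, x ∈ gens
  hnorms : ∀ x, nrm x ∈ norms
  hnorms' : ∀ L ∈ norms, ∃ x, L = nrm x
  /-- their exponent sums -/
  hexp : ∀ x y, expL x (nrm y) = if x = y then d y else 0

namespace OddData

variable (D : OddData α)

/-- the relators of the covering group -/
abbrev relsE : Set (FreeGroup α) := relSet (coverWords D.R D.gens D.norms)

/-- the covering group -/
abbrev E : Type := PresentedGroup D.relsE

theorem mem_relsE {w : FreeGroup α} (hw : w ∈ D.relsE) :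
    (∃ r ∈ D.R, ∃ x, w = ⁅FreeGroup.mk r, FreeGroup.of x⁆) ∨ ∃ x, w = FreeGroup.mk (D.nrm x) := by
  obtain ⟨L, hL, rfl⟩ := hw
  unfold coverWords at hL
  rw [List.mem_append] at hL
  rcases hL with hL | hL
  · left
    rw [List.mem_flatMap] at hL
    obtain ⟨r, hr, hL⟩ := hL
    obtain ⟨x, _, rfl⟩ := List.mem_map.mp hL
    exact ⟨r, hr, x, mk_commWord r x⟩
  · right
    obtain ⟨x, rfl⟩ := D.hnorms' L hL
    exact ⟨x, rfl⟩

/-- every central extension with kernel of order prime to the `d y` receives a homomorphism from the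
covering group lifting the given elements -/
theorem exists_hom {G Γ : Type*} [Group G] [Group Γ] [Finite Γ] (b : α → G)
    (hR : ∀ r ∈ D.R, FreeGroup.lift b (FreeGroup.mk r) = 1)
    (hN : ∀ x, FreeGroup.lift b (FreeGroup.mk (D.nrm x)) = 1)
    (σ : Γ →* G) (hσ : Function.Surjective σ) (hc : σ.ker ≤ center Γ)
    (hd : ∀ y, (D.d y).natAbs.Coprime (Nat.card σ.ker)) :
    ∃ Λ : D.E →* Γ, ∀ x, σ (Λ (PresentedGroup.of x)) = b x := by
  choose l0 hl0 using fun x : α => hσ (b x)
  let L0 : FreeGroup α →* Γ := FreeGroup.lift l0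
  have hL0 : ∀ w, σ (L0 w) = FreeGroup.lift b w := by
    have : σ.comp L0 = FreeGroup.lift b := by
      ext x
      simp only [MonoidHom.comp_apply, L0, FreeGroup.lift_apply_of]
      exact hl0 x
    exact fun w => DFunLike.congr_fun this w
  have hker : ∀ w, FreeGroup.lift b w = 1 → L0 w ∈ σ.ker := by
    intro w hw
    rw [MonoidHom.mem_ker, hL0, hw]
  letI cg : CommGroup ↥σ.ker :=
    { (inferInstance : Group ↥σ.ker) with
      mul_comm := fun u v => Subtype.ext (Subgroup.mem_center_iff.mp (hc v.2) u.1) }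
  -- roots
  have hroot : ∀ y, ∃ e : ℤ, ∀ z : σ.ker, (z ^ e) ^ (D.d y) = z := by
    intro y
    have h1 : Int.gcd (D.d y) (Nat.card σ.ker) = 1 := by
      show Nat.gcd (D.d y).natAbs ((Nat.card σ.ker : ℤ)).natAbs = 1
      rw [Int.natAbs_natCast]
      exact hd y
    have h2 := Int.gcd_eq_gcd_ab (D.d y) (Nat.card σ.ker)
    rw [h1] at h2
    refine ⟨Int.gcdA (D.d y) (Nat.card σ.ker), ?_⟩
    intro z
    have h3 : z ^ ((Nat.card σ.ker : ℤ) * Int.gcdB (D.d y) (Nat.card σ.ker)) = 1 := by
      rw [zpow_mul, zpow_natCast, pow_card_eq_one', one_zpow]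
    calc (z ^ Int.gcdA (D.d y) (Nat.card σ.ker)) ^ (D.d y)
        = z ^ (D.d y * Int.gcdA (D.d y) (Nat.card σ.ker)) := by rw [← zpow_mul, mul_comm]
      _ = z ^ (D.d y * Int.gcdA (D.d y) (Nat.card σ.ker)) *
            z ^ ((Nat.card σ.ker : ℤ) * Int.gcdB (D.d y) (Nat.card σ.ker)) := by rw [h3, mul_one]
      _ = z ^ ((1 : ℕ) : ℤ) := by rw [← zpow_add, ← h2]
      _ = z := by simp
  choose e he using hroot
  -- the correction terms
  let k : α → σ.ker := fun y => ⟨L0 (FreeGroup.mk (D.nrm y)), hker _ (hN y)⟩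
  let a : α → σ.ker := fun y => ((k y)⁻¹) ^ (e y)
  have ha : ∀ y, (a y) ^ (D.d y) = (k y)⁻¹ := fun y => he y _
  let κ : FreeGroup α →* σ.ker := FreeGroup.lift a
  let l : α → Γ := fun x => l0 x * (a x : Γ)
  let L : FreeGroup α →* Γ := FreeGroup.lift l
  have hL : ∀ w, L w = L0 w * (κ w : Γ) := by
    intro w
    induction w using FreeGroup.induction_on with
    | C1 => simp
    | of x => simp [L, L0, κ, l]
    | inv_of x ih =>
      rw [map_inv, map_inv, map_inv, ih, mul_inv_rev]
      have := hc (κ (FreeGroup.of x))⁻¹.2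
      rw [Subgroup.mem_center_iff] at this
      simpa using (this _).symm
    | mul u v hu hv =>
      rw [map_mul, map_mul, map_mul, hu, hv]
      have := hc (κ u).2
      rw [Subgroup.mem_center_iff] at this
      simp only [Subgroup.coe_mul]
      calc L0 u * ↑(κ u) * (L0 v * ↑(κ v)) = L0 u * (↑(κ u) * L0 v) * ↑(κ v) := by group
        _ = L0 u * (L0 v * ↑(κ u)) * ↑(κ v) := by rw [this]
        _ = L0 u * L0 v * (↑(κ u) * ↑(κ v)) := by group
  have hκ : ∀ y, κ (FreeGroup.mk (D.nrm y)) = (k y)⁻¹ := by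
    intro y
    rw [hom_eq_prod (C := ↥σ.ker) κ]
    simp only [expSum_mk, toAdd_ofAdd, D.hexp]
    rw [Finset.prod_eq_single y]
    · simp only [if_true, κ, FreeGroup.lift_apply_of]
      exact ha y
    · intro b' _ hb; simp [hb]
    · intro h; exact absurd (Finset.mem_univ y) h
  have hσL : ∀ w, σ (L w) = FreeGroup.lift b w := by
    intro w
    rw [hL, map_mul, hL0]
    have : σ (κ w : Γ) = 1 := (κ w).2
    rw [this, mul_one]
  have hrel : ∀ w ∈ D.relsE, L w = 1 := by
    intro w hw
    rcases D.mem_relsE hw with ⟨r, hr, x, rfl⟩ | ⟨x, rfl⟩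
    · rw [map_commutatorElement, commutatorElement_eq_one_iff_mul_comm]
      have h1 : L (FreeGroup.mk r) ∈ center Γ := by
        apply hc
        rw [MonoidHom.mem_ker, hσL, hR r hr]
      exact (Subgroup.mem_center_iff.mp h1 _).symm
    · rw [hL, hκ]
      show L0 (FreeGroup.mk (D.nrm x)) * ((k x)⁻¹ : σ.ker).1 = 1
      show L0 (FreeGroup.mk (D.nrm x)) * (L0 (FreeGroup.mk (D.nrm x)))⁻¹ = 1
      rw [mul_inv_cancel]
  refine ⟨PresentedGroup.toGroup (f := l) hrel, ?_⟩
  intro x
  rw [PresentedGroup.toGroup.of]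
  show σ (l0 x * (a x : Γ)) = b x
  rw [map_mul, hl0]
  have : σ (a x : Γ) = 1 := (a x).2
  rw [this, mul_one]

/-- the bound for the kernel of a stem extension -/
theorem card_ker_mul_le {G Γ : Type*} [Group G] [Group Γ] [Finite Γ] [Finite D.E] (b : α → G)
    (hR : ∀ r ∈ D.R, FreeGroup.lift b (FreeGroup.mk r) = 1)
    (hN : ∀ x, FreeGroup.lift b (FreeGroup.mk (D.nrm x)) = 1)
    (σ : Γ →* G) (hσ : Cfsg.IsStemExtension σ)
    (hd : ∀ y, (D.d y).natAbs.Coprime (Nat.card σ.ker))
    (hidx : (Subgroup.closure (Set.range b)).index.Coprime (Nat.card σ.ker)) :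
    Nat.card σ.ker * Nat.card (Subgroup.closure (Set.range b)) ≤ Nat.card D.E := by
  obtain ⟨Λ, hΛ⟩ := D.exists_hom b hR hN σ hσ.1 hσ.2.1 hd
  set B : Subgroup G := Subgroup.closure (Set.range b) with hB
  set V : Subgroup Γ := B.comap σ with hV
  haveI : σ.ker.Normal := MonoidHom.normal_ker σ
  have hKV : σ.ker ≤ V := by
    intro z hz
    rw [hV, Subgroup.mem_comap, MonoidHom.mem_ker.mp hz]
    exact one_mem _
  -- the kernel lies in the commutator subgroup of `V`
  have hidxV : V.index = B.index := Subgroup.index_comap_of_surjective B hσ.1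
  have hKc : σ.ker ≤ ⁅V, V⁆ := by
    intro a ha
    have h1 := Cfsg.Agent.Lib.Helper3.SchurM.pow_index_mem_comm V a (hσ.2.1 ha) (hσ.2.2 ha)
    rw [hidxV] at h1
    have h2 : Nat.Coprime B.index (orderOf a) := by
      apply Nat.Coprime.coprime_dvd_right _ hidx
      have : orderOf (⟨a, ha⟩ : σ.ker) ∣ Nat.card σ.ker := orderOf_dvd_natCard _
      rwa [Subgroup.orderOf_mk] at this
    have h3 := Int.gcd_eq_gcd_ab (B.index : ℤ) (orderOf a : ℤ)
    have h4 : Int.gcd (B.index : ℤ) (orderOf a : ℤ) = 1 := by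
      rw [Int.gcd_natCast_natCast]; exact h2
    rw [h4] at h3
    have h5 : a = (a ^ B.index) ^ (Int.gcdA (B.index : ℤ) (orderOf a : ℤ)) := by
      have h6 : a ^ ((orderOf a : ℤ) * Int.gcdB (B.index : ℤ) (orderOf a : ℤ)) = 1 := by
        rw [zpow_mul, zpow_natCast, pow_orderOf_eq_one, one_zpow]
      calc a = a ^ ((1 : ℕ) : ℤ) := by simp
        _ = a ^ ((B.index : ℤ) * Int.gcdA (B.index : ℤ) (orderOf a : ℤ)) *
              a ^ ((orderOf a : ℤ) * Int.gcdB (B.index : ℤ) (orderOf a : ℤ)) := by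
            rw [← zpow_add, ← h3]
        _ = (a ^ B.index) ^ (Int.gcdA (B.index : ℤ) (orderOf a : ℤ)) := by
            rw [h6, mul_one, zpow_mul, zpow_natCast]
    rw [h5]
    exact zpow_mem h1 _
  -- the image of the covering group
  set L : Subgroup Γ := Λ.range with hL
  have hmap : L.map σ = B := by
    rw [hL, MonoidHom.range_eq_map, ← PresentedGroup.closure_range_of, MonoidHom.map_closure,
      MonoidHom.map_closure, hB]
    congr 1
    ext g
    simp only [Set.mem_image, Set.mem_range, exists_exists_eq_and]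
    constructor
    · rintro ⟨x, rfl⟩; exact ⟨x, (hΛ x).symm⟩
    · rintro ⟨x, rfl⟩; exact ⟨x, hΛ x⟩
  have hLV : L ≤ V := by
    rw [hV, ← Subgroup.map_le_iff_le_comap, hmap]
  have hVL : V ≤ L ⊔ σ.ker := by
    intro v hv
    rw [hV, Subgroup.mem_comap, ← hmap] at hv
    obtain ⟨l, hl, hlv⟩ := hv
    have : v = l * (l⁻¹ * v) := by group
    rw [this]
    apply Subgroup.mul_mem_sup hl
    rw [MonoidHom.mem_ker, map_mul, map_inv, hlv, inv_mul_cancel]
  have hKL : σ.ker ≤ L := by
    intro z hz
    have h1 : z ∈ ⁅L ⊔ σ.ker, L ⊔ σ.ker⁆ := Subgroup.commutator_mono hVL hVL (hKc hz)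
    have h2 := Cfsg.Agent.Lib.Helper3.SchurM.comm_sup_central_le L σ.ker hσ.2.1 h1
    have h3 : ⁅L, L⁆ ≤ L := by
      simpa using Subgroup.commutator_le_sup (H₁ := L) (H₂ := L)
    exact h3 h2
  have hVL' : V ≤ L := by
    intro v hv
    have := hVL hv
    rwa [sup_eq_left.mpr hKL] at this
  -- cardinalities
  have hc1 : Nat.card V ≤ Nat.card D.E := by
    calc Nat.card V ≤ Nat.card L := Subgroup.card_le_of_le hVL'
      _ ≤ Nat.card D.E := by
        rw [hL]
        exact Nat.card_le_card_of_surjective Λ.rangeRestrict Λ.rangeRestrict_surjective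
  let ψ : ↥V →* ↥B := σ.subgroupComap B
  have hψ : Function.Surjective ψ := MonoidHom.subgroupComap_surjective_of_surjective σ B hσ.1
  have hc2 : Nat.card V = Nat.card ψ.ker * Nat.card B := by
    have e := QuotientGroup.quotientKerEquivOfSurjective ψ hψ
    rw [← Nat.card_congr e.toEquiv, mul_comm]
    exact Subgroup.card_eq_card_quotient_mul_card_subgroup ψ.ker
  have hc3 : Nat.card σ.ker ≤ Nat.card ψ.ker := by
    let ι : σ.ker → ψ.ker := fun z => ⟨⟨z.1, hKV z.2⟩, by
      rw [MonoidHom.mem_ker]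
      apply Subtype.ext
      show σ z.1 = 1
      exact z.2⟩
    apply Nat.card_le_card_of_injective ι
    intro z z' h
    have := congrArg (fun u : ψ.ker => (u.1.1 : Γ)) h
    exact Subtype.ext this
  calc Nat.card σ.ker * Nat.card B ≤ Nat.card ψ.ker * Nat.card B := Nat.mul_le_mul_right _ hc3
    _ = Nat.card V := hc2.symm
    _ ≤ Nat.card D.E := hc1

end OddData

end Cfsg.Agent.Lib.Helper3.Cover
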