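import Cfsg.Agent.Lib.Helper3.Cover.SzIso
import Cfsg.Agent.Lib.Helper3.Cover.StemBound
import Cfsg.Agent.Lib.Helper3.Cover.Finite
import Cfsg.Agent.Lib.Helper3.Cover.Lower
import Cfsg.Agent.Lib.Helper3.Cover.Univ
import Cfsg.Agent.Lib.Helper3.Cover.GBMain
import Cfsg.Agent.Lib.Helper3.Cover.LSzLow
import Cfsg.Agent.S0331

set_option autoImplicit false
set_option maxRecDepth 100000

/-!
# The Schur multiplier of `Sz(8)` is a four-group

Upper bound: the kernel `K` of a finite stem extension of `G = Sz(8)` has no odd torsion (cyclic Sylow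
subgroups), and `|K| ≤ 4` by transfer to the Borel subgroup `2^{3+3}:7` (index 65), whose "odd-diagonal" covering
presentation has order `1792 = 4 * 448`.  Lower bound: a permutation representation of degree 2080 of the covering
presentation of `Sz(8)` in which two relators act as distinct non-trivial elements.
-/

namespace Cfsg.Agent.Lib.Helper3.Cover.SzMain

open Cfsg Cfsg.Agent.Lib.Helper3 Cfsg.Agent.Lib.Helper3.Cover Cfsg.Agent.Lib.Helper3.Cover.SzIso
open Cfsg.Agent.Lib.Helper28.TC2Upper Cfsg.Agent.Lib.Helper28.TC2Lower Cfsg.Agent.Lib.Helper28.TC2Glue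
open Cfsg.Agent.Lib.Helper28.TC2Tower
open Subgroup
open scoped commutatorElement

/-! ### the upper bound -/

/-- the kernel of a stem extension has no odd torsion -/
theorem not_dvd_card_ker {Γ : Type*} [Group Γ] [Finite Γ] (σ : Γ →* G) (hσ : Cfsg.IsStemExtension σ)
    {p : ℕ} (hp : p.Prime) (hp2 : p ≠ 2) : ¬ p ∣ Nat.card σ.ker := by
  intro hpd
  haveI : Fact p.Prime := ⟨hp⟩
  obtain ⟨a0, ha0⟩ := exists_prime_orderOf_dvd_card' (G := σ.ker) p hpd
  obtain ⟨P⟩ : Nonempty (Sylow p G) := inferInstance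
  haveI : IsCyclic ↥(P : Subgroup G) := Cfsg.Agent.S0331.main (le_refl 1) hK hp2 P
  set V : Subgroup Γ := (P : Subgroup G).comap σ with hV
  have h1 := SchurM.pow_index_mem_comm V (a0 : Γ) (hσ.2.1 a0.2) (hσ.2.2 a0.2)
  have hcomm : ∀ x y : ↥V, x * y = y * x := by
    apply commutative_of_cyclic_center_quotient (σ.subgroupComap (P : Subgroup G))
    intro z hz
    have hz' : (z : Γ) ∈ σ.ker := by
      rw [MonoidHom.mem_ker] at hz ⊢
      exact congrArg Subtype.val hz
    have h2 := hσ.2.1 hz'
    rw [Subgroup.mem_center_iff] at h2 ⊢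
    intro g
    exact Subtype.ext (h2 g)
  have hbot : ⁅V, V⁆ = ⊥ := by
    rw [Subgroup.commutator_eq_bot_iff_le_centralizer]
    intro x hx y hy
    exact congrArg Subtype.val (hcomm ⟨y, hy⟩ ⟨x, hx⟩)
  rw [hbot, Subgroup.mem_bot] at h1
  have hidx : V.index = (P : Subgroup G).index := Subgroup.index_comap_of_surjective _ hσ.1
  have h2 : p ∣ V.index := by
    rw [← ha0, ← Subgroup.orderOf_coe]
    exact orderOf_dvd_of_pow_eq_one h1
  rw [hidx] at h2
  exact Sylow.not_dvd_index P h2

theorem cardGB : Finite BSzDef.odata.E ∧ Nat.card BSzDef.odata.E = 1792 := by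
  have h : ((Subgroup.closure GBLink.S).map (PresentedGroup.mk GBLink.rels)).index = 1792 := GBMain.main.1
  have e : (Subgroup.closure GBLink.S).map (PresentedGroup.mk GBLink.rels) = ⊥ := by
    show (Subgroup.closure {1}).map _ = ⊥
    rw [Subgroup.closure_singleton_one, Subgroup.map_bot]
  rw [e] at h
  exact card_of_index_bot (by norm_num) h

/-- the kernel of a finite stem extension of `Sz(8)` has at most four elements -/
theorem card_ker_le_four {Γ : Type*} [Group Γ] [Finite Γ] (σ : Γ →* G) (hσ : Cfsg.IsStemExtension σ) :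
    Nat.card σ.ker ≤ 4 := by
  have hodd : ∀ n : ℕ, Odd n → n.Coprime (Nat.card σ.ker) := by
    intro n hn
    apply Nat.coprime_of_dvd
    intro k hk hkn hkc
    by_cases hk2 : k = 2
    · subst hk2
      exact (Nat.not_even_iff_odd.mpr hn) (even_iff_two_dvd.mpr hkn)
    · exact not_dvd_card_ker σ hσ hk hk2 hkc
  haveI := cardGB.1
  have hd : ∀ y, (BSzDef.odata.d y).natAbs.Coprime (Nat.card σ.ker) := by
    intro y
    cases y
    · exact hodd _ (by decide)
    · exact hodd _ (by decide)
  have hidx : (Subgroup.closure (Set.range genB)).index.Coprime (Nat.card σ.ker) := by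
    apply hodd
    exact Odd.of_dvd_nat (by decide : Odd 65) index_BB_dvd
  have h1 := BSzDef.odata.card_ker_mul_le genB hRB hNB σ hσ hd hidx
  rw [cardGB.2] at h1
  have h2 : 448 ≤ Nat.card (Subgroup.closure (Set.range genB)) := le_card_BB
  by_contra hc
  push_neg at hc
  have h3 : 5 * 448 ≤ Nat.card σ.ker * Nat.card (Subgroup.closure (Set.range genB)) :=
    Nat.mul_le_mul hc h2
  omega

/-! ### the covering group -/

instance : Finite DP.P := cardPSz.1

instance : Finite DP.E := DP.finite_E

theorem card_kerE_le : Nat.card DP.proj.ker ≤ 4 := by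
  have h := card_ker_le_four (DP.projTo isoP) (DP.isStem_projTo isoP)
  rwa [DP.ker_projTo] at h


/-! ### the lower bound -/

/-- a commutative group of order at most four with two suitable elements is a four-group -/
theorem klein_of {Kk : Type*} [CommGroup Kk] [Finite Kk] (hle : Nat.card Kk ≤ 4) (a b : Kk)
    (ha : a ≠ 1) (hb : b ≠ 1) (hab : a ≠ b) (hab1 : a * b ≠ 1) (haa : a * a ≠ b) (hbb : b * b ≠ a) :
    IsKleinFour Kk := by
  let f : Fin 4 → Kk := ![1, a, b, a * b]
  have ha_ab : a ≠ a * b := fun h => hb (by simpa using h.symm)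
  have hb_ab : b ≠ a * b := fun h => ha (by simpa using h.symm)
  have hinj : Function.Injective f := by
    intro i j h
    fin_cases i <;> fin_cases j <;> simp only [f, Matrix.cons_val_zero, Matrix.cons_val_one,
      Matrix.cons_val_two, Matrix.cons_val_three, Matrix.head_cons, Matrix.tail_cons,
      Fin.zero_eta, Fin.mk_one, Fin.reduceFinMk, Matrix.cons_val] at h <;>
      first
      | rfl
      | exact absurd h ha
      | exact absurd h.symm ha
      | exact absurd h hb
      | exact absurd h.symm hb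
      | exact absurd h hab
      | exact absurd h.symm hab
      | exact absurd h hab1
      | exact absurd h.symm hab1
      | exact absurd h ha_ab
      | exact absurd h.symm ha_ab
      | exact absurd h hb_ab
      | exact absurd h.symm hb_ab
  have hbij : Function.Bijective f := by
    apply hinj.bijective_of_nat_card_le
    have h4 : Nat.card (Fin 4) = 4 := by simp
    rw [h4]
    exact hle
  have hcard : Nat.card Kk = 4 := by
    rw [← Nat.card_congr (Equiv.ofBijective f hbij)]
    simp
  have hcover : ∀ x : Kk, x = 1 ∨ x = a ∨ x = b ∨ x = a * b := by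
    intro x
    obtain ⟨i, rfl⟩ := hbij.2 x
    fin_cases i
    · exact Or.inl rfl
    · exact Or.inr (Or.inl rfl)
    · exact Or.inr (Or.inr (Or.inl rfl))
    · exact Or.inr (Or.inr (Or.inr rfl))
  have haa1 : a * a = 1 := by
    rcases hcover (a * a) with h | h | h | h
    · exact h
    · exact absurd (mul_left_cancel (h.trans (mul_one a).symm)) ha
    · exact absurd h haa
    · exact absurd (mul_left_cancel h) hab
  have hbb1 : b * b = 1 := by
    rcases hcover (b * b) with h | h | h | h
    · exact h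
    · exact absurd h hbb
    · exact absurd (mul_left_cancel (h.trans (mul_one b).symm)) hb
    · exact absurd (mul_right_cancel h).symm hab
  have hsq : ∀ x : Kk, x ^ 2 = 1 := by
    intro x
    rw [pow_two]
    rcases hcover x with rfl | rfl | rfl | rfl
    · exact one_mul 1
    · exact haa1
    · exact hbb1
    · rw [mul_mul_mul_comm, haa1, hbb1, one_mul]
  refine ⟨hcard, ?_⟩
  have h1 : Monoid.exponent Kk ∣ 2 := Monoid.exponent_dvd_of_forall_pow_eq_one hsq
  rcases (Nat.dvd_prime Nat.prime_two).mp h1 with h | h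
  · exfalso
    rw [Monoid.exp_eq_one_iff] at h
    exact ha (Subsingleton.elim a 1)
  · exact h

theorem lwk : ∀ xb, PSzLink.lw xb < LSzTable.table.k := by
  rintro ⟨x, b⟩; cases x <;> cases b <;> decide

theorem lwinv : ∀ x, PSzLink.lw (x, false) = LSzTable.table.invl (PSzLink.lw (x, true)) := by
  intro x; cases x <;> decide +kernel

theorem hmem : ∀ L ∈ ESzDef.relWords, pathOf PSzLink.lw L ∈ LSzTable.chkPaths := by decide +kernel

theorem hn : 0 < LSzTable.table.n := by decide

/-- two words acting differently on the first point are different elements of the covering group -/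
theorem mk_ne (L1 L2 : List (ESzDef.Gen × Bool))
    (h : LSzTable.table.walkT (pathOf PSzLink.lw L1) 0 ≠ LSzTable.table.walkT (pathOf PSzLink.lw L2) 0) :
    (PresentedGroup.mk DP.relsE (FreeGroup.mk L1)) ≠ PresentedGroup.mk DP.relsE (FreeGroup.mk L2) := by
  obtain ⟨φ, hφ⟩ := lower_hom ESzDef.relWords PSzLink.lw LSzTable.table LSzLow.hT lwk lwinv
    (fun L hL => LSzLow.hchkT _ (hmem L hL))
  intro he
  apply h
  have h1 := hφ L1 ⟨0, hn⟩
  have h2 := hφ L2 ⟨0, hn⟩
  have he' : (PresentedGroup.mk (relSet ESzDef.relWords) (FreeGroup.mk L1)) =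
      PresentedGroup.mk (relSet ESzDef.relWords) (FreeGroup.mk L2) := he
  rw [he'] at h1
  exact h1.symm.trans h2

/-- the second relator -/
def ra : List (ESzDef.Gen × Bool) := ESzDef.R.getD 1 []
/-- the fourth relator -/
def rb : List (ESzDef.Gen × Bool) := ESzDef.R.getD 3 []

theorem ra_mem : ra ∈ ESzDef.R := by decide +kernel
theorem rb_mem : rb ∈ ESzDef.R := by decide +kernel

theorem mk_mem_ker (L : List (ESzDef.Gen × Bool)) (hL : L ∈ ESzDef.R) :
    PresentedGroup.mk DP.relsE (FreeGroup.mk L) ∈ DP.proj.ker := by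
  rw [MonoidHom.mem_ker, DP.proj_mk]
  exact PresentedGroup.one_of_mem ⟨L, hL, rfl⟩

theorem walk_a : LSzTable.table.walkT (pathOf PSzLink.lw ra) 0 ≠ LSzTable.table.walkT (pathOf PSzLink.lw []) 0 := by
  decide +kernel
theorem walk_b : LSzTable.table.walkT (pathOf PSzLink.lw rb) 0 ≠ LSzTable.table.walkT (pathOf PSzLink.lw []) 0 := by
  decide +kernel
theorem walk_ab : LSzTable.table.walkT (pathOf PSzLink.lw ra) 0 ≠ LSzTable.table.walkT (pathOf PSzLink.lw rb) 0 := by
  decide +kernel
theorem walk_ab1 : LSzTable.table.walkT (pathOf PSzLink.lw (ra ++ rb)) 0 ≠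
    LSzTable.table.walkT (pathOf PSzLink.lw []) 0 := by
  decide +kernel
theorem walk_aa : LSzTable.table.walkT (pathOf PSzLink.lw (ra ++ ra)) 0 ≠
    LSzTable.table.walkT (pathOf PSzLink.lw rb) 0 := by
  decide +kernel
theorem walk_bb : LSzTable.table.walkT (pathOf PSzLink.lw (rb ++ rb)) 0 ≠
    LSzTable.table.walkT (pathOf PSzLink.lw ra) 0 := by
  decide +kernel

theorem mk_nil : PresentedGroup.mk DP.relsE (FreeGroup.mk ([] : List (ESzDef.Gen × Bool))) = 1 := by
  have : (FreeGroup.mk ([] : List (ESzDef.Gen × Bool))) = 1 := rfl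
  rw [this, map_one]

theorem mk_append (L1 L2 : List (ESzDef.Gen × Bool)) :
    PresentedGroup.mk DP.relsE (FreeGroup.mk (L1 ++ L2)) =
      PresentedGroup.mk DP.relsE (FreeGroup.mk L1) * PresentedGroup.mk DP.relsE (FreeGroup.mk L2) := by
  rw [← map_mul, FreeGroup.mul_mk]

/-- the kernel is a four-group -/
theorem klein_ker : ∃ _ : CommGroup ↥DP.proj.ker, IsKleinFour ↥DP.proj.ker := by
  letI cg : CommGroup ↥DP.proj.ker :=
    { (inferInstance : Group ↥DP.proj.ker) with
      mul_comm := fun u v => Subtype.ext (Subgroup.mem_center_iff.mp (DP.ker_proj_le_center v.2) u.1) }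
  refine ⟨cg, ?_⟩
  let a : ↥DP.proj.ker := ⟨_, mk_mem_ker ra ra_mem⟩
  let b : ↥DP.proj.ker := ⟨_, mk_mem_ker rb rb_mem⟩
  apply klein_of card_kerE_le a b
  · intro h
    have := congrArg Subtype.val h
    exact mk_ne ra [] walk_a (this.trans mk_nil.symm)
  · intro h
    have := congrArg Subtype.val h
    exact mk_ne rb [] walk_b (this.trans mk_nil.symm)
  · intro h
    exact mk_ne ra rb walk_ab (congrArg Subtype.val h)
  · intro h
    have := congrArg Subtype.val h
    exact mk_ne (ra ++ rb) [] walk_ab1 ((mk_append ra rb).trans (this.trans mk_nil.symm))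
  · intro h
    have := congrArg Subtype.val h
    exact mk_ne (ra ++ ra) rb walk_aa ((mk_append ra ra).trans this)
  · intro h
    have := congrArg Subtype.val h
    exact mk_ne (rb ++ rb) ra walk_bb ((mk_append rb rb).trans this)

/-- the Schur multiplier of the Suzuki group over the field with eight elements -/
theorem schur_SzK : Cfsg.HasSchurMultiplier G (Multiplicative (ZMod 2 × ZMod 2)) := by
  obtain ⟨cg, hk⟩ := klein_ker
  obtain ⟨e⟩ := @IsKleinFour.nonempty_mulEquiv ↥DP.proj.ker (Multiplicative (ZMod 2 × ZMod 2)) _ _ hk _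
  exact DP.hasSchurMultiplier isoP e


/-! ### transport to an arbitrary field with eight elements and to the Lie model -/

section Transport

open Cfsg.Agent.Lib.Helper15.SuzukiLie Cfsg.Agent.Lib.Helper15.SuzukiOrder
open Matrix

variable {F : Type*} [Field F] [Fintype F]

theorem hF' (hF : Fintype.card F = 8) : Fintype.card F = 2 ^ (2 * 1 + 1) := by rw [hF]; norm_num

/-- the ring isomorphism from the concrete field -/
noncomputable def psi (hF : Fintype.card F = 8) : K ≃+* F :=
  FiniteField.ringEquivOfCardEq (by rw [hF]; decide)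

/-- the entrywise map between the general linear groups -/
noncomputable def chiGL (hF : Fintype.card F = 8) : GL (Fin 4) K →* GL (Fin 4) F :=
  Matrix.GeneralLinearGroup.map (psi hF).toRingHom

theorem chiGL_val (hF : Fintype.card F = 8) (g : GL (Fin 4) K) :
    ((chiGL hF g : GL (Fin 4) F) : Matrix (Fin 4) (Fin 4) F) =
      (g : Matrix (Fin 4) (Fin 4) K).map (psi hF) := rfl

theorem chiGL_injective (hF : Fintype.card F = 8) : Function.Injective (chiGL hF) := by
  intro g g' h
  apply Units.ext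
  have h1 : (g : Matrix (Fin 4) (Fin 4) K).map (psi hF) = (g' : Matrix (Fin 4) (Fin 4) K).map (psi hF) := by
    rw [← chiGL_val, ← chiGL_val, h]
  ext i j
  have h2 := congrFun (congrFun h1 i) j
  simp only [Matrix.map_apply] at h2
  exact (psi hF).injective h2

theorem altForm4_map (hF : Fintype.card F = 8) (a b : Fin 4 → K) :
    Cfsg.Lie.altForm4 ((psi hF) ∘ a) ((psi hF) ∘ b) = psi hF (Cfsg.Lie.altForm4 a b) := by
  simp [Cfsg.Lie.altForm4, map_add, map_mul]

theorem chiGL_mem_Sp4 (hF : Fintype.card F = 8) {g : GL (Fin 4) K} (hg : g ∈ Cfsg.Lie.Sp4 K) :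
    chiGL hF g ∈ Cfsg.Lie.Sp4 F := by
  intro u v
  have hu : u = (psi hF) ∘ ((psi hF).symm ∘ u) := by
    funext i; simp
  have hv : v = (psi hF) ∘ ((psi hF).symm ∘ v) := by
    funext i; simp
  have hmul : ∀ w : Fin 4 → K, (Units.coeHom (Matrix (Fin 4) (Fin 4) F) (chiGL hF g)) *ᵥ ((psi hF) ∘ w) =
      (psi hF) ∘ ((g : Matrix (Fin 4) (Fin 4) K) *ᵥ w) := by
    intro w
    funext i
    show ((g : Matrix (Fin 4) (Fin 4) K).map (psi hF) *ᵥ ((psi hF) ∘ w)) i = _
    exact (RingHom.map_mulVec (psi hF).toRingHom _ w i).symm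
  rw [hu, hv, hmul, hmul, altForm4_map, altForm4_map]
  exact congrArg (psi hF) (hg _ _)

theorem star4_map (hF : Fintype.card F = 8) (M : Matrix (Fin 4) (Fin 4) K) :
    Cfsg.Lie.star4 (M.map (psi hF)) = (Cfsg.Lie.star4 M).map (psi hF) := by
  ext p r
  simp [Cfsg.Lie.star4, Matrix.map_apply, map_sub, map_mul]

theorem chiGL_mem_gen (hF : Fintype.card F = 8) {g : GL (Fin 4) K}
    (hg : g ∈ Cfsg.Lie.Sp4 K ∧ Cfsg.Lie.star4 (g : Matrix (Fin 4) (Fin 4) K) =
      (g : Matrix (Fin 4) (Fin 4) K).map (fun x => x ^ 4)) :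
    chiGL hF g ∈ Cfsg.Lie.Sp4 F ∧ Cfsg.Lie.star4 ((chiGL hF g : GL (Fin 4) F) : Matrix (Fin 4) (Fin 4) F) =
      ((chiGL hF g : GL (Fin 4) F) : Matrix (Fin 4) (Fin 4) F).map (fun x => x ^ 4) := by
  refine ⟨chiGL_mem_Sp4 hF hg.1, ?_⟩
  rw [chiGL_val, star4_map, hg.2]
  ext i j
  simp [Matrix.map_apply, map_pow]

theorem map_LieSz_le (hF : Fintype.card F = 8) :
    (Cfsg.Lie.Sz K 4).map (chiGL hF) ≤ Cfsg.Lie.Sz F 4 := by
  unfold Cfsg.Lie.Sz
  rw [MonoidHom.map_closure]
  apply Subgroup.closure_mono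
  rintro _ ⟨g, hg, rfl⟩
  exact chiGL_mem_gen hF hg

/-- the entrywise map between the Suzuki groups -/
noncomputable def chiSz (hF : Fintype.card F = 8) : ↥(Cfsg.Lie.Sz K 4) →* ↥(Cfsg.Lie.Sz F 4) :=
  ((chiGL hF).comp (Cfsg.Lie.Sz K 4).subtype).codRestrict (Cfsg.Lie.Sz F 4)
    (fun g => map_LieSz_le hF ⟨g.1, g.2, rfl⟩)

theorem chiSz_injective (hF : Fintype.card F = 8) : Function.Injective (chiSz hF) := by
  intro g g' h
  apply Subtype.ext
  apply chiGL_injective hF
  have := congrArg Subtype.val h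
  exact this

/-- the isomorphism between the two models over the concrete field -/
noncomputable def eLieK : G ≃* ↥(Cfsg.Lie.Sz K 4) := equivLie hK (le_refl 1)

theorem card_LieK : Nat.card ↥(Cfsg.Lie.Sz K 4) = 29120 := by
  rw [← Nat.card_congr eLieK.toEquiv, card_G]

theorem card_LieF (hF : Fintype.card F = 8) : Nat.card ↥(Cfsg.Lie.Sz F 4) = 29120 := by
  have e : ↥(Cfsg.Sz F 1) ≃* ↥(Cfsg.Lie.Sz F 4) := equivLie (hF' hF) (le_refl 1)
  rw [← Nat.card_congr e.toEquiv, card_Sz (hF' hF) (le_refl 1)]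
  norm_num

theorem chiSz_bijective (hF : Fintype.card F = 8) : Function.Bijective (chiSz hF) := by
  haveI : Finite ↥(Cfsg.Lie.Sz F 4) := Nat.finite_of_card_ne_zero (by rw [card_LieF hF]; norm_num)
  apply (chiSz_injective hF).bijective_of_nat_card_le
  rw [card_LieF hF, card_LieK]

/-- **The Schur multiplier of `Sz(8)` is a four-group.** -/
theorem schur_LieSz8 (hF : Fintype.card F = 8) :
    Cfsg.HasSchurMultiplier ↥(Cfsg.Lie.Sz F 4) (Multiplicative (ZMod 2 × ZMod 2)) :=
  hasSchurMultiplier_transport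
    (eLieK.trans (MulEquiv.ofBijective (chiSz hF) (chiSz_bijective hF))) schur_SzK

end Transport

end Cfsg.Agent.Lib.Helper3.Cover.SzMain
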