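import Cfsg.Agent.Lib.Helper3.Cover.O8Omega
import Cfsg.Agent.Lib.Helper3.Cover.Sp6Main
import Cfsg.Agent.Lib.Helper3.Cover.SzMain
import Cfsg.Agent.Lib.Helper3.Cover.EO8Main
import Cfsg.Agent.Lib.Helper3.Cover.LO8bLow
import Cfsg.Agent.Lib.Helper3.Cover.Univ

set_option autoImplicit false
set_option maxRecDepth 100000

/-!
# The Schur multiplier of `PΩ₈⁺(2)` is a four-group

`PO8 = ⟨a, b, c, d | …⟩ ≅ Ω₈⁺(2)` with `⟨a, b, c⟩ ≅ Sp₆(2)` of index 120; the covering presentation `EO8` has order at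
most `240 * 2903040` (the subgroup `⟨a, b, c⟩` is a quotient of the covering presentation `ES6` of `Sp₆(2)`, of order
at most `2 * 1451520`), so the kernel has order at most 4; two permutation representations of degree 240 of the
covering group (on the cosets of the lifts of two non-conjugate subgroups `Sp₆(2)`) separate the elements of the kernel.
-/

namespace Cfsg.Agent.Lib.Helper3.Cover.O8Main

open Cfsg Cfsg.Agent.Lib.Helper3 Cfsg.Agent.Lib.Helper3.Cover.O8Num Cfsg.Agent.Lib.Helper3.Cover.O8Iso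
  Cfsg.Agent.Lib.Helper3.Cover.O8Omega Cfsg.Agent.Lib.Helper3.Cover.Sp6Iso
open Cfsg.Agent.Lib.Helper28.TC2Upper Cfsg.Agent.Lib.Helper28.TC2Lower Cfsg.Agent.Lib.Helper28.TC2Glue
open Cfsg.Agent.Lib.Helper28.TC2Tower

/-! ### the order of the covering group -/

theorem upE : ∀ L ∈ ES6Def.relWords, upWord up L ∈ EO8Def.relWords := by decide +kernel

theorem hSEO8 : ∀ s ∈ EO8Link.S, ∃ b, s = FreeGroup.of (up b) := by
  intro s hs
  simp only [EO8Link.S, Set.mem_insert_iff, Set.mem_singleton_iff] at hs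
  rcases hs with rfl | rfl | rfl
  exacts [⟨.a, rfl⟩, ⟨.b, rfl⟩, ⟨.c, rfl⟩]

theorem cardEO8' : Finite (PresentedGroup EO8Link.rels) ∧ Nat.card (PresentedGroup EO8Link.rels) ≤ 696729600 := by
  haveI : Finite (PresentedGroup ES6Link.rels) := Sp6Main.cardES6'.1
  have hrel := hrel_of_words EO8Link.rels ES6Link.rels up EO8Link.relWords ES6Link.relWords
    EO8Link.link.hrels ES6Link.link.hrels upE
  obtain ⟨hfin, hle⟩ := card_le_of_subpres EO8Link.rels ES6Link.rels up hrel EO8Link.S hSEO8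
  have hidx : ((Subgroup.closure EO8Link.S).map (PresentedGroup.mk EO8Link.rels)).index = 240 := EO8Main.main.1
  have := hfin
  refine ⟨finite_of_index _ (by rw [hidx]; norm_num), ?_⟩
  exact card_le_of_index _ hidx (le_trans hle Sp6Main.cardES6'.2)

theorem cardEO8 : Finite DO.E ∧ Nat.card DO.E ≤ 696729600 := cardEO8'

theorem card_ker_le : Nat.card DO.proj.ker ≤ 4 := by
  haveI := cardEO8.1
  have h1 := DO.card_E
  rw [cardPO8_eq] at h1
  have h2 := cardEO8.2
  rw [h1] at h2
  have h5 : Nat.card ↥DO.proj.ker * 174182400 ≤ 4 * 174182400 := h2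
  exact Nat.le_of_mul_le_mul_right h5 (by norm_num)

/-! ### the two permutation representations -/

theorem lwk2 : ∀ xb, EO8Link.lw xb < LO8bTable.table.k := by
  rintro ⟨x, b⟩; cases x <;> cases b <;> decide
theorem lwinv2 : ∀ x, EO8Link.lw (x, false) = LO8bTable.table.invl (EO8Link.lw (x, true)) := by
  intro x; cases x <;> decide +kernel
theorem hmem2 : ∀ L ∈ EO8Def.relWords, pathOf EO8Link.lw L ∈ LO8bTable.chkPaths := by decide +kernel

theorem hn2 : 0 < LO8bTable.table.n := by decide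

/-- two words acting differently on the first point of the first table are different elements -/
theorem mk_ne1 (L1 L2 : List (EO8Def.Gen × Bool))
    (h : EO8Table.table.walkT (pathOf EO8Link.lw L1) 0 ≠ EO8Table.table.walkT (pathOf EO8Link.lw L2) 0) :
    (PresentedGroup.mk DO.relsE (FreeGroup.mk L1)) ≠ PresentedGroup.mk DO.relsE (FreeGroup.mk L2) := by
  obtain ⟨-, φ, hφ, -⟩ := EO8Main.main
  intro he
  apply h
  have h1 := M12Main.phi_mk_apply EO8Link.link EO8Main.hT φ hφ L1 ⟨0, EO8Main.hn⟩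
  have h2 := M12Main.phi_mk_apply EO8Link.link EO8Main.hT φ hφ L2 ⟨0, EO8Main.hn⟩
  have he' : (PresentedGroup.mk EO8Link.rels (FreeGroup.mk L1)) =
      PresentedGroup.mk EO8Link.rels (FreeGroup.mk L2) := he
  rw [he'] at h1
  exact h1.symm.trans h2

/-- two words acting differently on the first point of the second table are different elements -/
theorem mk_ne2 (L1 L2 : List (EO8Def.Gen × Bool))
    (h : LO8bTable.table.walkT (pathOf EO8Link.lw L1) 0 ≠ LO8bTable.table.walkT (pathOf EO8Link.lw L2) 0) :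
    (PresentedGroup.mk DO.relsE (FreeGroup.mk L1)) ≠ PresentedGroup.mk DO.relsE (FreeGroup.mk L2) := by
  obtain ⟨φ, hφ⟩ := lower_hom EO8Def.relWords EO8Link.lw LO8bTable.table LO8bLow.hT lwk2 lwinv2
    (fun L hL => LO8bLow.hchkT _ (hmem2 L hL))
  intro he
  apply h
  have h1 := hφ L1 ⟨0, hn2⟩
  have h2 := hφ L2 ⟨0, hn2⟩
  have he' : (PresentedGroup.mk (relSet EO8Def.relWords) (FreeGroup.mk L1)) =
      PresentedGroup.mk (relSet EO8Def.relWords) (FreeGroup.mk L2) := he
  rw [he'] at h1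
  exact h1.symm.trans h2

/-- the relator `c c` -/
def ra : List (EO8Def.Gen × Bool) := EO8Def.R.getD 5 []
/-- the last relator -/
def rb : List (EO8Def.Gen × Bool) := EO8Def.R.getD 15 []

theorem ra_mem : ra ∈ EO8Def.R := by decide +kernel
theorem rb_mem : rb ∈ EO8Def.R := by decide +kernel

theorem mk_mem_ker (L : List (EO8Def.Gen × Bool)) (hL : L ∈ EO8Def.R) :
    PresentedGroup.mk DO.relsE (FreeGroup.mk L) ∈ DO.proj.ker := by
  rw [MonoidHom.mem_ker, DO.proj_mk]
  exact PresentedGroup.one_of_mem ⟨L, hL, rfl⟩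

theorem walk_a : LO8bTable.table.walkT (pathOf EO8Link.lw ra) 0 ≠ LO8bTable.table.walkT (pathOf EO8Link.lw []) 0 := by
  decide +kernel
theorem walk_b : EO8Table.table.walkT (pathOf EO8Link.lw rb) 0 ≠ EO8Table.table.walkT (pathOf EO8Link.lw []) 0 := by
  decide +kernel
theorem walk_ab : EO8Table.table.walkT (pathOf EO8Link.lw ra) 0 ≠ EO8Table.table.walkT (pathOf EO8Link.lw rb) 0 := by
  decide +kernel
theorem walk_ab1 : EO8Table.table.walkT (pathOf EO8Link.lw (ra ++ rb)) 0 ≠
    EO8Table.table.walkT (pathOf EO8Link.lw []) 0 := by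
  decide +kernel
theorem walk_aa : EO8Table.table.walkT (pathOf EO8Link.lw (ra ++ ra)) 0 ≠
    EO8Table.table.walkT (pathOf EO8Link.lw rb) 0 := by
  decide +kernel
theorem walk_bb : LO8bTable.table.walkT (pathOf EO8Link.lw (rb ++ rb)) 0 ≠
    LO8bTable.table.walkT (pathOf EO8Link.lw ra) 0 := by
  decide +kernel

theorem mk_nil : PresentedGroup.mk DO.relsE (FreeGroup.mk ([] : List (EO8Def.Gen × Bool))) = 1 := by
  have : (FreeGroup.mk ([] : List (EO8Def.Gen × Bool))) = 1 := rfl
  rw [this, map_one]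

theorem mk_append (L1 L2 : List (EO8Def.Gen × Bool)) :
    PresentedGroup.mk DO.relsE (FreeGroup.mk (L1 ++ L2)) =
      PresentedGroup.mk DO.relsE (FreeGroup.mk L1) * PresentedGroup.mk DO.relsE (FreeGroup.mk L2) := by
  rw [← map_mul, FreeGroup.mul_mk]

/-- the kernel is a four-group -/
theorem klein_ker : ∃ _ : CommGroup ↥DO.proj.ker, IsKleinFour ↥DO.proj.ker := by
  haveI := cardEO8.1
  letI cg : CommGroup ↥DO.proj.ker :=
    { (inferInstance : Group ↥DO.proj.ker) with
      mul_comm := fun u v => Subtype.ext (Subgroup.mem_center_iff.mp (DO.ker_proj_le_center v.2) u.1) }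
  refine ⟨cg, ?_⟩
  let a : ↥DO.proj.ker := ⟨_, mk_mem_ker ra ra_mem⟩
  let b : ↥DO.proj.ker := ⟨_, mk_mem_ker rb rb_mem⟩
  apply SzMain.klein_of card_ker_le a b
  · intro h
    have := congrArg Subtype.val h
    exact mk_ne2 ra [] walk_a (this.trans mk_nil.symm)
  · intro h
    have := congrArg Subtype.val h
    exact mk_ne1 rb [] walk_b (this.trans mk_nil.symm)
  · intro h
    exact mk_ne1 ra rb walk_ab (congrArg Subtype.val h)
  · intro h
    have := congrArg Subtype.val h
    exact mk_ne1 (ra ++ rb) [] walk_ab1 ((mk_append ra rb).trans (this.trans mk_nil.symm))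
  · intro h
    have := congrArg Subtype.val h
    exact mk_ne1 (ra ++ ra) rb walk_aa ((mk_append ra ra).trans this)
  · intro h
    have := congrArg Subtype.val h
    exact mk_ne2 (rb ++ rb) ra walk_bb ((mk_append rb rb).trans this)

/-- the Schur multiplier of `PΩ₈⁺(2)` over `ZMod 2` -/
theorem schur_POmega8 : Cfsg.HasSchurMultiplier (Cfsg.POmega (ZMod 2) Q8) (Multiplicative (ZMod 2 × ZMod 2)) := by
  haveI := cardEO8.1
  obtain ⟨cg, hk⟩ := klein_ker
  obtain ⟨φ⟩ := iso_POmega
  obtain ⟨e⟩ := @IsKleinFour.nonempty_mulEquiv ↥DO.proj.ker (Multiplicative (ZMod 2 × ZMod 2)) _ _ hk _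
  exact DO.hasSchurMultiplier φ e

end Cfsg.Agent.Lib.Helper3.Cover.O8Main
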