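import Cfsg.Agent.Lib.Helper3.Cover.O8Iso

set_option autoImplicit false
set_option maxRecDepth 100000

/-!
# The presented group `PO8` is `PΩ₈⁺(2)`: the image is the commutator subgroup, and its centre is trivial
-/

namespace Cfsg.Agent.Lib.Helper3.Cover.O8Omega

open Cfsg Cfsg.Agent.Lib.Helper3 Cfsg.Agent.Lib.Helper3.Cover.O8Num Cfsg.Agent.Lib.Helper3.Cover.O8Iso
open Cfsg.Agent.Lib.Helper28.BitMat Cfsg.Agent.Lib.Helper28.BitGroup Cfsg.Agent.Lib.Helper28.BitOmega
open Cfsg.Agent.Lib.Helper28.BitChain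

/-- the presented group is perfect -/
theorem commutator_P : commutator DO.P = ⊤ := by
  rw [eq_top_iff]
  intro x _
  obtain ⟨y, rfl⟩ := DO.proj_surjective x
  have hy : y ∈ commutator DO.E := by rw [DO.commutator_eq_top]; trivial
  have h2 : (commutator DO.E).map DO.proj ≤ commutator DO.P := by
    rw [commutator_def, Subgroup.map_commutator]
    exact Subgroup.commutator_mono le_top le_top
  exact h2 ⟨y, hy, rfl⟩

/-! ### elements commuting with the generators -/

/-- the action of a generator on the codes -/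
def fx (x : EO8Def.Gen) (p : ℕ) : ℕ := mvN I8 (cols x) p

/-- one step of the closure of a list of codes under the generators -/
def grow (S : List ℕ) : List ℕ :=
  (S ++ S.map (fx .a) ++ S.map (fx .b) ++ S.map (fx .c) ++ S.map (fx .d)).dedup

/-- several steps -/
def growN : ℕ → List ℕ → List ℕ
  | 0, S => S
  | k + 1, S => growN k (grow S)

theorem fixed_a : ∀ q : Fin 256, (fx .a q.val = q.val ∧ fx .b q.val = q.val ∧ fx .c q.val = q.val) →
    q.val = 0 ∨ q.val = 136 := by decide +kernel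

theorem fix136 : fx .a 136 = 136 ∧ fx .b 136 = 136 ∧ fx .c 136 = 136 := by decide +kernel

theorem orbit136 : ∀ p : Fin 256, QNplus 4 p.val = true → p.val ∈ growN 12 [136] := by decide +kernel

theorem sum_two : ∀ p : Fin 256, ∃ a : Fin 256, QNplus 4 a.val = true ∧ QNplus 4 (p.val ^^^ a.val) = true := by
  decide +kernel

theorem rho_gen (x : EO8Def.Gen) (p : Fin 256) : (rho (gen x) p).val = fx x p.val :=
  rho_code (coe_gen x) (cols_lt x) p

/-- an invertible matrix commuting with the generators is trivial -/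
theorem eq_one_of_commute (g : GL8) (hg : ∀ x, g * gen x = gen x * g) : g = 1 := by
  apply rho_injective
  rw [map_one]
  have hcomm : ∀ x p, rho g (rho (gen x) p) = rho (gen x) (rho g p) := by
    intro x p
    rw [← Equiv.Perm.mul_apply, ← Equiv.Perm.mul_apply, ← map_mul, ← map_mul, hg]
  -- the fixed codes
  let Fixed : ℕ → Prop := fun p => ∃ h : p < 256, rho g ⟨p, h⟩ = ⟨p, h⟩
  have hfx : ∀ x p, Fixed p → Fixed (fx x p) := by
    rintro x p ⟨h, hp⟩
    have e : (rho (gen x) ⟨p, h⟩).val = fx x p := rho_gen x ⟨p, h⟩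
    have hlt : fx x p < 256 := by rw [← e]; exact (rho (gen x) ⟨p, h⟩).2
    have e' : (⟨fx x p, hlt⟩ : Fin 256) = rho (gen x) ⟨p, h⟩ := Fin.ext e.symm
    refine ⟨hlt, ?_⟩
    rw [e', hcomm, hp]
  have hgrow : ∀ S : List ℕ, (∀ p ∈ S, Fixed p) → ∀ p ∈ grow S, Fixed p := by
    intro S hS p hp
    unfold grow at hp
    rw [List.mem_dedup] at hp
    simp only [List.mem_append, List.mem_map] at hp
    rcases hp with (((hp | ⟨q, hq, rfl⟩) | ⟨q, hq, rfl⟩) | ⟨q, hq, rfl⟩) | ⟨q, hq, rfl⟩
    · exact hS p hp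
    · exact hfx _ q (hS q hq)
    · exact hfx _ q (hS q hq)
    · exact hfx _ q (hS q hq)
    · exact hfx _ q (hS q hq)
  have hgrowN : ∀ (k : ℕ) (S : List ℕ), (∀ p ∈ S, Fixed p) → ∀ p ∈ growN k S, Fixed p := by
    intro k
    induction k with
    | zero => intro S hS p hp; exact hS p hp
    | succ k ih => intro S hS p hp; exact ih (grow S) (hgrow S hS) p hp
  -- the first base vector is fixed
  have h0 : (rho g ⟨0, by norm_num⟩).val = 0 := rho_zero g
  have h136 : Fixed 136 := by
    refine ⟨by norm_num, ?_⟩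
    set q := rho g ⟨136, by norm_num⟩ with hq
    have hfa : ∀ x, fx x 136 = 136 → fx x q.val = q.val := by
      intro x hx
      have e1 : rho (gen x) ⟨136, by norm_num⟩ = ⟨136, by norm_num⟩ := by
        apply Fin.ext
        rw [rho_gen]
        exact hx
      have := hcomm x ⟨136, by norm_num⟩
      rw [e1] at this
      rw [← rho_gen, ← this]
    rcases fixed_a q ⟨hfa .a fix136.1, hfa .b fix136.2.1, hfa .c fix136.2.2⟩ with h | h
    · exfalso
      have : q = rho g ⟨0, by norm_num⟩ := Fin.ext (h.trans h0.symm)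
      have := (rho g).injective this
      exact absurd (congrArg Fin.val this) (by norm_num)
    · exact Fin.ext h
  have hns : ∀ p : Fin 256, QNplus 4 p.val = true → rho g p = p := by
    intro p hp
    obtain ⟨h, hf⟩ := hgrowN 12 [136] (by
      intro q hq
      rw [List.mem_singleton] at hq
      rw [hq]
      exact h136) p.val (orbit136 p hp)
    exact hf
  ext p
  obtain ⟨a, ha, hpa⟩ := sum_two p
  have hlt : p.val ^^^ a.val < 256 := Nat.xor_lt_two_pow (n := 8) p.2 a.2
  have e1 : a.val ^^^ (p.val ^^^ a.val) = p.val := by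
    rw [Nat.xor_comm p.val, ← Nat.xor_assoc, Nat.xor_self, Nat.zero_xor]
  have hlt2 : a.val ^^^ (p.val ^^^ a.val) < 256 := by rw [e1]; exact p.2
  have h1 := rho_xor g a.val (p.val ^^^ a.val) a.2 hlt hlt2
  have h2 : rho g ⟨a.val, a.2⟩ = ⟨a.val, a.2⟩ := hns a ha
  have h3 : rho g ⟨p.val ^^^ a.val, hlt⟩ = ⟨p.val ^^^ a.val, hlt⟩ := hns ⟨p.val ^^^ a.val, hlt⟩ hpa
  rw [h2, h3] at h1
  have h4 : (⟨a.val ^^^ (p.val ^^^ a.val), hlt2⟩ : Fin 256) = p := Fin.ext e1
  rw [h4] at h1
  show (rho g p).val = p.val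
  rw [h1]
  exact e1

/-! ### the isomorphism -/

/-- the image of the presented group is the commutator subgroup of the isometry group -/
theorem exists_iso : ∃ ψ : DO.P →* ↥(Cfsg.Omega (ZMod 2) Q8), Function.Bijective ψ ∧
    ∀ x, (((ψ (PresentedGroup.of x) : ↥(Cfsg.Omega (ZMod 2) Q8)) : ↥O8) : GL8) = gen x := by
  haveI := cardPO8.1
  obtain ⟨φ, hφ⟩ := exists_phi
  have hle := range_phi_le φ hφ
  have hlow := card_range_phi φ hφ
  have hup : Nat.card φ.range ≤ Nat.card DO.P :=
    Nat.card_le_card_of_surjective φ.rangeRestrict φ.rangeRestrict_surjective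
  have hcardP : Nat.card DO.P = 174182400 := le_antisymm cardPO8.2 (le_trans hlow hup)
  have hcardR : Nat.card φ.range = 174182400 := le_antisymm (hcardP ▸ hup) hlow
  have hbij : Function.Bijective φ.rangeRestrict :=
    Function.Surjective.bijective_of_nat_card_le φ.rangeRestrict_surjective (by rw [hcardR, hcardP])
  have hinj : Function.Injective φ := by
    intro x y h
    exact hbij.1 (Subtype.ext h)
  -- the map to the isometry group
  let φ' : DO.P →* ↥O8 := φ.codRestrict O8 (fun y => hle ⟨y, rfl⟩)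
  have hφ'inj : Function.Injective φ' := by
    intro x y h
    exact hinj (congrArg Subtype.val h)
  have hrange : φ'.range = φ.range.subgroupOf O8 := by
    ext k
    rw [Subgroup.mem_subgroupOf]
    constructor
    · rintro ⟨y, rfl⟩; exact ⟨y, rfl⟩
    · rintro ⟨y, hy⟩; exact ⟨y, Subtype.ext hy⟩
  have hcomm1 : commutator ↥O8 ≤ φ'.range := by
    rw [hrange]
    apply commutator_le_of_card
    rw [card_subgroupOf_of_le hle, card_O8, hcardR]
  have hcomm2 : φ'.range ≤ commutator ↥O8 := by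
    rw [MonoidHom.range_eq_map, ← commutator_P, commutator_def, Subgroup.map_commutator]
    exact Subgroup.commutator_mono le_top le_top
  have heq : φ'.range = Cfsg.Omega (ZMod 2) Q8 := le_antisymm hcomm2 hcomm1
  let ψ : DO.P →* ↥(Cfsg.Omega (ZMod 2) Q8) :=
    φ'.codRestrict (Cfsg.Omega (ZMod 2) Q8) (fun y => heq ▸ ⟨y, rfl⟩)
  refine ⟨ψ, ⟨?_, ?_⟩, ?_⟩
  · intro x y h
    exact hφ'inj (congrArg Subtype.val h)
  · intro k
    have hk : (k : ↥O8) ∈ φ'.range := by rw [heq]; exact k.2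
    obtain ⟨y, hy⟩ := hk
    exact ⟨y, Subtype.ext hy⟩
  · intro x
    exact hφ x

/-- the centre of the commutator subgroup of the isometry group is trivial -/
theorem center_Omega : Subgroup.center ↥(Cfsg.Omega (ZMod 2) Q8) = ⊥ := by
  obtain ⟨ψ, -, hψ⟩ := exists_iso
  rw [eq_bot_iff]
  intro z hz
  rw [Subgroup.mem_bot]
  apply Subtype.ext
  apply Subtype.ext
  show ((z : ↥O8) : GL8) = 1
  apply eq_one_of_commute
  intro x
  have h := Subgroup.mem_center_iff.mp hz (ψ (PresentedGroup.of x))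
  have h' := congrArg (fun w : ↥(Cfsg.Omega (ZMod 2) Q8) => ((w : ↥O8) : GL8)) h
  simp only [Subgroup.coe_mul, hψ] at h'
  exact h'.symm

/-- the presented group is `PΩ₈⁺(2)` -/
theorem iso_POmega : Nonempty (DO.P ≃* Cfsg.POmega (ZMod 2) Q8) := by
  obtain ⟨ψ, hbij, -⟩ := exists_iso
  have e1 : DO.P ≃* ↥(Cfsg.Omega (ZMod 2) Q8) := MulEquiv.ofBijective ψ hbij
  have e2 : ↥(Cfsg.Omega (ZMod 2) Q8) ≃*
      ↥(Cfsg.Omega (ZMod 2) Q8) ⧸ (⊥ : Subgroup ↥(Cfsg.Omega (ZMod 2) Q8)) :=
    QuotientGroup.quotientBot.symm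
  have e3 : ↥(Cfsg.Omega (ZMod 2) Q8) ⧸ (⊥ : Subgroup ↥(Cfsg.Omega (ZMod 2) Q8)) ≃*
      Cfsg.POmega (ZMod 2) Q8 := QuotientGroup.quotientMulEquivOfEq center_Omega.symm
  exact ⟨e1.trans (e2.trans e3)⟩

theorem cardPO8_eq : Nat.card DO.P = 174182400 := by
  haveI := cardPO8.1
  obtain ⟨φ, hφ⟩ := exists_phi
  have hlow := card_range_phi φ hφ
  have hup : Nat.card φ.range ≤ Nat.card DO.P :=
    Nat.card_le_card_of_surjective φ.rangeRestrict φ.rangeRestrict_surjective
  exact le_antisymm cardPO8.2 (le_trans hlow hup)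

end Cfsg.Agent.Lib.Helper3.Cover.O8Omega
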