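import Mathlib
import Cfsg.Prelude.Def_Classical

set_option autoImplicit false
set_option linter.unusedSectionVars false

/-!
# Transport of the groups `Ω(Q)` and `PΩ(Q)` along an isomorphism of fields
-/

namespace Cfsg.Agent.Lib.Helper3.Cover.OrthTransport

open Matrix

universe u v

variable {ι : Type} [Fintype ι] [DecidableEq ι] {R : Type u} {S : Type v} [Field R] [Field S]

/-- the isomorphism of the general linear groups -/
noncomputable def glEquiv (e : R ≃+* S) : Matrix.GeneralLinearGroup ι R ≃* Matrix.GeneralLinearGroup ι S :=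
  Units.mapEquiv (RingEquiv.mapMatrix e).toMulEquiv

theorem coe_glEquiv (e : R ≃+* S) (u : Matrix.GeneralLinearGroup ι R) :
    ((glEquiv e u : Matrix.GeneralLinearGroup ι S) : Matrix ι ι S) = (u : Matrix ι ι R).map e := rfl

theorem map_mulVec' (e : R ≃+* S) (M : Matrix ι ι R) (w : ι → R) :
    (M.map e).mulVec (fun i => e (w i)) = fun i => e (M.mulVec w i) := by
  funext i
  have := RingHom.map_mulVec e.toRingHom M w i
  exact this.symm

theorem mem_iso_of_mem (e : R ≃+* S) (Q : (ι → R) → R) (Q' : (ι → S) → S)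
    (hQ : ∀ w, Q' (fun i => e (w i)) = e (Q w)) {u : Matrix.GeneralLinearGroup ι R}
    (hu : u ∈ Cfsg.isometryGroup R Q) : glEquiv e u ∈ Cfsg.isometryGroup S Q' := by
  intro v' _
  show Q' (((glEquiv e u : Matrix.GeneralLinearGroup ι S) : Matrix ι ι S).mulVec v') = Q' v'
  obtain ⟨w, rfl⟩ : ∃ w : ι → R, v' = fun i => e (w i) :=
    ⟨fun i => e.symm (v' i), by funext i; simp⟩
  rw [coe_glEquiv, map_mulVec', hQ, hQ]
  congr 1
  exact hu w w

theorem hQ_symm (e : R ≃+* S) (Q : (ι → R) → R) (Q' : (ι → S) → S)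
    (hQ : ∀ w, Q' (fun i => e (w i)) = e (Q w)) (w' : ι → S) :
    Q (fun i => e.symm (w' i)) = e.symm (Q' w') := by
  have h := hQ (fun i => e.symm (w' i))
  simp only [RingEquiv.apply_symm_apply] at h
  rw [h, RingEquiv.symm_apply_apply]

theorem glEquiv_symm_apply (e : R ≃+* S) (u' : Matrix.GeneralLinearGroup ι S) :
    (glEquiv e).symm u' = glEquiv e.symm u' := rfl

/-- the isomorphism of the isometry groups -/
noncomputable def isoEquiv (e : R ≃+* S) (Q : (ι → R) → R) (Q' : (ι → S) → S)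
    (hQ : ∀ w, Q' (fun i => e (w i)) = e (Q w)) :
    ↥(Cfsg.isometryGroup R Q) ≃* ↥(Cfsg.isometryGroup S Q') where
  toFun u := ⟨glEquiv e u.1, mem_iso_of_mem e Q Q' hQ u.2⟩
  invFun u' := ⟨glEquiv e.symm u'.1, mem_iso_of_mem e.symm Q' Q (hQ_symm e Q Q' hQ) u'.2⟩
  left_inv u := by
    apply Subtype.ext
    show glEquiv e.symm (glEquiv e u.1) = u.1
    rw [← glEquiv_symm_apply, MulEquiv.symm_apply_apply]
  right_inv u' := by
    apply Subtype.ext
    show glEquiv e (glEquiv e.symm u'.1) = u'.1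
    rw [← glEquiv_symm_apply, MulEquiv.apply_symm_apply]
  map_mul' a b := by
    apply Subtype.ext
    show glEquiv e (a.1 * b.1) = glEquiv e a.1 * glEquiv e b.1
    rw [map_mul]

/-- an isomorphism of groups induces an isomorphism of the commutator subgroups -/
noncomputable def commEquiv {G H : Type*} [Group G] [Group H] (ε : G ≃* H) : ↥(commutator G) ≃* ↥(commutator H) :=
  (ε.subgroupMap (commutator G)).trans (MulEquiv.subgroupCongr (by
    rw [commutator_def, commutator_def]
    show Subgroup.map ε.toMonoidHom _ = _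
    rw [Subgroup.map_commutator, Subgroup.map_top_of_surjective _ ε.surjective]))

/-- the isomorphism of the groups `Ω` -/
noncomputable def omegaEquiv (e : R ≃+* S) (Q : (ι → R) → R) (Q' : (ι → S) → S)
    (hQ : ∀ w, Q' (fun i => e (w i)) = e (Q w)) :
    ↥(Cfsg.Omega R Q) ≃* ↥(Cfsg.Omega S Q') := commEquiv (isoEquiv e Q Q' hQ)

theorem center_eq_bot_of_equiv {A B : Type*} [Group A] [Group B] (ε : A ≃* B)
    (h : Subgroup.center A = ⊥) : Subgroup.center B = ⊥ := by
  rw [eq_bot_iff]
  intro z hz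
  rw [Subgroup.mem_bot]
  have h1 : ε.symm z ∈ Subgroup.center A := by
    rw [Subgroup.mem_center_iff]
    intro a
    have := Subgroup.mem_center_iff.mp hz (ε a)
    have h2 := congrArg ε.symm this
    rw [map_mul, map_mul, MulEquiv.symm_apply_apply] at h2
    exact h2
  rw [h, Subgroup.mem_bot] at h1
  have := congrArg ε h1
  rw [MulEquiv.apply_symm_apply, map_one] at this
  exact this

/-- the isomorphism of the groups `PΩ`, when the centre of `Ω` is trivial -/
theorem nonempty_pomegaEquiv (e : R ≃+* S) (Q : (ι → R) → R) (Q' : (ι → S) → S)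
    (hQ : ∀ w, Q' (fun i => e (w i)) = e (Q w)) (hc : Subgroup.center ↥(Cfsg.Omega R Q) = ⊥) :
    Nonempty (Cfsg.POmega R Q ≃* Cfsg.POmega S Q') := by
  have hc' : Subgroup.center ↥(Cfsg.Omega S Q') = ⊥ := center_eq_bot_of_equiv (omegaEquiv e Q Q' hQ) hc
  have e1 : Cfsg.POmega R Q ≃* ↥(Cfsg.Omega R Q) :=
    (QuotientGroup.quotientMulEquivOfEq hc).trans QuotientGroup.quotientBot
  have e2 : Cfsg.POmega S Q' ≃* ↥(Cfsg.Omega S Q') :=
    (QuotientGroup.quotientMulEquivOfEq hc').trans QuotientGroup.quotientBot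
  exact ⟨e1.trans ((omegaEquiv e Q Q' hQ).trans e2.symm)⟩

theorem quadFormPlus_map (e : R ≃+* S) (m : ℕ) (w : Fin m ⊕ Fin m → R) :
    Cfsg.quadFormPlus m S (fun i => e (w i)) = e (Cfsg.quadFormPlus m R w) := by
  unfold Cfsg.quadFormPlus
  rw [map_sum]
  apply Finset.sum_congr rfl
  intro i _
  rw [map_mul]

theorem quadFormOdd_map (e : R ≃+* S) (m : ℕ) (w : Unit ⊕ (Fin m ⊕ Fin m) → R) :
    Cfsg.quadFormOdd m S (fun i => e (w i)) = e (Cfsg.quadFormOdd m R w) := by
  unfold Cfsg.quadFormOdd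
  rw [map_add, map_pow, map_sum]
  congr 1
  apply Finset.sum_congr rfl
  intro i _
  rw [map_mul]

end Cfsg.Agent.Lib.Helper3.Cover.OrthTransport
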