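import Cfsg.Agent.Lib.Helper3.Cover.PF22Data
set_option autoImplicit false
set_option maxRecDepth 100000
set_option maxHeartbeats 0

namespace Cfsg.Agent.Lib.Helper3.Cover.PF22U13
open Cfsg.Agent.Lib.Helper28.TC2Upper Cfsg.Agent.Lib.Helper3.Cover.PF22Data

theorem chk65 : data.checkRange 72682 1676 = true := by decide +kernel
theorem chk66 : data.checkRange 74358 1618 = true := by decide +kernel
theorem chk67 : data.checkRange 75976 1394 = true := by decide +kernel

end Cfsg.Agent.Lib.Helper3.Cover.PF22U13
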