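import Cfsg.Agent.Lib.Helper28.TC2Upper
import Cfsg.Agent.Lib.Helper3.Cover.PSzDataC0
set_option autoImplicit false
set_option maxRecDepth 100000

namespace Cfsg.Agent.Lib.Helper3.Cover.PSzData
open Cfsg.Agent.Lib.Helper28.TC2Upper

/-- relators -/
def relT : BT (ℕ × List ℕ × List ℕ) := (BT.node 2 (BT.node 1 (BT.node 0 (BT.leaf (2, [0, 0], [1, 1])) (BT.leaf (7, [3, 3, 3, 3, 3, 3, 3], [2, 2, 2, 2, 2, 2, 2]))) (BT.leaf (10, [0, 3, 0, 3, 0, 3, 0, 3, 0, 3], [2, 1, 2, 1, 2, 1, 2, 1, 2, 1]))) (BT.node 3 (BT.leaf (20, [0, 2, 0, 2, 2, 0, 3, 3, 0, 3, 0, 2, 2, 0, 3, 0, 2, 0, 3, 3], [2, 2, 1, 3, 1, 2, 1, 3, 3, 1, 2, 1, 2, 2, 1, 3, 3, 1, 3, 1])) (BT.leaf (26, [0, 2, 2, 2, 0, 3, 3, 0, 2, 2, 2, 0, 2, 0, 3, 3, 0, 3, 0, 3, 3, 3, 0, 3, 3, 3], [2, 2, 2, 1, 2, 2, 2, 1, 2, 1, 2, 2, 1, 3, 1, 3, 3, 3, 1, 2, 2, 1, 3, 3, 3, 1]))))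
/-- subgroup generators -/
def subT : BT (ℕ × List ℕ × List ℕ) := (BT.leaf (0, [], []))
/-- fact chunks -/
def colET : BT ℕ := (BT.node 157 (BT.node 78 (BT.node 39 (BT.node 19 (BT.node 9 (BT.node 4 (BT.node 2 (BT.node 1 (BT.node 0 (BT.leaf cE0) (BT.leaf cE1)) (BT.leaf cE2)) (BT.node 3 (BT.leaf cE3) (BT.leaf cE4))) (BT.node 7 (BT.node 6 (BT.node 5 (BT.leaf cE5) (BT.leaf cE6)) (BT.leaf cE7)) (BT.node 8 (BT.leaf cE8) (BT.leaf cE9)))) (BT.node 14 (BT.node 12 (BT.node 11 (BT.node 10 (BT.leaf cE10) (BT.leaf cE11)) (BT.leaf cE12)) (BT.node 13 (BT.leaf cE13) (BT.leaf cE14))) (BT.node 17 (BT.node 16 (BT.node 15 (BT.leaf cE15) (BT.leaf cE16)) (BT.leaf cE17)) (BT.node 18 (BT.leaf cE18) (BT.leaf cE19))))) (BT.node 29 (BT.node 24 (BT.node 22 (BT.node 21 (BT.node 20 (BT.leaf cE20) (BT.leaf cE21)) (BT.leaf cE22)) (BT.node 23 (BT.leaf cE23) (BT.leaf cE24))) (BT.node 27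 (BT.node 26 (BT.node 25 (BT.leaf cE25) (BT.leaf cE26)) (BT.leaf cE27)) (BT.node 28 (BT.leaf cE28) (BT.leaf cE29)))) (BT.node 34 (BT.node 32 (BT.node 31 (BT.node 30 (BT.leaf cE30) (BT.leaf cE31)) (BT.leaf cE32)) (BT.node 33 (BT.leaf cE33) (BT.leaf cE34))) (BT.node 37 (BT.node 36 (BT.node 35 (BT.leaf cE35) (BT.leaf cE36)) (BT.leaf cE37)) (BT.node 38 (BT.leaf cE38) (BT.leaf cE39)))))) (BT.node 59 (BT.node 49 (BT.node 44 (BT.node 42 (BT.node 41 (BT.node 40 (BT.leaf cE40) (BT.leaf cE41)) (BT.leaf cE42)) (BT.node 43 (BT.leaf cE43) (BT.leaf cE44))) (BT.node 47 (BT.node 46 (BT.node 45 (BT.leaf cE45) (BT.leaf cE46)) (BT.leaf cE47)) (BT.node 48 (BT.leaf cE48) (BT.leaf cE49)))) (BT.node 54 (BT.node 52 (BT.node 51 (BT.node 50 (BT.leaf cE50) (BT.leaf cE51)) (BT.leaf cE52)) (BT.node 53 (BT.leaf cE53) (BT.leaf cE54))) (BT.node 57 (BT.node 56 (BT.node 55 (BT.leaf cE55)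 (BT.leaf cE56)) (BT.leaf cE57)) (BT.node 58 (BT.leaf cE58) (BT.leaf cE59))))) (BT.node 69 (BT.node 64 (BT.node 62 (BT.node 61 (BT.node 60 (BT.leaf cE60) (BT.leaf cE61)) (BT.leaf cE62)) (BT.node 63 (BT.leaf cE63) (BT.leaf cE64))) (BT.node 67 (BT.node 66 (BT.node 65 (BT.leaf cE65) (BT.leaf cE66)) (BT.leaf cE67)) (BT.node 68 (BT.leaf cE68) (BT.leaf cE69)))) (BT.node 74 (BT.node 72 (BT.node 71 (BT.node 70 (BT.leaf cE70) (BT.leaf cE71)) (BT.leaf cE72)) (BT.node 73 (BT.leaf cE73) (BT.leaf cE74))) (BT.node 76 (BT.node 75 (BT.leaf cE75) (BT.leaf cE76)) (BT.node 77 (BT.leaf cE77) (BT.leaf cE78))))))) (BT.node 118 (BT.node 98 (BT.node 88 (BT.node 83 (BT.node 81 (BT.node 80 (BT.node 79 (BT.leaf cE79) (BT.leaf cE80)) (BT.leaf cE81)) (BT.node 82 (BT.leaf cE82) (BT.leaf cE83))) (BT.node 86 (BT.node 85 (BT.node 84 (BT.leaf cE84) (BT.leaf cE85)) (BT.leaf cE86)) (BT.node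 87 (BT.leaf cE87) (BT.leaf cE88)))) (BT.node 93 (BT.node 91 (BT.node 90 (BT.node 89 (BT.leaf cE89) (BT.leaf cE90)) (BT.leaf cE91)) (BT.node 92 (BT.leaf cE92) (BT.leaf cE93))) (BT.node 96 (BT.node 95 (BT.node 94 (BT.leaf cE94) (BT.leaf cE95)) (BT.leaf cE96)) (BT.node 97 (BT.leaf cE97) (BT.leaf cE98))))) (BT.node 108 (BT.node 103 (BT.node 101 (BT.node 100 (BT.node 99 (BT.leaf cE99) (BT.leaf cE100)) (BT.leaf cE101)) (BT.node 102 (BT.leaf cE102) (BT.leaf cE103))) (BT.node 106 (BT.node 105 (BT.node 104 (BT.leaf cE104) (BT.leaf cE105)) (BT.leaf cE106)) (BT.node 107 (BT.leaf cE107) (BT.leaf cE108)))) (BT.node 113 (BT.node 111 (BT.node 110 (BT.node 109 (BT.leaf cE109) (BT.leaf cE110)) (BT.leaf cE111)) (BT.node 112 (BT.leaf cE112) (BT.leaf cE113))) (BT.node 116 (BT.node 115 (BT.node 114 (BT.leaf cE114) (BT.leaf cE115)) (BT.leaf cE116)) (BT.node 117 (BT.leaf cE117)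 (BT.leaf cE118)))))) (BT.node 138 (BT.node 128 (BT.node 123 (BT.node 121 (BT.node 120 (BT.node 119 (BT.leaf cE119) (BT.leaf cE120)) (BT.leaf cE121)) (BT.node 122 (BT.leaf cE122) (BT.leaf cE123))) (BT.node 126 (BT.node 125 (BT.node 124 (BT.leaf cE124) (BT.leaf cE125)) (BT.leaf cE126)) (BT.node 127 (BT.leaf cE127) (BT.leaf cE128)))) (BT.node 133 (BT.node 131 (BT.node 130 (BT.node 129 (BT.leaf cE129) (BT.leaf cE130)) (BT.leaf cE131)) (BT.node 132 (BT.leaf cE132) (BT.leaf cE133))) (BT.node 136 (BT.node 135 (BT.node 134 (BT.leaf cE134) (BT.leaf cE135)) (BT.leaf cE136)) (BT.node 137 (BT.leaf cE137) (BT.leaf cE138))))) (BT.node 148 (BT.node 143 (BT.node 141 (BT.node 140 (BT.node 139 (BT.leaf cE139) (BT.leaf cE140)) (BT.leaf cE141)) (BT.node 142 (BT.leaf cE142) (BT.leaf cE143))) (BT.node 146 (BT.node 145 (BT.node 144 (BT.leaf cE144) (BT.leaf cE145)) (BT.leaf cE146))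 (BT.node 147 (BT.leaf cE147) (BT.leaf cE148)))) (BT.node 153 (BT.node 151 (BT.node 150 (BT.node 149 (BT.leaf cE149) (BT.leaf cE150)) (BT.leaf cE151)) (BT.node 152 (BT.leaf cE152) (BT.leaf cE153))) (BT.node 155 (BT.node 154 (BT.leaf cE154) (BT.leaf cE155)) (BT.node 156 (BT.leaf cE156) (BT.leaf cE157)))))))) (BT.node 236 (BT.node 197 (BT.node 177 (BT.node 167 (BT.node 162 (BT.node 160 (BT.node 159 (BT.node 158 (BT.leaf cE158) (BT.leaf cE159)) (BT.leaf cE160)) (BT.node 161 (BT.leaf cE161) (BT.leaf cE162))) (BT.node 165 (BT.node 164 (BT.node 163 (BT.leaf cE163) (BT.leaf cE164)) (BT.leaf cE165)) (BT.node 166 (BT.leaf cE166) (BT.leaf cE167)))) (BT.node 172 (BT.node 170 (BT.node 169 (BT.node 168 (BT.leaf cE168) (BT.leaf cE169)) (BT.leaf cE170)) (BT.node 171 (BT.leaf cE171) (BT.leaf cE172))) (BT.node 175 (BT.node 174 (BT.node 173 (BT.leaf cE173) (BT.leaf cE174))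 (BT.leaf cE175)) (BT.node 176 (BT.leaf cE176) (BT.leaf cE177))))) (BT.node 187 (BT.node 182 (BT.node 180 (BT.node 179 (BT.node 178 (BT.leaf cE178) (BT.leaf cE179)) (BT.leaf cE180)) (BT.node 181 (BT.leaf cE181) (BT.leaf cE182))) (BT.node 185 (BT.node 184 (BT.node 183 (BT.leaf cE183) (BT.leaf cE184)) (BT.leaf cE185)) (BT.node 186 (BT.leaf cE186) (BT.leaf cE187)))) (BT.node 192 (BT.node 190 (BT.node 189 (BT.node 188 (BT.leaf cE188) (BT.leaf cE189)) (BT.leaf cE190)) (BT.node 191 (BT.leaf cE191) (BT.leaf cE192))) (BT.node 195 (BT.node 194 (BT.node 193 (BT.leaf cE193) (BT.leaf cE194)) (BT.leaf cE195)) (BT.node 196 (BT.leaf cE196) (BT.leaf cE197)))))) (BT.node 217 (BT.node 207 (BT.node 202 (BT.node 200 (BT.node 199 (BT.node 198 (BT.leaf cE198) (BT.leaf cE199)) (BT.leaf cE200)) (BT.node 201 (BT.leaf cE201) (BT.leaf cE202))) (BT.node 205 (BT.node 204 (BT.node 203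 (BT.leaf cE203) (BT.leaf cE204)) (BT.leaf cE205)) (BT.node 206 (BT.leaf cE206) (BT.leaf cE207)))) (BT.node 212 (BT.node 210 (BT.node 209 (BT.node 208 (BT.leaf cE208) (BT.leaf cE209)) (BT.leaf cE210)) (BT.node 211 (BT.leaf cE211) (BT.leaf cE212))) (BT.node 215 (BT.node 214 (BT.node 213 (BT.leaf cE213) (BT.leaf cE214)) (BT.leaf cE215)) (BT.node 216 (BT.leaf cE216) (BT.leaf cE217))))) (BT.node 227 (BT.node 222 (BT.node 220 (BT.node 219 (BT.node 218 (BT.leaf cE218) (BT.leaf cE219)) (BT.leaf cE220)) (BT.node 221 (BT.leaf cE221) (BT.leaf cE222))) (BT.node 225 (BT.node 224 (BT.node 223 (BT.leaf cE223) (BT.leaf cE224)) (BT.leaf cE225)) (BT.node 226 (BT.leaf cE226) (BT.leaf cE227)))) (BT.node 232 (BT.node 230 (BT.node 229 (BT.node 228 (BT.leaf cE228) (BT.leaf cE229)) (BT.leaf cE230)) (BT.node 231 (BT.leaf cE231) (BT.leaf cE232))) (BT.node 234 (BT.node 233 (BT.leaf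 cE233) (BT.leaf cE234)) (BT.node 235 (BT.leaf cE235) (BT.leaf cE236))))))) (BT.node 275 (BT.node 256 (BT.node 246 (BT.node 241 (BT.node 239 (BT.node 238 (BT.node 237 (BT.leaf cE237) (BT.leaf cE238)) (BT.leaf cE239)) (BT.node 240 (BT.leaf cE240) (BT.leaf cE241))) (BT.node 244 (BT.node 243 (BT.node 242 (BT.leaf cE242) (BT.leaf cE243)) (BT.leaf cE244)) (BT.node 245 (BT.leaf cE245) (BT.leaf cE246)))) (BT.node 251 (BT.node 249 (BT.node 248 (BT.node 247 (BT.leaf cE247) (BT.leaf cE248)) (BT.leaf cE249)) (BT.node 250 (BT.leaf cE250) (BT.leaf cE251))) (BT.node 254 (BT.node 253 (BT.node 252 (BT.leaf cE252) (BT.leaf cE253)) (BT.leaf cE254)) (BT.node 255 (BT.leaf cE255) (BT.leaf cE256))))) (BT.node 266 (BT.node 261 (BT.node 259 (BT.node 258 (BT.node 257 (BT.leaf cE257) (BT.leaf cE258)) (BT.leaf cE259)) (BT.node 260 (BT.leaf cE260) (BT.leaf cE261))) (BT.node 264 (BT.node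 263 (BT.node 262 (BT.leaf cE262) (BT.leaf cE263)) (BT.leaf cE264)) (BT.node 265 (BT.leaf cE265) (BT.leaf cE266)))) (BT.node 271 (BT.node 269 (BT.node 268 (BT.node 267 (BT.leaf cE267) (BT.leaf cE268)) (BT.leaf cE269)) (BT.node 270 (BT.leaf cE270) (BT.leaf cE271))) (BT.node 273 (BT.node 272 (BT.leaf cE272) (BT.leaf cE273)) (BT.node 274 (BT.leaf cE274) (BT.leaf cE275)))))) (BT.node 295 (BT.node 285 (BT.node 280 (BT.node 278 (BT.node 277 (BT.node 276 (BT.leaf cE276) (BT.leaf cE277)) (BT.leaf cE278)) (BT.node 279 (BT.leaf cE279) (BT.leaf cE280))) (BT.node 283 (BT.node 282 (BT.node 281 (BT.leaf cE281) (BT.leaf cE282)) (BT.leaf cE283)) (BT.node 284 (BT.leaf cE284) (BT.leaf cE285)))) (BT.node 290 (BT.node 288 (BT.node 287 (BT.node 286 (BT.leaf cE286) (BT.leaf cE287)) (BT.leaf cE288)) (BT.node 289 (BT.leaf cE289) (BT.leaf cE290))) (BT.node 293 (BT.node 292 (BT.node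 291 (BT.leaf cE291) (BT.leaf cE292)) (BT.leaf cE293)) (BT.node 294 (BT.leaf cE294) (BT.leaf cE295))))) (BT.node 305 (BT.node 300 (BT.node 298 (BT.node 297 (BT.node 296 (BT.leaf cE296) (BT.leaf cE297)) (BT.leaf cE298)) (BT.node 299 (BT.leaf cE299) (BT.leaf cE300))) (BT.node 303 (BT.node 302 (BT.node 301 (BT.leaf cE301) (BT.leaf cE302)) (BT.leaf cE303)) (BT.node 304 (BT.leaf cE304) (BT.leaf cE305)))) (BT.node 310 (BT.node 308 (BT.node 307 (BT.node 306 (BT.leaf cE306) (BT.leaf cE307)) (BT.leaf cE308)) (BT.node 309 (BT.leaf cE309) (BT.leaf cE310))) (BT.node 312 (BT.node 311 (BT.leaf cE311) (BT.leaf cE312)) (BT.node 313 (BT.leaf cE313) (BT.leaf cE314)))))))))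
/-- justification chunks -/
def colJT : BT ℕ := (BT.node 157 (BT.node 78 (BT.node 39 (BT.node 19 (BT.node 9 (BT.node 4 (BT.node 2 (BT.node 1 (BT.node 0 (BT.leaf cJ0) (BT.leaf cJ1)) (BT.leaf cJ2)) (BT.node 3 (BT.leaf cJ3) (BT.leaf cJ4))) (BT.node 7 (BT.node 6 (BT.node 5 (BT.leaf cJ5) (BT.leaf cJ6)) (BT.leaf cJ7)) (BT.node 8 (BT.leaf cJ8) (BT.leaf cJ9)))) (BT.node 14 (BT.node 12 (BT.node 11 (BT.node 10 (BT.leaf cJ10) (BT.leaf cJ11)) (BT.leaf cJ12)) (BT.node 13 (BT.leaf cJ13) (BT.leaf cJ14))) (BT.node 17 (BT.node 16 (BT.node 15 (BT.leaf cJ15) (BT.leaf cJ16)) (BT.leaf cJ17)) (BT.node 18 (BT.leaf cJ18) (BT.leaf cJ19))))) (BT.node 29 (BT.node 24 (BT.node 22 (BT.node 21 (BT.node 20 (BT.leaf cJ20) (BT.leaf cJ21)) (BT.leaf cJ22)) (BT.node 23 (BT.leaf cJ23) (BT.leaf cJ24))) (BT.node 27 (BT.node 26 (BT.node 25 (BT.leaf cJ25) (BT.leaf cJ26)) (BT.leaf cJ27)) (BT.node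 28 (BT.leaf cJ28) (BT.leaf cJ29)))) (BT.node 34 (BT.node 32 (BT.node 31 (BT.node 30 (BT.leaf cJ30) (BT.leaf cJ31)) (BT.leaf cJ32)) (BT.node 33 (BT.leaf cJ33) (BT.leaf cJ34))) (BT.node 37 (BT.node 36 (BT.node 35 (BT.leaf cJ35) (BT.leaf cJ36)) (BT.leaf cJ37)) (BT.node 38 (BT.leaf cJ38) (BT.leaf cJ39)))))) (BT.node 59 (BT.node 49 (BT.node 44 (BT.node 42 (BT.node 41 (BT.node 40 (BT.leaf cJ40) (BT.leaf cJ41)) (BT.leaf cJ42)) (BT.node 43 (BT.leaf cJ43) (BT.leaf cJ44))) (BT.node 47 (BT.node 46 (BT.node 45 (BT.leaf cJ45) (BT.leaf cJ46)) (BT.leaf cJ47)) (BT.node 48 (BT.leaf cJ48) (BT.leaf cJ49)))) (BT.node 54 (BT.node 52 (BT.node 51 (BT.node 50 (BT.leaf cJ50) (BT.leaf cJ51)) (BT.leaf cJ52)) (BT.node 53 (BT.leaf cJ53) (BT.leaf cJ54))) (BT.node 57 (BT.node 56 (BT.node 55 (BT.leaf cJ55) (BT.leaf cJ56)) (BT.leaf cJ57)) (BT.node 58 (BT.leaf cJ58) (BT.leaf cJ59))))) (BT.node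 69 (BT.node 64 (BT.node 62 (BT.node 61 (BT.node 60 (BT.leaf cJ60) (BT.leaf cJ61)) (BT.leaf cJ62)) (BT.node 63 (BT.leaf cJ63) (BT.leaf cJ64))) (BT.node 67 (BT.node 66 (BT.node 65 (BT.leaf cJ65) (BT.leaf cJ66)) (BT.leaf cJ67)) (BT.node 68 (BT.leaf cJ68) (BT.leaf cJ69)))) (BT.node 74 (BT.node 72 (BT.node 71 (BT.node 70 (BT.leaf cJ70) (BT.leaf cJ71)) (BT.leaf cJ72)) (BT.node 73 (BT.leaf cJ73) (BT.leaf cJ74))) (BT.node 76 (BT.node 75 (BT.leaf cJ75) (BT.leaf cJ76)) (BT.node 77 (BT.leaf cJ77) (BT.leaf cJ78))))))) (BT.node 118 (BT.node 98 (BT.node 88 (BT.node 83 (BT.node 81 (BT.node 80 (BT.node 79 (BT.leaf cJ79) (BT.leaf cJ80)) (BT.leaf cJ81)) (BT.node 82 (BT.leaf cJ82) (BT.leaf cJ83))) (BT.node 86 (BT.node 85 (BT.node 84 (BT.leaf cJ84) (BT.leaf cJ85)) (BT.leaf cJ86)) (BT.node 87 (BT.leaf cJ87) (BT.leaf cJ88)))) (BT.node 93 (BT.node 91 (BT.node 90 (BT.node 89 (BT.leaf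 cJ89) (BT.leaf cJ90)) (BT.leaf cJ91)) (BT.node 92 (BT.leaf cJ92) (BT.leaf cJ93))) (BT.node 96 (BT.node 95 (BT.node 94 (BT.leaf cJ94) (BT.leaf cJ95)) (BT.leaf cJ96)) (BT.node 97 (BT.leaf cJ97) (BT.leaf cJ98))))) (BT.node 108 (BT.node 103 (BT.node 101 (BT.node 100 (BT.node 99 (BT.leaf cJ99) (BT.leaf cJ100)) (BT.leaf cJ101)) (BT.node 102 (BT.leaf cJ102) (BT.leaf cJ103))) (BT.node 106 (BT.node 105 (BT.node 104 (BT.leaf cJ104) (BT.leaf cJ105)) (BT.leaf cJ106)) (BT.node 107 (BT.leaf cJ107) (BT.leaf cJ108)))) (BT.node 113 (BT.node 111 (BT.node 110 (BT.node 109 (BT.leaf cJ109) (BT.leaf cJ110)) (BT.leaf cJ111)) (BT.node 112 (BT.leaf cJ112) (BT.leaf cJ113))) (BT.node 116 (BT.node 115 (BT.node 114 (BT.leaf cJ114) (BT.leaf cJ115)) (BT.leaf cJ116)) (BT.node 117 (BT.leaf cJ117) (BT.leaf cJ118)))))) (BT.node 138 (BT.node 128 (BT.node 123 (BT.node 121 (BT.node 120 (BT.node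 119 (BT.leaf cJ119) (BT.leaf cJ120)) (BT.leaf cJ121)) (BT.node 122 (BT.leaf cJ122) (BT.leaf cJ123))) (BT.node 126 (BT.node 125 (BT.node 124 (BT.leaf cJ124) (BT.leaf cJ125)) (BT.leaf cJ126)) (BT.node 127 (BT.leaf cJ127) (BT.leaf cJ128)))) (BT.node 133 (BT.node 131 (BT.node 130 (BT.node 129 (BT.leaf cJ129) (BT.leaf cJ130)) (BT.leaf cJ131)) (BT.node 132 (BT.leaf cJ132) (BT.leaf cJ133))) (BT.node 136 (BT.node 135 (BT.node 134 (BT.leaf cJ134) (BT.leaf cJ135)) (BT.leaf cJ136)) (BT.node 137 (BT.leaf cJ137) (BT.leaf cJ138))))) (BT.node 148 (BT.node 143 (BT.node 141 (BT.node 140 (BT.node 139 (BT.leaf cJ139) (BT.leaf cJ140)) (BT.leaf cJ141)) (BT.node 142 (BT.leaf cJ142) (BT.leaf cJ143))) (BT.node 146 (BT.node 145 (BT.node 144 (BT.leaf cJ144) (BT.leaf cJ145)) (BT.leaf cJ146)) (BT.node 147 (BT.leaf cJ147) (BT.leaf cJ148)))) (BT.node 153 (BT.node 151 (BT.node 150 (BT.node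 149 (BT.leaf cJ149) (BT.leaf cJ150)) (BT.leaf cJ151)) (BT.node 152 (BT.leaf cJ152) (BT.leaf cJ153))) (BT.node 155 (BT.node 154 (BT.leaf cJ154) (BT.leaf cJ155)) (BT.node 156 (BT.leaf cJ156) (BT.leaf cJ157)))))))) (BT.node 236 (BT.node 197 (BT.node 177 (BT.node 167 (BT.node 162 (BT.node 160 (BT.node 159 (BT.node 158 (BT.leaf cJ158) (BT.leaf cJ159)) (BT.leaf cJ160)) (BT.node 161 (BT.leaf cJ161) (BT.leaf cJ162))) (BT.node 165 (BT.node 164 (BT.node 163 (BT.leaf cJ163) (BT.leaf cJ164)) (BT.leaf cJ165)) (BT.node 166 (BT.leaf cJ166) (BT.leaf cJ167)))) (BT.node 172 (BT.node 170 (BT.node 169 (BT.node 168 (BT.leaf cJ168) (BT.leaf cJ169)) (BT.leaf cJ170)) (BT.node 171 (BT.leaf cJ171) (BT.leaf cJ172))) (BT.node 175 (BT.node 174 (BT.node 173 (BT.leaf cJ173) (BT.leaf cJ174)) (BT.leaf cJ175)) (BT.node 176 (BT.leaf cJ176) (BT.leaf cJ177))))) (BT.node 187 (BT.node 182 (BT.node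 180 (BT.node 179 (BT.node 178 (BT.leaf cJ178) (BT.leaf cJ179)) (BT.leaf cJ180)) (BT.node 181 (BT.leaf cJ181) (BT.leaf cJ182))) (BT.node 185 (BT.node 184 (BT.node 183 (BT.leaf cJ183) (BT.leaf cJ184)) (BT.leaf cJ185)) (BT.node 186 (BT.leaf cJ186) (BT.leaf cJ187)))) (BT.node 192 (BT.node 190 (BT.node 189 (BT.node 188 (BT.leaf cJ188) (BT.leaf cJ189)) (BT.leaf cJ190)) (BT.node 191 (BT.leaf cJ191) (BT.leaf cJ192))) (BT.node 195 (BT.node 194 (BT.node 193 (BT.leaf cJ193) (BT.leaf cJ194)) (BT.leaf cJ195)) (BT.node 196 (BT.leaf cJ196) (BT.leaf cJ197)))))) (BT.node 217 (BT.node 207 (BT.node 202 (BT.node 200 (BT.node 199 (BT.node 198 (BT.leaf cJ198) (BT.leaf cJ199)) (BT.leaf cJ200)) (BT.node 201 (BT.leaf cJ201) (BT.leaf cJ202))) (BT.node 205 (BT.node 204 (BT.node 203 (BT.leaf cJ203) (BT.leaf cJ204)) (BT.leaf cJ205)) (BT.node 206 (BT.leaf cJ206) (BT.leaf cJ207)))) (BT.node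 212 (BT.node 210 (BT.node 209 (BT.node 208 (BT.leaf cJ208) (BT.leaf cJ209)) (BT.leaf cJ210)) (BT.node 211 (BT.leaf cJ211) (BT.leaf cJ212))) (BT.node 215 (BT.node 214 (BT.node 213 (BT.leaf cJ213) (BT.leaf cJ214)) (BT.leaf cJ215)) (BT.node 216 (BT.leaf cJ216) (BT.leaf cJ217))))) (BT.node 227 (BT.node 222 (BT.node 220 (BT.node 219 (BT.node 218 (BT.leaf cJ218) (BT.leaf cJ219)) (BT.leaf cJ220)) (BT.node 221 (BT.leaf cJ221) (BT.leaf cJ222))) (BT.node 225 (BT.node 224 (BT.node 223 (BT.leaf cJ223) (BT.leaf cJ224)) (BT.leaf cJ225)) (BT.node 226 (BT.leaf cJ226) (BT.leaf cJ227)))) (BT.node 232 (BT.node 230 (BT.node 229 (BT.node 228 (BT.leaf cJ228) (BT.leaf cJ229)) (BT.leaf cJ230)) (BT.node 231 (BT.leaf cJ231) (BT.leaf cJ232))) (BT.node 234 (BT.node 233 (BT.leaf cJ233) (BT.leaf cJ234)) (BT.node 235 (BT.leaf cJ235) (BT.leaf cJ236))))))) (BT.node 275 (BT.node 256 (BT.node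 246 (BT.node 241 (BT.node 239 (BT.node 238 (BT.node 237 (BT.leaf cJ237) (BT.leaf cJ238)) (BT.leaf cJ239)) (BT.node 240 (BT.leaf cJ240) (BT.leaf cJ241))) (BT.node 244 (BT.node 243 (BT.node 242 (BT.leaf cJ242) (BT.leaf cJ243)) (BT.leaf cJ244)) (BT.node 245 (BT.leaf cJ245) (BT.leaf cJ246)))) (BT.node 251 (BT.node 249 (BT.node 248 (BT.node 247 (BT.leaf cJ247) (BT.leaf cJ248)) (BT.leaf cJ249)) (BT.node 250 (BT.leaf cJ250) (BT.leaf cJ251))) (BT.node 254 (BT.node 253 (BT.node 252 (BT.leaf cJ252) (BT.leaf cJ253)) (BT.leaf cJ254)) (BT.node 255 (BT.leaf cJ255) (BT.leaf cJ256))))) (BT.node 266 (BT.node 261 (BT.node 259 (BT.node 258 (BT.node 257 (BT.leaf cJ257) (BT.leaf cJ258)) (BT.leaf cJ259)) (BT.node 260 (BT.leaf cJ260) (BT.leaf cJ261))) (BT.node 264 (BT.node 263 (BT.node 262 (BT.leaf cJ262) (BT.leaf cJ263)) (BT.leaf cJ264)) (BT.node 265 (BT.leaf cJ265) (BT.leaf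 cJ266)))) (BT.node 271 (BT.node 269 (BT.node 268 (BT.node 267 (BT.leaf cJ267) (BT.leaf cJ268)) (BT.leaf cJ269)) (BT.node 270 (BT.leaf cJ270) (BT.leaf cJ271))) (BT.node 273 (BT.node 272 (BT.leaf cJ272) (BT.leaf cJ273)) (BT.node 274 (BT.leaf cJ274) (BT.leaf cJ275)))))) (BT.node 295 (BT.node 285 (BT.node 280 (BT.node 278 (BT.node 277 (BT.node 276 (BT.leaf cJ276) (BT.leaf cJ277)) (BT.leaf cJ278)) (BT.node 279 (BT.leaf cJ279) (BT.leaf cJ280))) (BT.node 283 (BT.node 282 (BT.node 281 (BT.leaf cJ281) (BT.leaf cJ282)) (BT.leaf cJ283)) (BT.node 284 (BT.leaf cJ284) (BT.leaf cJ285)))) (BT.node 290 (BT.node 288 (BT.node 287 (BT.node 286 (BT.leaf cJ286) (BT.leaf cJ287)) (BT.leaf cJ288)) (BT.node 289 (BT.leaf cJ289) (BT.leaf cJ290))) (BT.node 293 (BT.node 292 (BT.node 291 (BT.leaf cJ291) (BT.leaf cJ292)) (BT.leaf cJ293)) (BT.node 294 (BT.leaf cJ294) (BT.leaf cJ295)))))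 (BT.node 305 (BT.node 300 (BT.node 298 (BT.node 297 (BT.node 296 (BT.leaf cJ296) (BT.leaf cJ297)) (BT.leaf cJ298)) (BT.node 299 (BT.leaf cJ299) (BT.leaf cJ300))) (BT.node 303 (BT.node 302 (BT.node 301 (BT.leaf cJ301) (BT.leaf cJ302)) (BT.leaf cJ303)) (BT.node 304 (BT.leaf cJ304) (BT.leaf cJ305)))) (BT.node 310 (BT.node 308 (BT.node 307 (BT.node 306 (BT.leaf cJ306) (BT.leaf cJ307)) (BT.leaf cJ308)) (BT.node 309 (BT.leaf cJ309) (BT.leaf cJ310))) (BT.node 312 (BT.node 311 (BT.leaf cJ311) (BT.leaf cJ312)) (BT.node 313 (BT.leaf cJ313) (BT.leaf cJ314)))))))))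
/-- parent chunks -/
def parCT : BT ℕ := (BT.node 31 (BT.node 15 (BT.node 7 (BT.node 3 (BT.node 1 (BT.node 0 (BT.leaf cP0) (BT.leaf cP1)) (BT.node 2 (BT.leaf cP2) (BT.leaf cP3))) (BT.node 5 (BT.node 4 (BT.leaf cP4) (BT.leaf cP5)) (BT.node 6 (BT.leaf cP6) (BT.leaf cP7)))) (BT.node 11 (BT.node 9 (BT.node 8 (BT.leaf cP8) (BT.leaf cP9)) (BT.node 10 (BT.leaf cP10) (BT.leaf cP11))) (BT.node 13 (BT.node 12 (BT.leaf cP12) (BT.leaf cP13)) (BT.node 14 (BT.leaf cP14) (BT.leaf cP15))))) (BT.node 23 (BT.node 19 (BT.node 17 (BT.node 16 (BT.leaf cP16) (BT.leaf cP17)) (BT.node 18 (BT.leaf cP18) (BT.leaf cP19))) (BT.node 21 (BT.node 20 (BT.leaf cP20) (BT.leaf cP21)) (BT.node 22 (BT.leaf cP22) (BT.leaf cP23)))) (BT.node 27 (BT.node 25 (BT.node 24 (BT.leaf cP24) (BT.leaf cP25)) (BT.node 26 (BT.leaf cP26) (BT.leaf cP27))) (BT.node 29 (BT.node 28 (BT.leaf cP28) (BT.leaf cP29))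 (BT.node 30 (BT.leaf cP30) (BT.leaf cP31)))))) (BT.node 47 (BT.node 39 (BT.node 35 (BT.node 33 (BT.node 32 (BT.leaf cP32) (BT.leaf cP33)) (BT.node 34 (BT.leaf cP34) (BT.leaf cP35))) (BT.node 37 (BT.node 36 (BT.leaf cP36) (BT.leaf cP37)) (BT.node 38 (BT.leaf cP38) (BT.leaf cP39)))) (BT.node 43 (BT.node 41 (BT.node 40 (BT.leaf cP40) (BT.leaf cP41)) (BT.node 42 (BT.leaf cP42) (BT.leaf cP43))) (BT.node 45 (BT.node 44 (BT.leaf cP44) (BT.leaf cP45)) (BT.node 46 (BT.leaf cP46) (BT.leaf cP47))))) (BT.node 55 (BT.node 51 (BT.node 49 (BT.node 48 (BT.leaf cP48) (BT.leaf cP49)) (BT.node 50 (BT.leaf cP50) (BT.leaf cP51))) (BT.node 53 (BT.node 52 (BT.leaf cP52) (BT.leaf cP53)) (BT.node 54 (BT.leaf cP54) (BT.leaf cP55)))) (BT.node 59 (BT.node 57 (BT.node 56 (BT.leaf cP56) (BT.leaf cP57)) (BT.node 58 (BT.leaf cP58) (BT.leaf cP59))) (BT.node 61 (BT.node 60 (BT.leaf cP60)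 (BT.leaf cP61)) (BT.leaf cP62))))))
/-- the certificate -/
def data : Data where
  k := 4
  N := 32074
  W := 32
  MW := 4294967296
  B := 32768
  CH := 512
  NCH := 63
  colE := colET
  JW := 64
  MJ := 18446744073709551616
  A := 1048576
  colJ := colJT
  PW := 25
  MP := 33554432
  parC := parCT
  inv := (BT.node 2 (BT.node 1 (BT.node 0 (BT.leaf 1) (BT.leaf 0)) (BT.leaf 3)) (BT.node 3 (BT.leaf 2) (BT.leaf 4)))
  rel := relT
  sub := subT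
  fuel := 64

end Cfsg.Agent.Lib.Helper3.Cover.PSzData
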