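import Cfsg.Agent.Lib.Helper3.Cover.PSzTable
set_option autoImplicit false
set_option maxRecDepth 100000
set_option maxHeartbeats 0

namespace Cfsg.Agent.Lib.Helper3.Cover.PSzL2
open Cfsg.Agent.Lib.Helper28.TC2Upper Cfsg.Agent.Lib.Helper28.TC2Lower Cfsg.Agent.Lib.Helper3.Cover.PSzTable

theorem rel10 : table.relOK chkPaths 20000 2000 = true := by decide +kernel
theorem rel11 : table.relOK chkPaths 22000 2000 = true := by decide +kernel
theorem rel12 : table.relOK chkPaths 24000 2000 = true := by decide +kernel
theorem rel13 : table.relOK chkPaths 26000 2000 = true := by decide +kernel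
theorem rel14 : table.relOK chkPaths 28000 1120 = true := by decide +kernel

end Cfsg.Agent.Lib.Helper3.Cover.PSzL2
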