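import Cfsg.Agent.Lib.Helper28.TC2Range
import Cfsg.Agent.Lib.Helper3.Cover.PSzData
import Cfsg.Agent.Lib.Helper3.Cover.PSzTable
set_option autoImplicit false
set_option maxRecDepth 100000
set_option maxHeartbeats 0

namespace Cfsg.Agent.Lib.Helper3.Cover.PSzM1
open Cfsg.Agent.Lib.Helper28.TC2Upper Cfsg.Agent.Lib.Helper28.TC2Lower Cfsg.Agent.Lib.Helper28.TC2Range Cfsg.Agent.Lib.Helper3.Cover.PSzData Cfsg.Agent.Lib.Helper3.Cover.PSzTable

theorem fin5 : Data.finalRange data 30000 2074 = true := by decide +kernel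
theorem cnt0 : Data.countFrom data 0 6000 = 5899 := by decide +kernel
theorem cnt1 : Data.countFrom data 6000 6000 = 5475 := by decide +kernel
theorem cnt2 : Data.countFrom data 12000 6000 = 4813 := by decide +kernel
theorem cnt3 : Data.countFrom data 18000 6000 = 4931 := by decide +kernel

end Cfsg.Agent.Lib.Helper3.Cover.PSzM1
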