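import Cfsg.Agent.Lib.Helper28.TC2Range
import Cfsg.Agent.Lib.Helper3.Cover.PSzData
import Cfsg.Agent.Lib.Helper3.Cover.PSzTable
set_option autoImplicit false
set_option maxRecDepth 100000
set_option maxHeartbeats 0

namespace Cfsg.Agent.Lib.Helper3.Cover.PSzM3
open Cfsg.Agent.Lib.Helper28.TC2Upper Cfsg.Agent.Lib.Helper28.TC2Lower Cfsg.Agent.Lib.Helper28.TC2Range Cfsg.Agent.Lib.Helper3.Cover.PSzData Cfsg.Agent.Lib.Helper3.Cover.PSzTable

theorem prm3 : Table.permRange table 18000 6000 = true := by decide +kernel
theorem prm4 : Table.permRange table 24000 5120 = true := by decide +kernel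
theorem tre0 : Table.treeRange table 0 6000 = true := by decide +kernel
theorem tre1 : Table.treeRange table 6000 6000 = true := by decide +kernel
theorem tre2 : Table.treeRange table 12000 6000 = true := by decide +kernel

end Cfsg.Agent.Lib.Helper3.Cover.PSzM3
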