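import Cfsg.Agent.Lib.Helper3.Cover.PSzData
set_option autoImplicit false
set_option maxRecDepth 100000
set_option maxHeartbeats 0

namespace Cfsg.Agent.Lib.Helper3.Cover.PSzU5
open Cfsg.Agent.Lib.Helper28.TC2Upper Cfsg.Agent.Lib.Helper3.Cover.PSzData

theorem chk25 : data.checkRange 30856 1200 = true := by decide +kernel
theorem chk26 : data.checkRange 32056 18 = true := by decide +kernel

end Cfsg.Agent.Lib.Helper3.Cover.PSzU5
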