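import Cfsg.Agent.Lib.Helper28.TC2GlueOrb
import Cfsg.Agent.Lib.Helper28.TC2Range
import Cfsg.Agent.Lib.Helper3.Cover.PSzLink
import Cfsg.Agent.Lib.Helper3.Cover.PSzM
import Cfsg.Agent.Lib.Helper3.Cover.PSzM0
import Cfsg.Agent.Lib.Helper3.Cover.PSzM1
import Cfsg.Agent.Lib.Helper3.Cover.PSzM2
import Cfsg.Agent.Lib.Helper3.Cover.PSzM3
import Cfsg.Agent.Lib.Helper3.Cover.PSzM4
import Cfsg.Agent.Lib.Helper3.Cover.PSzU0
import Cfsg.Agent.Lib.Helper3.Cover.PSzU1
import Cfsg.Agent.Lib.Helper3.Cover.PSzU2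
import Cfsg.Agent.Lib.Helper3.Cover.PSzU3
import Cfsg.Agent.Lib.Helper3.Cover.PSzU4
import Cfsg.Agent.Lib.Helper3.Cover.PSzU5
import Cfsg.Agent.Lib.Helper3.Cover.PSzL0
import Cfsg.Agent.Lib.Helper3.Cover.PSzL1
import Cfsg.Agent.Lib.Helper3.Cover.PSzL2

set_option autoImplicit false
set_option maxRecDepth 100000
open Cfsg

namespace Cfsg.Agent.Lib.Helper3.Cover.PSzMain
open Cfsg.Agent.Lib.Helper28.TC2Upper Cfsg.Agent.Lib.Helper28.TC2Lower Cfsg.Agent.Lib.Helper28.TC2Glue Cfsg.Agent.Lib.Helper28.TC2GlueOrb Cfsg.Agent.Lib.Helper28.TC2Orbit Cfsg.Agent.Lib.Helper28.TC2Range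
open Cfsg.Agent.Lib.Helper3.Cover.PSzData Cfsg.Agent.Lib.Helper3.Cover.PSzTable Cfsg.Agent.Lib.Helper3.Cover.PSzLink Cfsg.Agent.Lib.Helper3.Cover.PSzM

theorem hchk : ∀ v, v < data.N → data.checkNode v = true := by
  intro v hv
  have hv' : v < 32074 := hv
  rcases Nat.lt_or_ge v 1200 with h0 | h0
  · exact (data.checkRange_iff 0 1200).mp Cfsg.Agent.Lib.Helper3.Cover.PSzU0.chk0 v (by omega) (by omega)
  rcases Nat.lt_or_ge v 2401 with h1 | h1
  · exact (data.checkRange_iff 1200 1201).mp Cfsg.Agent.Lib.Helper3.Cover.PSzU0.chk1 v (by omega) (by omega)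
  rcases Nat.lt_or_ge v 3607 with h2 | h2
  · exact (data.checkRange_iff 2401 1206).mp Cfsg.Agent.Lib.Helper3.Cover.PSzU0.chk2 v (by omega) (by omega)
  rcases Nat.lt_or_ge v 4816 with h3 | h3
  · exact (data.checkRange_iff 3607 1209).mp Cfsg.Agent.Lib.Helper3.Cover.PSzU0.chk3 v (by omega) (by omega)
  rcases Nat.lt_or_ge v 6027 with h4 | h4
  · exact (data.checkRange_iff 4816 1211).mp Cfsg.Agent.Lib.Helper3.Cover.PSzU0.chk4 v (by omega) (by omega)
  rcases Nat.lt_or_ge v 7239 with h5 | h5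
  · exact (data.checkRange_iff 6027 1212).mp Cfsg.Agent.Lib.Helper3.Cover.PSzU1.chk5 v (by omega) (by omega)
  rcases Nat.lt_or_ge v 8460 with h6 | h6
  · exact (data.checkRange_iff 7239 1221).mp Cfsg.Agent.Lib.Helper3.Cover.PSzU1.chk6 v (by omega) (by omega)
  rcases Nat.lt_or_ge v 9688 with h7 | h7
  · exact (data.checkRange_iff 8460 1228).mp Cfsg.Agent.Lib.Helper3.Cover.PSzU1.chk7 v (by omega) (by omega)
  rcases Nat.lt_or_ge v 10932 with h8 | h8
  · exact (data.checkRange_iff 9688 1244).mp Cfsg.Agent.Lib.Helper3.Cover.PSzU1.chk8 v (by omega) (by omega)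
  rcases Nat.lt_or_ge v 12184 with h9 | h9
  · exact (data.checkRange_iff 10932 1252).mp Cfsg.Agent.Lib.Helper3.Cover.PSzU1.chk9 v (by omega) (by omega)
  rcases Nat.lt_or_ge v 13439 with h10 | h10
  · exact (data.checkRange_iff 12184 1255).mp Cfsg.Agent.Lib.Helper3.Cover.PSzU2.chk10 v (by omega) (by omega)
  rcases Nat.lt_or_ge v 14712 with h11 | h11
  · exact (data.checkRange_iff 13439 1273).mp Cfsg.Agent.Lib.Helper3.Cover.PSzU2.chk11 v (by omega) (by omega)
  rcases Nat.lt_or_ge v 15994 with h12 | h12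
  · exact (data.checkRange_iff 14712 1282).mp Cfsg.Agent.Lib.Helper3.Cover.PSzU2.chk12 v (by omega) (by omega)
  rcases Nat.lt_or_ge v 17279 with h13 | h13
  · exact (data.checkRange_iff 15994 1285).mp Cfsg.Agent.Lib.Helper3.Cover.PSzU2.chk13 v (by omega) (by omega)
  rcases Nat.lt_or_ge v 18579 with h14 | h14
  · exact (data.checkRange_iff 17279 1300).mp Cfsg.Agent.Lib.Helper3.Cover.PSzU2.chk14 v (by omega) (by omega)
  rcases Nat.lt_or_ge v 19882 with h15 | h15
  · exact (data.checkRange_iff 18579 1303).mp Cfsg.Agent.Lib.Helper3.Cover.PSzU3.chk15 v (by omega) (by omega)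
  rcases Nat.lt_or_ge v 21157 with h16 | h16
  · exact (data.checkRange_iff 19882 1275).mp Cfsg.Agent.Lib.Helper3.Cover.PSzU3.chk16 v (by omega) (by omega)
  rcases Nat.lt_or_ge v 22404 with h17 | h17
  · exact (data.checkRange_iff 21157 1247).mp Cfsg.Agent.Lib.Helper3.Cover.PSzU3.chk17 v (by omega) (by omega)
  rcases Nat.lt_or_ge v 23629 with h18 | h18
  · exact (data.checkRange_iff 22404 1225).mp Cfsg.Agent.Lib.Helper3.Cover.PSzU3.chk18 v (by omega) (by omega)
  rcases Nat.lt_or_ge v 24841 with h19 | h19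
  · exact (data.checkRange_iff 23629 1212).mp Cfsg.Agent.Lib.Helper3.Cover.PSzU3.chk19 v (by omega) (by omega)
  rcases Nat.lt_or_ge v 26051 with h20 | h20
  · exact (data.checkRange_iff 24841 1210).mp Cfsg.Agent.Lib.Helper3.Cover.PSzU4.chk20 v (by omega) (by omega)
  rcases Nat.lt_or_ge v 27254 with h21 | h21
  · exact (data.checkRange_iff 26051 1203).mp Cfsg.Agent.Lib.Helper3.Cover.PSzU4.chk21 v (by omega) (by omega)
  rcases Nat.lt_or_ge v 28455 with h22 | h22
  · exact (data.checkRange_iff 27254 1201).mp Cfsg.Agent.Lib.Helper3.Cover.PSzU4.chk22 v (by omega) (by omega)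
  rcases Nat.lt_or_ge v 29656 with h23 | h23
  · exact (data.checkRange_iff 28455 1201).mp Cfsg.Agent.Lib.Helper3.Cover.PSzU4.chk23 v (by omega) (by omega)
  rcases Nat.lt_or_ge v 30856 with h24 | h24
  · exact (data.checkRange_iff 29656 1200).mp Cfsg.Agent.Lib.Helper3.Cover.PSzU4.chk24 v (by omega) (by omega)
  rcases Nat.lt_or_ge v 32056 with h25 | h25
  · exact (data.checkRange_iff 30856 1200).mp Cfsg.Agent.Lib.Helper3.Cover.PSzU5.chk25 v (by omega) (by omega)
  exact (data.checkRange_iff 32056 18).mp Cfsg.Agent.Lib.Helper3.Cover.PSzU5.chk26 v (by omega) (by omega)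

theorem hrows : ∀ v, v < data.N → Data.rowOK data v = true := by
  intro v hv
  have hv' : v < 32074 := hv
  rcases Nat.lt_or_ge v 6000 with h0 | h0
  · exact (Data.finalRange_iff data 0 6000).mp Cfsg.Agent.Lib.Helper3.Cover.PSzM0.fin0 v (by omega) (by omega)
  rcases Nat.lt_or_ge v 12000 with h1 | h1
  · exact (Data.finalRange_iff data 6000 6000).mp Cfsg.Agent.Lib.Helper3.Cover.PSzM0.fin1 v (by omega) (by omega)
  rcases Nat.lt_or_ge v 18000 with h2 | h2
  · exact (Data.finalRange_iff data 12000 6000).mp Cfsg.Agent.Lib.Helper3.Cover.PSzM0.fin2 v (by omega) (by omega)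
  rcases Nat.lt_or_ge v 24000 with h3 | h3
  · exact (Data.finalRange_iff data 18000 6000).mp Cfsg.Agent.Lib.Helper3.Cover.PSzM0.fin3 v (by omega) (by omega)
  rcases Nat.lt_or_ge v 30000 with h4 | h4
  · exact (Data.finalRange_iff data 24000 6000).mp Cfsg.Agent.Lib.Helper3.Cover.PSzM0.fin4 v (by omega) (by omega)
  exact (Data.finalRange_iff data 30000 2074).mp Cfsg.Agent.Lib.Helper3.Cover.PSzM1.fin5 v (by omega) (by omega)

theorem hfin : data.finalOK = true := Data.finalOK_of_rows data hlive0 (by decide) hrows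

theorem pc0 : Data.countFrom data 0 6000 = 5899 := Cfsg.Agent.Lib.Helper3.Cover.PSzM1.cnt0
theorem pc1 : Data.countFrom data 0 12000 = 11374 := Data.countFrom_step data pc0 Cfsg.Agent.Lib.Helper3.Cover.PSzM1.cnt1 (by norm_num) (by norm_num)
theorem pc2 : Data.countFrom data 0 18000 = 16187 := Data.countFrom_step data pc1 Cfsg.Agent.Lib.Helper3.Cover.PSzM1.cnt2 (by norm_num) (by norm_num)
theorem pc3 : Data.countFrom data 0 24000 = 21118 := Data.countFrom_step data pc2 Cfsg.Agent.Lib.Helper3.Cover.PSzM1.cnt3 (by norm_num) (by norm_num)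
theorem pc4 : Data.countFrom data 0 30000 = 27046 := Data.countFrom_step data pc3 Cfsg.Agent.Lib.Helper3.Cover.PSzM2.cnt4 (by norm_num) (by norm_num)
theorem pc5 : Data.countFrom data 0 32074 = 29120 := Data.countFrom_step data pc4 Cfsg.Agent.Lib.Helper3.Cover.PSzM2.cnt5 (by norm_num) (by norm_num)

theorem hcount : data.countLive = table.n := by
  rw [Data.countLive_eq]
  exact pc5

theorem hpermAll : ∀ p, p < table.n → Table.permRow table p = true := by
  intro p hv
  have hv' : p < 29120 := hv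
  rcases Nat.lt_or_ge p 6000 with h0 | h0
  · exact (Table.permRange_iff table 0 6000).mp Cfsg.Agent.Lib.Helper3.Cover.PSzM2.prm0 p (by omega) (by omega)
  rcases Nat.lt_or_ge p 12000 with h1 | h1
  · exact (Table.permRange_iff table 6000 6000).mp Cfsg.Agent.Lib.Helper3.Cover.PSzM2.prm1 p (by omega) (by omega)
  rcases Nat.lt_or_ge p 18000 with h2 | h2
  · exact (Table.permRange_iff table 12000 6000).mp Cfsg.Agent.Lib.Helper3.Cover.PSzM2.prm2 p (by omega) (by omega)
  rcases Nat.lt_or_ge p 24000 with h3 | h3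
  · exact (Table.permRange_iff table 18000 6000).mp Cfsg.Agent.Lib.Helper3.Cover.PSzM3.prm3 p (by omega) (by omega)
  exact (Table.permRange_iff table 24000 5120).mp Cfsg.Agent.Lib.Helper3.Cover.PSzM3.prm4 p (by omega) (by omega)

theorem hT : table.OK := Table.ok_of_rows table hinvOK hpermAll

theorem htreeAll : ∀ i, i < Nat.pred table.n → Table.treeRow table i = true := by
  intro p hv
  have hv' : p < 29119 := hv
  rcases Nat.lt_or_ge p 6000 with h0 | h0
  · exact (Table.treeRange_iff table 0 6000).mp Cfsg.Agent.Lib.Helper3.Cover.PSzM3.tre0 p (by omega) (by omega)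
  rcases Nat.lt_or_ge p 12000 with h1 | h1
  · exact (Table.treeRange_iff table 6000 6000).mp Cfsg.Agent.Lib.Helper3.Cover.PSzM3.tre1 p (by omega) (by omega)
  rcases Nat.lt_or_ge p 18000 with h2 | h2
  · exact (Table.treeRange_iff table 12000 6000).mp Cfsg.Agent.Lib.Helper3.Cover.PSzM3.tre2 p (by omega) (by omega)
  rcases Nat.lt_or_ge p 24000 with h3 | h3
  · exact (Table.treeRange_iff table 18000 6000).mp Cfsg.Agent.Lib.Helper3.Cover.PSzM4.tre3 p (by omega) (by omega)
  exact (Table.treeRange_iff table 24000 5119).mp Cfsg.Agent.Lib.Helper3.Cover.PSzM4.tre4 p (by omega) (by omega)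

theorem htree : table.treeOK = true := Table.treeOK_of_rows table htreeAll

theorem hchkT : ∀ P ∈ chkPaths, ∀ p, p < table.n → table.walkT P p = p := by
  intro P hm p hv
  have hv' : p < 29120 := hv
  rcases Nat.lt_or_ge p 2000 with h0 | h0
  · exact (Table.relOK_iff chkPaths 0 2000).mp Cfsg.Agent.Lib.Helper3.Cover.PSzL0.rel0 p (by omega) (by omega) _ hm
  rcases Nat.lt_or_ge p 4000 with h1 | h1
  · exact (Table.relOK_iff chkPaths 2000 2000).mp Cfsg.Agent.Lib.Helper3.Cover.PSzL0.rel1 p (by omega) (by omega) _ hm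
  rcases Nat.lt_or_ge p 6000 with h2 | h2
  · exact (Table.relOK_iff chkPaths 4000 2000).mp Cfsg.Agent.Lib.Helper3.Cover.PSzL0.rel2 p (by omega) (by omega) _ hm
  rcases Nat.lt_or_ge p 8000 with h3 | h3
  · exact (Table.relOK_iff chkPaths 6000 2000).mp Cfsg.Agent.Lib.Helper3.Cover.PSzL0.rel3 p (by omega) (by omega) _ hm
  rcases Nat.lt_or_ge p 10000 with h4 | h4
  · exact (Table.relOK_iff chkPaths 8000 2000).mp Cfsg.Agent.Lib.Helper3.Cover.PSzL0.rel4 p (by omega) (by omega) _ hm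
  rcases Nat.lt_or_ge p 12000 with h5 | h5
  · exact (Table.relOK_iff chkPaths 10000 2000).mp Cfsg.Agent.Lib.Helper3.Cover.PSzL1.rel5 p (by omega) (by omega) _ hm
  rcases Nat.lt_or_ge p 14000 with h6 | h6
  · exact (Table.relOK_iff chkPaths 12000 2000).mp Cfsg.Agent.Lib.Helper3.Cover.PSzL1.rel6 p (by omega) (by omega) _ hm
  rcases Nat.lt_or_ge p 16000 with h7 | h7
  · exact (Table.relOK_iff chkPaths 14000 2000).mp Cfsg.Agent.Lib.Helper3.Cover.PSzL1.rel7 p (by omega) (by omega) _ hm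
  rcases Nat.lt_or_ge p 18000 with h8 | h8
  · exact (Table.relOK_iff chkPaths 16000 2000).mp Cfsg.Agent.Lib.Helper3.Cover.PSzL1.rel8 p (by omega) (by omega) _ hm
  rcases Nat.lt_or_ge p 20000 with h9 | h9
  · exact (Table.relOK_iff chkPaths 18000 2000).mp Cfsg.Agent.Lib.Helper3.Cover.PSzL1.rel9 p (by omega) (by omega) _ hm
  rcases Nat.lt_or_ge p 22000 with h10 | h10
  · exact (Table.relOK_iff chkPaths 20000 2000).mp Cfsg.Agent.Lib.Helper3.Cover.PSzL2.rel10 p (by omega) (by omega) _ hm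
  rcases Nat.lt_or_ge p 24000 with h11 | h11
  · exact (Table.relOK_iff chkPaths 22000 2000).mp Cfsg.Agent.Lib.Helper3.Cover.PSzL2.rel11 p (by omega) (by omega) _ hm
  rcases Nat.lt_or_ge p 26000 with h12 | h12
  · exact (Table.relOK_iff chkPaths 24000 2000).mp Cfsg.Agent.Lib.Helper3.Cover.PSzL2.rel12 p (by omega) (by omega) _ hm
  rcases Nat.lt_or_ge p 28000 with h13 | h13
  · exact (Table.relOK_iff chkPaths 26000 2000).mp Cfsg.Agent.Lib.Helper3.Cover.PSzL2.rel13 p (by omega) (by omega) _ hm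
  exact (Table.relOK_iff chkPaths 28000 1120).mp Cfsg.Agent.Lib.Helper3.Cover.PSzL2.rel14 p (by omega) (by omega) _ hm

theorem hrelT : ∀ L ∈ relWords, ∀ p, p < table.n → table.walkT (pathOf lw L) p = p :=
  fun L hL => Table.fix_of_covered hT chkPaths hchkT _ (hcov _ (hrelmem L hL)).1 (hcov _ (hrelmem L hL)).2

theorem hsubT : ∀ L ∈ subWords, table.walkT (pathOf lw L) 0 = 0 :=
  fun L hL => (Table.subOK_iff subPaths).mp hsub0 _ (hsubmem L hL)

theorem hn : 0 < table.n := by decide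

theorem main : ((Subgroup.closure S).map (PresentedGroup.mk rels)).index = table.n ∧
    ∃ φ : PresentedGroup rels →* Equiv.Perm (Fin table.n),
      (∀ x, φ (PresentedGroup.of x) = Table.sigma hT (lw (x, true))) ∧
      ∃ f : PresentedGroup rels ⧸ (Subgroup.closure S).map (PresentedGroup.mk rels) → Fin table.n,
        Function.Bijective f ∧ (∀ g q, f (g • q) = φ g (f q)) ∧ f (QuotientGroup.mk 1) = ⟨0, hn⟩ :=
  index_eq link hchk hfin hcount hT hn hrelT hsubT htree

end Cfsg.Agent.Lib.Helper3.Cover.PSzMain
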