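import Cfsg.Agent.Lib.Helper3.Cover.PU6Data
set_option autoImplicit false
set_option maxRecDepth 100000
set_option maxHeartbeats 0

namespace Cfsg.Agent.Lib.Helper3.Cover.PU6U2
open Cfsg.Agent.Lib.Helper28.TC2Upper Cfsg.Agent.Lib.Helper3.Cover.PU6Data

theorem chk10 : data.checkRange 8097 1061 = true := by decide +kernel
theorem chk11 : data.checkRange 9158 1081 = true := by decide +kernel
theorem chk12 : data.checkRange 10239 1138 = true := by decide +kernel
theorem chk13 : data.checkRange 11377 1198 = true := by decide +kernel
theorem chk14 : data.checkRange 12575 1243 = true := by decide +kernel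

end Cfsg.Agent.Lib.Helper3.Cover.PU6U2
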