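import Cfsg.Agent.Lib.Helper19.F8Model
import Cfsg.Agent.Lib.Helper15.SuzukiLie
import Cfsg.Agent.Lib.Helper15.SuzukiFpf
import Cfsg.Agent.S2410
import Cfsg.Agent.S2247
import Cfsg.Agent.Lib.Helper3.Cover.ESzDef
import Cfsg.Agent.Lib.Helper3.Cover.BSzDef
import Cfsg.Agent.Lib.Helper3.Cover.PSzMain
import Cfsg.Agent.Lib.Helper28.TC2Tower

set_option autoImplicit false
set_option maxRecDepth 100000

/-!
# The Suzuki group over the concrete field with eight elements

`K = F8` (helper19), `G = Cfsg.Sz K 1` (ovoid model, helper15).  The presented group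
`PSz = ⟨j, y | …⟩` is isomorphic to `G` via `j ↦ J`, `y ↦ T(1,0) H(ζ)`; the elements `t = T(1,0)`,
`h = H(ζ)` satisfy the relators of the Borel presentation and generate the stabiliser of the point at infinity.
-/

namespace Cfsg.Agent.Lib.Helper3.Cover.SzIso

open Cfsg.Agent.Lib.Helper19.F8Model
open Cfsg.Agent.Lib.Helper15.SuzukiAlg Cfsg.Agent.Lib.Helper15.SuzukiOvoid
  Cfsg.Agent.Lib.Helper15.SuzukiForm Cfsg.Agent.Lib.Helper15.SuzukiMat
  Cfsg.Agent.Lib.Helper15.SuzukiGroup Cfsg.Agent.Lib.Helper15.SuzukiOrder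
  Cfsg.Agent.Lib.Helper15.SuzukiZassenhaus Cfsg.Agent.Lib.Helper15.SuzukiBorel
open Cfsg.Agent.Lib.Helper3.Cover

/-- the field with eight elements -/
abbrev K := F8

theorem hK : Fintype.card K = 2 ^ (2 * 1 + 1) := by decide

/-- a generator of the multiplicative group -/
def zeta : Kˣ := ⟨toF8 2, (toF8 2)⁻¹, by decide, by decide⟩

/-- the Suzuki group -/
abbrev G : Type := ↥(Cfsg.Sz K 1)

/-- the inversion -/
def jG : G := Cfsg.Agent.S2410.Js hK
/-- the translation `T(1,0)` -/
def tG : G := Ts hK 1 0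
/-- the torus element `H(ζ)` -/
def hG : G := Hs hK zeta
/-- the second generator -/
def yG : G := tG * hG

/-- the images of the generators of `PSz` -/
def genP : ESzDef.Gen → G
  | .j => jG
  | .y => yG

/-- the images of the generators of the Borel presentation -/
def genB : BSzDef.Gen → G
  | .t => tG
  | .h => hG

/-- evaluation of a word -/
def evalW {α : Type} (f : α → G) : List (α × Bool) → G
  | [] => 1
  | (x, b) :: L => (if b then f x else (f x)⁻¹) * evalW f L

theorem lift_mk {α : Type} (f : α → G) (L : List (α × Bool)) :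
    FreeGroup.lift f (FreeGroup.mk L) = evalW f L := by
  induction L with
  | nil => rfl
  | cons p L ih =>
    obtain ⟨x, b⟩ := p
    have h : (FreeGroup.mk ((x, b) :: L) : FreeGroup α) = FreeGroup.mk [(x, b)] * FreeGroup.mk L := by
      rw [FreeGroup.mul_mk]; rfl
    rw [h, map_mul, ih]
    cases b
    · have : (FreeGroup.mk [(x, false)] : FreeGroup α) = (FreeGroup.of x)⁻¹ := by
        rw [FreeGroup.of, FreeGroup.inv_mk]; rfl
      rw [this, map_inv, FreeGroup.lift_apply_of]
      rfl
    · have : (FreeGroup.mk [(x, true)] : FreeGroup α) = FreeGroup.of x := rfl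
      rw [this, FreeGroup.lift_apply_of]
      rfl

theorem relP : ∀ r ∈ ESzDef.R, evalW genP r = 1 := by decide

theorem relB : ∀ r ∈ BSzDef.R, evalW genB r = 1 := by decide

theorem nrmB : ∀ x, evalW genB (BSzDef.odata.nrm x) = 1 := by
  intro x; cases x <;> decide

/-- the word of `T(1,0)` -/
def wT : List (ESzDef.Gen × Bool) :=
  [(.j, true), (.y, true), (.y, true), (.y, true), (.j, true), (.y, true), (.j, true), (.y, false), (.j, true),
    (.y, false), (.y, false), (.y, false), (.j, true), (.y, true), (.j, true)]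

/-- the word of `H(ζ)` -/
def wH : List (ESzDef.Gen × Bool) :=
  [(.j, true), (.y, false), (.j, true), (.y, true), (.y, true), (.y, true), (.j, true), (.y, true), (.j, true),
    (.y, false), (.j, true), (.y, false), (.y, false), (.y, false), (.j, true), (.y, true)]

theorem eval_wT : evalW genP wT = tG := by decide
theorem eval_wH : evalW genP wH = hG := by decide


/-! ### generation -/

/-- conjugates of the translation by the torus -/
def cj (i : ℕ) : G := hG ^ i * tG * (hG⁻¹) ^ i

/-- logarithm table for the first coordinate -/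
def ia (a : K) : ℕ :=
  match a.v.val with
  | 1 => 0 | 6 => 1 | 2 => 2 | 7 => 3 | 4 => 4 | 5 => 5 | 3 => 6 | _ => 0

/-- logarithm table for the second coordinate -/
def ib (b : K) : ℕ :=
  match b.v.val with
  | 1 => 0 | 5 => 1 | 7 => 2 | 6 => 3 | 3 => 4 | 4 => 5 | 2 => 6 | _ => 0

/-- the translations as words in `t`, `h` -/
def tw (a b : K) : G :=
  (if a = 0 then 1 else cj (ia a)) * (if b = 0 then 1 else cj (ib b) * cj (ib b))

theorem tw_eq : ∀ a b : K, tw a b = Ts hK a b := by decide

/-- the subgroup generated by `t` and `h` -/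
def BB : Subgroup G := Subgroup.closure (Set.range genB)

theorem tG_mem_BB : tG ∈ BB := Subgroup.subset_closure ⟨.t, rfl⟩
theorem hG_mem_BB : hG ∈ BB := Subgroup.subset_closure ⟨.h, rfl⟩

theorem cj_mem_BB (i : ℕ) : cj i ∈ BB :=
  mul_mem (mul_mem (pow_mem hG_mem_BB i) tG_mem_BB) (pow_mem (inv_mem hG_mem_BB) i)

theorem Ts_mem_BB (a b : K) : Ts hK a b ∈ BB := by
  rw [← tw_eq]
  unfold tw
  apply mul_mem
  · split_ifs
    · exact one_mem _
    · exact cj_mem_BB _
  · split_ifs
    · exact one_mem _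
    · exact mul_mem (cj_mem_BB _) (cj_mem_BB _)

theorem units_pow : ∀ μ : Kˣ, ∃ i : Fin 7, μ = zeta ^ (i : ℕ) := by decide

theorem Hs_mem_BB (μ : Kˣ) : Hs hK μ ∈ BB := by
  obtain ⟨i, rfl⟩ := units_pow μ
  have : Hs hK (zeta ^ (i : ℕ)) = hG ^ (i : ℕ) := map_pow (Cfsg.Agent.S2410.HsHom hK) zeta i
  rw [this]
  exact pow_mem hG_mem_BB _

/-- the stabiliser of the point at infinity is generated by `t` and `h` -/
theorem Bz_le_BB : Cfsg.Agent.S2247.Bz hK ≤ BB := by
  intro g hg
  obtain ⟨a, b, μ, rfl⟩ := fix_inf hK (le_refl 1) (MulAction.mem_stabilizer_iff.mp hg)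
  exact mul_mem (Ts_mem_BB a b) (Hs_mem_BB μ)

theorem card_G : Nat.card G = 29120 := by
  rw [card_Sz hK (le_refl 1)]
  norm_num

instance : Finite G := Nat.finite_of_card_ne_zero (by rw [card_G]; norm_num)

theorem card_Bz8 : Nat.card (Cfsg.Agent.S2247.Bz hK) = 448 := by
  rw [Cfsg.Agent.Lib.Helper15.SuzukiFpf.card_Bz hK (le_refl 1)]
  norm_num

theorem dvd_card_BB : 448 ∣ Nat.card BB := by
  rw [← card_Bz8]
  exact Subgroup.card_dvd_of_le Bz_le_BB

theorem index_BB_dvd : BB.index ∣ 65 := by
  obtain ⟨k, hk⟩ := dvd_card_BB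
  have h1 := BB.index_mul_card
  rw [card_G, hk] at h1
  have h2 : 448 * (BB.index * k) = 448 * 65 := by
    rw [show 448 * (BB.index * k) = BB.index * (448 * k) by ring, h1]
  have h3 : BB.index * k = 65 := Nat.eq_of_mul_eq_mul_left (by norm_num) h2
  exact ⟨k, h3.symm⟩

theorem le_card_BB : 448 ≤ Nat.card BB :=
  Nat.le_of_dvd Nat.card_pos dvd_card_BB

/-- the whole group is generated by `j`, `t`, `h` -/
theorem mem_closure (g : G) : g ∈ Subgroup.closure ({jG} ∪ (BB : Set G)) := by
  have hB : ∀ x ∈ BB, x ∈ Subgroup.closure ({jG} ∪ (BB : Set G)) :=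
    fun x hx => Subgroup.subset_closure (Or.inr hx)
  have hJ : jG ∈ Subgroup.closure ({jG} ∪ (BB : Set G)) := Subgroup.subset_closure (Or.inl rfl)
  obtain ⟨c, hc⟩ := pt_surj hK (g • pt hK none)
  rcases c with _ | ⟨a, b⟩
  · obtain ⟨a, b, μ, h⟩ := fix_inf hK (le_refl 1) hc
    rw [h]
    exact hB _ (mul_mem (Ts_mem_BB a b) (Hs_mem_BB μ))
  · have hw : (Ts hK a b * Cfsg.Agent.S2410.Js hK) • pt hK none = pt hK (some (a, b)) := by
      rw [mul_smul, Cfsg.Agent.S2410.Js_inf, Ts_some]
      simp
    have h1 : ((Ts hK a b * Cfsg.Agent.S2410.Js hK)⁻¹ * g) • pt hK none = pt hK none := by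
      rw [mul_smul, hc, ← hw, inv_smul_smul]
    obtain ⟨a', b', μ, h⟩ := fix_inf hK (le_refl 1) h1
    have h3 : g = Ts hK a b * Cfsg.Agent.S2410.Js hK * (Ts hK a' b' * Hs hK μ) := by
      rw [← h]; group
    rw [h3]
    exact mul_mem (mul_mem (hB _ (Ts_mem_BB a b)) hJ) (hB _ (mul_mem (Ts_mem_BB a' b') (Hs_mem_BB μ)))

/-! ### the presented group -/

open Cfsg.Agent.Lib.Helper28.TC2Tower

/-- the covering data of the presentation -/
abbrev DP : CoverData ESzDef.Gen := ESzDef.cover

theorem cardPSz : Finite DP.P ∧ Nat.card DP.P = 29120 := by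
  have h : ((Subgroup.closure PSzLink.S).map (PresentedGroup.mk PSzLink.rels)).index = 29120 := PSzMain.main.1
  have e : (Subgroup.closure PSzLink.S).map (PresentedGroup.mk PSzLink.rels) = ⊥ := by
    show (Subgroup.closure {1}).map _ = ⊥
    rw [Subgroup.closure_singleton_one, Subgroup.map_bot]
  rw [e] at h
  exact card_of_index_bot (by norm_num) h

/-- the homomorphism from the presented group -/
noncomputable def phiP : DP.P →* G :=
  PresentedGroup.toGroup (f := genP) (by
    rintro _ ⟨L, hL, rfl⟩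
    rw [lift_mk]
    exact relP L hL)

theorem phiP_mk (L : List (ESzDef.Gen × Bool)) :
    phiP (PresentedGroup.mk _ (FreeGroup.mk L)) = evalW genP L := by
  show FreeGroup.lift genP (FreeGroup.mk L) = evalW genP L
  exact lift_mk genP L

theorem phiP_surjective : Function.Surjective phiP := by
  rw [← MonoidHom.range_eq_top, eq_top_iff]
  intro g _
  have h1 : Subgroup.closure ({jG} ∪ (BB : Set G)) ≤ phiP.range := by
    rw [Subgroup.closure_le]
    rintro x (hx | hx)
    · rw [Set.mem_singleton_iff] at hx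
      subst hx
      exact ⟨PresentedGroup.of .j, PresentedGroup.toGroup.of _⟩
    · have h2 : BB ≤ phiP.range := by
        unfold BB
        rw [Subgroup.closure_le]
        rintro _ ⟨x, rfl⟩
        cases x
        · exact ⟨_, (phiP_mk wT).trans eval_wT⟩
        · exact ⟨_, (phiP_mk wH).trans eval_wH⟩
      exact h2 hx
  exact h1 (mem_closure g)

theorem phiP_bijective : Function.Bijective phiP := by
  haveI := cardPSz.1
  apply Function.Surjective.bijective_of_nat_card_le phiP_surjective
  rw [cardPSz.2, card_G]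

/-- the presented group is the Suzuki group -/
noncomputable def isoP : DP.P ≃* G := MulEquiv.ofBijective phiP phiP_bijective

/-! ### the Borel presentation -/

theorem hRB : ∀ r ∈ BSzDef.odata.R, FreeGroup.lift genB (FreeGroup.mk r) = 1 := by
  intro r hr
  rw [lift_mk]
  exact relB r hr

theorem hNB : ∀ x, FreeGroup.lift genB (FreeGroup.mk (BSzDef.odata.nrm x)) = 1 := by
  intro x
  rw [lift_mk]
  exact nrmB x

end Cfsg.Agent.Lib.Helper3.Cover.SzIso
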