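import Cfsg.Agent.Lib.Helper3.Cover.CentralTwist
import Cfsg.Agent.Lib.Helper3.Cover.U62Iso

set_option autoImplicit false
set_option maxRecDepth 100000

/-!
# A quotient of the covering presentation of `PSU₆(2)` in which `⟨a, b, c⟩` is `PSU₄(3)`

`E` is the covering presentation of `PSU₆(2) = ⟨a, b, c, t, d | …⟩`.  The values of the relators of
`PSU₄(3) = ⟨a, b, c⟩` generate a central subgroup `N` of `E`, contained in `⟨a, b, c⟩`.  In `E / N`:
* conjugation by `t` maps `a, b, c` to the words `a, w_b, c` exactly (a priori up to central elements; the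
  normalising words of `PSU₄(3)`, with exponent sums the unit vectors, are trivial before and after substitution);
* `d` commutes exactly with `u₁, u₂` (generating a perfect group) and with an element `g₂` (a commutator modulo
  `⟨u₁, u₂⟩` of elements commuting with `d` in `PSU₆(2)`).
-/

namespace Cfsg.Agent.Lib.Helper3.Cover.U62Bar

open Cfsg Cfsg.Agent.Lib.Helper3 Cfsg.Agent.Lib.Helper3.Cover.U43Iso Cfsg.Agent.Lib.Helper3.Cover.U62Iso
open Cfsg.Agent.Lib.Helper3.Cover.U43Mat
open Cfsg.Agent.Lib.Helper19.PSU33Spec Cfsg.Agent.Lib.Helper19.U43Model Cfsg.Agent.Lib.Helper19.U43Main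
open Cfsg.Agent.Lib.Helper28.TC2Tower Cfsg.Agent.Lib.Helper28.TC2Subst
open scoped IsMulCommutative

/-! ### word problems -/

/-- a word in `a, b, c` whose matrix is scalar is trivial in the presented group `PSU₄(3)` -/
theorem pu4_eq_one (L : List (EU4Def.Gen × Bool)) (h : evalW L = (evalW L 0 0) • (1 : M4)) :
    PresentedGroup.mk (relSet EU4Def.R) (FreeGroup.mk L) = 1 := by
  have h1 : U43Iso.phi (PresentedGroup.mk PU4Link.rels (FreeGroup.mk L)) = U43Iso.phi 1 := by
    rw [map_one]
    show FreeGroup.lift genP (FreeGroup.mk L) = 1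
    rw [lift_genP]
    exact (QuotientGroup.eq_one_iff _).mpr (mem_center_of_scalar _ _ ((val_lift L).trans h))
  exact U43Iso.phi_injective h1

/-- the element of the covering group of `PSU₆(2)` given by a word -/
noncomputable abbrev emk (L : List (EU6Def.Gen × Bool)) : DU6.E :=
  PresentedGroup.mk DU6.relsE (FreeGroup.mk L)

theorem emk_append (L M : List (EU6Def.Gen × Bool)) : emk (L ++ M) = emk L * emk M := by
  unfold emk
  rw [← FreeGroup.mul_mk, map_mul]

theorem emk_invRev (L : List (EU6Def.Gen × Bool)) : emk (FreeGroup.invRev L) = (emk L)⁻¹ := by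
  unfold emk
  rw [← FreeGroup.inv_mk, map_inv]

/-- a word that is trivial in `PSU₆(2)` is central in the covering group -/
theorem emk_central (L : List (EU6Def.Gen × Bool)) (h : scalChk (wc L) = true) :
    emk L ∈ Subgroup.center DU6.E := by
  apply DU6.ker_proj_le_center
  rw [MonoidHom.mem_ker, DU6.proj_mk]
  exact mk_eq_one_of_scalChk L h

/-! ### the quotient -/

/-- the subgroup generated by the values of the relators of `PSU₄(3)` -/
noncomputable def N : Subgroup DU6.E :=
  Subgroup.closure {z | ∃ L ∈ EU4Def.R, z = emk (upWord up L)}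

theorem N_le_center : N ≤ Subgroup.center DU6.E := by
  unfold N
  rw [Subgroup.closure_le]
  rintro _ ⟨L, hL, rfl⟩
  exact DU6.mk_rel_mem_center _ (upP L hL)

instance N_normal : N.Normal := by
  constructor
  intro n hn g
  have h := N_le_center hn
  rw [Subgroup.mem_center_iff] at h
  rw [h g, mul_inv_cancel_right]
  exact hn

/-- the quotient group -/
abbrev Ebar : Type := DU6.E ⧸ N

/-- the quotient map -/
noncomputable abbrev qm : DU6.E →* Ebar := QuotientGroup.mk' N

/-- the element of the quotient given by a word -/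
noncomputable abbrev bmk (L : List (EU6Def.Gen × Bool)) : Ebar := qm (emk L)

theorem bmk_append (L M : List (EU6Def.Gen × Bool)) : bmk (L ++ M) = bmk L * bmk M := by
  unfold bmk
  rw [emk_append, map_mul]

theorem bmk_invRev (L : List (EU6Def.Gen × Bool)) : bmk (FreeGroup.invRev L) = (bmk L)⁻¹ := by
  unfold bmk
  rw [emk_invRev, map_inv]

theorem bmk_cons (p : EU6Def.Gen × Bool) (L : List (EU6Def.Gen × Bool)) : bmk (p :: L) = bmk [p] * bmk L :=
  bmk_append [p] L

theorem bmk_nil : bmk [] = 1 := by
  unfold bmk emk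
  have : (FreeGroup.mk ([] : List (EU6Def.Gen × Bool))) = 1 := rfl
  rw [this, map_one, map_one]

theorem bmk_inv_letter (x : EU6Def.Gen) : bmk [(x, false)] = (bmk [(x, true)])⁻¹ := by
  rw [← bmk_invRev]
  rfl

theorem qm_central {z : DU6.E} (hz : z ∈ Subgroup.center DU6.E) : qm z ∈ Subgroup.center Ebar := by
  rw [Subgroup.mem_center_iff]
  intro y
  obtain ⟨g, rfl⟩ := QuotientGroup.mk'_surjective N y
  rw [Subgroup.mem_center_iff] at hz
  rw [← map_mul, ← map_mul, hz g]

theorem bmk_central (L : List (EU6Def.Gen × Bool)) (h : scalChk (wc L) = true) :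
    bmk L ∈ Subgroup.center Ebar := qm_central (emk_central L h)

/-- the composite homomorphism from the free group -/
noncomputable abbrev Fb : FreeGroup EU6Def.Gen →* Ebar := qm.comp (PresentedGroup.mk DU6.relsE)

theorem lift_letters (L : List (EU6Def.Gen × Bool)) :
    FreeGroup.lift (fun x => bmk [(x, true)]) (FreeGroup.mk L) = bmk L := by
  have : FreeGroup.lift (fun x => bmk [(x, true)]) = Fb := by
    ext x
    rw [FreeGroup.lift_apply_of]
    rfl
  rw [this]
  rfl

theorem lift_up (L : List (EU4Def.Gen × Bool)) :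
    FreeGroup.lift (fun x => bmk [(up x, true)]) (FreeGroup.mk L) = bmk (upWord up L) := by
  have : FreeGroup.lift (fun x => bmk [(up x, true)]) = Fb.comp (FreeGroup.map up) := by
    ext x
    rw [FreeGroup.lift_apply_of]
    rfl
  rw [this]
  rfl

theorem lift_sub {β : Type} (sub : β → List (EU6Def.Gen × Bool)) (L : List (β × Bool)) :
    FreeGroup.lift (fun x => bmk (sub x)) (FreeGroup.mk L) = bmk (substW sub L) :=
  lift_mk_subst Fb sub L

/-- the relators of `PSU₄(3)` are trivial in the quotient -/
theorem bmk_up_rel (L : List (EU4Def.Gen × Bool)) (hL : L ∈ EU4Def.R) : bmk (upWord up L) = 1 := by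
  unfold bmk
  rw [← MonoidHom.mem_ker, QuotientGroup.ker_mk']
  exact Subgroup.subset_closure ⟨L, hL, rfl⟩

/-- the homomorphism from `PSU₄(3)` to the quotient -/
noncomputable def iota : DU4.P →* Ebar :=
  PresentedGroup.toGroup (f := fun x => bmk [(up x, true)]) (by
    rintro _ ⟨L, hL, rfl⟩
    rw [lift_up]
    exact bmk_up_rel L hL)

theorem iota_mk (L : List (EU4Def.Gen × Bool)) :
    iota (PresentedGroup.mk (relSet EU4Def.R) (FreeGroup.mk L)) = bmk (upWord up L) := by
  show FreeGroup.lift (fun x => bmk [(up x, true)]) (FreeGroup.mk L) = _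
  exact lift_up L

/-- a word in `a, b, c` whose matrix is scalar is trivial in the quotient -/
theorem bmk_up_eq_one (L : List (EU4Def.Gen × Bool)) (h : evalW L = (evalW L 0 0) • (1 : M4)) :
    bmk (upWord up L) = 1 := by
  have h1 := congrArg iota (pu4_eq_one L h)
  rw [iota_mk] at h1
  rw [h1]
  exact map_one iota

end Cfsg.Agent.Lib.Helper3.Cover.U62Bar
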