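import Cfsg.Agent.Lib.Helper3.Cover.U62BarA

set_option autoImplicit false
set_option maxRecDepth 100000

/-!
# Exact conjugation relations in the quotient of the covering presentation of `PSU₆(2)`
-/

namespace Cfsg.Agent.Lib.Helper3.Cover.U62Bar

open Cfsg Cfsg.Agent.Lib.Helper3 Cfsg.Agent.Lib.Helper3.Cover.U43Iso Cfsg.Agent.Lib.Helper3.Cover.U62Iso
open Cfsg.Agent.Lib.Helper3.Cover.U43Mat
open Cfsg.Agent.Lib.Helper19.PSU33Spec Cfsg.Agent.Lib.Helper19.U43Model Cfsg.Agent.Lib.Helper19.U43Main
open Cfsg.Agent.Lib.Helper28.TC2Tower Cfsg.Agent.Lib.Helper28.TC2Subst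
open scoped IsMulCommutative

/-! ### conjugation by `t` -/

/-- the image of a generator of `PSU₄(3)` under conjugation by `t`, as a word -/
def sub4 : EU4Def.Gen → List (EU4Def.Gen × Bool)
  | .a => [(.a, true)]
  | .b => [(.c, true), (.b, false), (.c, true), (.a, true), (.c, true), (.b, false), (.a, true), (.b, true),
      (.a, true), (.b, true), (.a, true), (.b, true), (.b, true), (.b, true), (.c, true)]
  | .c => [(.c, true)]

/-- the same words in the generators of `PSU₆(2)` -/
def sub6 (x : EU4Def.Gen) : List (EU6Def.Gen × Bool) := upWord U62Iso.up (sub4 x)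

theorem invRev_up (L : List (EU4Def.Gen × Bool)) :
    FreeGroup.invRev (upWord U62Iso.up L) = upWord U62Iso.up (FreeGroup.invRev L) := by
  unfold upWord FreeGroup.invRev
  simp only [List.map_map, List.map_reverse]
  rfl

theorem substW_up (L : List (EU4Def.Gen × Bool)) : substW sub6 L = upWord U62Iso.up (substW sub4 L) := by
  induction L with
  | nil => rfl
  | cons p L ih =>
    obtain ⟨x, b⟩ := p
    cases b
    · show FreeGroup.invRev (sub6 x) ++ substW sub6 L = upWord U62Iso.up (FreeGroup.invRev (sub4 x) ++ substW sub4 L)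
      rw [ih]
      unfold sub6
      rw [invRev_up]
      exact List.map_append.symm
    · show sub6 x ++ substW sub6 L = upWord U62Iso.up (sub4 x ++ substW sub4 L)
      rw [ih]
      exact List.map_append.symm

/-- the image of `t` in the quotient -/
noncomputable abbrev T : Ebar := bmk [(.t, true)]
/-- the image of `d` in the quotient -/
noncomputable abbrev Dd : Ebar := bmk [(.d, true)]

/-- the words `w_x⁻¹ t x t⁻¹` -/
def tcw (x : EU4Def.Gen) : List (EU6Def.Gen × Bool) :=
  FreeGroup.invRev (sub6 x) ++ [(.t, true), (U62Iso.up x, true), (.t, false)]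

theorem tcw_chk : ∀ x, scalChk (wc (tcw x)) = true := by
  intro x; cases x <;> decide +kernel

/-- the central elements `w_x⁻¹ t x t⁻¹` -/
noncomputable def kT (x : EU4Def.Gen) : Subgroup.center Ebar := ⟨bmk (tcw x), bmk_central _ (tcw_chk x)⟩

theorem bmk_three (p q r : EU6Def.Gen × Bool) : bmk [p, q, r] = bmk [p] * bmk [q] * bmk [r] := by
  rw [bmk_cons p, bmk_cons q, mul_assoc]

theorem kT_val (x : EU4Def.Gen) :
    (kT x : Ebar) = (bmk (sub6 x))⁻¹ * (T * bmk [(U62Iso.up x, true)] * T⁻¹) := by
  show bmk (tcw x) = _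
  unfold tcw
  rw [bmk_append, bmk_invRev, bmk_three, bmk_inv_letter]

theorem sub_nrm_chk : ∀ y, evalW (substW sub4 (EU4Def.nrm y)) =
    (evalW (substW sub4 (EU4Def.nrm y)) 0 0) • (1 : M4) := by
  intro y; cases y <;> decide +kernel

theorem bmk_up_nrm (y : EU4Def.Gen) : bmk (upWord U62Iso.up (EU4Def.nrm y)) = 1 := by
  have h1 : iota (PresentedGroup.mk (relSet EU4Def.R) (FreeGroup.mk (EU4Def.nrm y))) = iota 1 :=
    congrArg iota (DU4.hnrm y)
  rw [iota_mk] at h1
  rw [h1]
  exact map_one iota

/-- conjugation by `t` is given exactly by the words -/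
theorem t_exact (y : EU4Def.Gen) : T * bmk [(U62Iso.up y, true)] * T⁻¹ = bmk (sub6 y) := by
  have h := kappa_eq_one T (fun x => bmk [(U62Iso.up x, true)]) (fun x => bmk (sub6 x)) kT
    (fun x => by rw [kT_val, mul_inv_cancel_left]) y (EU4Def.nrm y) (fun x => DU4.hexp x y)
    (by rw [lift_up, bmk_up_nrm]; exact Subgroup.one_mem _)
    (by rw [lift_up, bmk_up_nrm, lift_sub, substW_up]; exact bmk_up_eq_one _ (sub_nrm_chk y))
  have h2 := congrArg Subtype.val h
  rw [kT_val] at h2
  have h3 : (bmk (sub6 y))⁻¹ * (T * bmk [(U62Iso.up y, true)] * T⁻¹) = 1 := h2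
  rw [inv_mul_eq_one] at h3
  exact h3.symm

/-! ### elements commuting with `d` -/

/-- letters for five elements of the centraliser of `d` -/
inductive CGen
  | u | v | g | p | q
  deriving DecidableEq

instance : Fintype CGen :=
  ⟨⟨(([CGen.u, CGen.v, CGen.g, CGen.p, CGen.q] : List CGen) : Multiset CGen), by decide⟩, by
    intro x; cases x <;> decide⟩

/-- the five elements as words -/
def subC : CGen → List (EU6Def.Gen × Bool)
  | .u => [(.b, false), (.b, false), (.c, true), (.b, true), (.b, true)]
  | .v => [(.b, true), (.c, true), (.b, false), (.a, true), (.b, false), (.c, true), (.b, false), (.c, true),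
      (.b, false), (.a, true), (.c, true)]
  | .g => [(.a, true), (.c, true), (.b, false), (.t, true), (.a, true), (.b, true), (.b, true)]
  | .p => [(.d, false), (.c, false), (.d, false), (.c, true), (.d, true), (.b, false), (.d, false), (.b, true)]
  | .q => [(.a, true), (.c, true), (.b, false), (.t, true), (.a, true), (.c, true), (.b, true), (.b, true),
      (.a, false), (.d, false), (.a, true)]

/-- a word in `u, v` with exponent sums `(1, 0)` that is trivial in `PSU₆(2)` -/
def n1 : List (CGen × Bool) :=
  [(.u, true), (.v, true), (.u, true), (.v, true), (.u, true), (.v, false), (.u, true), (.v, false), (.v, false),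
    (.u, false), (.v, false), (.v, false), (.u, true), (.v, false), (.u, false), (.v, true), (.u, false), (.v, true),
    (.u, false), (.v, true), (.v, true)]

/-- a word in `u, v` with exponent sums `(0, 1)` that is trivial in `PSU₆(2)` -/
def n2 : List (CGen × Bool) :=
  [(.u, true), (.v, true), (.u, true), (.v, true), (.v, true), (.u, true), (.v, false), (.v, false), (.u, true),
    (.v, false), (.v, false), (.u, false), (.v, true), (.u, false), (.v, false), (.u, false), (.v, true), (.v, true),
    (.v, true), (.u, false), (.v, false)]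

/-- a word with exponent sum `-1` in `g` and `0` in `p, q` that is trivial in `PSU₆(2)` -/
def n3 : List (CGen × Bool) :=
  [(.g, false), (.p, true), (.q, true), (.p, false), (.q, false), (.v, true), (.u, false), (.v, true), (.v, true),
    (.u, false), (.v, false), (.v, false), (.u, false), (.v, false), (.v, false), (.v, false)]

/-- the words `x⁻¹ d x d⁻¹` -/
def dcw (x : CGen) : List (EU6Def.Gen × Bool) :=
  FreeGroup.invRev (subC x) ++ ((.d, true) :: (subC x ++ [(.d, false)]))

theorem dcw_chk : ∀ x, scalChk (wc (dcw x)) = true := by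
  intro x; cases x <;> decide +kernel

theorem n_chk : scalChk (wc (substW subC n1)) = true ∧ scalChk (wc (substW subC n2)) = true ∧
    scalChk (wc (substW subC n3)) = true := by decide +kernel

/-- the central elements `x⁻¹ d x d⁻¹` -/
noncomputable def kD (x : CGen) : Subgroup.center Ebar := ⟨bmk (dcw x), bmk_central _ (dcw_chk x)⟩

theorem kD_val (x : CGen) : (kD x : Ebar) = (bmk (subC x))⁻¹ * (Dd * bmk (subC x) * Dd⁻¹) := by
  show bmk (dcw x) = _
  unfold dcw
  rw [bmk_append, bmk_invRev, bmk_cons, bmk_append, bmk_inv_letter, mul_assoc]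

theorem kD_conj (x : CGen) : Dd * bmk (subC x) * Dd⁻¹ = bmk (subC x) * (kD x : Ebar) := by
  rw [kD_val, mul_inv_cancel_left]

theorem n1_exp : ∀ x, expL x n1 = if x = CGen.u then 1 else 0 := by intro x; cases x <;> decide
theorem n2_exp : ∀ x, expL x n2 = if x = CGen.v then 1 else 0 := by intro x; cases x <;> decide
theorem n3_exp : expL CGen.g n3 = -1 ∧ expL CGen.p n3 = 0 ∧ expL CGen.q n3 = 0 := by decide

theorem kD_u : kD .u = 1 :=
  kappa_eq_one Dd (fun x => bmk (subC x)) (fun x => bmk (subC x)) kD kD_conj .u n1 n1_exp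
    (by rw [lift_sub]; exact bmk_central _ n_chk.1) rfl

theorem kD_v : kD .v = 1 :=
  kappa_eq_one Dd (fun x => bmk (subC x)) (fun x => bmk (subC x)) kD kD_conj .v n2 n2_exp
    (by rw [lift_sub]; exact bmk_central _ n_chk.2.1) rfl

theorem kD_g : kD .g = 1 := by
  have h := prod_kappa_eq_one Dd (fun x => bmk (subC x)) (fun x => bmk (subC x)) kD kD_conj n3
    (by rw [lift_sub]; exact bmk_central _ n_chk.2.2) rfl
  rw [Finset.prod_eq_single CGen.g] at h
  · rw [n3_exp.1, zpow_neg, zpow_one, inv_eq_one] at h
    exact h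
  · intro b _ hb
    cases b
    · rw [kD_u, one_zpow]
    · rw [kD_v, one_zpow]
    · exact absurd rfl hb
    · rw [n3_exp.2.1, zpow_zero]
    · rw [n3_exp.2.2, zpow_zero]
  · intro h'
    exact absurd (Finset.mem_univ _) h'

/-- `d` commutes exactly with the element given by a letter with trivial central element -/
theorem d_comm_of (x : CGen) (h : kD x = 1) : Dd * bmk (subC x) = bmk (subC x) * Dd := by
  have h1 := kD_conj x
  rw [h, Subgroup.coe_one, mul_one] at h1
  have h2 : Dd * bmk (subC x) = Dd * bmk (subC x) * Dd⁻¹ * Dd := by group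
  rw [h2, h1]

theorem d_comm_u : Dd * bmk (subC .u) = bmk (subC .u) * Dd := d_comm_of .u kD_u
theorem d_comm_v : Dd * bmk (subC .v) = bmk (subC .v) * Dd := d_comm_of .v kD_v
theorem d_comm_g : Dd * bmk (subC .g) = bmk (subC .g) * Dd := d_comm_of .g kD_g

end Cfsg.Agent.Lib.Helper3.Cover.U62Bar
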