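import Cfsg.Agent.Lib.Helper3.Cover.U62BarB
import Cfsg.Agent.Lib.Helper3.Cover.QU6Def

set_option autoImplicit false
set_option maxRecDepth 100000

/-!
# The relators of the auxiliary presentation `QU6` hold in the quotient of the covering presentation of `PSU₆(2)`
-/

namespace Cfsg.Agent.Lib.Helper3.Cover.U62Bar

open Cfsg Cfsg.Agent.Lib.Helper3 Cfsg.Agent.Lib.Helper3.Cover.U43Iso Cfsg.Agent.Lib.Helper3.Cover.U62Iso
open Cfsg.Agent.Lib.Helper3.Cover.U43Mat
open Cfsg.Agent.Lib.Helper19.PSU33Spec Cfsg.Agent.Lib.Helper19.U43Model Cfsg.Agent.Lib.Helper19.U43Main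
open Cfsg.Agent.Lib.Helper28.TC2Tower Cfsg.Agent.Lib.Helper28.TC2Subst
open scoped IsMulCommutative

/-! ### group theory: two elements with central squares -/

theorem sq_mul_sq_eq_one {G : Type*} [Group G] (t d : G) (h1 : ∀ g, g * (t * t) = (t * t) * g)
    (h2 : ∀ g, g * (d * d) = (d * d) * g) (h3 : t * d * t * d * t * d = t * t * (d * d)) :
    t * t * (d * d) = 1 := by
  have a1 : d * t * d * t = t * d := by
    calc d * t * d * t = t⁻¹ * (t * d * t * d * t * d) * d⁻¹ := by group
      _ = t⁻¹ * (t * t * (d * d)) * d⁻¹ := by rw [h3]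
      _ = t * d := by group
  have a2 : d * t * d = t * d * t⁻¹ := by
    calc d * t * d = (d * t * d * t) * t⁻¹ := by group
      _ = t * d * t⁻¹ := by rw [a1]
  have a3 : (d * t * d) * (d * t * d) = (t * t) * (d * d) * (d * d) := by
    calc (d * t * d) * (d * t * d) = d * t * ((d * d) * (t * d)) := by group
      _ = d * t * ((t * d) * (d * d)) := by rw [h2 (t * d)]
      _ = (d * (t * t)) * d * (d * d) := by group
      _ = ((t * t) * d) * d * (d * d) := by rw [h1 d]
      _ = (t * t) * (d * d) * (d * d) := by group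
  have a4 : (t * d * t⁻¹) * (t * d * t⁻¹) = d * d := by
    calc (t * d * t⁻¹) * (t * d * t⁻¹) = (t * (d * d)) * t⁻¹ := by group
      _ = ((d * d) * t) * t⁻¹ := by rw [h2 t]
      _ = d * d := by group
  rw [a2, a4] at a3
  exact (mul_eq_right.mp a3.symm)

/-! ### the structured list of relators -/

/-- a relator of `PSU₆(2)` -/
def R6 (i : ℕ) : List (EU6Def.Gen × Bool) := EU6Def.R.getD i []

def tt : List (EU6Def.Gen × Bool) := [(.t, true), (.t, true)]
def dd : List (EU6Def.Gen × Bool) := [(.d, true), (.d, true)]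

/-- the relator `t x t⁻¹ w_x⁻¹` -/
def tconj (x : EU4Def.Gen) : List (EU6Def.Gen × Bool) :=
  [(.t, true), (U62Iso.up x, true), (.t, false)] ++ FreeGroup.invRev (sub6 x)

/-- the relator `d x d⁻¹ x⁻¹` -/
def dconj (x : CGen) : List (EU6Def.Gen × Bool) :=
  (.d, true) :: (subC x ++ ((.d, false) :: FreeGroup.invRev (subC x)))

/-- the relators of the auxiliary presentation -/
def Qstruct : List (List (EU6Def.Gen × Bool)) :=
  EU4Def.R.map (upWord U62Iso.up) ++
  [tconj .a, tconj .b, tconj .c, dconj .u, dconj .v,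
    commWord tt .d, commWord dd .a, commWord dd .b, commWord dd .c, commWord dd .t,
    R6 17, tt ++ dd, R6 18 ++ [(.d, false), (.d, false), (.d, false), (.d, false)]] ++
  ([EU6Def.Gen.a, .b, .c, .t, .d].map (commWord (R6 19)) ++ ([EU6Def.Gen.a, .b, .c, .t, .d].map (commWord (R6 20)) ++
  [R6 19, commWord tt .a, commWord tt .b, commWord tt .c]))

theorem relWords_eq : QU6Def.relWords = Qstruct.map List.reverse := by decide +kernel

/-! ### the relators hold -/

theorem emk_comm (r : List (EU6Def.Gen × Bool)) (hr : r ∈ EU6Def.R) (x : EU6Def.Gen) :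
    emk (commWord r x) = 1 := by
  unfold emk
  rw [mk_commWord]
  exact PresentedGroup.one_of_mem (DU6.comm_mem r hr x)

theorem bmk_comm (r : List (EU6Def.Gen × Bool)) (hr : r ∈ EU6Def.R) (x : EU6Def.Gen) :
    bmk (commWord r x) = 1 := by
  unfold bmk
  rw [emk_comm r hr x, map_one]

theorem htt : tt ∈ EU6Def.R := by decide +kernel
theorem hdd : dd ∈ EU6Def.R := by decide +kernel
theorem hR6 (i : ℕ) (hi : i < 21) : R6 i ∈ EU6Def.R := by
  interval_cases i <;> decide +kernel

theorem bmk_rel_central (r : List (EU6Def.Gen × Bool)) (hr : r ∈ EU6Def.R) :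
    bmk r ∈ Subgroup.center Ebar := qm_central (DU6.mk_rel_mem_center r hr)

theorem bmk_two (p q : EU6Def.Gen × Bool) : bmk [p, q] = bmk [p] * bmk [q] := bmk_cons p [q]

theorem bmk_tt : bmk tt = T * T := bmk_two _ _
theorem bmk_dd : bmk dd = Dd * Dd := bmk_two _ _

theorem tt_comm (g : Ebar) : g * (T * T) = (T * T) * g := by
  have h := bmk_rel_central tt htt
  rw [Subgroup.mem_center_iff, bmk_tt] at h
  exact h g

theorem dd_comm (g : Ebar) : g * (Dd * Dd) = (Dd * Dd) * g := by
  have h := bmk_rel_central dd hdd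
  rw [Subgroup.mem_center_iff, bmk_dd] at h
  exact h g

/-- the value of a product of powers of words -/
theorem map_combWord {G : Type*} [Group G] (f : FreeGroup EU6Def.Gen →* G)
    (items : List (List (EU6Def.Gen × Bool) × ℤ)) :
    f (FreeGroup.mk (combWord items)) = (items.map fun p => f (FreeGroup.mk p.1) ^ p.2).prod := by
  induction items with
  | nil => exact map_one f
  | cons p items ih =>
    unfold combWord
    rw [List.map_cons, List.flatten_cons, ← FreeGroup.mul_mk, map_mul, mk_powWord, map_zpow, List.map_cons,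
      List.prod_cons]
    congr 1

theorem bmk_nrm (x : EU6Def.Gen) : bmk (EU6Def.nrm x) = 1 := by
  have h : PresentedGroup.mk DU6.relsE (FreeGroup.mk (EU6Def.nrm x)) = 1 :=
    PresentedGroup.one_of_mem (DU6.nrm_mem x)
  unfold bmk emk
  rw [h, map_one]

theorem bmk_R17 : bmk (R6 17) = T * Dd * T * Dd * T * Dd := by
  have e : R6 17 = [(.t, true)] ++ [(.d, true)] ++ [(.t, true)] ++ [(.d, true)] ++ [(.t, true)] ++ [(.d, true)] := rfl
  rw [e]
  simp only [bmk_append]

/-- the relation given by the normalising word of `d` -/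
theorem nrm_d_rel : T * Dd * T * Dd * T * Dd = T * T * (Dd * Dd) := by
  have h := bmk_nrm .d
  have e : EU6Def.nrm .d = combWord [(R6 17, 1), (R6 10, -1), (R6 14, -1), (EU6Def.nrm .t, -1)] := rfl
  rw [e] at h
  unfold bmk emk at h
  rw [← MonoidHom.comp_apply, map_combWord] at h
  simp only [List.map_cons, List.map_nil, List.prod_cons, List.prod_nil, mul_one, zpow_one, zpow_neg,
    MonoidHom.comp_apply] at h
  have h17 : qm (PresentedGroup.mk DU6.relsE (FreeGroup.mk (R6 17))) = T * Dd * T * Dd * T * Dd := bmk_R17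
  have h10 : qm (PresentedGroup.mk DU6.relsE (FreeGroup.mk (R6 10))) = T * T := bmk_tt
  have h14 : qm (PresentedGroup.mk DU6.relsE (FreeGroup.mk (R6 14))) = Dd * Dd := bmk_dd
  have ht : qm (PresentedGroup.mk DU6.relsE (FreeGroup.mk (EU6Def.nrm .t))) = 1 := bmk_nrm .t
  rw [h17, h10, h14, ht, inv_one, mul_one] at h
  -- h : X * ((T*T)⁻¹ * (Dd*Dd)⁻¹) = 1
  have h' : T * Dd * T * Dd * T * Dd = ((T * T)⁻¹ * (Dd * Dd)⁻¹)⁻¹ := eq_inv_of_mul_eq_one_left h
  rw [h', mul_inv_rev, inv_inv, inv_inv]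
  exact (dd_comm (T * T)).symm

theorem tt_dd : T * T * (Dd * Dd) = 1 := sq_mul_sq_eq_one T Dd tt_comm dd_comm nrm_d_rel

theorem bmk_up_R (i : ℕ) (hi : i < 10) : bmk (R6 i) = 1 := by
  have h : R6 i = upWord U62Iso.up (EU4Def.R.getD i []) := by
    interval_cases i <;> rfl
  rw [h]
  apply bmk_up_rel
  interval_cases i <;> decide +kernel

/-- the relation given by the normalising word of `t` -/
theorem nrm_t_rel : bmk (R6 18) * (Dd⁻¹ * Dd⁻¹ * Dd⁻¹ * Dd⁻¹) = 1 := by
  have h := bmk_nrm .t
  have e : EU6Def.nrm .t = combWord [(R6 18, 1), (R6 0, -2), (R6 5, -3), (R6 14, -2)] := rfl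
  rw [e] at h
  unfold bmk emk at h
  rw [← MonoidHom.comp_apply, map_combWord] at h
  simp only [List.map_cons, List.map_nil, List.prod_cons, List.prod_nil, mul_one, zpow_one,
    MonoidHom.comp_apply] at h
  have h0 : qm (PresentedGroup.mk DU6.relsE (FreeGroup.mk (R6 0))) = 1 := bmk_up_R 0 (by norm_num)
  have h5 : qm (PresentedGroup.mk DU6.relsE (FreeGroup.mk (R6 5))) = 1 := bmk_up_R 5 (by norm_num)
  have h14 : qm (PresentedGroup.mk DU6.relsE (FreeGroup.mk (R6 14))) = Dd * Dd := bmk_dd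
  rw [h0, h5, h14, one_zpow, one_zpow, one_mul, one_mul] at h
  rw [zpow_neg, zpow_two, mul_inv_rev, mul_inv_rev, ← mul_assoc] at h
  exact h

end Cfsg.Agent.Lib.Helper3.Cover.U62Bar
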